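import Groth.Prelude.Def_HopfRep
import Groth.Prelude.Def_Hoch
import Groth.Prelude.Def_GLin
import Mathlib.RingTheory.HopfAlgebra.Basic
import Mathlib.RingTheory.HopfAlgebra.Convolution
import Mathlib.RingTheory.HopfAlgebra.TensorProduct
import Mathlib.RingTheory.Bialgebra.Convolution

/-!
# Total integrals and the Reynolds operator (helper99)

For a commutative Hopf algebra `A` over a commutative ring `k`, coacting on a commutative
`k`-algebra `B` by an algebra map, a total integral `α : A → B` gives a Reynolds operator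
`E : B → B` with values in the invariants, linear over the invariants and the identity on them.
-/

set_option autoImplicit false
universe u v w

open TensorProduct

namespace Groth.Agent.Lib.Helper99

section Antipode

variable (k : Type u) [CommRing k] (A : Type v) [CommRing A] [HopfAlgebra k A]

open WithConv in
/-- The antipode of a commutative Hopf algebra is an anti-coalgebra map. -/
theorem comul_antipode (a : A) :
    Coalgebra.comul (R := k) (HopfAlgebra.antipode k a) =
      TensorProduct.map (HopfAlgebra.antipode k) (HopfAlgebra.antipode k)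
        (TensorProduct.comm k A A (Coalgebra.comul (R := k) a)) := by
  let i₁ : A →ₐ[k] A ⊗[k] A := Algebra.TensorProduct.includeLeft
  let i₂ : A →ₐ[k] A ⊗[k] A := Algebra.TensorProduct.includeRight
  let Δ : A →ₐ[k] A ⊗[k] A := Bialgebra.comulAlgHom k A
  let S : A →ₐ[k] A := HopfAlgebra.antipodeAlgHom k A
  have h1 : toConv Δ = toConv i₁ * toConv i₂ := by
    rw [AlgHom.convMul_def]
    congr 1
    have : (Algebra.TensorProduct.lmul' k).comp (Algebra.TensorProduct.map i₁ i₂)
        = AlgHom.id k (A ⊗[k] A) := by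
      ext x
      · simp [i₁, i₂]
      · simp [i₁, i₂]
    change Δ = ((Algebra.TensorProduct.lmul' k).comp
      ((Algebra.TensorProduct.map i₁ i₂).comp (Bialgebra.comulAlgHom k A)))
    rw [← AlgHom.comp_assoc, this, AlgHom.id_comp]
  have h2 : (toConv Δ)⁻¹ = (toConv i₂)⁻¹ * (toConv i₁)⁻¹ := by
    rw [h1]
    exact mul_inv_rev (toConv i₁ : WithConv (A →ₐ[k] A ⊗[k] A)) (toConv i₂)
  have h3 : Δ.comp S = (Algebra.TensorProduct.lmul' k).comp
      ((Algebra.TensorProduct.map (i₂.comp S) (i₁.comp S)).comp (Bialgebra.comulAlgHom k A)) := by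
    have := congrArg WithConv.ofConv h2
    exact this
  have h4 := DFunLike.congr_fun h3 a
  change Coalgebra.comul (R := k) (HopfAlgebra.antipode k a) = _ at h4
  rw [h4]
  change (Algebra.TensorProduct.lmul' k)
      ((Algebra.TensorProduct.map (i₂.comp S) (i₁.comp S)) (Coalgebra.comul (R := k) a)) = _
  generalize Coalgebra.comul (R := k) a = y
  induction y using TensorProduct.induction_on with
  | zero => simp
  | tmul x y =>
    simp [i₁, i₂, S]
  | add y₁ y₂ e₁ e₂ => simp only [map_add, e₁, e₂]

end Antipode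

section Reynolds

variable {k : Type u} [CommRing k] {A : Type v} [CommRing A] [HopfAlgebra k A]
  {B : Type w} [CommRing B] [Algebra k B] [HopfRep.Comod k A B] [GLin.IsCoactAlg k A B]

variable (k A B) in
/-- the coaction of `B` -/
abbrev rho : B →ₗ[k] B ⊗[k] A := HopfRep.Comod.coact (k := k) (A := A)

/-- the twisted integral `α ∘ S` -/
noncomputable def beta (α : A →ₗ[k] B) : A →ₗ[k] B := α ∘ₗ HopfAlgebra.antipode k

/-- the coaction applied to the twisted integral -/
noncomputable def gamma (α : A →ₗ[k] B) : A →ₗ[k] B ⊗[k] A :=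
  TensorProduct.map (beta α) (HopfAlgebra.antipode k) ∘ₗ
    (TensorProduct.comm k A A).toLinearMap ∘ₗ Coalgebra.comul (R := k)

/-- the Reynolds operator attached to a total integral -/
noncomputable def reynolds (α : A →ₗ[k] B) : B →ₗ[k] B :=
  LinearMap.mul' k B ∘ₗ (beta α).lTensor B ∘ₗ rho k A B

theorem beta_one (α : A →ₗ[k] B) (h1 : α 1 = 1) : beta α 1 = 1 := by
  simp [beta, HopfAlgebra.antipode_one, h1]

theorem rho_beta (α : A →ₗ[k] B) (hα : Hoch.IsComodHom A α) (a : A) :
    rho k A B (beta α a) = gamma α a := by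
  have h := LinearMap.congr_fun hα (HopfAlgebra.antipode k a)
  simp only [LinearMap.comp_apply] at h
  change rho k A B (α (HopfAlgebra.antipode k a)) = _
  rw [h]
  change LinearMap.rTensor A α (Coalgebra.comul (R := k) (HopfAlgebra.antipode k a)) = _
  rw [comul_antipode]
  simp only [gamma, LinearMap.comp_apply, LinearEquiv.coe_coe]
  generalize (TensorProduct.comm k A A) (Coalgebra.comul (R := k) a) = y
  induction y using TensorProduct.induction_on with
  | zero => simp
  | tmul x y => simp [beta]
  | add y₁ y₂ e₁ e₂ => simp only [map_add, e₁, e₂]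

theorem reynolds_apply_of_mem (α : A →ₗ[k] B) (h1 : α 1 = 1) (c : B)
    (hc : c ∈ GLin.invariants k A B) : reynolds α c = c := by
  have hc' : rho k A B c = c ⊗ₜ[k] (1 : A) := hc
  simp only [reynolds, LinearMap.comp_apply]
  rw [hc', LinearMap.lTensor_tmul, beta_one α h1]
  simp

theorem reynolds_mul_of_mem (α : A →ₗ[k] B) (c b : B)
    (hc : c ∈ GLin.invariants k A B) : reynolds α (c * b) = c * reynolds α b := by
  have hc' : rho k A B c = c ⊗ₜ[k] (1 : A) := hc
  simp only [reynolds, LinearMap.comp_apply]
  have hmul : rho k A B (c * b) = rho k A B c * rho k A B b :=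
    GLin.IsCoactAlg.coact_mul (k := k) (A := A) c b
  rw [hmul, hc']
  generalize rho k A B b = y
  induction y using TensorProduct.induction_on with
  | zero => simp
  | tmul b' a =>
    simp [Algebra.TensorProduct.tmul_mul_tmul, mul_assoc]
  | add y₁ y₂ e₁ e₂ =>
    rw [mul_add, map_add, map_add, e₁, e₂, map_add, map_add, mul_add]

theorem rho_mul_beta (α : A →ₗ[k] B) (hα : Hoch.IsComodHom A α) (b' : B) (a : A) :
    rho k A B (b' * beta α a) = rho k A B b' * gamma α a := by
  rw [← rho_beta α hα]
  exact GLin.IsCoactAlg.coact_mul (k := k) (A := A) b' (beta α a)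

theorem rho_comp_mul (α : A →ₗ[k] B) (hα : Hoch.IsComodHom A α) (y : B ⊗[k] A) :
    rho k A B (LinearMap.mul' k B ((beta α).lTensor B y)) =
      LinearMap.mul' k (B ⊗[k] A) (TensorProduct.map (rho k A B) (gamma α) y) := by
  induction y using TensorProduct.induction_on with
  | zero => simp
  | tmul b' a =>
    simp only [LinearMap.lTensor_tmul, LinearMap.mul'_apply, TensorProduct.map_tmul]
    exact rho_mul_beta α hα b' a
  | add y₁ y₂ e₁ e₂ => simp only [map_add, e₁, e₂]

theorem map_rho_gamma_rho (α : A →ₗ[k] B) (b : B) :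
    TensorProduct.map (rho k A B) (gamma α) (rho k A B b) =
      TensorProduct.map LinearMap.id (gamma α)
        ((TensorProduct.assoc k B A A).symm
          ((Coalgebra.comul (R := k) (A := A)).lTensor B (rho k A B b))) := by
  have hco := LinearMap.congr_fun (HopfRep.Comod.coassoc (k := k) (A := A) (V := B)) b
  simp only [LinearMap.comp_apply, LinearEquiv.coe_coe] at hco
  rw [← hco, LinearEquiv.symm_apply_apply]
  generalize HopfRep.Comod.coact (k := k) (A := A) b = y
  induction y using TensorProduct.induction_on with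
  | zero => simp
  | tmul b' a => simp
  | add y₁ y₂ e₁ e₂ => simp only [map_add, e₁, e₂]

/-- auxiliary map `H` -/
noncomputable def auxH (α : A →ₗ[k] B) (b' : B) : A ⊗[k] (A ⊗[k] A) →ₗ[k] B ⊗[k] A :=
  LinearMap.mul' k (B ⊗[k] A) ∘ₗ
    TensorProduct.map (TensorProduct.mk k B A b')
      (TensorProduct.map (beta α) (HopfAlgebra.antipode k) ∘ₗ
        (TensorProduct.comm k A A).toLinearMap)

/-- auxiliary map `Y` -/
noncomputable def auxY (α : A →ₗ[k] B) (b' : B) : k ⊗[k] A →ₗ[k] B ⊗[k] A :=
  TensorProduct.map (LinearMap.mulLeft k b' ∘ₗ beta α) (Algebra.linearMap k A) ∘ₗ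
    (TensorProduct.comm k k A).toLinearMap

theorem step1 (α : A →ₗ[k] B) (b' : B) (w : A ⊗[k] A) :
    LinearMap.mul' k (B ⊗[k] A) (TensorProduct.map LinearMap.id (gamma α)
        ((TensorProduct.assoc k B A A).symm (b' ⊗ₜ[k] w)))
      = auxH α b' ((Coalgebra.comul (R := k) (A := A)).lTensor A w) := by
  induction w using TensorProduct.induction_on with
  | zero => simp
  | tmul x y =>
    simp [auxH, gamma]
  | add w₁ w₂ e₁ e₂ =>
    rw [TensorProduct.tmul_add, map_add, map_add, map_add, e₁, e₂, map_add, map_add]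

theorem step3 (α : A →ₗ[k] B) (b' : B) (t : A ⊗[k] A) (y : A) :
    auxH α b' (TensorProduct.assoc k A A A (t ⊗ₜ[k] y))
      = (b' * beta α y) ⊗ₜ[k] (LinearMap.mul' k A ((HopfAlgebra.antipode k).lTensor A t)) := by
  induction t using TensorProduct.induction_on with
  | zero => simp
  | tmul x y₁ =>
    simp [auxH, Algebra.TensorProduct.tmul_mul_tmul]
  | add t₁ t₂ e₁ e₂ =>
    rw [TensorProduct.add_tmul, map_add, map_add, e₁, e₂, map_add, map_add,
      TensorProduct.tmul_add]

theorem step4 (α : A →ₗ[k] B) (b' : B) (w : A ⊗[k] A) :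
    auxH α b' (TensorProduct.assoc k A A A
        ((Coalgebra.comul (R := k) (A := A)).rTensor A w))
      = auxY α b' ((Coalgebra.counit (R := k) (A := A)).rTensor A w) := by
  induction w using TensorProduct.induction_on with
  | zero => simp
  | tmul u y =>
    rw [LinearMap.rTensor_tmul, step3, HopfAlgebra.mul_antipode_lTensor_comul_apply,
      LinearMap.rTensor_tmul]
    simp [auxY]
  | add w₁ w₂ e₁ e₂ => simp only [map_add, e₁, e₂]

theorem lemmaM (α : A →ₗ[k] B) (b' : B) (a : A) :
    LinearMap.mul' k (B ⊗[k] A) (TensorProduct.map LinearMap.id (gamma α)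
        ((TensorProduct.assoc k B A A).symm (b' ⊗ₜ[k] Coalgebra.comul (R := k) a)))
      = (b' * beta α a) ⊗ₜ[k] (1 : A) := by
  rw [step1, ← Coalgebra.coassoc_apply, step4, Coalgebra.rTensor_counit_comul]
  simp [auxY]

theorem xi_apply (α : A →ₗ[k] B) (y : B ⊗[k] A) :
    LinearMap.mul' k (B ⊗[k] A) (TensorProduct.map LinearMap.id (gamma α)
        ((TensorProduct.assoc k B A A).symm
          ((Coalgebra.comul (R := k) (A := A)).lTensor B y)))
      = (LinearMap.mul' k B ((beta α).lTensor B y)) ⊗ₜ[k] (1 : A) := by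
  induction y using TensorProduct.induction_on with
  | zero => simp
  | tmul b' a =>
    rw [LinearMap.lTensor_tmul, lemmaM, LinearMap.lTensor_tmul, LinearMap.mul'_apply]
  | add y₁ y₂ e₁ e₂ => simp only [map_add, e₁, e₂, TensorProduct.add_tmul]

/-- The Reynolds operator takes values in the invariants. -/
theorem reynolds_mem (α : A →ₗ[k] B) (hα : Hoch.IsComodHom A α) (b : B) :
    reynolds α b ∈ GLin.invariants k A B := by
  change rho k A B (reynolds α b) = reynolds α b ⊗ₜ[k] (1 : A)
  simp only [reynolds, LinearMap.comp_apply]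
  rw [rho_comp_mul α hα, map_rho_gamma_rho, xi_apply]

/-- The Reynolds operator preserves ideals that are subcomodules. -/
theorem reynolds_mem_of_isSubcomod (α : A →ₗ[k] B) (J : Ideal B)
    (hJ : HopfRep.IsSubcomod (k := k) (A := A) (J.restrictScalars k)) (y : B) (hy : y ∈ J) :
    reynolds α y ∈ J := by
  obtain ⟨z, hz⟩ := hJ y hy
  have hz' : LinearMap.rTensor A (J.restrictScalars k).subtype z = rho k A B y := hz
  simp only [reynolds, LinearMap.comp_apply]
  rw [← hz']
  clear hz hz'
  induction z using TensorProduct.induction_on with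
  | zero => simp
  | tmul j a =>
    simp only [LinearMap.rTensor_tmul, LinearMap.lTensor_tmul, LinearMap.mul'_apply]
    exact J.mul_mem_right _ j.2
  | add z₁ z₂ e₁ e₂ =>
    simp only [map_add]
    exact J.add_mem e₁ e₂

/-- The Reynolds operator maps the extension of an ideal of the invariants into that ideal. -/
theorem reynolds_map_mem (α : A →ₗ[k] B) (hα : Hoch.IsComodHom A α)
    (c : Ideal (GLin.invariants k A B)) (z : B)
    (hz : z ∈ c.map (algebraMap (GLin.invariants k A B) B)) :
    ∃ c' ∈ c, reynolds α z = algebraMap (GLin.invariants k A B) B c' := by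
  suffices H : ∀ b : B, ∃ c' ∈ c, reynolds α (b * z) = algebraMap (GLin.invariants k A B) B c' by
    simpa using H 1
  change z ∈ Submodule.span B _ at hz
  induction hz using Submodule.span_induction with
  | mem x hx =>
    obtain ⟨c₀, hc₀, rfl⟩ := hx
    intro b
    refine ⟨c₀ * ⟨reynolds α b, reynolds_mem α hα b⟩, c.mul_mem_right _ hc₀, ?_⟩
    rw [mul_comm]
    exact reynolds_mul_of_mem α (c₀ : B) b c₀.2
  | zero =>
    intro b
    exact ⟨0, c.zero_mem, by simp⟩
  | add x y _ _ hx hy =>
    intro b
    obtain ⟨c₁, hc₁, e₁⟩ := hx b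
    obtain ⟨c₂, hc₂, e₂⟩ := hy b
    exact ⟨c₁ + c₂, c.add_mem hc₁ hc₂, by rw [mul_add, map_add, e₁, e₂, map_add]⟩
  | smul b' x _ hx =>
    intro b
    obtain ⟨c₁, hc₁, e₁⟩ := hx (b * b')
    exact ⟨c₁, hc₁, by rw [smul_eq_mul, ← mul_assoc, e₁]⟩

/-- `cB ∩ C = c` for every ideal `c` of the invariants. -/
theorem comap_map_invariants (α : A →ₗ[k] B) (hα : Hoch.IsComodHom A α) (h1 : α 1 = 1)
    (c : Ideal (GLin.invariants k A B)) :
    (c.map (algebraMap (GLin.invariants k A B) B)).comap
      (algebraMap (GLin.invariants k A B) B) = c := by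
  apply le_antisymm
  · intro x hx
    obtain ⟨c', hc', e⟩ := reynolds_map_mem α hα c _ (Ideal.mem_comap.mp hx)
    have hx' : reynolds α (algebraMap (GLin.invariants k A B) B x)
        = algebraMap (GLin.invariants k A B) B x := reynolds_apply_of_mem α h1 _ x.2
    rw [hx'] at e
    have : x = c' := Subtype.ext e
    rw [this]
    exact hc'
  · exact Ideal.le_comap_map

end Reynolds

end Groth.Agent.Lib.Helper99
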