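import Mathlib

/-!
# Chains of minimal generators in a finitely generated ideal of a local ring (helper99)

`Chain N l`: the list `l` consists of elements of the ideal `N` of the Noetherian local ring `R`
and each member lies outside (ideal of the previous members) + `m N`.  Main result
`ofList_eq_of_chain`: if moreover `l.length = spanFinrank N`, then `l` generates `N`.
-/

set_option autoImplicit false

namespace Groth.Agent.Lib.Helper99.DSeq

open IsLocalRing

variable {R : Type*} [CommRing R] [IsLocalRing R] [IsNoetherianRing R]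

/-- a chain of elements of `N`, each new in `N / m N` modulo the previous ones -/
inductive Chain (N : Ideal R) : List R → Prop
  | nil : Chain N []
  | snoc (l : List R) (x : R) : Chain N l → x ∈ N →
      x ∉ Ideal.ofList l ⊔ maximalIdeal R * N → Chain N (l ++ [x])

lemma Chain.mem {N : Ideal R} {l : List R} (h : Chain N l) : ∀ x ∈ l, x ∈ N := by
  induction h with
  | nil => simp
  | snoc l x _ hx _ ih =>
    intro y hy
    rw [List.mem_append, List.mem_singleton] at hy
    rcases hy with hy | rfl
    · exact ih y hy
    · exact hx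

variable (N : Ideal R)

attribute [local instance] Ideal.Quotient.field

/-- the span, in the `R/m`-vector space `N / m N`, of the classes of the members of `l` -/
noncomputable def W (l : List R) :
    Submodule (R ⧸ maximalIdeal R) (↥N ⧸ (maximalIdeal R • (⊤ : Submodule R ↥N))) :=
  Submodule.span (R ⧸ maximalIdeal R)
    ((Submodule.mkQ (maximalIdeal R • (⊤ : Submodule R ↥N))) '' {y : ↥N | (y : R) ∈ l})

lemma W_mono {l l' : List R} (h : ∀ x ∈ l, x ∈ l') : W N l ≤ W N l' := by
  unfold W
  apply Submodule.span_mono
  apply Set.image_mono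
  intro y hy
  exact h _ hy

lemma restrictScalars_W (l : List R) :
    (W N l).restrictScalars R =
      (Submodule.span R {y : ↥N | (y : R) ∈ l}).map
        (Submodule.mkQ (maximalIdeal R • (⊤ : Submodule R ↥N))) := by
  unfold W
  rw [Submodule.restrictScalars_span R (R ⧸ maximalIdeal R) Ideal.Quotient.mk_surjective,
    Submodule.map_span]

lemma map_subtype_span_le (l : List R) :
    (Submodule.span R {y : ↥N | (y : R) ∈ l}).map N.subtype ≤ Ideal.ofList l := by
  rw [Submodule.map_span, Ideal.ofList]
  apply Submodule.span_mono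
  rintro _ ⟨y, hy, rfl⟩
  exact hy

lemma mem_of_mkQ_mem_W (l : List R) (x : R) (hx : x ∈ N)
    (h : Submodule.mkQ (maximalIdeal R • (⊤ : Submodule R ↥N)) ⟨x, hx⟩ ∈ W N l) :
    x ∈ Ideal.ofList l ⊔ maximalIdeal R * N := by
  have h' : Submodule.mkQ (maximalIdeal R • (⊤ : Submodule R ↥N)) ⟨x, hx⟩ ∈
      (W N l).restrictScalars R := h
  rw [restrictScalars_W] at h'
  obtain ⟨z, hz, hzx⟩ := h'
  have hd : (⟨x, hx⟩ : ↥N) - z ∈ maximalIdeal R • (⊤ : Submodule R ↥N) := by
    rw [← Submodule.Quotient.mk_eq_zero, Submodule.Quotient.mk_sub]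
    rw [Submodule.mkQ_apply, Submodule.mkQ_apply] at hzx
    rw [hzx, sub_self]
  have hz' : (z : R) ∈ Ideal.ofList l := map_subtype_span_le N l ⟨z, hz, rfl⟩
  have hd' : x - (z : R) ∈ maximalIdeal R * N := by
    have h1 : N.subtype ((⟨x, hx⟩ : ↥N) - z) ∈
        (maximalIdeal R • (⊤ : Submodule R ↥N)).map N.subtype := ⟨_, hd, rfl⟩
    rw [Submodule.map_smul'', Submodule.map_top, Submodule.range_subtype] at h1
    exact h1
  have : x = (z : R) + (x - (z : R)) := by ring
  rw [this]
  exact Submodule.add_mem_sup hz' hd'

lemma ofList_eq_of_W_eq_top (l : List R) (hl : ∀ x ∈ l, x ∈ N) (h : W N l = ⊤) :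
    Ideal.ofList l = N := by
  have h' : (W N l).restrictScalars R = ⊤ := by rw [h]; rfl
  rw [restrictScalars_W, IsLocalRing.map_mkQ_eq_top] at h'
  apply le_antisymm
  · rw [Ideal.ofList, Ideal.span_le]
    exact fun x hx => hl x hx
  · intro x hx
    have : (⟨x, hx⟩ : ↥N) ∈ Submodule.span R {y : ↥N | (y : R) ∈ l} := by rw [h']; trivial
    exact map_subtype_span_le N l ⟨_, this, rfl⟩

lemma length_le_finrank_W {l : List R} (h : Chain N l) :
    l.length ≤ Module.finrank (R ⧸ maximalIdeal R) (W N l) := by
  induction h with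
  | nil => simp
  | snoc l x _ hx hnot ih =>
    have hlt : W N l < W N (l ++ [x]) := by
      refine lt_of_le_of_ne (W_mono N (fun y hy => List.mem_append_left _ hy)) ?_
      intro heq
      apply hnot
      apply mem_of_mkQ_mem_W N l x hx
      rw [heq]
      apply Submodule.subset_span
      exact ⟨⟨x, hx⟩, by simp, rfl⟩
    have := Submodule.finrank_lt_finrank_of_lt hlt
    rw [List.length_append, List.length_singleton]
    omega

/-- a chain of length `spanFinrank N` generates `N` -/
theorem ofList_eq_of_chain {l : List R} (h : Chain N l) (hlen : l.length = N.spanFinrank) :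
    Ideal.ofList l = N := by
  apply ofList_eq_of_W_eq_top N l h.mem
  apply Submodule.eq_top_of_finrank_eq
  have h1 := length_le_finrank_W N h
  have h2 := IsLocalRing.spanFinrank_eq_finrank_quotient N (IsNoetherian.noetherian N)
  have h3 := Submodule.finrank_le (W N l)
  omega

omit [IsLocalRing R] [IsNoetherianRing R] in
lemma spanFinrank_ofList_le (l : List R) : (Ideal.ofList l).spanFinrank ≤ l.length := by
  classical
  have hfin : ({x | x ∈ l} : Set R).Finite := List.finite_toSet l
  have h1 := Submodule.spanFinrank_span_le_ncard_of_finite (R := R) hfin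
  have h2 : ({x | x ∈ l} : Set R).ncard ≤ l.length := by
    have : ({x | x ∈ l} : Set R) = ↑l.toFinset := by ext; simp
    rw [this, Set.ncard_coe_finset]
    exact List.toFinset_card_le l
  exact h1.trans h2

/-- Nakayama: `N ≤ ofList l + m N` forces `N ≤ ofList l` -/
lemma le_ofList_of_le_sup (l : List R) (h : N ≤ Ideal.ofList l ⊔ maximalIdeal R * N) :
    N ≤ Ideal.ofList l := by
  apply Submodule.le_of_le_smul_of_le_jacobson_bot (IsNoetherian.noetherian N)
    (by rw [IsLocalRing.jacobson_eq_maximalIdeal]; exact bot_ne_top) h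

/-- in a Noetherian local ring, an ideal `N` of height `> l.length` is not contained in
`ofList l + m N` -/
lemma not_le_sup_of_length_lt_height (hN : N ≠ ⊤) (l : List R) (hl : ∀ x ∈ l, x ∈ N)
    (hlt : (l.length : ℕ∞) < N.height) : ¬ N ≤ Ideal.ofList l ⊔ maximalIdeal R * N := by
  intro h
  have h1 := le_ofList_of_le_sup N l h
  have h2 : Ideal.ofList l ≤ N := by
    rw [Ideal.ofList, Ideal.span_le]
    exact fun x hx => hl x hx
  have h3 : Ideal.ofList l = N := le_antisymm h2 h1
  have h4 := Ideal.height_le_spanFinrank N hN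
  have h5 : (N.spanFinrank : ℕ∞) ≤ l.length := by
    rw [← h3]
    exact_mod_cast spanFinrank_ofList_le l
  exact absurd hlt (not_lt.mpr (h4.trans h5))

/-- a chain of length `spanFinrank N - 1` can be completed by one element to a generating set -/
theorem exists_snoc_generating {l : List R} (h : Chain N l)
    (hlen : l.length + 1 = N.spanFinrank) : ∃ x ∈ N, Ideal.ofList (l ++ [x]) = N := by
  have hnot : ¬ N ≤ Ideal.ofList l ⊔ maximalIdeal R * N := by
    intro hle
    have h1 := le_ofList_of_le_sup N l hle
    have h2 : Ideal.ofList l ≤ N := by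
      rw [Ideal.ofList, Ideal.span_le]
      exact fun x hx => h.mem x hx
    have h3 : Ideal.ofList l = N := le_antisymm h2 h1
    have h5 := spanFinrank_ofList_le l
    rw [h3] at h5
    omega
  obtain ⟨x, hxN, hx⟩ := SetLike.not_le_iff_exists.mp hnot
  refine ⟨x, hxN, ?_⟩
  apply ofList_eq_of_chain N (Chain.snoc l x h hxN hx)
  rw [List.length_append, List.length_singleton, hlen]

end Groth.Agent.Lib.Helper99.DSeq
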