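import Mathlib
import Groth.Agent.Lib.Helper99.DSeqA

/-!
# Choosing a good partial generating sequence of a prime by prime avoidance (helper99)
-/

set_option autoImplicit false
universe u

namespace Groth.Agent.Lib.Helper99.DSeq

open IsLocalRing

section avoid

variable {R : Type*} [CommRing R]

/-- prime avoidance with two arbitrary ideals and finitely many primes -/
lemma exists_mem_avoid (I N1 N2 : Ideal R) (S : Finset (Ideal R)) (hS : ∀ q ∈ S, q.IsPrime)
    (h1 : ¬ I ≤ N1) (h2 : ¬ I ≤ N2) (h3 : ∀ q ∈ S, ¬ I ≤ q) :
    ∃ x ∈ I, x ∉ N1 ∧ x ∉ N2 ∧ ∀ q ∈ S, x ∉ q := by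
  by_contra hcon
  push_neg at hcon
  have hsub : (I : Set R) ⊆ ((id N1 : Ideal R) : Set R) ∪ ((id N2 : Ideal R) : Set R) ∪
      ⋃ i ∈ (↑S : Set (Ideal R)), ((id i : Ideal R) : Set R) := by
    intro x hx
    by_cases hx1 : x ∈ N1
    · exact Or.inl (Or.inl hx1)
    by_cases hx2 : x ∈ N2
    · exact Or.inl (Or.inr hx2)
    obtain ⟨q, hq, hxq⟩ := hcon x hx hx1 hx2
    exact Or.inr (Set.mem_biUnion (Finset.mem_coe.mpr hq) hxq)
  rcases (Ideal.subset_union_prime' (f := id) hS).mp hsub with h | h | ⟨q, hq, h⟩
  · exact h1 h
  · exact h2 h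
  · exact h3 q hq h

lemma ncard_toSet_le (l : List R) : ({x | x ∈ l} : Set R).ncard ≤ l.length := by
  classical
  have : ({x | x ∈ l} : Set R) = ↑l.toFinset := by ext; simp
  rw [this, Set.ncard_coe_finset]
  exact List.toFinset_card_le l

lemma height_le_length_of_mem_minimalPrimes [IsNoetherianRing R] (l : List R) (q : Ideal R)
    (hq : q ∈ (Ideal.ofList l).minimalPrimes) : q.height ≤ l.length := by
  have h1 := Ideal.height_le_card_of_mem_minimalPrimes_span (List.finite_toSet l) hq
  have h2 : (({x | x ∈ l} : Set R).ncard : ℕ∞) ≤ l.length := by exact_mod_cast ncard_toSet_le l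
  exact h1.trans h2

end avoid

variable {T : Type u} [CommRing T] [IsLocalRing T] [IsNoetherianRing T]

instance (p : Ideal T) [p.IsPrime] : IsNoetherianRing (Localization.AtPrime p) :=
  IsLocalization.isNoetherianRing p.primeCompl _ inferInstance

/-- the inductive choice: each new element lies in `p`, outside `ofList l + m p`, outside the
contraction of `ofList l · T_p + (p T_p)^2`, and outside every minimal prime of `ofList l` -/
inductive Good (p : Ideal T) [p.IsPrime] : List T → Prop
  | nil : Good p []
  | snoc (l : List T) (x : T) : Good p l → x ∈ p →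
      x ∉ Ideal.ofList l ⊔ maximalIdeal T * p →
      x ∉ (Ideal.map (algebraMap T (Localization.AtPrime p)) (Ideal.ofList l) ⊔
        maximalIdeal (Localization.AtPrime p) * maximalIdeal (Localization.AtPrime p)).comap
          (algebraMap T (Localization.AtPrime p)) →
      (∀ q ∈ (Ideal.ofList l).minimalPrimes, x ∉ q) → Good p (l ++ [x])

variable {p : Ideal T} [p.IsPrime]

lemma Good.mem {l : List T} (h : Good p l) : ∀ x ∈ l, x ∈ p := by
  induction h with
  | nil => simp
  | snoc l x _ hx _ _ _ ih =>
    intro y hy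
    rw [List.mem_append, List.mem_singleton] at hy
    rcases hy with hy | rfl
    · exact ih y hy
    · exact hx

lemma Good.chain {l : List T} (h : Good p l) : Chain p l := by
  induction h with
  | nil => exact Chain.nil
  | snoc l x _ hx h1 _ _ ih => exact Chain.snoc l x ih hx h1

lemma Good.chain_map {l : List T} (h : Good p l) :
    Chain (maximalIdeal (Localization.AtPrime p))
      (l.map (algebraMap T (Localization.AtPrime p))) := by
  induction h with
  | nil => exact Chain.nil
  | snoc l x _ hx _ h2 _ ih =>
    rw [List.map_append, List.map_singleton]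
    refine Chain.snoc _ _ ih ?_ ?_
    · exact (IsLocalization.AtPrime.to_map_mem_maximal_iff _ p x).mpr hx
    · rw [← Ideal.map_ofList]
      exact h2

lemma Good.height_le {l : List T} (h : Good p l) :
    ∀ Q : Ideal T, Q.IsPrime → Ideal.ofList l ≤ Q → (l.length : ℕ∞) ≤ Q.height := by
  induction h with
  | nil => intro Q _ _; simp
  | snoc l x _ hx _ _ h3 ih =>
    intro Q hQ hle
    rw [Ideal.ofList_append, sup_le_iff] at hle
    obtain ⟨hlQ, hxQ⟩ := hle
    have hxQ' : x ∈ Q := by
      apply hxQ
      rw [Ideal.ofList_singleton]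
      exact Ideal.mem_span_singleton_self x
    obtain ⟨q, hq, hqQ⟩ := Ideal.exists_minimalPrimes_le hlQ
    have hqp : q.IsPrime := hq.1.1
    have hlt : q < Q := lt_of_le_of_ne hqQ (fun heq => h3 q hq (heq ▸ hxQ'))
    have h1 := ih q hqp hq.1.2
    have h2 := Ideal.height_strict_mono_of_isPrime hlt
    rw [List.length_append, List.length_singleton]
    have h3 : ((l.length : ℕ∞)) < Q.height := lt_of_le_of_lt h1 h2
    push_cast
    exact Order.add_one_le_of_lt h3

lemma height_maximalIdeal_localization (p : Ideal T) [p.IsPrime] :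
    (maximalIdeal (Localization.AtPrime p)).height = p.height := by
  have h1 := IsLocalization.AtPrime.ringKrullDim_eq_height p (Localization.AtPrime p)
  have h2 := IsLocalRing.maximalIdeal_height_eq_ringKrullDim (R := Localization.AtPrime p)
  rw [h1] at h2
  exact_mod_cast h2

/-- existence of good lists of every length `≤ height p` -/
theorem exists_good (p : Ideal T) [p.IsPrime] (i : ℕ) (hi : (i : ℕ∞) ≤ p.height) :
    ∃ l : List T, l.length = i ∧ Good p l := by
  induction i with
  | zero => exact ⟨[], rfl, Good.nil⟩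
  | succ i ih =>
    have hi' : (i : ℕ∞) < p.height := by
      refine lt_of_lt_of_le ?_ hi
      exact_mod_cast Nat.lt_succ_self i
    obtain ⟨l, hlen, hl⟩ := ih hi'.le
    have hp : p ≠ ⊤ := Ideal.IsPrime.ne_top ‹_›
    have h1 : ¬ p ≤ Ideal.ofList l ⊔ maximalIdeal T * p :=
      not_le_sup_of_length_lt_height p hp l hl.mem (by rw [hlen]; exact hi')
    have h2 : ¬ p ≤ (Ideal.map (algebraMap T (Localization.AtPrime p)) (Ideal.ofList l) ⊔
        maximalIdeal (Localization.AtPrime p) * maximalIdeal (Localization.AtPrime p)).comap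
          (algebraMap T (Localization.AtPrime p)) := by
      intro hle
      rw [← Ideal.map_le_iff_le_comap, Localization.AtPrime.map_eq_maximalIdeal,
        Ideal.map_ofList] at hle
      refine not_le_sup_of_length_lt_height (maximalIdeal (Localization.AtPrime p))
        (Ideal.IsPrime.ne_top inferInstance) _ hl.chain_map.mem ?_ hle
      rw [List.length_map, hlen, height_maximalIdeal_localization]
      exact hi'
    have hfin := (Ideal.ofList l).finite_minimalPrimes_of_isNoetherianRing T
    have h3 : ∀ q ∈ hfin.toFinset, ¬ p ≤ q := by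
      intro q hq hpq
      rw [Set.Finite.mem_toFinset] at hq
      have h4 := height_le_length_of_mem_minimalPrimes l q hq
      have h5 := Ideal.height_mono hpq
      rw [hlen] at h4
      exact absurd (lt_of_lt_of_le hi' (h5.trans h4)) (lt_irrefl _)
    obtain ⟨x, hxp, hx1, hx2, hx3⟩ := exists_mem_avoid p _ _ hfin.toFinset
      (fun q hq => ((Set.Finite.mem_toFinset hfin).mp hq).1.1) h1 h2 h3
    refine ⟨l ++ [x], by rw [List.length_append, List.length_singleton, hlen], ?_⟩
    exact Good.snoc l x hl hxp hx1 hx2 (fun q hq => hx3 q ((Set.Finite.mem_toFinset hfin).mpr hq))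

end Groth.Agent.Lib.Helper99.DSeq
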