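import Mathlib
import Groth.Prelude.Def_W4c5grrsingularflatDSeq

/-!
# d-sequences: generic lemmas for conditions (a) and (b) (helper99)
-/

set_option autoImplicit false
universe u

namespace Groth.Agent.Lib.Helper99.DSeq

open RingTheory.Sequence

variable {R : Type u} [CommRing R]

/-- a generating list of minimal length satisfies condition (a) of a d-sequence -/
lemma notMem_span_others (ts : List R)
    (h : ts.length ≤ (Ideal.ofList ts).spanFinrank) (i : Fin ts.length) :
    ts[i] ∉ Ideal.span
      (Set.range fun j : {j : Fin ts.length // j ≠ i} => ts[(j : Fin ts.length)]) := by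
  classical
  intro hmem
  set S : Set R := Set.range fun j : {j : Fin ts.length // j ≠ i} => ts[(j : Fin ts.length)]
    with hS
  have hle : Ideal.ofList ts ≤ Ideal.span S := by
    rw [Ideal.ofList, Ideal.span_le]
    intro x hx
    obtain ⟨n, hn, rfl⟩ := List.getElem_of_mem hx
    by_cases hni : (⟨n, hn⟩ : Fin ts.length) = i
    · rw [← hni] at hmem
      exact hmem
    · exact Ideal.subset_span ⟨⟨⟨n, hn⟩, hni⟩, rfl⟩
  have hge : Ideal.span S ≤ Ideal.ofList ts := by
    rw [Ideal.span_le]
    rintro _ ⟨j, rfl⟩
    exact Ideal.subset_span (List.getElem_mem _)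
  have heq : Ideal.ofList ts = Ideal.span S := le_antisymm hle hge
  have hfin : S.Finite := Set.finite_range _
  have h1 := Submodule.spanFinrank_span_le_ncard_of_finite (R := R) hfin
  have h2 : S.ncard ≤ ts.length - 1 := by
    rw [← Nat.card_coe_set_eq]
    refine (Finite.card_range_le _).trans ?_
    rw [Nat.card_eq_fintype_card, Fintype.card_subtype_compl, Fintype.card_subtype_eq,
      Fintype.card_fin]
  have h3 : 0 < ts.length := i.pos
  rw [heq] at h
  have h4 : (Ideal.span S).spanFinrank ≤ S.ncard := h1
  omega

/-- colon identity coming from a nonzerodivisor -/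
lemma colon_eq_of_regular (I : Ideal R) (a b : R) (hreg : ∀ y, a * y ∈ I → y ∈ I) :
    I.colon {b * a} = I.colon {b} := by
  ext x
  rw [Submodule.mem_colon_singleton, Submodule.mem_colon_singleton, smul_eq_mul, smul_eq_mul]
  constructor
  · intro h
    apply hreg
    have : a * (x * b) = x * (b * a) := by ring
    rw [this]
    exact h
  · intro h
    have : x * (b * a) = (x * b) * a := by ring
    rw [this]
    exact I.mul_mem_right _ h

lemma regular_of_isWeaklyRegular (l : List R) (hreg : IsWeaklyRegular R l) (i : ℕ)
    (hi : i < l.length) : ∀ y, l[i] * y ∈ Ideal.ofList (l.take i) → y ∈ Ideal.ofList (l.take i) := by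
  intro y hy
  have h1 := hreg.regular_mod_prev i hi
  have heq : (Ideal.ofList (l.take i) • (⊤ : Submodule R R)) = Ideal.ofList (l.take i) := by
    rw [smul_eq_mul, Ideal.mul_top]
  have h2 : l[i] • (Submodule.Quotient.mk y :
      R ⧸ (Ideal.ofList (l.take i) • (⊤ : Submodule R R))) = l[i] • 0 := by
    rw [smul_zero, ← Submodule.Quotient.mk_smul, Submodule.Quotient.mk_eq_zero, heq, smul_eq_mul]
    exact hy
  have h3 := h1 h2
  rw [Submodule.Quotient.mk_eq_zero, heq] at h3
  exact h3

/-- condition (b) at positions `i < l.length` where `l` is a weakly regular prefix -/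
lemma colon_eq_of_prefix_regular (l l' : List R) (hreg : IsWeaklyRegular R l) (i k : ℕ)
    (hk : k < (l ++ l').length) (hik : i ≤ k) (hi : i < l.length) :
    (Ideal.ofList ((l ++ l').take i)).colon
        {(l ++ l')[k] * (l ++ l')[i]'(Nat.lt_of_le_of_lt hik hk)} =
      (Ideal.ofList ((l ++ l').take i)).colon {(l ++ l')[k]} := by
  rw [List.take_append_of_le_length hi.le]
  have e : (l ++ l')[i]'(Nat.lt_of_le_of_lt hik hk) = l[i] := List.getElem_append_left hi
  rw [e]
  exact colon_eq_of_regular _ _ _ (regular_of_isWeaklyRegular l hreg i hi)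

/-- assembling a d-sequence from a weakly regular prefix, minimality of the number of generators
and the colon identities at the remaining positions -/
theorem isDSeq_append (l l' : List R) (hreg : IsWeaklyRegular R l)
    (hlen : (l ++ l').length ≤ (Ideal.ofList (l ++ l')).spanFinrank)
    (hb : ∀ (i k : ℕ) (hk : k < (l ++ l').length) (hik : i ≤ k), l.length ≤ i →
      (Ideal.ofList ((l ++ l').take i)).colon
          {(l ++ l')[k] * (l ++ l')[i]'(Nat.lt_of_le_of_lt hik hk)} =
        (Ideal.ofList ((l ++ l').take i)).colon {(l ++ l')[k]}) :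
    W4c5grrsingularflat.IsDSeq (l ++ l') := by
  refine ⟨fun i => notMem_span_others _ hlen i, fun i k hk hik => ?_⟩
  by_cases hi : i < l.length
  · exact colon_eq_of_prefix_regular l l' hreg i k hk hik hi
  · exact hb i k hk hik (not_lt.mp hi)

/-- the key colon identity `(J : x²) = (J : x)` -/
lemma colon_sq_eq [IsNoetherianRing R] (J : Ideal R)
    (hmin : ∀ z : R, z ∉ J → ∃ P ∈ J.minimalPrimes, J.colon {z} ≤ P)
    (p : Ideal R) [p.IsPrime] (x : R) (hp : p = J ⊔ Ideal.span {x})
    (hloc : ∃ s, s ∉ p ∧ s * x ∈ J) : J.colon {x * x} = J.colon {x} := by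
  ext y
  rw [Submodule.mem_colon_singleton, Submodule.mem_colon_singleton, smul_eq_mul, smul_eq_mul]
  constructor
  · intro h
    by_contra hz
    obtain ⟨q, hq, hle⟩ := hmin (y * x) hz
    have hxq : x ∈ q := by
      apply hle
      rw [Submodule.mem_colon_singleton, smul_eq_mul]
      have : x * (y * x) = y * (x * x) := by ring
      rw [this]; exact h
    have hJq : J ≤ q := hq.1.2
    have hJp : J ≤ p := by rw [hp]; exact le_sup_left
    have hpq : p ≤ q := by
      rw [hp]
      exact sup_le hJq ((Ideal.span_singleton_le_iff_mem _).mpr hxq)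
    have hqp : q ≤ p := hq.2 ⟨inferInstance, hJp⟩ hpq
    obtain ⟨s, hs, hsx⟩ := hloc
    apply hs
    apply hqp
    apply hle
    rw [Submodule.mem_colon_singleton, smul_eq_mul]
    have : s * (y * x) = y * (s * x) := by ring
    rw [this]
    exact J.mul_mem_left _ hsx
  · intro h
    have : y * (x * x) = (y * x) * x := by ring
    rw [this]
    exact J.mul_mem_right _ h

end Groth.Agent.Lib.Helper99.DSeq
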