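import Mathlib
import Groth.Prelude.Def_CAlg
import Groth.Prelude.Def_W4c5grrsingularflatDSeq
import Groth.Agent.Lib.Helper99.DSeqB
import Groth.Agent.Lib.Helper99.DSeqC
import Groth.Agent.Lib.Helper77.ProjNormal
import Groth.Agent.Lib.Helper77.Unmixed
import Groth.Agent.Lib.Helper11.CMUnmixed
import Groth.Agent.Lib.Helper11.CMLocalize

/-!
# A d-sequence generating a prime `p` with `μ(p) ≤ ht p + 1`, `T` CM local, `T_p` regular (helper99)
-/

set_option autoImplicit false
universe u

namespace Groth.Agent.Lib.Helper99.DSeq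

open IsLocalRing RingTheory.Sequence LocCoh

variable {T : Type u} [CommRing T]

/-- quotient of a CM local ring by a regular sequence in the maximal ideal is a CM ring -/
theorem isCohenMacaulayRing_quot [IsCohenMacaulayLocalRing T] (l : List T)
    (hmem : ∀ x ∈ l, x ∈ maximalIdeal T) (hreg : IsWeaklyRegular T l) :
    IsCohenMacaulayRing (T ⧸ Ideal.ofList l) := by
  have hJle : Ideal.ofList l ≤ maximalIdeal T := by
    rw [Ideal.ofList, Ideal.span_le]
    exact fun x hx => hmem x hx
  have hJtop : Ideal.ofList l ≠ ⊤ :=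
    fun h => (maximalIdeal.isMaximal T).ne_top (top_le_iff.mp (h ▸ hJle))
  haveI : Nontrivial (T ⧸ Ideal.ofList l) := Ideal.Quotient.nontrivial_iff.mpr hJtop
  haveI hloc : IsLocalRing (T ⧸ Ideal.ofList l) :=
    IsLocalRing.of_surjective' (Ideal.Quotient.mk _) Ideal.Quotient.mk_surjective
  have h := (Groth.Agent.Lib.Helper77.ProjNormal.quot_CM T l hmem hreg (Ideal.ofList l) rfl
    (T ⧸ Ideal.ofList l) (RingEquiv.refl _)).1
  haveI hCM : IsCohenMacaulayLocalRing (T ⧸ Ideal.ofList l) :=
    { supportDim_eq_depth := by rw [Module.supportDim_self_eq_ringKrullDim]; exact h }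
  exact ⟨fun q _ => Groth.Agent.Lib.Helper11.CMLocalize.localization_CM _ q⟩

/-- elements of `p` whose image lies in the extension of `J` to `T_p` are killed into `J` by
an element outside `p` -/
lemma exists_notMem_mul_mem (p : Ideal T) [p.IsPrime] (J : Ideal T) (x : T)
    (hx : algebraMap T (Localization.AtPrime p) x ∈
      Ideal.map (algebraMap T (Localization.AtPrime p)) J) :
    ∃ s, s ∉ p ∧ s * x ∈ J := by
  rw [IsLocalization.mem_map_algebraMap_iff p.primeCompl] at hx
  obtain ⟨⟨a, s⟩, ha⟩ := hx
  rw [← map_mul, IsLocalization.eq_iff_exists p.primeCompl] at ha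
  obtain ⟨c, hc⟩ := ha
  refine ⟨c * s, (c * s).2, ?_⟩
  have : ((c : T) * (s : T)) * x = c * (x * s) := by ring
  change ((c : T) * (s : T)) * x ∈ J
  rw [this]
  change (c : T) * (x * (s : T)) = (c : T) * (a : T) at hc
  rw [hc]
  exact J.mul_mem_left _ a.2

theorem main [IsCohenMacaulayLocalRing T]
    (p : Ideal T) [p.IsPrime] (hgen : (Submodule.spanFinrank p : ℕ∞) ≤ p.height + 1)
    [IsRegularLocalRing (Localization.AtPrime p)] :
    ∃ ts : List T, Ideal.ofList ts = p ∧ W4c5grrsingularflat.IsDSeq ts := by
  have hp : p ≠ ⊤ := Ideal.IsPrime.ne_top ‹_›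
  obtain ⟨h, hh⟩ := ENat.ne_top_iff_exists.mp (Ideal.height_ne_top hp)
  obtain ⟨l, hlen, hl⟩ := exists_good p h (le_of_eq hh)
  have hmem := hl.mem
  have hmemm : ∀ x ∈ l, x ∈ maximalIdeal T :=
    fun x hx => IsLocalRing.le_maximalIdeal hp (hmem x hx)
  have hreg : IsWeaklyRegular T l := by
    apply Groth.Agent.Lib.Helper77.Unmixed.isWeaklyRegular_of_height T l hmemm
    intro Q hQ
    exact hl.height_le Q.asIdeal Q.isPrime hQ
  -- the localization
  have hspan : (maximalIdeal (Localization.AtPrime p)).spanFinrank = h := by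
    have h1 := IsRegularLocalRing.spanFinrank_maximalIdeal (R := Localization.AtPrime p)
    rw [IsLocalization.AtPrime.ringKrullDim_eq_height p (Localization.AtPrime p), ← hh] at h1
    exact_mod_cast h1
  have hloc : Ideal.ofList (l.map (algebraMap T (Localization.AtPrime p))) =
      maximalIdeal (Localization.AtPrime p) :=
    ofList_eq_of_chain _ hl.chain_map (by rw [List.length_map, hlen, hspan])
  -- number of generators
  have hμ1 : h ≤ p.spanFinrank := by
    have := Ideal.height_le_spanFinrank p hp
    rw [← hh] at this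
    exact_mod_cast this
  have hμ2 : p.spanFinrank ≤ h + 1 := by
    rw [← hh] at hgen
    exact_mod_cast hgen
  have hCMq := isCohenMacaulayRing_quot l hmemm hreg
  rcases Nat.lt_or_ge h p.spanFinrank with hlt | hge
  · -- `μ = h + 1`
    have hμ : l.length + 1 = p.spanFinrank := by omega
    obtain ⟨x, hxp, hx⟩ := exists_snoc_generating p hl.chain hμ
    refine ⟨l ++ [x], hx, ?_⟩
    apply isDSeq_append l [x] hreg
    · rw [hx, List.length_append, List.length_singleton]; omega
    · intro i k hk hik hi
      rw [List.length_append, List.length_singleton] at hk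
      have hi' : i = l.length := by omega
      have hk' : k = l.length := by omega
      subst hi'
      subst hk'
      have e : (l ++ [x])[l.length]'(by simp) = x := by simp
      rw [List.take_left', e]
      · apply colon_sq_eq (Ideal.ofList l)
          (fun z hz => Groth.Agent.Lib.Helper11.CMUnmixed.exists_mem_minimalPrimes_colon_le _ hz)
          p x
        · rw [← hx, Ideal.ofList_append, Ideal.ofList_singleton]
        · apply exists_notMem_mul_mem p (Ideal.ofList l) x
          rw [Ideal.map_ofList, hloc]
          exact (IsLocalization.AtPrime.to_map_mem_maximal_iff _ p x).mpr hxp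
      · rfl
  · -- `μ = h`
    have hμ : l.length = p.spanFinrank := by omega
    have hx : Ideal.ofList l = p := ofList_eq_of_chain p hl.chain hμ
    refine ⟨l ++ [], by rw [List.append_nil]; exact hx, ?_⟩
    apply isDSeq_append l [] hreg
    · rw [List.append_nil, hx]; omega
    · intro i k hk hik hi
      rw [List.append_nil] at hk
      omega

end Groth.Agent.Lib.Helper99.DSeq
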