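import Mathlib.RingTheory.MvPowerSeries.Substitution
import Mathlib.RingTheory.MvPowerSeries.Order

/-!
# Formal inverse function theorem for substitutions of multivariate power series

`Groth.Agent.Lib.Helper99.PSInv`:
* `IsTangentId a`: the family `a : σ → MvPowerSeries σ R` satisfies `a i = X i + (order ≥ 2)`.
* `bijective_subst_of_isTangentId`: then `substAlgHom` is bijective.
* `algEquivOfDiag`: if `a i = c i • X i + (order ≥ 2)` with `c i` units, `substAlgHom` is an
  algebra automorphism.
-/

set_option autoImplicit false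

open MvPowerSeries

namespace Groth.Agent.Lib.Helper99.PSInv

variable {σ : Type*} {R : Type*} [CommRing R]

section order

/-- difference of products has larger order -/
theorem le_order_prod_sub_prod {ι : Type*} (s : Finset ι) (A B : ι → MvPowerSeries σ R)
    (p : ι → ℕ) (hA : ∀ i ∈ s, (p i : ℕ∞) ≤ (A i).order) (hB : ∀ i ∈ s, (p i : ℕ∞) ≤ (B i).order)
    (hAB : ∀ i ∈ s, ((p i + 1 : ℕ) : ℕ∞) ≤ (A i - B i).order) :
    (((∑ i ∈ s, p i) + 1 : ℕ) : ℕ∞) ≤ (∏ i ∈ s, A i - ∏ i ∈ s, B i).order := by
  classical
  induction s using Finset.induction_on with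
  | empty => simp
  | insert j s hj ih =>
    rw [Finset.prod_insert hj, Finset.prod_insert hj, Finset.sum_insert hj]
    have hdecomp : A j * ∏ i ∈ s, A i - B j * ∏ i ∈ s, B i =
        (A j - B j) * ∏ i ∈ s, A i + B j * (∏ i ∈ s, A i - ∏ i ∈ s, B i) := by ring
    rw [hdecomp]
    have hprodA : ((∑ i ∈ s, p i : ℕ) : ℕ∞) ≤ (∏ i ∈ s, A i).order := by
      refine le_trans ?_ (le_order_prod A s)
      rw [Nat.cast_sum]
      exact Finset.sum_le_sum fun i hi => hA i (Finset.mem_insert_of_mem hi)
    have ih' := ih (fun i hi => hA i (Finset.mem_insert_of_mem hi))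
      (fun i hi => hB i (Finset.mem_insert_of_mem hi))
      (fun i hi => hAB i (Finset.mem_insert_of_mem hi))
    refine le_trans ?_ min_order_le_add
    rw [le_min_iff]
    constructor
    · refine le_trans ?_ le_order_mul
      have h1 := hAB j (Finset.mem_insert_self j s)
      calc ((p j + ∑ i ∈ s, p i + 1 : ℕ) : ℕ∞)
          = ((p j + 1 : ℕ) : ℕ∞) + ((∑ i ∈ s, p i : ℕ) : ℕ∞) := by push_cast; ring
        _ ≤ _ := add_le_add h1 hprodA
    · refine le_trans ?_ le_order_mul
      have h1 := hB j (Finset.mem_insert_self j s)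
      calc ((p j + ∑ i ∈ s, p i + 1 : ℕ) : ℕ∞)
          = ((p j : ℕ) : ℕ∞) + (((∑ i ∈ s, p i) + 1 : ℕ) : ℕ∞) := by push_cast; ring
        _ ≤ _ := add_le_add h1 ih'

end order

/-- `a` is tangent to the identity: `a i = X i + O(2)`. -/
def IsTangentId (a : σ → MvPowerSeries σ R) : Prop :=
  ∀ i, (2 : ℕ∞) ≤ (a i - X i).order

namespace IsTangentId

variable {a : σ → MvPowerSeries σ R}

theorem constantCoeff_eq_zero (ha : IsTangentId a) (i : σ) : constantCoeff (a i) = 0 := by
  have h1 : coeff (0 : σ →₀ ℕ) (a i - X i) = 0 := by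
    apply coeff_of_lt_order
    refine lt_of_lt_of_le ?_ (ha i)
    simp
  rw [map_sub, coeff_zero_X, sub_zero] at h1
  rwa [← coeff_zero_eq_constantCoeff_apply]

theorem one_le_order (ha : IsTangentId a) (i : σ) : (1 : ℕ∞) ≤ (a i).order :=
  one_le_order_iff_constCoeff_eq_zero.2 (ha.constantCoeff_eq_zero i)

theorem hasSubst [Finite σ] (ha : IsTangentId a) : HasSubst a :=
  hasSubst_of_constantCoeff_zero ha.constantCoeff_eq_zero

theorem le_order_pow_sub (ha : IsTangentId a) (i : σ) (n : ℕ) :
    ((n + 1 : ℕ) : ℕ∞) ≤ (a i ^ n - X i ^ n).order := by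
  have := le_order_prod_sub_prod (Finset.range n) (fun _ => a i) (fun _ => (X i : MvPowerSeries σ R))
    (fun _ => 1) (fun _ _ => by simpa using ha.one_le_order i)
    (fun _ _ => by
      simpa using (one_le_order_iff_constCoeff_eq_zero (f := (X i : MvPowerSeries σ R))).2
        (constantCoeff_X i))
    (fun _ _ => by simpa using ha i)
  simpa using this

theorem le_order_pow (ha : IsTangentId a) (i : σ) (n : ℕ) :
    (n : ℕ∞) ≤ (a i ^ n).order := by
  refine le_trans ?_ (MvPowerSeries.le_order_pow n)
  have := ha.one_le_order i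
  calc (n : ℕ∞) = n • (1 : ℕ∞) := by simp
    _ ≤ n • (a i).order := nsmul_le_nsmul_right this n

theorem le_order_X_pow (i : σ) (n : ℕ) :
    (n : ℕ∞) ≤ ((X i : MvPowerSeries σ R) ^ n).order := by
  refine le_trans ?_ (MvPowerSeries.le_order_pow n)
  have : (1 : ℕ∞) ≤ (X i : MvPowerSeries σ R).order :=
    one_le_order_iff_constCoeff_eq_zero.2 (constantCoeff_X i)
  calc (n : ℕ∞) = n • (1 : ℕ∞) := by simp
    _ ≤ n • (X i : MvPowerSeries σ R).order := nsmul_le_nsmul_right this n

theorem le_order_prod_sub_monomial (ha : IsTangentId a) (d : σ →₀ ℕ) :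
    ((d.degree + 1 : ℕ) : ℕ∞) ≤
      ((d.prod fun s e => a s ^ e) - monomial d (1 : R)).order := by
  rw [monomial_one_eq, Finsupp.prod, Finsupp.prod]
  have := le_order_prod_sub_prod d.support (fun s => a s ^ d s)
    (fun s => (X s : MvPowerSeries σ R) ^ d s) (fun s => d s)
    (fun s _ => ha.le_order_pow s (d s)) (fun s _ => le_order_X_pow s (d s))
    (fun s _ => ha.le_order_pow_sub s (d s))
  rwa [← Finsupp.degree_apply] at this

/-- Key estimate: `subst a f - f` has order one more than `f`. -/
theorem le_order_subst_sub [Finite σ] (ha : IsTangentId a) (f : MvPowerSeries σ R) (n : ℕ)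
    (hf : (n : ℕ∞) ≤ f.order) : ((n + 1 : ℕ) : ℕ∞) ≤ (subst a f - f).order := by
  classical
  apply nat_le_order
  intro d hd
  rw [map_sub, coeff_subst ha.hasSubst, sub_eq_zero]
  have hterm : ∀ m : σ →₀ ℕ, coeff m f • coeff d (m.prod fun s e => a s ^ e) =
      coeff m f • coeff d (monomial m (1 : R)) := by
    intro m
    by_cases hm : m.degree < n
    · have : coeff m f = 0 := coeff_of_lt_order (lt_of_lt_of_le (by exact_mod_cast hm) hf)
      simp [this]
    · push Not at hm
      have h1 := ha.le_order_prod_sub_monomial m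
      have h2 : coeff d ((m.prod fun s e => a s ^ e) - monomial m (1 : R)) = 0 := by
        apply coeff_of_lt_order
        refine lt_of_lt_of_le ?_ h1
        exact_mod_cast (by omega : d.degree < m.degree + 1)
      rw [map_sub, sub_eq_zero] at h2
      rw [h2]
  rw [finsum_congr hterm, finsum_eq_single _ d]
  · simp [coeff_monomial_same]
  · intro m hm
    rw [coeff_monomial_ne (Ne.symm hm)]
    simp

theorem eq_zero_of_forall_le_order {f : MvPowerSeries σ R}
    (h : ∀ k : ℕ, (k : ℕ∞) ≤ f.order) : f = 0 := by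
  by_contra hne
  have hfin := ne_zero_iff_order_finite.1 hne
  have := h (f.order.toNat + 1)
  rw [← hfin] at this
  have h2 : (f.order.toNat + 1 : ℕ) ≤ f.order.toNat := by exact_mod_cast this
  omega

theorem subst_injective [Finite σ] (ha : IsTangentId a) :
    Function.Injective (subst a : MvPowerSeries σ R → MvPowerSeries σ R) := by
  intro f g hfg
  by_contra hne
  have hsub : subst a (f - g) = 0 := by rw [subst_sub ha.hasSubst, hfg, sub_self]
  have hne' : f - g ≠ 0 := sub_ne_zero.2 hne
  have hfin := ne_zero_iff_order_finite.1 hne'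
  have h1 := ha.le_order_subst_sub (f - g) (f - g).order.toNat (le_of_eq hfin)
  rw [hsub, zero_sub, order_neg, ← hfin] at h1
  have h2 : ((f - g).order.toNat + 1 : ℕ) ≤ (f - g).order.toNat := by exact_mod_cast h1
  omega

/-- successive remainders in the construction of a preimage of `g`. -/
noncomputable def rem (a : σ → MvPowerSeries σ R) (g : MvPowerSeries σ R) : ℕ → MvPowerSeries σ R
  | 0 => g
  | k + 1 => rem a g k - subst a (rem a g k)

theorem le_order_rem [Finite σ] (ha : IsTangentId a) (g : MvPowerSeries σ R) (k : ℕ) :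
    (k : ℕ∞) ≤ (rem a g k).order := by
  induction k with
  | zero => simp
  | succ k ih =>
    have := ha.le_order_subst_sub (rem a g k) k ih
    rw [rem, ← order_neg, neg_sub]
    exact this

/-- the limit of the partial sums of the remainders. -/
noncomputable def preimage (a : σ → MvPowerSeries σ R) (g : MvPowerSeries σ R) :
    MvPowerSeries σ R :=
  fun d => coeff d (∑ j ∈ Finset.range (d.degree + 1), rem a g j)

theorem le_order_preimage_sub [Finite σ] (ha : IsTangentId a) (g : MvPowerSeries σ R) (k : ℕ) :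
    (k : ℕ∞) ≤ (preimage a g - ∑ j ∈ Finset.range k, rem a g j).order := by
  apply nat_le_order
  intro d hd
  rw [map_sub, sub_eq_zero, coeff_apply, preimage, map_sum, map_sum]
  apply Finset.sum_subset
  · intro j hj
    rw [Finset.mem_range] at hj ⊢
    omega
  · intro j hj hj'
    rw [Finset.mem_range] at hj hj'
    apply coeff_of_lt_order
    refine lt_of_lt_of_le ?_ (ha.le_order_rem g j)
    exact_mod_cast (by omega : d.degree < j)

theorem sub_subst_sum_rem [Finite σ] (ha : IsTangentId a) (g : MvPowerSeries σ R) (k : ℕ) :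
    g - subst a (∑ j ∈ Finset.range k, rem a g j) = rem a g k := by
  induction k with
  | zero =>
    rw [Finset.range_zero, Finset.sum_empty, ← coe_substAlgHom ha.hasSubst, map_zero, sub_zero, rem]
  | succ k ih =>
    rw [Finset.sum_range_succ, subst_add ha.hasSubst, ← sub_sub, ih, rem]

theorem le_order_subst_of_le [Finite σ] (ha : IsTangentId a) (f : MvPowerSeries σ R) (n : ℕ)
    (hf : (n : ℕ∞) ≤ f.order) : (n : ℕ∞) ≤ (subst a f).order := by
  have h1 := ha.le_order_subst_sub f n hf
  have h2 : subst a f = (subst a f - f) + f := by ring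
  rw [h2]
  refine le_trans ?_ min_order_le_add
  rw [le_min_iff]
  refine ⟨le_trans ?_ h1, hf⟩
  exact_mod_cast Nat.le_succ n

theorem subst_preimage [Finite σ] (ha : IsTangentId a) (g : MvPowerSeries σ R) :
    subst a (preimage a g) = g := by
  have key : g - subst a (preimage a g) = 0 := by
    apply eq_zero_of_forall_le_order
    intro k
    have h1 : g - subst a (preimage a g) =
        rem a g k - subst a (preimage a g - ∑ j ∈ Finset.range k, rem a g j) := by
      rw [subst_sub ha.hasSubst, ← ha.sub_subst_sum_rem g k]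
      ring
    rw [h1, sub_eq_add_neg]
    refine le_trans ?_ min_order_le_add
    rw [le_min_iff, order_neg]
    exact ⟨ha.le_order_rem g k,
      ha.le_order_subst_of_le _ k (ha.le_order_preimage_sub g k)⟩
  exact (sub_eq_zero.1 key).symm

theorem subst_bijective [Finite σ] (ha : IsTangentId a) :
    Function.Bijective (subst a : MvPowerSeries σ R → MvPowerSeries σ R) :=
  ⟨ha.subst_injective, fun g => ⟨preimage a g, ha.subst_preimage g⟩⟩

/-- The algebra automorphism given by a substitution tangent to the identity. -/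
noncomputable def algEquiv [Finite σ] (ha : IsTangentId a) :
    MvPowerSeries σ R ≃ₐ[R] MvPowerSeries σ R :=
  AlgEquiv.ofBijective (substAlgHom ha.hasSubst) (by
    rw [coe_substAlgHom]
    exact ha.subst_bijective)

@[simp]
theorem algEquiv_apply [Finite σ] (ha : IsTangentId a) (f : MvPowerSeries σ R) :
    ha.algEquiv f = subst a f := by
  simp [algEquiv]

end IsTangentId

/-- `a i = c i • X i + O(2)` with units `c i`. -/
def IsDiagUnit (c : σ → Rˣ) (a : σ → MvPowerSeries σ R) : Prop :=
  ∀ i, (2 : ℕ∞) ≤ (a i - ((c i : Rˣ) : R) • (X i : MvPowerSeries σ R)).order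

namespace IsDiagUnit

variable {c : σ → Rˣ} {a : σ → MvPowerSeries σ R}

/-- the normalised family `c⁻¹ • a`, tangent to the identity. -/
noncomputable def normalize (c : σ → Rˣ) (a : σ → MvPowerSeries σ R) : σ → MvPowerSeries σ R :=
  fun i => (((c i)⁻¹ : Rˣ) : R) • a i

theorem isTangentId (h : IsDiagUnit c a) : IsTangentId (normalize c a) := by
  intro i
  have : normalize c a i - X i = (((c i)⁻¹ : Rˣ) : R) • (a i - ((c i : Rˣ) : R) • X i) := by
    rw [normalize, smul_sub, smul_smul, Units.inv_mul, one_smul]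
  rw [this]
  exact le_trans (h i) le_order_smul

theorem constantCoeff_eq_zero (h : IsDiagUnit c a) (i : σ) : constantCoeff (a i) = 0 := by
  have h1 : coeff (0 : σ →₀ ℕ) (a i - ((c i : Rˣ) : R) • (X i : MvPowerSeries σ R)) = 0 := by
    apply coeff_of_lt_order
    refine lt_of_lt_of_le ?_ (h i)
    simp
  rw [map_sub, map_smul, coeff_zero_X, smul_zero, sub_zero] at h1
  rwa [← coeff_zero_eq_constantCoeff_apply]

theorem hasSubst [Finite σ] (h : IsDiagUnit c a) : HasSubst a :=
  hasSubst_of_constantCoeff_zero h.constantCoeff_eq_zero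

theorem subst_eq [Finite σ] (h : IsDiagUnit c a) (f : MvPowerSeries σ R) :
    subst a f = subst (normalize c a) (rescale (fun i => ((c i : Rˣ) : R)) f) := by
  rw [rescale_eq_subst, subst_comp_subst_apply (HasSubst.smul_X _) h.isTangentId.hasSubst]
  congr 1
  funext s
  rw [Pi.smul_apply', subst_smul h.isTangentId.hasSubst, subst_X h.isTangentId.hasSubst,
    normalize, smul_smul, Units.mul_inv, one_smul]

theorem rescale_bijective (c : σ → Rˣ) :
    Function.Bijective (rescale (fun i => ((c i : Rˣ) : R)) :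
      MvPowerSeries σ R → MvPowerSeries σ R) := by
  have h1 : ∀ (c : σ → Rˣ) (f : MvPowerSeries σ R),
      rescale (fun i => (((c i)⁻¹ : Rˣ) : R)) (rescale (fun i => ((c i : Rˣ) : R)) f) = f := by
    intro c f
    rw [rescale_rescale]
    have : ((fun i => ((c i : Rˣ) : R)) * fun i => (((c i)⁻¹ : Rˣ) : R)) = 1 := by
      funext i
      simp
    rw [this, rescale_one, RingHom.id_apply]
  refine ⟨Function.LeftInverse.injective (h1 c), fun f => ⟨rescale (fun i => (((c i)⁻¹ : Rˣ) : R)) f, ?_⟩⟩
  have := h1 (fun i => (c i)⁻¹) f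
  simpa using this

theorem subst_bijective [Finite σ] (h : IsDiagUnit c a) :
    Function.Bijective (subst a : MvPowerSeries σ R → MvPowerSeries σ R) := by
  have : (subst a : MvPowerSeries σ R → MvPowerSeries σ R) =
      subst (normalize c a) ∘ rescale (fun i => ((c i : Rˣ) : R)) := by
    funext f
    exact h.subst_eq f
  rw [this]
  exact h.isTangentId.subst_bijective.comp (rescale_bijective c)

/-- The algebra automorphism given by a substitution with diagonal unit linear part. -/
noncomputable def algEquiv [Finite σ] (h : IsDiagUnit c a) :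
    MvPowerSeries σ R ≃ₐ[R] MvPowerSeries σ R :=
  AlgEquiv.ofBijective (substAlgHom h.hasSubst) (by
    rw [coe_substAlgHom]
    exact h.subst_bijective)

@[simp]
theorem algEquiv_apply [Finite σ] (h : IsDiagUnit c a) (f : MvPowerSeries σ R) :
    h.algEquiv f = subst a f := by
  simp [algEquiv]

end IsDiagUnit

/-- the substitution `X i ↦ X i * w i`. -/
noncomputable def scaleBy (w : σ → MvPowerSeries σ R) : σ → MvPowerSeries σ R :=
  fun i => X i * w i

@[simp] theorem scaleBy_apply (w : σ → MvPowerSeries σ R) (i : σ) : scaleBy w i = X i * w i := rfl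

theorem scaleBy_isDiagUnit (c : σ → Rˣ) (w : σ → MvPowerSeries σ R)
    (hw : ∀ i, constantCoeff (w i) = ((c i : Rˣ) : R)) : IsDiagUnit c (scaleBy w) := by
  intro i
  have : scaleBy w i - ((c i : Rˣ) : R) • (X i : MvPowerSeries σ R) =
      X i * (w i - C ((c i : Rˣ) : R)) := by
    rw [scaleBy_apply, smul_eq_C_mul]
    ring
  rw [this]
  refine le_trans ?_ le_order_mul
  have h1 : (1 : ℕ∞) ≤ (X i : MvPowerSeries σ R).order :=
    one_le_order_iff_constCoeff_eq_zero.2 (constantCoeff_X i)
  have h2 : (1 : ℕ∞) ≤ (w i - C ((c i : Rˣ) : R)).order := by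
    apply one_le_order_iff_constCoeff_eq_zero.2
    rw [map_sub, hw i, constantCoeff_C, sub_self]
  calc (2 : ℕ∞) = 1 + 1 := by norm_num
    _ ≤ _ := add_le_add h1 h2

end Groth.Agent.Lib.Helper99.PSInv
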