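import Mathlib
import Groth.Agent.Lib.Helper99.PSInv
import Groth.Prelude.Def_QuadSing

/-!
# Formal Morse lemma for power series over a commutative ring (any characteristic)

`morse`: if the polar Gram matrix `B` of an upper triangular table `q` is invertible and `G` has order
`≥ m + 1` with `m ≥ 2`, there is a tuple `h` of power series of order `≥ m` with
`Q(X + h) + G(X + h) = Q(X)`.

Ingredients: a general "gain" version of the order estimate for differences of products, congruence
of substitutions, a division operator `divX`, and an abstract fixed point lemma `exists_fixed_point`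
for contractions with respect to the order filtration.
-/

set_option autoImplicit false
open MvPowerSeries
open Groth.Agent.Lib.Helper99.PSInv

namespace Groth.Agent.Lib.Helper99.Morse

section gain


variable {σ : Type*} {R : Type*} [CommRing R]

/-- difference of products has larger order, general gain `g`. -/
theorem le_order_prod_sub_prod_gain {ι : Type*} (s : Finset ι) (A B : ι → MvPowerSeries σ R)
    (p : ι → ℕ) (g : ℕ) (hA : ∀ i ∈ s, (p i : ℕ∞) ≤ (A i).order)
    (hB : ∀ i ∈ s, (p i : ℕ∞) ≤ (B i).order)
    (hAB : ∀ i ∈ s, ((p i + g : ℕ) : ℕ∞) ≤ (A i - B i).order) :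
    (((∑ i ∈ s, p i) + g : ℕ) : ℕ∞) ≤ (∏ i ∈ s, A i - ∏ i ∈ s, B i).order := by
  classical
  induction s using Finset.induction_on with
  | empty => simp
  | insert j s hj ih =>
    rw [Finset.prod_insert hj, Finset.prod_insert hj, Finset.sum_insert hj]
    have hdecomp : A j * ∏ i ∈ s, A i - B j * ∏ i ∈ s, B i =
        (A j - B j) * ∏ i ∈ s, A i + B j * (∏ i ∈ s, A i - ∏ i ∈ s, B i) := by ring
    rw [hdecomp]
    have hprodA : ((∑ i ∈ s, p i : ℕ) : ℕ∞) ≤ (∏ i ∈ s, A i).order := by
      refine le_trans ?_ (le_order_prod A s)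
      rw [Nat.cast_sum]
      exact Finset.sum_le_sum fun i hi => hA i (Finset.mem_insert_of_mem hi)
    have ih' := ih (fun i hi => hA i (Finset.mem_insert_of_mem hi))
      (fun i hi => hB i (Finset.mem_insert_of_mem hi))
      (fun i hi => hAB i (Finset.mem_insert_of_mem hi))
    refine le_trans ?_ min_order_le_add
    rw [le_min_iff]
    constructor
    · refine le_trans ?_ le_order_mul
      have h1 := hAB j (Finset.mem_insert_self j s)
      calc ((p j + ∑ i ∈ s, p i + g : ℕ) : ℕ∞)
          = ((p j + g : ℕ) : ℕ∞) + ((∑ i ∈ s, p i : ℕ) : ℕ∞) := by push_cast; ring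
        _ ≤ _ := add_le_add h1 hprodA
    · refine le_trans ?_ le_order_mul
      have h1 := hB j (Finset.mem_insert_self j s)
      calc ((p j + ∑ i ∈ s, p i + g : ℕ) : ℕ∞)
          = ((p j : ℕ) : ℕ∞) + (((∑ i ∈ s, p i) + g : ℕ) : ℕ∞) := by push_cast; ring
        _ ≤ _ := add_le_add h1 ih'

theorem le_order_pow_of_one_le {a : MvPowerSeries σ R} (ha : (1 : ℕ∞) ≤ a.order) (n : ℕ) :
    (n : ℕ∞) ≤ (a ^ n).order := by
  refine le_trans ?_ (MvPowerSeries.le_order_pow n)
  calc (n : ℕ∞) = n • (1 : ℕ∞) := by simp
    _ ≤ n • a.order := nsmul_le_nsmul_right ha n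

theorem le_order_pow_sub_pow_gain {a b : MvPowerSeries σ R} (g : ℕ)
    (ha : (1 : ℕ∞) ≤ a.order) (hb : (1 : ℕ∞) ≤ b.order)
    (hab : ((1 + g : ℕ) : ℕ∞) ≤ (a - b).order) (n : ℕ) :
    ((n + g : ℕ) : ℕ∞) ≤ (a ^ n - b ^ n).order := by
  have := le_order_prod_sub_prod_gain (Finset.range n) (fun _ => a) (fun _ => b)
    (fun _ => 1) g (fun _ _ => by simpa using ha) (fun _ _ => by simpa using hb)
    (fun _ _ => by simpa using hab)
  simpa using this

theorem le_order_monomial_prod_sub_gain {a b : σ → MvPowerSeries σ R} (g : ℕ)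
    (ha : ∀ i, (1 : ℕ∞) ≤ (a i).order) (hb : ∀ i, (1 : ℕ∞) ≤ (b i).order)
    (hab : ∀ i, ((1 + g : ℕ) : ℕ∞) ≤ (a i - b i).order) (d : σ →₀ ℕ) :
    ((d.degree + g : ℕ) : ℕ∞) ≤
      ((d.prod fun s e => a s ^ e) - (d.prod fun s e => b s ^ e)).order := by
  rw [Finsupp.prod, Finsupp.prod]
  have := le_order_prod_sub_prod_gain d.support (fun s => a s ^ d s)
    (fun s => b s ^ d s) (fun s => d s) g
    (fun s _ => le_order_pow_of_one_le (ha s) (d s)) (fun s _ => le_order_pow_of_one_le (hb s) (d s))
    (fun s _ => le_order_pow_sub_pow_gain g (ha s) (hb s) (hab s) (d s))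
  rwa [← Finsupp.degree_apply] at this

/-- Congruent substitutions give congruent results. -/
theorem le_order_subst_sub_subst [Finite σ] {a b : σ → MvPowerSeries σ R} (g m : ℕ)
    (ha : ∀ i, (1 : ℕ∞) ≤ (a i).order) (hb : ∀ i, (1 : ℕ∞) ≤ (b i).order)
    (hab : ∀ i, ((1 + g : ℕ) : ℕ∞) ≤ (a i - b i).order)
    (f : MvPowerSeries σ R) (hf : (m : ℕ∞) ≤ f.order) :
    ((m + g : ℕ) : ℕ∞) ≤ (subst a f - subst b f).order := by
  classical
  have hsa : HasSubst a := hasSubst_of_constantCoeff_zero fun i =>
    one_le_order_iff_constCoeff_eq_zero.1 (ha i)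
  have hsb : HasSubst b := hasSubst_of_constantCoeff_zero fun i =>
    one_le_order_iff_constCoeff_eq_zero.1 (hb i)
  apply nat_le_order
  intro e he
  rw [map_sub, coeff_subst hsa, coeff_subst hsb, sub_eq_zero]
  apply finsum_congr
  intro d
  by_cases hd : d.degree < m
  · have : coeff d f = 0 := coeff_of_lt_order (lt_of_lt_of_le (by exact_mod_cast hd) hf)
    simp [this]
  · push Not at hd
    have h1 := le_order_monomial_prod_sub_gain g ha hb hab d
    have h2 : coeff e ((d.prod fun s e => a s ^ e) - (d.prod fun s e => b s ^ e)) = 0 := by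
      apply coeff_of_lt_order
      refine lt_of_lt_of_le ?_ h1
      exact_mod_cast (by omega : e.degree < d.degree + g)
    rw [map_sub, sub_eq_zero] at h2
    rw [h2]


end gain

section div


variable {R : Type*} [CommRing R] {n : ℕ}

/-- "division by `X j`" keeping only the monomials whose least variable is `j`. -/
noncomputable def divX (j : Fin n) (P : MvPowerSeries (Fin n) R) : MvPowerSeries (Fin n) R :=
  fun e => if (∀ i < j, e i = 0) then coeff (e + Finsupp.single j 1) P else 0

theorem coeff_divX (j : Fin n) (P : MvPowerSeries (Fin n) R) (e : Fin n →₀ ℕ) :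
    coeff e (divX j P) = if (∀ i < j, e i = 0) then coeff (e + Finsupp.single j 1) P else 0 := rfl

theorem divX_sub (j : Fin n) (P Q : MvPowerSeries (Fin n) R) :
    divX j (P - Q) = divX j P - divX j Q := by
  ext e
  rw [map_sub, coeff_divX, coeff_divX, coeff_divX]
  split_ifs <;> simp

theorem le_order_divX (j : Fin n) (P : MvPowerSeries (Fin n) R) (k : ℕ)
    (hP : ((k + 1 : ℕ) : ℕ∞) ≤ P.order) : (k : ℕ∞) ≤ (divX j P).order := by
  apply nat_le_order
  intro e he
  rw [coeff_divX]
  split_ifs
  · apply coeff_of_lt_order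
    refine lt_of_lt_of_le ?_ hP
    have : (e + Finsupp.single j 1).degree = e.degree + 1 := by
      rw [map_add, Finsupp.degree_single]
    rw [this]
    exact_mod_cast (by omega : e.degree + 1 < k + 1)
  · rfl

theorem sum_X_mul_divX (P : MvPowerSeries (Fin n) R) (hP : constantCoeff P = 0) :
    ∑ j, X j * divX j P = P := by
  classical
  ext d
  rw [map_sum]
  by_cases hd : d = 0
  · subst hd
    rw [Finset.sum_eq_zero]
    · rw [coeff_zero_eq_constantCoeff_apply, hP]
    · intro j _
      rw [X_def, coeff_monomial_mul, if_neg]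
      intro h
      have := h j
      simp at this
  · -- least element of the support
    have hne : d.support.Nonempty := by
      rw [Finsupp.support_nonempty_iff]; exact hd
    obtain ⟨j0, hj0mem, hmin⟩ : ∃ j0 ∈ d.support, ∀ i ∈ d.support, j0 ≤ i :=
      ⟨_, Finset.min'_mem _ hne, fun i hi => Finset.min'_le _ i hi⟩
    have hj0pos : d j0 ≠ 0 := Finsupp.mem_support_iff.1 hj0mem
    have hlt : ∀ i < j0, d i = 0 := by
      intro i hi
      by_contra hne'
      have : i ∈ d.support := Finsupp.mem_support_iff.2 hne'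
      exact absurd hi (not_lt.2 (hmin i this))
    rw [Finset.sum_eq_single j0]
    · have hd' : d - Finsupp.single j0 1 + Finsupp.single j0 1 = d := by
        ext i
        rw [Finsupp.add_apply, Finsupp.tsub_apply]
        by_cases hi : i = j0
        · subst hi
          rw [Finsupp.single_eq_same]
          omega
        · rw [Finsupp.single_eq_of_ne hi]
          simp
      rw [X_def, coeff_monomial_mul, if_pos, one_mul, coeff_divX, if_pos, hd']
      · intro i hi
        have := hlt i hi
        rw [Finsupp.tsub_apply]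
        omega
      · intro i
        by_cases hi : i = j0
        · subst hi
          rw [Finsupp.single_eq_same]
          omega
        · simp [Ne.symm hi]
    · intro j _ hj
      rw [X_def, coeff_monomial_mul]
      split_ifs with h1
      · rw [one_mul, coeff_divX, if_neg]
        intro h2
        have hdj : d j ≠ 0 := by
          have := h1 j
          simp only [Finsupp.single_eq_same] at this
          omega
        rcases lt_or_gt_of_ne hj with hlt' | hgt
        · exact hdj (hlt j hlt')
        · have := h2 j0 hgt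
          simp only [Finsupp.coe_tsub, Pi.sub_apply,
            Finsupp.single_eq_of_ne (Ne.symm (ne_of_gt hgt))] at this
          omega
      · rfl
    · intro h; exact absurd (Finset.mem_univ _) h


end div

section fixed


variable {σ : Type*} {R : Type*} [CommRing R] {ι : Type*}

/-- iterates of a self-map starting from `0`. -/
noncomputable def iter (T : (ι → MvPowerSeries σ R) → (ι → MvPowerSeries σ R)) :
    ℕ → (ι → MvPowerSeries σ R)
  | 0 => 0
  | k + 1 => T (iter T k)

/-- the coefficientwise limit of the iterates. -/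
noncomputable def iterLim (T : (ι → MvPowerSeries σ R) → (ι → MvPowerSeries σ R)) :
    ι → MvPowerSeries σ R :=
  fun i e => coeff e (iter T (e.degree + 1) i)

/-- A contraction (for the order filtration) on tuples of power series has a fixed point. -/
theorem exists_fixed_point (T : (ι → MvPowerSeries σ R) → (ι → MvPowerSeries σ R)) (m : ℕ)
    (h1 : ∀ h, (∀ i, (m : ℕ∞) ≤ (h i).order) → ∀ i, (m : ℕ∞) ≤ (T h i).order)
    (h2 : ∀ (h h' : ι → MvPowerSeries σ R) (N : ℕ), (∀ i, (m : ℕ∞) ≤ (h i).order) →
      (∀ i, (m : ℕ∞) ≤ (h' i).order) → (∀ i, (N : ℕ∞) ≤ (h i - h' i).order) →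
      ∀ i, ((N + 1 : ℕ) : ℕ∞) ≤ (T h i - T h' i).order) :
    ∃ h : ι → MvPowerSeries σ R, (∀ i, (m : ℕ∞) ≤ (h i).order) ∧ T h = h := by
  have hm : ∀ (k : ℕ) i, (m : ℕ∞) ≤ (iter T k i).order := by
    intro k
    induction k with
    | zero => intro i; simp [iter]
    | succ k ih => exact h1 _ ih
  have hstep : ∀ (k : ℕ) i, (k : ℕ∞) ≤ (iter T (k + 1) i - iter T k i).order := by
    intro k
    induction k with
    | zero => intro i; simp
    | succ k ih => exact h2 _ _ k (hm _) (hm _) ih
  -- coefficients stabilise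
  have hstab : ∀ (e : σ →₀ ℕ) (i : ι) (k : ℕ), e.degree + 1 ≤ k →
      coeff e (iter T k i) = coeff e (iter T (e.degree + 1) i) := by
    intro e i k hk
    induction k, hk using Nat.le_induction with
    | base => rfl
    | succ k hk ih =>
      rw [← ih]
      have := hstep k i
      have h0 : coeff e (iter T (k + 1) i - iter T k i) = 0 := by
        apply coeff_of_lt_order
        refine lt_of_lt_of_le ?_ this
        exact_mod_cast (by omega : e.degree < k)
      rwa [map_sub, sub_eq_zero] at h0
  have hlim : ∀ (k : ℕ) i, (k : ℕ∞) ≤ (iterLim T i - iter T k i).order := by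
    intro k i
    apply nat_le_order
    intro e he
    rw [map_sub, sub_eq_zero]
    change coeff e (iter T (e.degree + 1) i) = _
    exact (hstab e i k (by omega)).symm
  have hlm : ∀ i, (m : ℕ∞) ≤ (iterLim T i).order := by
    intro i
    apply nat_le_order
    intro e he
    change coeff e (iter T (e.degree + 1) i) = 0
    apply coeff_of_lt_order
    exact lt_of_lt_of_le (by exact_mod_cast he) (hm _ i)
  refine ⟨iterLim T, hlm, ?_⟩
  funext i
  have key : T (iterLim T) i - iterLim T i = 0 := by
    apply IsTangentId.eq_zero_of_forall_le_order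
    intro k
    have e1 : T (iterLim T) i - iterLim T i =
        (T (iterLim T) i - T (iter T k) i) + -(iterLim T i - iter T (k + 1) i) := by
      rw [iter]; ring
    rw [e1]
    refine le_trans ?_ min_order_le_add
    rw [le_min_iff, order_neg]
    constructor
    · refine le_trans ?_ (h2 _ _ k hlm (hm k) (hlim k) i)
      exact_mod_cast Nat.le_succ k
    · refine le_trans ?_ (hlim (k + 1) i)
      exact_mod_cast Nat.le_succ k
  exact sub_eq_zero.1 key


end fixed


section quad
variable {A : Type*} [CommRing A] {n : ℕ}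

/-- value of the quadratic form with upper triangular table `c`. -/
def quad (c : Fin n → Fin n → A) (x : Fin n → A) : A :=
  ∑ i, ∑ j, if i ≤ j then c i j * x i * x j else 0

/-- polar (Gram) matrix entries -/
def pol (c : Fin n → Fin n → A) (i j : Fin n) : A :=
  if i = j then 2 * c i i else if i < j then c i j else c j i

theorem quad_add (c : Fin n → Fin n → A) (x h : Fin n → A) :
    quad c (x + h) = quad c x + (∑ i, h i * ∑ j, pol c i j * x j) + quad c h := by
  have e1 : quad c (x + h) = quad c x +
      (∑ i, ∑ j, ((if j ≤ i then c j i * (x j * h i) else 0) +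
        (if i ≤ j then c i j * (h i * x j) else 0))) + quad c h := by
    have e0 : (∑ i, ∑ j, ((if j ≤ i then c j i * (x j * h i) else 0) +
        (if i ≤ j then c i j * (h i * x j) else 0))) =
        ∑ i, ∑ j, ((if i ≤ j then c i j * (x i * h j) else 0) +
        (if i ≤ j then c i j * (h i * x j) else 0)) := by
      simp only [Finset.sum_add_distrib]
      congr 1
      exact Finset.sum_comm
    rw [e0]
    simp only [quad, Pi.add_apply, ← Finset.sum_add_distrib]
    apply Finset.sum_congr rfl; intro i _
    apply Finset.sum_congr rfl; intro j _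
    split_ifs <;> ring
  rw [e1]
  congr 2
  apply Finset.sum_congr rfl; intro i _
  rw [Finset.mul_sum]
  apply Finset.sum_congr rfl; intro j _
  rcases lt_trichotomy i j with hij | hij | hij
  · rw [if_neg (not_le.2 hij), if_pos hij.le, pol, if_neg hij.ne, if_pos hij]; ring
  · subst hij
    rw [if_pos le_rfl, if_pos le_rfl, pol, if_pos rfl]; ring
  · rw [if_pos hij.le, if_neg (not_le.2 hij), pol, if_neg hij.ne', if_neg (not_lt.2 hij.le)]; ring

theorem quad_sub_quad (c : Fin n → Fin n → A) (h h' : Fin n → A) :
    quad c h - quad c h' =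
      ∑ i, ∑ j, if i ≤ j then c i j * ((h i - h' i) * h j + h' i * (h j - h' j)) else 0 := by
  simp only [quad, ← Finset.sum_sub_distrib]
  apply Finset.sum_congr rfl; intro i _
  apply Finset.sum_congr rfl; intro j _
  split_ifs <;> ring

end quad

section order
variable {σ : Type*} {R : Type*} [CommRing R]

theorem le_order_sum {ι : Type*} (s : Finset ι) (f : ι → MvPowerSeries σ R) (k : ℕ)
    (hf : ∀ i ∈ s, (k : ℕ∞) ≤ (f i).order) : (k : ℕ∞) ≤ (∑ i ∈ s, f i).order := by
  apply nat_le_order
  intro d hd
  rw [map_sum]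
  apply Finset.sum_eq_zero
  intro i hi
  exact coeff_of_lt_order (lt_of_lt_of_le (by exact_mod_cast hd) (hf i hi))

theorem le_order_mul_of_le {f g : MvPowerSeries σ R} {k l : ℕ} (hf : (k : ℕ∞) ≤ f.order)
    (hg : (l : ℕ∞) ≤ g.order) : ((k + l : ℕ) : ℕ∞) ≤ (f * g).order := by
  refine le_trans ?_ le_order_mul
  push_cast
  exact add_le_add hf hg

theorem le_order_mul_left (c : MvPowerSeries σ R) {g : MvPowerSeries σ R} {l : ℕ}
    (hg : (l : ℕ∞) ≤ g.order) : (l : ℕ∞) ≤ (c * g).order := by
  refine le_trans ?_ le_order_mul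
  exact le_trans hg le_add_self

theorem le_order_mono {f : MvPowerSeries σ R} {k l : ℕ} (hkl : k ≤ l) (hf : (l : ℕ∞) ≤ f.order) :
    (k : ℕ∞) ≤ f.order := le_trans (by exact_mod_cast hkl) hf

theorem le_order_sub {f g : MvPowerSeries σ R} {k : ℕ} (hf : (k : ℕ∞) ≤ f.order)
    (hg : (k : ℕ∞) ≤ g.order) : (k : ℕ∞) ≤ (f - g).order := by
  rw [sub_eq_add_neg]
  refine le_trans ?_ min_order_le_add
  rw [le_min_iff, order_neg]
  exact ⟨hf, hg⟩

theorem le_order_add {f g : MvPowerSeries σ R} {k : ℕ} (hf : (k : ℕ∞) ≤ f.order)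
    (hg : (k : ℕ∞) ≤ g.order) : (k : ℕ∞) ≤ (f + g).order := by
  refine le_trans ?_ min_order_le_add
  rw [le_min_iff]
  exact ⟨hf, hg⟩

theorem one_le_order_X_add {h : MvPowerSeries σ R} (i : σ) (hh : (1 : ℕ∞) ≤ h.order) :
    (1 : ℕ∞) ≤ (X i + h).order := by
  have h1 : ((1 : ℕ) : ℕ∞) ≤ (X i : MvPowerSeries σ R).order := by
    simpa using (one_le_order_iff_constCoeff_eq_zero (f := (X i : MvPowerSeries σ R))).2
      (constantCoeff_X i)
  have := le_order_add h1 (by simpa using hh)
  simpa using this

end order


section main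

variable {R : Type*} [CommRing R] {n : ℕ}

local notation "P" => MvPowerSeries (Fin n) R

/-- the table `q` with coefficients viewed as constant power series -/
noncomputable def cTab (q : Fin n → Fin n → R) : Fin n → Fin n → MvPowerSeries (Fin n) R :=
  fun i j => C (q i j)

/-- The nonlinear part `Φ(h) = Q(h) + G(X + h)`. -/
noncomputable def Phi (q : Fin n → Fin n → R) (G : MvPowerSeries (Fin n) R)
    (h : Fin n → MvPowerSeries (Fin n) R) : MvPowerSeries (Fin n) R :=
  quad (cTab q) h + subst (fun i => X i + h i) G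

/-- The contraction whose fixed point solves the Morse equation. -/
noncomputable def TT (Binv : Matrix (Fin n) (Fin n) R) (q : Fin n → Fin n → R)
    (G : MvPowerSeries (Fin n) R) (h : Fin n → MvPowerSeries (Fin n) R) :
    Fin n → MvPowerSeries (Fin n) R :=
  fun i => -∑ j, C (Binv j i) * divX j (Phi q G h)

theorem le_order_quad (q : Fin n → Fin n → R) (h : Fin n → MvPowerSeries (Fin n) R) (m : ℕ)
    (hh : ∀ i, (m : ℕ∞) ≤ (h i).order) : ((m + m : ℕ) : ℕ∞) ≤ (quad (cTab q) h).order := by
  unfold quad
  apply le_order_sum; intro i _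
  apply le_order_sum; intro j _
  split_ifs
  · rw [mul_assoc]
    exact le_order_mul_left _ (le_order_mul_of_le (hh i) (hh j))
  · simp

theorem le_order_subst_X_add (G : MvPowerSeries (Fin n) R) (h : Fin n → MvPowerSeries (Fin n) R)
    (m k : ℕ) (hm : 1 ≤ m) (hh : ∀ i, (m : ℕ∞) ≤ (h i).order) (hG : (k : ℕ∞) ≤ G.order) :
    (k : ℕ∞) ≤ (subst (fun i => X i + h i) G).order := by
  have h1 : ∀ i, (1 : ℕ∞) ≤ (h i).order := fun i => le_trans (by exact_mod_cast hm) (hh i)
  have key := le_order_subst_sub_subst (a := fun i => X i + h i) (b := fun i => X i) (m - 1) k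
    (fun i => one_le_order_X_add i (h1 i))
    (fun i => by
      simpa using (one_le_order_iff_constCoeff_eq_zero (f := (X i : MvPowerSeries (Fin n) R))).2
        (constantCoeff_X i))
    (fun i => by
      have : X i + h i - X i = h i := by ring
      rw [this]
      have e : 1 + (m - 1) = m := by omega
      rw [e]; exact hh i) G hG
  have hX : subst (fun i => (X i : MvPowerSeries (Fin n) R)) G = G := by
    have := congrFun (subst_self (σ := Fin n) (R := R)) G
    simpa using this
  rw [hX] at key
  have e2 : subst (fun i => X i + h i) G = (subst (fun i => X i + h i) G - G) + G := by ring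
  rw [e2]
  exact le_order_add (le_order_mono (Nat.le_add_right _ _) key) hG

theorem le_order_Phi (q : Fin n → Fin n → R) (G : MvPowerSeries (Fin n) R) (m : ℕ) (hm : 2 ≤ m)
    (hG : ((m + 1 : ℕ) : ℕ∞) ≤ G.order) (h : Fin n → MvPowerSeries (Fin n) R)
    (hh : ∀ i, (m : ℕ∞) ≤ (h i).order) : ((m + 1 : ℕ) : ℕ∞) ≤ (Phi q G h).order := by
  unfold Phi
  apply le_order_add
  · exact le_order_mono (by omega) (le_order_quad q h m hh)
  · exact le_order_subst_X_add G h m (m + 1) (by omega) hh hG

theorem le_order_TT (Binv : Matrix (Fin n) (Fin n) R) (q : Fin n → Fin n → R)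
    (G : MvPowerSeries (Fin n) R) (m : ℕ) (hm : 2 ≤ m)
    (hG : ((m + 1 : ℕ) : ℕ∞) ≤ G.order) (h : Fin n → MvPowerSeries (Fin n) R)
    (hh : ∀ i, (m : ℕ∞) ≤ (h i).order) (i : Fin n) : (m : ℕ∞) ≤ (TT Binv q G h i).order := by
  unfold TT
  rw [order_neg]
  apply le_order_sum; intro j _
  exact le_order_mul_left _ (le_order_divX j _ m (le_order_Phi q G m hm hG h hh))

theorem le_order_Phi_sub (q : Fin n → Fin n → R) (G : MvPowerSeries (Fin n) R) (m : ℕ) (hm : 2 ≤ m)
    (hG : ((m + 1 : ℕ) : ℕ∞) ≤ G.order) (h h' : Fin n → MvPowerSeries (Fin n) R) (N : ℕ)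
    (hN : m ≤ N) (hh : ∀ i, (m : ℕ∞) ≤ (h i).order) (hh' : ∀ i, (m : ℕ∞) ≤ (h' i).order)
    (hd : ∀ i, (N : ℕ∞) ≤ (h i - h' i).order) :
    ((N + 1 + 1 : ℕ) : ℕ∞) ≤ (Phi q G h - Phi q G h').order := by
  have e : Phi q G h - Phi q G h' = (quad (cTab q) h - quad (cTab q) h') +
      (subst (fun i => X i + h i) G - subst (fun i => X i + h' i) G) := by
    unfold Phi; ring
  rw [e]
  apply le_order_add
  · rw [quad_sub_quad]
    apply le_order_sum; intro i _
    apply le_order_sum; intro j _
    split_ifs
    · apply le_order_mul_left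
      apply le_order_add
      · exact le_order_mono (by omega) (le_order_mul_of_le (hd i) (hh j))
      · exact le_order_mono (by omega) (le_order_mul_of_le (hh' i) (hd j))
    · simp
  · have h1 : ∀ i, (1 : ℕ∞) ≤ (h i).order := fun i => le_trans (by exact_mod_cast (by omega : 1 ≤ m)) (hh i)
    have h1' : ∀ i, (1 : ℕ∞) ≤ (h' i).order := fun i => le_trans (by exact_mod_cast (by omega : 1 ≤ m)) (hh' i)
    have key := le_order_subst_sub_subst (a := fun i => X i + h i) (b := fun i => X i + h' i)
      (N - 1) (m + 1)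
      (fun i => one_le_order_X_add i (h1 i)) (fun i => one_le_order_X_add i (h1' i))
      (fun i => by
        have : X i + h i - (X i + h' i) = h i - h' i := by ring
        rw [this]
        have e : 1 + (N - 1) = N := by omega
        rw [e]; exact hd i) G hG
    exact le_order_mono (by omega) key

theorem le_order_TT_sub (Binv : Matrix (Fin n) (Fin n) R) (q : Fin n → Fin n → R)
    (G : MvPowerSeries (Fin n) R) (m : ℕ) (hm : 2 ≤ m)
    (hG : ((m + 1 : ℕ) : ℕ∞) ≤ G.order) (h h' : Fin n → MvPowerSeries (Fin n) R) (N : ℕ)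
    (hh : ∀ i, (m : ℕ∞) ≤ (h i).order) (hh' : ∀ i, (m : ℕ∞) ≤ (h' i).order)
    (hd : ∀ i, (N : ℕ∞) ≤ (h i - h' i).order) (i : Fin n) :
    ((N + 1 : ℕ) : ℕ∞) ≤ (TT Binv q G h i - TT Binv q G h' i).order := by
  by_cases hN : m ≤ N
  · have e : TT Binv q G h i - TT Binv q G h' i =
        -∑ j, C (Binv j i) * divX j (Phi q G h - Phi q G h') := by
      unfold TT
      rw [neg_sub_neg, ← Finset.sum_sub_distrib, ← Finset.sum_neg_distrib]
      apply Finset.sum_congr rfl; intro j _
      rw [divX_sub]; ring
    rw [e, order_neg]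
    apply le_order_sum; intro j _
    exact le_order_mul_left _ (le_order_divX j _ (N + 1)
      (le_order_Phi_sub q G m hm hG h h' N hN hh hh' hd))
  · push Not at hN
    exact le_order_sub (le_order_mono (by omega) (le_order_TT Binv q G m hm hG h hh i))
      (le_order_mono (by omega) (le_order_TT Binv q G m hm hG h' hh' i))

/-- **Formal Morse lemma** (solution of the fixed point equation). -/
theorem morse (q : Fin n → Fin n → R) (B Binv : Matrix (Fin n) (Fin n) R)
    (hB : ∀ i j, B i j = if i = j then 2 * q i i else if i < j then q i j else q j i)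
    (hBB : Binv * B = 1) (m : ℕ) (hm : 2 ≤ m) (G : MvPowerSeries (Fin n) R)
    (hG : ((m + 1 : ℕ) : ℕ∞) ≤ G.order) :
    ∃ h : Fin n → MvPowerSeries (Fin n) R, (∀ i, (m : ℕ∞) ≤ (h i).order) ∧
      quad (cTab q) (fun i => X i + h i) + subst (fun i => X i + h i) G =
        quad (cTab q) (fun i => X i) := by
  obtain ⟨h, hh, hfix⟩ := exists_fixed_point (TT Binv q G) m
    (fun h hh i => le_order_TT Binv q G m hm hG h hh i)
    (fun h h' N hh hh' hd i => le_order_TT_sub Binv q G m hm hG h h' N hh hh' hd i)
  refine ⟨h, hh, ?_⟩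
  have hPhi0 : constantCoeff (Phi q G h) = 0 := by
    apply one_le_order_iff_constCoeff_eq_zero.1
    exact le_trans (by exact_mod_cast (by omega : 1 ≤ m + 1)) (le_order_Phi q G m hm hG h hh)
  have hdiv := sum_X_mul_divX (Phi q G h) hPhi0
  -- linear relation from the fixed point equation
  have hlin : ∀ l : Fin n, ∑ i, C (B i l) * h i = -divX l (Phi q G h) := by
    intro l
    have : ∀ i, h i = -∑ j, C (Binv j i) * divX j (Phi q G h) := fun i => by
      conv_lhs => rw [← hfix]
      rfl
    calc ∑ i, C (B i l) * h i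
        = ∑ i, C (B i l) * (-∑ j, C (Binv j i) * divX j (Phi q G h)) := by
          apply Finset.sum_congr rfl; intro i _; rw [← this i]
      _ = -∑ j, (∑ i, C (Binv j i) * C (B i l)) * divX j (Phi q G h) := by
          simp only [mul_neg, Finset.sum_neg_distrib, Finset.mul_sum, Finset.sum_mul]
          rw [Finset.sum_comm]
          congr 1
          apply Finset.sum_congr rfl; intro j _
          apply Finset.sum_congr rfl; intro i _
          ring
      _ = -∑ j, C ((1 : Matrix (Fin n) (Fin n) R) j l) * divX j (Phi q G h) := by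
          congr 1
          apply Finset.sum_congr rfl; intro j _
          congr 1
          rw [← hBB, Matrix.mul_apply, map_sum]
          simp only [map_mul]
      _ = -divX l (Phi q G h) := by
          congr 1
          rw [Finset.sum_eq_single l]
          · simp
          · intro j _ hj
            simp [Matrix.one_apply_ne hj]
          · intro hl; exact absurd (Finset.mem_univ _) hl
  have hpol : ∀ i j, pol (cTab q) i j = C (B i j) := by
    intro i j
    rw [hB, pol]
    unfold cTab
    split_ifs
    · rw [map_mul, map_ofNat]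
    · rfl
    · rfl
  have hmid : (∑ i, h i * ∑ j, pol (cTab q) i j * X j) = -Phi q G h := by
    calc (∑ i, h i * ∑ j, pol (cTab q) i j * X j)
        = ∑ j, X j * ∑ i, C (B i j) * h i := by
          simp only [Finset.mul_sum, hpol]
          rw [Finset.sum_comm]
          apply Finset.sum_congr rfl; intro j _
          apply Finset.sum_congr rfl; intro i _
          ring
      _ = ∑ j, X j * (-divX j (Phi q G h)) := by
          apply Finset.sum_congr rfl; intro j _; rw [hlin j]
      _ = -Phi q G h := by
          conv_rhs => rw [← hdiv]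
          simp
  have hq := quad_add (cTab q) (fun i => X i) h
  have hq' : quad (cTab q) (fun i => X i + h i) =
      quad (cTab q) (fun i => X i) + (∑ i, h i * ∑ j, pol (cTab q) i j * X j) + quad (cTab q) h := hq
  rw [hq', hmid]
  unfold Phi
  ring

end main

section prelude

variable {R : Type*} [CommRing R] {n : ℕ}

theorem aeval_quadPoly (q : Fin n → Fin n → R) (a : Fin n → MvPowerSeries (Fin n) R) :
    MvPolynomial.aeval a (VanCyc.quadPoly q) = quad (cTab q) a := by
  unfold VanCyc.quadPoly quad cTab
  rw [map_sum]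
  apply Finset.sum_congr rfl; intro i _
  rw [map_sum]
  apply Finset.sum_congr rfl; intro j _
  split_ifs
  · rw [map_mul, map_mul, MvPolynomial.aeval_C, MvPolynomial.aeval_X, MvPolynomial.aeval_X]
    rfl
  · rw [map_zero]

theorem subst_quadPoly (q : Fin n → Fin n → R) {a : Fin n → MvPowerSeries (Fin n) R}
    (_ha : HasSubst a) :
    subst a ((VanCyc.quadPoly q : MvPolynomial (Fin n) R) : MvPowerSeries (Fin n) R) =
      quad (cTab q) a := by
  rw [subst_coe, aeval_quadPoly]

theorem coe_quadPoly (q : Fin n → Fin n → R) :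
    ((VanCyc.quadPoly q : MvPolynomial (Fin n) R) : MvPowerSeries (Fin n) R) =
      quad (cTab q) (fun i => X i) := by
  have h1 := subst_quadPoly q (a := fun i => (X i : MvPowerSeries (Fin n) R)) HasSubst.X
  have h2 := congrFun (subst_self (σ := Fin n) (R := R))
    ((VanCyc.quadPoly q : MvPolynomial (Fin n) R) : MvPowerSeries (Fin n) R)
  rw [← h1]
  simpa using h2.symm

/-- Formal Morse lemma in the form used by the rows: if `G` has order `≥ m + 1 ≥ 3` and the polar
matrix of `q` is invertible, then `Q + c + G` becomes `Q + c` after a substitution `X + h` with `h`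
of order `≥ m`. -/
theorem morse_quadPoly (q : Fin n → Fin n → R) (hq : VanCyc.QuadNondeg q) (m : ℕ) (hm : 2 ≤ m)
    (c : R) (G : MvPowerSeries (Fin n) R) (hG : ((m + 1 : ℕ) : ℕ∞) ≤ G.order) :
    ∃ h : Fin n → MvPowerSeries (Fin n) R, (∀ i, (m : ℕ∞) ≤ (h i).order) ∧
      IsTangentId (fun i => X i + h i) ∧
      subst (fun i => X i + h i)
        (((VanCyc.quadPoly q + MvPolynomial.C c : MvPolynomial (Fin n) R) :
          MvPowerSeries (Fin n) R) + G) =
        ((VanCyc.quadPoly q + MvPolynomial.C c : MvPolynomial (Fin n) R) :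
          MvPowerSeries (Fin n) R) := by
  obtain ⟨h, hh, hmorse⟩ := morse q (VanCyc.polarMatrix q) (VanCyc.polarMatrix q)⁻¹
    (fun i j => rfl) (Matrix.nonsing_inv_mul _ hq) m hm G hG
  have htan : IsTangentId (fun i => X i + h i) := by
    intro i
    have : X i + h i - X i = h i := by ring
    rw [this]
    exact le_trans (by exact_mod_cast hm) (hh i)
  refine ⟨h, hh, htan, ?_⟩
  have hs := htan.hasSubst
  rw [subst_add hs, MvPolynomial.coe_add, subst_add hs, subst_quadPoly q hs, coe_quadPoly,
    MvPolynomial.coe_C, subst_C]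
  rw [← hmorse]
  ring

end prelude


section inverse

variable {σ : Type*} {R : Type*} [CommRing R] [Finite σ] {a : σ → MvPowerSeries σ R}

/-- the inverse substitution of a substitution tangent to the identity. -/
noncomputable def invSubst (ha : IsTangentId a) : σ → MvPowerSeries σ R :=
  fun i => ha.algEquiv.symm (X i)

theorem subst_invSubst (ha : IsTangentId a) (i : σ) : subst a (invSubst ha i) = X i := by
  rw [← IsTangentId.algEquiv_apply ha, invSubst, AlgEquiv.apply_symm_apply]

theorem isTangentId_invSubst (ha : IsTangentId a) : IsTangentId (invSubst ha) := by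
  intro i
  set g := invSubst ha i - X i with hg
  have hs := ha.hasSubst
  have h1 : subst a g = -(a i - X i) := by
    rw [hg, subst_sub hs, subst_invSubst, subst_X hs]; ring
  have h2 : (2 : ℕ∞) ≤ (subst a g).order := by
    rw [h1, order_neg]; exact ha i
  have e : g = subst a g - (subst a g - g) := by ring
  have step : ∀ r : ℕ, r < 2 → (r : ℕ∞) ≤ g.order → ((r + 1 : ℕ) : ℕ∞) ≤ g.order := by
    intro r hr hrg
    have h3 := ha.le_order_subst_sub g r hrg
    rw [e]
    exact le_order_sub (le_trans (by exact_mod_cast (by omega : r + 1 ≤ 2)) h2) h3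
  have s1 := step 0 (by omega) (by simp)
  have s2 := step 1 (by omega) (by simpa using s1)
  simpa using s2

theorem subst_invSubst_subst (ha : IsTangentId a) (f : MvPowerSeries σ R) :
    subst (invSubst ha) (subst a f) = f := by
  have hb := isTangentId_invSubst ha
  -- ψ_a ∘ ψ_b = id
  have h1 : ∀ g : MvPowerSeries σ R, subst a (subst (invSubst ha) g) = g := by
    intro g
    rw [subst_comp_subst_apply hb.hasSubst ha.hasSubst]
    have : (fun s => subst a (invSubst ha s)) = fun s => (X s : MvPowerSeries σ R) := by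
      funext s; exact subst_invSubst ha s
    rw [this]
    exact congrFun subst_self g
  apply ha.subst_injective
  rw [h1]

end inverse

section coeffs

variable {R : Type*} [CommRing R] {n : ℕ}

theorem tsub_single_add_single (e : Fin n →₀ ℕ) (i : Fin n) (hi : e i ≠ 0) :
    e - Finsupp.single i 1 + Finsupp.single i 1 = e := by
  ext l
  rw [Finsupp.add_apply, Finsupp.tsub_apply]
  by_cases hl : l = i
  · subst hl; rw [Finsupp.single_eq_same]; omega
  · rw [Finsupp.single_eq_of_ne hl]; simp

theorem exists_ne_zero_of_degree_pos (e : Fin n →₀ ℕ) (he : 0 < e.degree) : ∃ i, e i ≠ 0 := by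
  by_contra hcon
  push Not at hcon
  have : e = 0 := Finsupp.ext hcon
  rw [this] at he
  simp at he

theorem exists_single_add_single_of_degree_eq_two (e : Fin n →₀ ℕ) (he : e.degree = 2) :
    ∃ i j : Fin n, i ≤ j ∧ e = Finsupp.single i 1 + Finsupp.single j 1 := by
  obtain ⟨i, hi⟩ := exists_ne_zero_of_degree_pos e (by omega)
  have h1 := tsub_single_add_single e i hi
  have hd' : (e - Finsupp.single i 1).degree = 1 := by
    have := he
    rw [← h1, map_add, Finsupp.degree_single] at this
    omega
  obtain ⟨j, hj⟩ := exists_ne_zero_of_degree_pos (e - Finsupp.single i 1) (by omega)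
  have h2 := tsub_single_add_single (e - Finsupp.single i 1) j hj
  have hd'' : (e - Finsupp.single i 1 - Finsupp.single j 1).degree = 0 := by
    have := hd'
    rw [← h2, map_add, Finsupp.degree_single] at this
    omega
  have h0 : e - Finsupp.single i 1 - Finsupp.single j 1 = 0 :=
    (Finsupp.degree_eq_zero_iff _).1 hd''
  have hfin : e = Finsupp.single j 1 + Finsupp.single i 1 := by
    rw [← h1, ← h2, h0, zero_add]
  rcases le_total i j with hij | hij
  · exact ⟨i, j, hij, by rw [hfin, add_comm]⟩
  · exact ⟨j, i, hij, hfin⟩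

theorem coeff_quadPoly_single_add_single (q : Fin n → Fin n → R) (i j : Fin n) (hij : i ≤ j) :
    MvPolynomial.coeff (Finsupp.single i 1 + Finsupp.single j 1) (VanCyc.quadPoly q) = q i j := by
  classical
  unfold VanCyc.quadPoly
  rw [MvPolynomial.coeff_sum]
  have hterm : ∀ a b : Fin n, MvPolynomial.coeff (Finsupp.single i 1 + Finsupp.single j 1)
      (if a ≤ b then MvPolynomial.C (q a b) * MvPolynomial.X a * MvPolynomial.X b
        else (0 : MvPolynomial (Fin n) R)) =
      if a = i ∧ b = j then q i j else 0 := by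
    intro a b
    split_ifs with h1 h2 h2
    · obtain ⟨rfl, rfl⟩ := h2
      rw [mul_assoc, MvPolynomial.coeff_C_mul, MvPolynomial.X, MvPolynomial.X,
        MvPolynomial.monomial_mul, MvPolynomial.coeff_monomial, if_pos rfl]
      simp
    · rw [mul_assoc, MvPolynomial.coeff_C_mul, MvPolynomial.X, MvPolynomial.X,
        MvPolynomial.monomial_mul, MvPolynomial.coeff_monomial, if_neg, mul_zero]
      intro heq
      rw [Finsupp.single_add_single_eq_single_add_single one_ne_zero one_ne_zero] at heq
      rcases heq with ⟨h3, h4⟩ | ⟨_, h3, h4⟩ | ⟨h3, _, _⟩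
      · exact h2 ⟨h3, h4⟩
      · subst h3 h4
        have : a = b := le_antisymm h1 hij
        subst this
        exact h2 ⟨rfl, rfl⟩
      · simp at h3
    · obtain ⟨rfl, rfl⟩ := h2
      exact absurd hij h1
    · simp
  rw [Finset.sum_eq_single i]
  · rw [MvPolynomial.coeff_sum, Finset.sum_eq_single j]
    · rw [hterm, if_pos ⟨rfl, rfl⟩]
    · intro b _ hb
      rw [hterm, if_neg]
      exact fun h => hb h.2
    · intro h; exact absurd (Finset.mem_univ _) h
  · intro a _ ha
    rw [MvPolynomial.coeff_sum]
    apply Finset.sum_eq_zero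
    intro b _
    rw [hterm, if_neg]
    exact fun h => ha h.1
  · intro h; exact absurd (Finset.mem_univ _) h

theorem isHomogeneous_quadPoly (q : Fin n → Fin n → R) :
    (VanCyc.quadPoly q).IsHomogeneous 2 := by
  unfold VanCyc.quadPoly
  apply MvPolynomial.IsHomogeneous.sum; intro i _
  apply MvPolynomial.IsHomogeneous.sum; intro j _
  split_ifs
  · have h1 : (MvPolynomial.C (q i j) : MvPolynomial (Fin n) R).IsHomogeneous 0 :=
      MvPolynomial.isHomogeneous_C _ _
    have h2 := (h1.mul (MvPolynomial.isHomogeneous_X R i)).mul (MvPolynomial.isHomogeneous_X R j)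
    simpa using h2
  · exact MvPolynomial.isHomogeneous_zero _ _ _

end coeffs


end Groth.Agent.Lib.Helper99.Morse
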