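import Groth.Agent.Lib.Helper99.FlatFPA
import Groth.Agent.S5071
import Groth.Agent.Lib.Helper55.FL.ModOpen

/-!
# Flat + locally f.p. ⇒ f.p. (Stacks 00RA-type), part B: the local statement
-/

set_option autoImplicit false
universe u

namespace Groth.Agent.Lib.Helper99.FlatFP

open TensorProduct

section

variable {R P M : Type u} [CommRing R] [CommRing P] [Algebra R P]
  [AddCommGroup M] [Module P M]

/-- If `M_p` is f.p. then the kernel of a presentation is "finitely generated up to `R ∖ p`". -/
theorem exists_fg_le_ker (r : ℕ) (f : (Fin r → P) →ₗ[P] M) (hf : Function.Surjective f)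
    (p : Ideal R) [p.IsPrime]
    (hloc : Module.FinitePresentation
      (Localization (Algebra.algebraMapSubmonoid P p.primeCompl))
      (LocalizedModule (Algebra.algebraMapSubmonoid P p.primeCompl) M)) :
    ∃ K' : Submodule P (Fin r → P), K' ≤ LinearMap.ker f ∧ K'.FG ∧
      ∀ k ∈ LinearMap.ker f, ∃ c : R, c ∉ p ∧ algebraMap R P c • k ∈ K' := by
  set T := Algebra.algebraMapSubmonoid P p.primeCompl with hT
  have hK : ((LinearMap.ker f).localized' (Localization T) T
      (LocalizedModule.mkLinearMap T (Fin r → P))).FG := by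
    rw [LinearMap.localized'_ker_eq_ker_localizedMap (Localization T) T
      (LocalizedModule.mkLinearMap T (Fin r → P)) (LocalizedModule.mkLinearMap T M) f]
    apply Module.FinitePresentation.fg_ker
    exact IsLocalizedModule.map_surjective T _ _ f hf
  obtain ⟨K', hle, hfg, hK'⟩ := exists_fg_le_of_localized_fg T (LinearMap.ker f) hK
  refine ⟨K', hle, hfg, fun k hk => ?_⟩
  obtain ⟨t, ht, htk⟩ := hK' k hk
  obtain ⟨c, hc, rfl⟩ := ht
  exact ⟨c, hc, htk⟩

end

section main

variable {R P M : Type u} [CommRing R] [CommRing P] [Algebra R P]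
  [Algebra.FinitePresentation R P]
  [AddCommGroup M] [Module P M] [Module R M] [IsScalarTower R P M]
  [Module.Flat R M]

/-- The local statement, in abstract form: `F` is a finitely presented module surjecting onto
`M` whose kernel is "finitely generated up to `R ∖ p`" for every prime `p` of `R`. -/
theorem exists_away_fp_aux (s : Finset (PrimeSpectrum R))
    (hs : Function.Injective fun r : R => fun p : s =>
      algebraMap R (Localization.AtPrime p.1.asIdeal) r)
    {F : Type u} [AddCommGroup F] [Module P F] [Module R F] [IsScalarTower R P F]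
    [Module.FinitePresentation P F]
    (f : F →ₗ[P] M) (hf : Function.Surjective f)
    (hB : ∀ p' : PrimeSpectrum R, ∃ K' : Submodule P F,
      K' ≤ LinearMap.ker f ∧ K'.FG ∧
      ∀ k ∈ LinearMap.ker f, ∃ c : R, c ∉ p'.asIdeal ∧ algebraMap R P c • k ∈ K')
    (q : Ideal P) [q.IsPrime] :
    ∃ g : P, g ∉ q ∧
      Module.FinitePresentation (Localization.Away g) (LocalizedModule.Away g M) := by
  classical
  choose Kf hKle hKfg hKf using hB
  let p0 : PrimeSpectrum R := ⟨q.comap (algebraMap R P), inferInstance⟩
  let Sg : Finset (PrimeSpectrum R) := insert p0 s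
  let K' : Submodule P F := ⨆ p' ∈ Sg, Kf p'
  have hK'le : K' ≤ LinearMap.ker f := iSup₂_le fun p' _ => hKle p'
  have hK'fg : K'.FG := Submodule.fg_biSup Sg Kf (fun p' _ => hKfg p')
  let φ : (F ⧸ K') →ₗ[P] M := K'.liftQ f hK'le
  have hφ : Function.Surjective φ := by
    intro m
    obtain ⟨x, rfl⟩ := hf m
    exact ⟨K'.mkQ x, by simp [φ]⟩
  have hker : ∀ x : F ⧸ K', φ x = 0 → ∀ p' ∈ Sg,
      ∃ c : R, c ∉ p'.asIdeal ∧ algebraMap R P c • x = 0 := by
    intro x hx p' hp'
    obtain ⟨k, rfl⟩ := K'.mkQ_surjective x
    have hk : k ∈ LinearMap.ker f := by simpa [φ] using hx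
    obtain ⟨c, hc, hck⟩ := hKf p' k hk
    refine ⟨c, hc, ?_⟩
    rw [← map_smul, Submodule.mkQ_apply, Submodule.Quotient.mk_eq_zero]
    exact (le_iSup₂ (f := fun p' (_ : p' ∈ Sg) => Kf p') p' hp') hck
  haveI : Module.FinitePresentation P (F ⧸ K') :=
    Module.finitePresentation_of_surjective K'.mkQ K'.mkQ_surjective
      (by rw [Submodule.ker_mkQ]; exact hK'fg)
  -- `M'_q` is flat over `R`
  have hflatq : Module.Flat R (LocalizedModule q.primeCompl (F ⧸ K')) := by
    have hb := bijective_map_of_ker_torsion q.primeCompl φ hφ (fun x hx => by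
      obtain ⟨c, hc, hcx⟩ := hker x hx p0 (Finset.mem_insert_self _ _)
      exact ⟨algebraMap R P c, hc, hcx⟩)
    haveI := Groth.Agent.S5071.flat_localizedModule (A := R) (B := P) M q.primeCompl
    let e : LocalizedModule q.primeCompl (F ⧸ K') ≃ₗ[R]
        LocalizedModule q.primeCompl M :=
      LinearEquiv.ofBijective ((LocalizedModule.map q.primeCompl φ).restrictScalars R) hb
    exact Module.Flat.of_linearEquiv e
  -- openness of the flat locus
  have hopen := Groth.Agent.Lib.Helper55.FL.isOpen_flat_localizedModule_of_fp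
    (R := R) (S := P) (M := F ⧸ K')
  have hq : (⟨q, inferInstance⟩ : PrimeSpectrum P) ∈
      {q : PrimeSpectrum P |
        Module.Flat R (LocalizedModule q.asIdeal.primeCompl (F ⧸ K'))} := hflatq
  obtain ⟨_, ⟨g, rfl⟩, hqg, hgU⟩ :=
    PrimeSpectrum.isTopologicalBasis_basic_opens.exists_subset_of_mem_open hq hopen
  refine ⟨g, hqg, ?_⟩
  -- the kernel of `φ` is `g`-power torsion
  have hgker : ∀ x : F ⧸ K', φ x = 0 → ∃ t ∈ Submonoid.powers g, t • x = 0 := by
    intro x hx
    by_contra hcon
    push Not at hcon
    let I : Ideal P := LinearMap.ker (LinearMap.toSpanSingleton P _ x)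
    have hI : ∀ a, a ∈ I ↔ a • x = 0 := fun a => by
      simp [I, LinearMap.mem_ker, LinearMap.toSpanSingleton_apply]
    have hdisj : Disjoint (I : Set P) (Submonoid.powers g : Set P) := by
      rw [Set.disjoint_left]
      intro a ha hag
      exact hcon a hag ((hI a).1 ha)
    obtain ⟨q', hq'prime, hIq', hq'disj⟩ := Ideal.exists_le_prime_disjoint I _ hdisj
    haveI := hq'prime
    have hgq' : g ∉ q' := fun hg =>
      Set.disjoint_left.1 hq'disj hg (Submonoid.mem_powers g)
    have hflat' : Module.Flat R (LocalizedModule q'.primeCompl (F ⧸ K')) :=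
      hgU (show (⟨q', hq'prime⟩ : PrimeSpectrum P) ∈ (PrimeSpectrum.basicOpen g : Set _) from hgq')
    have h0 : (LocalizedModule.mk x (1 : q'.primeCompl) :
        LocalizedModule q'.primeCompl (F ⧸ K')) = 0 := by
      apply eq_zero_of_flat s hs
      intro p' hp'
      obtain ⟨c, hc, hcx⟩ := hker x hx p' (Finset.mem_insert_of_mem hp')
      refine ⟨c, hc, ?_⟩
      rw [← algebraMap_smul P c, LocalizedModule.smul'_mk, hcx, LocalizedModule.zero_mk]
    rw [← LocalizedModule.zero_mk (1 : q'.primeCompl), LocalizedModule.mk_eq] at h0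
    obtain ⟨v, hv⟩ := h0
    simp only [one_smul, smul_zero] at hv
    exact v.2 (hIq' ((hI _).2 hv))
  have hb := bijective_map_of_ker_torsion (Submonoid.powers g) φ hφ hgker
  let e : LocalizedModule (Submonoid.powers g) (F ⧸ K') ≃ₗ[Localization.Away g]
      LocalizedModule (Submonoid.powers g) M :=
    LinearEquiv.ofBijective
      ((IsLocalizedModule.map (Submonoid.powers g)
        (LocalizedModule.mkLinearMap (Submonoid.powers g) (F ⧸ K'))
        (LocalizedModule.mkLinearMap (Submonoid.powers g) M) φ).extendScalarsOfIsLocalization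
          (Submonoid.powers g) (Localization.Away g)) hb
  exact Module.FinitePresentation.of_equiv e

theorem exists_away_fp [Module.Finite P M] (s : Finset (PrimeSpectrum R))
    (hs : Function.Injective fun r : R => fun p : s =>
      algebraMap R (Localization.AtPrime p.1.asIdeal) r)
    (hloc : ∀ (p : Ideal R) [p.IsPrime],
      Module.FinitePresentation
        (Localization (Algebra.algebraMapSubmonoid P p.primeCompl))
        (LocalizedModule (Algebra.algebraMapSubmonoid P p.primeCompl) M))
    (q : Ideal P) [q.IsPrime] :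
    ∃ g : P, g ∉ q ∧
      Module.FinitePresentation (Localization.Away g) (LocalizedModule.Away g M) := by
  obtain ⟨r, f, hf⟩ := Module.Finite.exists_fin' P M
  exact exists_away_fp_aux s hs f hf
    (fun p' => exists_fg_le_ker r f hf p'.asIdeal (hloc p'.asIdeal)) q

/-- Global abstract form. -/
theorem finitePresentation_of_flat_aux (s : Finset (PrimeSpectrum R))
    (hs : Function.Injective fun r : R => fun p : s =>
      algebraMap R (Localization.AtPrime p.1.asIdeal) r)
    {F : Type u} [AddCommGroup F] [Module P F] [Module R F] [IsScalarTower R P F]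
    [Module.FinitePresentation P F]
    (f : F →ₗ[P] M) (hf : Function.Surjective f)
    (hB : ∀ p' : PrimeSpectrum R, ∃ K' : Submodule P F,
      K' ≤ LinearMap.ker f ∧ K'.FG ∧
      ∀ k ∈ LinearMap.ker f, ∃ c : R, c ∉ p'.asIdeal ∧ algebraMap R P c • k ∈ K') :
    Module.FinitePresentation P M := by
  let t : Set P := {g | Module.FinitePresentation (Localization.Away g) (LocalizedModule.Away g M)}
  have ht : Ideal.span t = ⊤ := by
    by_contra hne
    obtain ⟨m, hm, hle⟩ := Ideal.exists_le_maximal _ hne
    haveI := hm.isPrime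
    obtain ⟨g, hg, hfp⟩ := exists_away_fp_aux (M := M) s hs f hf hB m
    exact hg (hle (Ideal.subset_span hfp))
  exact Module.FinitePresentation.of_localizationSpan t ht (fun g => g.2)

end main

end Groth.Agent.Lib.Helper99.FlatFP

namespace Groth.Agent.Lib.Helper99.FlatFP

section glob

variable {R P M : Type u} [CommRing R] [CommRing P] [Algebra R P]
  [Algebra.FinitePresentation R P]
  [AddCommGroup M] [Module P M] [Module R M] [IsScalarTower R P M] [Module.Finite P M]
  [Module.Flat R M]

/-- Stacks 00RA-type statement: a finite module over a finitely presented `R`-algebra `P`,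
flat over `R`, all of whose localizations at primes of `R` are finitely presented, is finitely
presented provided `R` embeds into a finite product of its local rings. -/
theorem finitePresentation_of_flat (s : Finset (PrimeSpectrum R))
    (hs : Function.Injective fun r : R => fun p : s =>
      algebraMap R (Localization.AtPrime p.1.asIdeal) r)
    (hloc : ∀ (p : Ideal R) [p.IsPrime],
      Module.FinitePresentation
        (Localization (Algebra.algebraMapSubmonoid P p.primeCompl))
        (LocalizedModule (Algebra.algebraMapSubmonoid P p.primeCompl) M)) :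
    Module.FinitePresentation P M := by
  let t : Set P := {g | Module.FinitePresentation (Localization.Away g) (LocalizedModule.Away g M)}
  have ht : Ideal.span t = ⊤ := by
    by_contra hne
    obtain ⟨m, hm, hle⟩ := Ideal.exists_le_maximal _ hne
    haveI := hm.isPrime
    obtain ⟨g, hg, hfp⟩ := exists_away_fp (M := M) s hs hloc m
    exact hg (hle (Ideal.subset_span hfp))
  exact Module.FinitePresentation.of_localizationSpan t ht (fun g => g.2)

end glob

end Groth.Agent.Lib.Helper99.FlatFP
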