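import Mathlib

/-!
# Length of an Artinian local algebra over a field (helper99)

For a local ring `R` that is an algebra over a field `E`, and an `R`-module `M` of finite length,
`length_E M = length_E (R/m) * length_R M`.  Consequently, if every element of a finite-dimensional
`E`-algebra `R` has a positive power in `E`, then `R` is local and `length_R R ∣ dim_E R`.
-/

set_option autoImplicit false
universe u v w

namespace Groth.Agent.Lib.Helper99.LenPow

open IsLocalRing

section Core

variable {E : Type u} {R : Type v} [Field E] [CommRing R] [IsLocalRing R] [Algebra E R]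

theorem length_eq_mul_aux {M : Type w} [AddCommGroup M] [Module R M] (h : IsFiniteLength R M) :
    ∀ [Module E M] [IsScalarTower E R M],
      Module.length E M = Module.length E (R ⧸ maximalIdeal R) * Module.length R M := by
  induction h with
  | of_subsingleton =>
    intro _ _
    rw [Module.length_eq_zero (R := E), Module.length_eq_zero (R := R), mul_zero]
  | @of_simple_quotient M _ _ N hsimple hN ih =>
    intro _ _
    have h1 : Module.length E M = Module.length E ↥N + Module.length E (M ⧸ N) :=
      Module.length_eq_add_of_exact (N.subtype.restrictScalars E) (N.mkQ.restrictScalars E)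
        N.injective_subtype N.mkQ_surjective (LinearMap.exact_subtype_mkQ N)
    have h2 : Module.length R M = Module.length R ↥N + Module.length R (M ⧸ N) :=
      Module.length_eq_add_of_exact N.subtype N.mkQ
        N.injective_subtype N.mkQ_surjective (LinearMap.exact_subtype_mkQ N)
    obtain ⟨I, hI, ⟨e⟩⟩ := isSimpleModule_iff_quot_maximal.mp hsimple
    have hIm : I = maximalIdeal R := IsLocalRing.eq_maximalIdeal hI
    subst hIm
    have h3 : Module.length E (M ⧸ N) = Module.length E (R ⧸ maximalIdeal R) :=
      (e.restrictScalars E).length_eq
    have h4 : Module.length R (M ⧸ N) = 1 := Module.length_eq_one_iff.mpr hsimple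
    rw [h1, h2, ih, h3, h4, mul_add, mul_one]

theorem length_eq_mul (M : Type w) [AddCommGroup M] [Module R M] [Module E M] [IsScalarTower E R M]
    (h : IsFiniteLength R M) :
    Module.length E M = Module.length E (R ⧸ maximalIdeal R) * Module.length R M :=
  length_eq_mul_aux h

/-- For a finite-dimensional local algebra over a field, the length divides the dimension. -/
theorem exists_length_eq_dvd_finrank [Module.Finite E R] :
    ∃ d : ℕ, d ∣ Module.finrank E R ∧ Module.length R R = (d : ℕ∞) := by
  haveI : IsArtinianRing R := IsArtinianRing.of_finite E R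
  haveI : IsNoetherianRing R := inferInstance
  have hfl : IsFiniteLength R R := isFiniteLength_iff_isNoetherian_isArtinian.mpr ⟨inferInstance, inferInstance⟩
  have h1 := length_eq_mul (E := E) R hfl
  rw [Module.length_eq_finrank] at h1
  have hne : Module.length R R ≠ ⊤ := Module.length_ne_top_iff.mpr hfl
  obtain ⟨d, hd⟩ := ENat.ne_top_iff_exists.mp hne
  haveI : Module.Finite E (R ⧸ maximalIdeal R) := Module.Finite.quotient E _
  rw [Module.length_eq_finrank, ← hd] at h1
  refine ⟨d, ⟨Module.finrank E (R ⧸ maximalIdeal R), ?_⟩, hd.symm⟩
  have : ((Module.finrank E R : ℕ) : ℕ∞) = ((Module.finrank E (R ⧸ maximalIdeal R) * d : ℕ) : ℕ∞) := by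
    rw [h1, Nat.cast_mul]
  rw [mul_comm]
  exact_mod_cast this

end Core

section Pow

variable {E : Type u} {R : Type v} [Field E] [CommRing R] [Nontrivial R] [Algebra E R]

omit [Nontrivial R] in
theorem isNilpotent_of_not_isUnit (hpow : ∀ x : R, ∃ n > 0, x ^ n ∈ (algebraMap E R).range)
    (x : R) (hx : ¬ IsUnit x) : IsNilpotent x := by
  obtain ⟨n, hn, e, he⟩ := hpow x
  by_cases he0 : e = 0
  · exact ⟨n, by rw [← he, he0, map_zero]⟩
  · exfalso
    apply hx
    have : IsUnit (x ^ n) := by
      rw [← he]
      exact (IsUnit.mk0 e he0).map (algebraMap E R)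
    exact (isUnit_pow_iff hn.ne').mp this

/-- If every element of `R` has a positive power in the field `E`, then `R` is local. -/
theorem isLocalRing_of_pow_mem (hpow : ∀ x : R, ∃ n > 0, x ^ n ∈ (algebraMap E R).range) :
    IsLocalRing R := by
  have key : ∀ x : R, ¬ IsUnit x → IsNilpotent x := isNilpotent_of_not_isUnit hpow
  refine IsLocalRing.of_nonunits_add ?_
  intro a b ha hb
  have hab : IsNilpotent (a + b) := Commute.isNilpotent_add (Commute.all a b) (key a ha) (key b hb)
  intro hu
  exact hab.not_isUnit hu  

end Pow

/-- Length over itself is invariant under ring isomorphisms. -/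
theorem length_eq_of_ringEquiv {R : Type u} {S : Type v} [CommRing R] [CommRing S] (e : R ≃+* S) :
    Module.length R R = Module.length S S := by
  letI : Algebra R S := e.toRingHom.toAlgebra
  have h1 : Module.length R S = Module.length S S :=
    Module.length_eq_of_surjective (S := R) (R := S) (M := S) e.surjective
  let l : R ≃ₗ[R] S :=
    { e with
      map_smul' := fun r x => by
        simp [Algebra.smul_def, RingHom.algebraMap_toAlgebra] }
  rw [← h1]
  exact l.length_eq

end Groth.Agent.Lib.Helper99.LenPow
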