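import Mathlib
import Groth.Agent.S14424
import Groth.Agent.Lib.Helper67.DepthAlg
import Groth.Agent.Lib.Helper56.CMRing

/-!
# Cohen–Macaulay rings: a criterion through heights and depths, and depth of a Cohen–Macaulay quotient
-/

set_option autoImplicit false
universe u

namespace Groth.Agent.Lib.Helper99.CM
open LocCoh Groth.Agent.Lib.Helper67

/-- a local criterion: `ht p ≤ depth_p R` makes `R_p` Cohen–Macaulay -/
theorem isCMLocal_of_height_le_idealDepth (R : Type u) [CommRing R] [IsNoetherianRing R] (p : Ideal R)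
    [p.IsPrime] (h : p.height ≤ idealDepth p R) : IsCohenMacaulayLocalRing (Localization.AtPrime p) := by
  have hself : depth (Localization.AtPrime p) (LocalizedModule p.primeCompl R) =
      depth (Localization.AtPrime p) (Localization.AtPrime p) :=
    depth_congr (LinearEquiv.extendScalarsOfIsLocalization p.primeCompl (Localization.AtPrime p)
      (IsLocalizedModule.linearEquiv p.primeCompl (LocalizedModule.mkLinearMap p.primeCompl R)
        (Algebra.linearMap R (Localization.AtPrime p))))
  have hdim : Module.supportDim (Localization.AtPrime p) (Localization.AtPrime p) =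
      ((p.height : ℕ∞) : WithBot ℕ∞) := by
    rw [Module.supportDim_self_eq_ringKrullDim,
      IsLocalization.AtPrime.ringKrullDim_eq_height p (Localization.AtPrime p)]
  refine { supportDim_eq_depth := ?_ }
  rw [hdim]
  congr 1
  apply le_antisymm
  · refine h.trans ?_
    rw [← hself]
    exact idealDepth_le_depth_localization p R p le_rfl
  · have h1 := depth_le_supportDim (R := Localization.AtPrime p) (Localization.AtPrime p)
    rw [hdim] at h1
    exact_mod_cast h1

/-- a lower bound for the height of an ideal through the primes containing it -/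
lemma le_height_of_forall_prime {R : Type*} [CommRing R] (b : Ideal R) (n : ℕ∞)
    (h : ∀ Q : Ideal R, Q.IsPrime → b ≤ Q → n ≤ Q.height) : n ≤ b.height := by
  rw [Ideal.height_eq_inf_minimalPrimes]
  exact le_iInf₂ fun J hJ => h J hJ.1.1 hJ.1.2

/-- depth of a Cohen–Macaulay quotient as a module over the ring -/
theorem le_idealDepth_quotient {S : Type u} [CommRing S] [IsNoetherianRing S] (I q : Ideal S)
    (hCM : IsCohenMacaulayRing (S ⧸ I)) (n : ℕ∞)
    (h : ∀ Q : Ideal (S ⧸ I), Q.IsPrime → q.map (Ideal.Quotient.mk I) ≤ Q → n ≤ Q.height) :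
    n ≤ idealDepth q (S ⧸ I) := by
  rw [idealDepth_eq_idealDepth_map_of_finite (B := S ⧸ I) q (S ⧸ I), Ideal.Quotient.algebraMap_eq]
  by_cases htop : q.map (Ideal.Quotient.mk I) = ⊤
  · rw [htop, idealDepth_eq_top_of_smul_top_eq_top]
    · exact le_top
    · exact Submodule.top_smul _
  · rw [(Groth.Agent.S14424.result (S ⧸ I)).1 hCM _ htop]
    exact le_height_of_forall_prime _ _ h

/-- cancelling the dimension of a quotient in the dimension formulas -/
lemma le_add_of_dim_formulas (a b : ℕ∞) (δ : WithBot ℕ∞) (e k : ℕ) (hk : k ≤ e)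
    (h1 : (a : WithBot ℕ∞) + δ ≤ (e : WithBot ℕ∞))
    (h2 : (b : WithBot ℕ∞) + δ = ((e - k : ℕ) : WithBot ℕ∞)) : a ≤ b + k := by
  have hδ : δ ≠ ⊥ := by
    intro h
    rw [h, WithBot.add_bot] at h2
    exact WithBot.bot_ne_coe h2
  obtain ⟨δ', rfl⟩ := WithBot.ne_bot_iff_exists.1 hδ
  have h2' : b + δ' = ((e - k : ℕ) : ℕ∞) := by
    have : ((b + δ' : ℕ∞) : WithBot ℕ∞) = (((e - k : ℕ) : ℕ∞) : WithBot ℕ∞) := by
      rw [WithBot.coe_add]
      exact h2
    exact WithBot.coe_injective this
  have h1' : a + δ' ≤ (e : ℕ∞) := by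
    have : ((a + δ' : ℕ∞) : WithBot ℕ∞) ≤ ((e : ℕ∞) : WithBot ℕ∞) := by
      rw [WithBot.coe_add]
      exact h1
    exact WithBot.coe_le_coe.1 this
  have hδ' : δ' ≠ ⊤ := by
    intro h
    rw [h, add_top] at h2'
    exact ENat.top_ne_natCast _ h2'
  have h3 : a + δ' ≤ (b + k) + δ' := by
    calc a + δ' ≤ (e : ℕ∞) := h1'
      _ = ((e - k : ℕ) : ℕ∞) + (k : ℕ∞) := by
        rw [← Nat.cast_add, Nat.sub_add_cancel hk]
      _ = (b + δ') + k := by rw [h2']
      _ = (b + k) + δ' := by ring
  exact (ENat.add_le_add_iff_right hδ').1 h3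

end Groth.Agent.Lib.Helper99.CM
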