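import Groth.Agent.Lib.Helper99.BEH

/-!
# Buchsbaum–Eisenbud necessity, part 2: regular sequences in the determinantal ideals
-/

namespace Groth.Agent.Lib.Helper99.BE

open Matrix RingTheory.Sequence

universe u

variable {R : Type u} [CommRing R]

theorem mul_eq_zero_of_exact {e : ℕ} {n : ℕ → ℕ}
    (A : ∀ i, Matrix (Fin (n i)) (Fin (n (i + 1))) R) (h : Exact e n A) (i : ℕ) (hi : i < e) :
    A i * A (i + 1) = 0 := by
  have hle := (h i hi).ge
  ext a b
  have : (A (i + 1)).mulVecLin (Pi.single b 1) ∈ LinearMap.ker (A i).mulVecLin :=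
    hle ⟨_, rfl⟩
  rw [LinearMap.mem_ker, Matrix.mulVecLin_apply, Matrix.mulVecLin_apply,
    Matrix.mulVec_mulVec] at this
  have := congrFun this a
  simpa using this

theorem isSMulRegular_of_mem_nonZeroDivisors {x : R} (hx : x ∈ nonZeroDivisors R) :
    IsSMulRegular R x :=
  isLeftRegular_iff.1 (isRegular_iff_mem_nonZeroDivisors.2 hx).left

/-- Reducing an exact complex of free modules modulo a non-zero-divisor keeps it exact except at
the last spot: the shifted complex is exact. -/
theorem exact_mod {x : R} (hx : x ∈ nonZeroDivisors R) (e : ℕ) (n : ℕ → ℕ)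
    (A : ∀ i, Matrix (Fin (n i)) (Fin (n (i + 1))) R) (hex : Exact e n A) :
    Exact (e - 1) (fun i => n (i + 1))
      (fun i => (A (i + 1)).map (Ideal.Quotient.mk (Ideal.span {x}))) := by
  intro i hi
  have hreg := isSMulRegular_of_mem_nonZeroDivisors hx
  set mk := Ideal.Quotient.mk (Ideal.span {x}) with hmk
  have hmap : ∀ {a b : ℕ} (C : Matrix (Fin a) (Fin b) R) (z : Fin b → R),
      (C.map mk) *ᵥ (mk ∘ z) = mk ∘ (C *ᵥ z) := by
    intro a b C z
    funext l
    exact (RingHom.map_mulVec mk C z l).symm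
  have hlift : ∀ {a : ℕ} (zb : Fin a → R ⧸ Ideal.span {x}), ∃ z : Fin a → R, mk ∘ z = zb := by
    intro a zb
    choose z hz using fun l => Ideal.Quotient.mk_surjective (zb l)
    exact ⟨z, funext hz⟩
  apply le_antisymm
  · intro zb hzb
    obtain ⟨z, rfl⟩ := hlift zb
    rw [LinearMap.mem_ker, Matrix.mulVecLin_apply, hmap] at hzb
    -- `A (i+1) z = x • w`
    have hw : ∀ l, ∃ c, c * x = ((A (i + 1)) *ᵥ z) l := by
      intro l
      have := congrFun hzb l
      simp only [Function.comp_apply, Pi.zero_apply] at this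
      rw [hmk, Ideal.Quotient.eq_zero_iff_mem] at this
      exact Ideal.mem_span_singleton'.1 this
    choose w hw using hw
    have hw' : (A (i + 1)) *ᵥ z = x • w := by
      funext l
      rw [Pi.smul_apply, smul_eq_mul, mul_comm, hw l]
    have hA0 := mul_eq_zero_of_exact A hex i (by omega)
    have hAw : (A i) *ᵥ w = 0 := by
      have h1 : x • ((A i) *ᵥ w) = 0 := by
        rw [← Matrix.mulVec_smul, ← hw', Matrix.mulVec_mulVec, hA0, Matrix.zero_mulVec]
      funext l
      have := congrFun h1 l
      simp only [Pi.smul_apply, Pi.zero_apply] at this ⊢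
      exact hreg (by simpa using this)
    have hwmem : w ∈ LinearMap.ker (A i).mulVecLin := hAw
    rw [hex i (by omega)] at hwmem
    obtain ⟨u, hu⟩ := hwmem
    rw [Matrix.mulVecLin_apply] at hu
    have hz2 : z - x • u ∈ LinearMap.ker (A (i + 1)).mulVecLin := by
      rw [LinearMap.mem_ker, Matrix.mulVecLin_apply, Matrix.mulVec_sub, Matrix.mulVec_smul, hu, hw',
        sub_self]
    rw [hex (i + 1) (by omega)] at hz2
    obtain ⟨v, hv⟩ := hz2
    rw [Matrix.mulVecLin_apply] at hv
    refine ⟨mk ∘ v, ?_⟩
    rw [Matrix.mulVecLin_apply, hmap, hv]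
    funext l
    simp only [Function.comp_apply, Pi.sub_apply, Pi.smul_apply, smul_eq_mul, map_sub, map_mul]
    have : mk x = 0 := by
      rw [hmk, Ideal.Quotient.eq_zero_iff_mem]; exact Ideal.mem_span_singleton_self x
    rw [this, zero_mul, sub_zero]
  · rintro _ ⟨v, rfl⟩
    have hA0 := mul_eq_zero_of_exact A hex (i + 1) (by omega)
    rw [LinearMap.mem_ker, Matrix.mulVecLin_apply, Matrix.mulVecLin_apply, Matrix.mulVec_mulVec,
      ← Matrix.map_mul, hA0]
    simp

/-- `R ⧸ (x)` as an `R`-module is `QuotSMulTop x R`. -/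
noncomputable def quotEquiv (x : R) : (R ⧸ Ideal.span {x}) ≃ₗ[R] QuotSMulTop x R :=
  Submodule.quotEquivOfEq _ _ (by
    rw [← Submodule.ideal_span_singleton_smul x (⊤ : Submodule R R), smul_eq_mul, Ideal.mul_top])

/-- Lifting a weakly regular sequence from `R ⧸ (x)`. -/
theorem isWeaklyRegular_cons_of_quotient {x : R} (hx : IsSMulRegular R x) (rs : List R)
    (h : IsWeaklyRegular (R ⧸ Ideal.span {x}) (rs.map (Ideal.Quotient.mk (Ideal.span {x})))) :
    IsWeaklyRegular R (x :: rs) := by
  rw [isWeaklyRegular_cons_iff]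
  refine ⟨hx, ?_⟩
  have h1 : IsWeaklyRegular (R ⧸ Ideal.span {x}) rs :=
    (isWeaklyRegular_map_algebraMap_iff (R ⧸ Ideal.span {x}) (R ⧸ Ideal.span {x}) rs).1 h
  exact ((quotEquiv x).isWeaklyRegular_congr rs).1 h1

/-- Necessity, grade part. -/
theorem grade_of_exact : ∀ (e : ℕ) {R : Type u} [CommRing R] [IsLocalRing R] [IsNoetherianRing R]
    (n : ℕ → ℕ) (A : ∀ i, Matrix (Fin (n i)) (Fin (n (i + 1))) R) (_ : ∀ i, e ≤ i → A i = 0)
    (_ : Exact e n A) (i : ℕ) (_ : i < e) (k : ℕ) (_ : (k : ℤ) = sig n e i),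
    CAlgX.minorIdeal (A i) k = ⊤ ∨ ∃ rs : List R, rs.length = i + 1 ∧
      (∀ r ∈ rs, r ∈ CAlgX.minorIdeal (A i) k) ∧ RingTheory.Sequence.IsRegular R rs := by
  intro e
  induction e with
  | zero => intro R _ _ _ n A _ _ i hi; omega
  | succ e ih =>
    intro R _ _ _ n A hz hex i hi k hk
    classical
    obtain ⟨k', hk', -, x, hxI, hxnzd⟩ := minors_of_exact (e + 1) n A hz hex i hi.le
    have hkk : k' = k := by exact_mod_cast hk'.trans hk.symm
    subst hkk
    by_cases htop : CAlgX.minorIdeal (A i) k' = ⊤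
    · exact Or.inl htop
    right
    have hIm : CAlgX.minorIdeal (A i) k' ≤ IsLocalRing.maximalIdeal R :=
      IsLocalRing.le_maximalIdeal htop
    have hxreg : IsSMulRegular R x := isSMulRegular_of_mem_nonZeroDivisors hxnzd
    rcases Nat.eq_zero_or_pos i with hi0 | hipos
    · subst hi0
      refine ⟨[x], rfl, by simpa using hxI, ?_⟩
      rw [IsLocalRing.isRegular_iff_isWeaklyRegular_of_subset_maximalIdeal
        (by simpa using hIm hxI), isWeaklyRegular_singleton_iff]
      exact hxreg
    · obtain ⟨i', rfl⟩ : ∃ i', i = i' + 1 := ⟨i - 1, by omega⟩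
      have hne : Ideal.span {x} ≠ (⊤ : Ideal R) := by
        intro h
        have : Ideal.span {x} ≤ IsLocalRing.maximalIdeal R :=
          (Ideal.span_singleton_le_iff_mem _).2 (hIm hxI)
        rw [h] at this
        exact (IsLocalRing.maximalIdeal.isMaximal R).ne_top (top_le_iff.1 this)
      haveI : Nontrivial (R ⧸ Ideal.span {x}) := Ideal.Quotient.nontrivial_iff.2 hne
      haveI : IsLocalRing (R ⧸ Ideal.span {x}) :=
        .of_surjective' _ Ideal.Quotient.mk_surjective
      set mk := Ideal.Quotient.mk (Ideal.span {x}) with hmk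
      have hres := ih (fun i => n (i + 1)) (fun i => (A (i + 1)).map mk)
        (fun j hj => by
          rw [hz (j + 1) (by omega)]; ext a b; simp)
        (by
          have := exact_mod hxnzd (e + 1) n A hex
          simpa using this)
        i' (by omega) k'
        (by
          have := sig_shift n (e + 1) i' (by omega)
          simp only [Nat.add_sub_cancel] at this
          rw [this]; exact hk)
      rw [minorIdeal_map_ringHom] at hres
      rcases hres with h | ⟨rsb, hlen, hmem, hreg⟩
      · exfalso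
        apply htop
        have h2 := congrArg (Ideal.comap mk) h
        rw [Ideal.comap_map_of_surjective mk Ideal.Quotient.mk_surjective, Ideal.comap_top,
          ← RingHom.ker_eq_comap_bot, hmk, Ideal.mk_ker] at h2
        rwa [sup_eq_left.2 ((Ideal.span_singleton_le_iff_mem _).2 hxI)] at h2
      · -- lift the sequence
        have hl : ∀ rb : R ⧸ Ideal.span {x}, ∃ r : R, mk r = rb ∧
            (rb ∈ (CAlgX.minorIdeal (A (i' + 1)) k').map mk → r ∈ CAlgX.minorIdeal (A (i' + 1)) k') := by
          intro rb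
          by_cases h : rb ∈ (CAlgX.minorIdeal (A (i' + 1)) k').map mk
          · obtain ⟨r, hr, hr'⟩ :=
              (Ideal.mem_map_iff_of_surjective mk Ideal.Quotient.mk_surjective).1 h
            exact ⟨r, hr', fun _ => hr⟩
          · obtain ⟨r, hr⟩ := Ideal.Quotient.mk_surjective rb
            exact ⟨r, hr, fun h' => absurd h' h⟩
        choose lift hlift1 hlift2 using hl
        have hmap : (rsb.map lift).map mk = rsb := by
          rw [List.map_map]
          conv_rhs => rw [← List.map_id rsb]
          exact List.map_congr_left fun rb _ => hlift1 rb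
        have hmemI : ∀ r ∈ x :: rsb.map lift, r ∈ CAlgX.minorIdeal (A (i' + 1)) k' := by
          intro r hr
          rcases List.mem_cons.1 hr with rfl | hr
          · exact hxI
          · obtain ⟨rb, hrb, rfl⟩ := List.mem_map.1 hr
            exact hlift2 rb (hmem rb hrb)
        refine ⟨x :: rsb.map lift, by simp [hlen], hmemI, ?_⟩
        rw [IsLocalRing.isRegular_iff_isWeaklyRegular_of_subset_maximalIdeal
          (fun r hr => hIm (hmemI r hr))]
        apply isWeaklyRegular_cons_of_quotient hxreg
        rw [hmap]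
        exact hreg.toIsWeaklyRegular

end Groth.Agent.Lib.Helper99.BE
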