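import Groth.Agent.Lib.Helper99.QRegFlatA
import Groth.Agent.Lib.Helper39.QRegSpread

/-!
# The localized fibre ring at a prime, part B

For a prime `q` of an `A'`-algebra `B'` with contraction `p'`, the ring
`Tq = (B' ⊗[A'] κ(p'))` localized at the image of `B' ∖ q` is a local ring, a quotient of `B'_q`.
-/

open TensorProduct

namespace Groth.Agent.Lib.Helper99.QRegFlat

universe u
variable {A' B' : Type u} [CommRing A'] [CommRing B'] [Algebra A' B']
variable (q : Ideal B') [q.IsPrime]

/-- the fibre ring over the contraction of `q` -/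
abbrev T : Type u := B' ⊗[A'] (q.comap (algebraMap A' B')).ResidueField

/-- the fibre ring localized at `q` -/
abbrev Tq : Type u :=
  Localization (Algebra.algebraMapSubmonoid (T (A' := A') q) q.primeCompl)

/-- the map from the fibre ring to the residue field of `q` -/
noncomputable def psi : T (A' := A') q →ₐ[A'] q.ResidueField :=
  Algebra.TensorProduct.lift (IsScalarTower.toAlgHom A' B' q.ResidueField)
    (Ideal.ResidueField.mapₐ (q.comap (algebraMap A' B')) q (Algebra.ofId A' B') rfl)
    (fun _ _ => Commute.all _ _)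

lemma psi_tmul_one (b : B') : psi (A' := A') q (b ⊗ₜ 1) = algebraMap B' q.ResidueField b := by
  simp [psi]

lemma isUnit_psi (y : Algebra.algebraMapSubmonoid (T (A' := A') q) q.primeCompl) :
    IsUnit ((psi (A' := A') q).toRingHom y) := by
  obtain ⟨s, hs, hy⟩ := y.2
  rw [← hy]
  have : (psi (A' := A') q).toRingHom (algebraMap B' (T (A' := A') q) s) =
      algebraMap B' q.ResidueField s := by
    rw [Algebra.TensorProduct.algebraMap_apply]
    exact psi_tmul_one q _
  rw [this]
  refine IsUnit.mk0 _ ?_
  rw [Ne, Ideal.algebraMap_residueField_eq_zero]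
  exact hs

/-- the map from the localized fibre ring to the residue field of `q` -/
noncomputable def chi : Tq (A' := A') q →+* q.ResidueField :=
  IsLocalization.lift (M := Algebra.algebraMapSubmonoid (T (A' := A') q) q.primeCompl)
    (g := (psi (A' := A') q).toRingHom) (isUnit_psi q)

lemma chi_algebraMap (t : T (A' := A') q) :
    chi (A' := A') q (algebraMap (T (A' := A') q) (Tq (A' := A') q) t) = psi (A' := A') q t := by
  unfold chi
  rw [IsLocalization.lift_eq]
  rfl

instance : Nontrivial (Tq (A' := A') q) := (chi (A' := A') q).domain_nontrivial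

/-- the comparison map from the local ring at `q` -/
noncomputable def phi1 : Localization.AtPrime q →+* Tq (A' := A') q :=
  IsLocalization.map (M := q.primeCompl) (T := Algebra.algebraMapSubmonoid (T (A' := A') q) q.primeCompl)
    (Tq (A' := A') q) (algebraMap B' (T (A' := A') q))
    (fun s hs => Algebra.mem_algebraMapSubmonoid_of_mem ⟨s, hs⟩)

lemma phi1_algebraMap (b : B') :
    phi1 (A' := A') q (algebraMap B' (Localization.AtPrime q) b) =
      algebraMap (T (A' := A') q) (Tq (A' := A') q) (b ⊗ₜ 1) := by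
  unfold phi1
  rw [IsLocalization.map_eq, Algebra.TensorProduct.algebraMap_apply]
  rfl

lemma isUnit_algebraMap_tmul_one (s : B') (hs : s ∉ q) :
    IsUnit (algebraMap (T (A' := A') q) (Tq (A' := A') q) (s ⊗ₜ 1)) := by
  have := IsLocalization.map_units (Tq (A' := A') q)
    (⟨algebraMap B' (T (A' := A') q) s, Algebra.mem_algebraMapSubmonoid_of_mem ⟨s, hs⟩⟩ :
      Algebra.algebraMapSubmonoid (T (A' := A') q) q.primeCompl)
  have heq : algebraMap B' (T (A' := A') q) s = s ⊗ₜ 1 := by
    rw [Algebra.TensorProduct.algebraMap_apply]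
    rfl
  rw [← heq]
  exact this

lemma inv_mem_range (s : B') (hs : s ∉ q) (z : Tq (A' := A') q)
    (hz : z * algebraMap (T (A' := A') q) (Tq (A' := A') q) (s ⊗ₜ 1) ∈ (phi1 (A' := A') q).range) :
    z ∈ (phi1 (A' := A') q).range := by
  obtain ⟨w, hw⟩ := hz
  have hu : IsUnit (algebraMap B' (Localization.AtPrime q) s) :=
    IsLocalization.map_units (Localization.AtPrime q) (⟨s, hs⟩ : q.primeCompl)
  obtain ⟨v, hv⟩ := hu.exists_right_inv
  refine ⟨w * v, ?_⟩
  rw [map_mul, hw, mul_assoc, ← phi1_algebraMap, ← map_mul, hv, map_one, mul_one]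

lemma algebraMap_mem_range (t : T (A' := A') q) :
    algebraMap (T (A' := A') q) (Tq (A' := A') q) t ∈ (phi1 (A' := A') q).range := by
  induction t using TensorProduct.induction_on with
  | zero => rw [map_zero]; exact Subring.zero_mem _
  | add x y hx hy => rw [map_add]; exact Subring.add_mem _ hx hy
  | tmul b c =>
    obtain ⟨l, rfl⟩ := IsLocalRing.residue_surjective c
    obtain ⟨⟨a, u⟩, rfl⟩ := IsLocalization.mk'_surjective
      (q.comap (algebraMap A' B')).primeCompl l
    have hu : algebraMap A' B' u ∉ q := u.2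
    apply inv_mem_range q (algebraMap A' B' u) hu
    have h2 : (b ⊗ₜ[A'] (IsLocalRing.residue _ (IsLocalization.mk'
        (Localization.AtPrime (q.comap (algebraMap A' B'))) a u)) : T (A' := A') q) *
        ((algebraMap A' B' u) ⊗ₜ 1) = (a • b) ⊗ₜ 1 := by
      rw [Algebra.TensorProduct.tmul_mul_tmul, mul_one, mul_comm b, ← Algebra.smul_def,
        TensorProduct.smul_tmul, TensorProduct.smul_tmul]
      congr 1
      rw [Algebra.smul_def, Algebra.smul_def, mul_one,
        IsScalarTower.algebraMap_apply A' (Localization.AtPrime (q.comap (algebraMap A' B')))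
          (q.comap (algebraMap A' B')).ResidueField,
        IsScalarTower.algebraMap_apply A' (Localization.AtPrime (q.comap (algebraMap A' B')))
          (q.comap (algebraMap A' B')).ResidueField,
        IsLocalRing.ResidueField.algebraMap_eq, ← map_mul, mul_comm, IsLocalization.mk'_spec]
    rw [← map_mul, h2, ← phi1_algebraMap]
    exact ⟨_, rfl⟩

lemma phi1_surjective : Function.Surjective (phi1 (A' := A') q) := by
  intro z
  change z ∈ (phi1 (A' := A') q).range
  obtain ⟨⟨t, y⟩, rfl⟩ := IsLocalization.mk'_surjective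
    (Algebra.algebraMapSubmonoid (T (A' := A') q) q.primeCompl) z
  obtain ⟨s, hs, hy⟩ := y.2
  have hy' : (y : T (A' := A') q) = s ⊗ₜ 1 := by
    rw [← hy, Algebra.TensorProduct.algebraMap_apply]
    rfl
  apply inv_mem_range q s hs
  have h1 : IsLocalization.mk' (Tq (A' := A') q) t y *
      algebraMap (T (A' := A') q) (Tq (A' := A') q) (s ⊗ₜ 1) =
      algebraMap (T (A' := A') q) (Tq (A' := A') q) t := by
    rw [← hy', IsLocalization.mk'_spec]
  rw [h1]
  exact algebraMap_mem_range q t

instance : IsLocalRing (Tq (A' := A') q) :=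
  IsLocalRing.of_surjective' (phi1 (A' := A') q) (phi1_surjective q)

instance isNoetherianRing_T [Algebra.FiniteType A' B'] : IsNoetherianRing (T (A' := A') q) := by
  haveI : IsNoetherianRing ((q.comap (algebraMap A' B')).ResidueField ⊗[A'] B') :=
    Algebra.FiniteType.isNoetherianRing (q.comap (algebraMap A' B')).ResidueField _
  exact isNoetherianRing_of_ringEquiv _
    (Algebra.TensorProduct.comm A' (q.comap (algebraMap A' B')).ResidueField B').toRingEquiv

instance isNoetherianRing_Tq [Algebra.FiniteType A' B'] :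
    IsNoetherianRing (Tq (A' := A') q) :=
  IsLocalization.isNoetherianRing
    (Algebra.algebraMapSubmonoid (T (A' := A') q) q.primeCompl) _ inferInstance

lemma algebraMap_tmul_one_mem_maximalIdeal (b : B') (hb : b ∈ q) :
    algebraMap (T (A' := A') q) (Tq (A' := A') q) (b ⊗ₜ 1) ∈
      IsLocalRing.maximalIdeal (Tq (A' := A') q) := by
  rw [IsLocalRing.mem_maximalIdeal, mem_nonunits_iff]
  intro hu
  have h1 := hu.map (chi (A' := A') q)
  rw [chi_algebraMap, psi_tmul_one, Ideal.algebraMap_residueField_eq_zero.mpr hb] at h1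
  exact not_isUnit_zero h1

/-- The images of a lift of a quasi-regular sequence form a regular sequence in the localized
fibre ring. -/
theorem isRegular_Tq [Algebra.FiniteType A' B'] (I : Ideal A')
    (hI : I ≤ q.comap (algebraMap A' B')) {r : ℕ} (f' : Fin r → B') (hf' : ∀ i, f' i ∈ q)
    (hq : CAlgX.IsQuasiRegular
      (fun i => Ideal.Quotient.mk (Ideal.map (algebraMap A' B') I) (f' i)))
    (hflat : Module.Flat (A' ⧸ I)
      ((B' ⧸ Ideal.map (algebraMap A' B') I) ⧸
        Ideal.span (Set.range (fun i => Ideal.Quotient.mk (Ideal.map (algebraMap A' B') I) (f' i))))) :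
    RingTheory.Sequence.IsRegular (Tq (A' := A') q)
      (List.ofFn fun i => algebraMap (T (A' := A') q) (Tq (A' := A') q) (f' i ⊗ₜ 1)) := by
  have h1 := quasiRegular_tensor I (q.comap (algebraMap A' B')).ResidueField
    (fun a ha => Ideal.algebraMap_residueField_eq_zero.mpr (hI ha)) f' hq hflat
  have h2 := Groth.Agent.Lib.Helper43.SeqFlatBC.quasiRegular_of_flat
    (algebraMap (T (A' := A') q) (Tq (A' := A') q))
    (RingHom.flat_algebraMap_iff.mpr (IsLocalization.flat (Tq (A' := A') q)
      (Algebra.algebraMapSubmonoid (T (A' := A') q) q.primeCompl))) _ h1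
  have h3 := Groth.Agent.Lib.Helper39.QSpread.isWeaklyRegular_of_isQuasiRegular_of_le_jacobson
    (fun i => algebraMap (T (A' := A') q) (Tq (A' := A') q) (f' i ⊗ₜ 1))
    (fun i => by
      rw [IsLocalRing.ringJacobson_eq_maximalIdeal]
      exact algebraMap_tmul_one_mem_maximalIdeal q _ (hf' i)) h2
  refine ⟨h3, ?_⟩
  intro htop
  have hle : Ideal.ofList (List.ofFn fun i =>
      algebraMap (T (A' := A') q) (Tq (A' := A') q) (f' i ⊗ₜ 1)) ≤
      IsLocalRing.maximalIdeal (Tq (A' := A') q) := by
    unfold Ideal.ofList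
    rw [Ideal.span_le]
    intro x hx
    obtain ⟨i, rfl⟩ := (List.mem_ofFn' _ _).mp hx
    exact algebraMap_tmul_one_mem_maximalIdeal q _ (hf' i)
  have h1mem : (1 : Tq (A' := A') q) ∈ Ideal.ofList (List.ofFn fun i =>
      algebraMap (T (A' := A') q) (Tq (A' := A') q) (f' i ⊗ₜ 1)) •
        (⊤ : Submodule (Tq (A' := A') q) (Tq (A' := A') q)) := by
    rw [← htop]
    trivial
  rw [smul_eq_mul, Ideal.mul_top] at h1mem
  exact (IsLocalRing.maximalIdeal.isMaximal _).ne_top ((Ideal.eq_top_iff_one _).mpr (hle h1mem))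

end Groth.Agent.Lib.Helper99.QRegFlat
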