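import Mathlib

/-!
# Acyclicity lemma (Peskine–Szpiro), elementary module-level form

`acyclic`: a complex `… → M 2 → M 1 → M 0` (differentials `d i : M (i+1) → M i`) with `d i = 0` for
`i ≥ e = rs.length`, on whose terms `rs` is weakly regular, and whose homology at positions
`1, …, e` is `r`-power torsion for every `r ∈ rs`, is exact at positions `1, …, e`.
No Noetherian / local / finiteness hypothesis.
-/

namespace Groth.Agent.Lib.Helper99.BE

open RingTheory.Sequence

universe u v

open scoped Pointwise in
theorem mk_eq_zero_iff {R : Type u} [CommRing R] {M : Type v} [AddCommGroup M] [Module R M]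
    (x : R) (z : M) :
    (Submodule.Quotient.mk z : QuotSMulTop x M) = 0 ↔ ∃ w : M, z = x • w := by
  rw [Submodule.Quotient.mk_eq_zero, Submodule.mem_smul_pointwise_iff_exists]
  constructor
  · rintro ⟨w, -, hw⟩; exact ⟨w, hw.symm⟩
  · rintro ⟨w, hw⟩; exact ⟨w, trivial, hw.symm⟩

theorem acyclic {R : Type u} [CommRing R] (rs : List R) :
    ∀ (M : ℕ → Type v) [∀ i, AddCommGroup (M i)] [∀ i, Module R (M i)]
      (d : ∀ i, M (i + 1) →ₗ[R] M i),
      (∀ i, d i ∘ₗ d (i + 1) = 0) →
      (∀ i, IsWeaklyRegular (M i) rs) →
      (∀ i, rs.length ≤ i → d i = 0) →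
      (∀ i, i < rs.length → ∀ z ∈ LinearMap.ker (d i), ∀ r ∈ rs, ∃ N : ℕ,
        r ^ N • z ∈ LinearMap.range (d (i + 1))) →
      ∀ i, i < rs.length → LinearMap.ker (d i) = LinearMap.range (d (i + 1)) := by
  induction rs with
  | nil =>
    intro M _ _ d _ _ _ _ i hi
    simp at hi
  | cons x xs ih =>
    intro M _ _ d hd hreg hz htor
    have hx : ∀ i, IsSMulRegular (M i) x := fun i =>
      ((isWeaklyRegular_cons_iff _ _ _).1 (hreg i)).1
    have hxs : ∀ i, IsWeaklyRegular (QuotSMulTop x (M i)) xs := fun i =>
      ((isWeaklyRegular_cons_iff _ _ _).1 (hreg i)).2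
    have hdd : ∀ i (z : M (i + 2)), d i (d (i + 1) z) = 0 := fun i z => by
      have := LinearMap.congr_fun (hd i) z
      simpa using this
    -- the induction hypothesis applied to the shifted complex mod `x`
    have key := ih (fun i => QuotSMulTop x (M (i + 1)))
      (fun i => QuotSMulTop.map x (d (i + 1)))
      (fun i => by rw [← QuotSMulTop.map_comp, hd (i + 1)]; exact map_zero _)
      (fun i => hxs (i + 1))
      (fun i hi => by
        rw [hz (i + 1) (by simpa using hi)]; exact map_zero _)
      (by
        intro i hi zb hzb r hr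
        obtain ⟨z, rfl⟩ := Submodule.Quotient.mk_surjective _ zb
        rw [LinearMap.mem_ker, QuotSMulTop.map_apply_mk, mk_eq_zero_iff] at hzb
        obtain ⟨w, hw⟩ := hzb
        have hi' : i + 1 < (x :: xs).length := by simpa using hi
        -- `w` is a cycle
        have hw0 : d i w = 0 := by
          apply hx i
          simp only [smul_zero]
          rw [← map_smul, ← hw, hdd]
        obtain ⟨N, u, hu⟩ := htor i (by omega) w (LinearMap.mem_ker.2 hw0) r (List.mem_cons_of_mem _ hr)
        have hcyc : d (i + 1) (r ^ N • z - x • u) = 0 := by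
          rw [map_sub, map_smul, map_smul, hw, hu, smul_comm, sub_self]
        obtain ⟨K, v, hv⟩ := htor (i + 1) hi' _ (LinearMap.mem_ker.2 hcyc) r
          (List.mem_cons_of_mem _ hr)
        refine ⟨K + N, Submodule.Quotient.mk v, ?_⟩
        rw [QuotSMulTop.map_apply_mk, hv, ← Submodule.Quotient.mk_smul, ← sub_eq_zero,
          ← Submodule.Quotient.mk_sub, mk_eq_zero_iff]
        refine ⟨-(r ^ K • u), ?_⟩
        rw [smul_sub, pow_add, mul_smul, sub_sub_cancel_left, smul_neg, smul_comm])
    -- `x` is a nonzerodivisor on homology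
    have hstep : ∀ i, i < (x :: xs).length → ∀ z : M (i + 1), d i z = 0 →
        x • z ∈ LinearMap.range (d (i + 1)) → z ∈ LinearMap.range (d (i + 1)) := by
      intro i hi z hz0 hxz
      obtain ⟨u, hu⟩ := hxz
      by_cases hlast : i + 1 < (x :: xs).length
      · have hi2 : i < xs.length := by simpa using hlast
        have hub : (Submodule.Quotient.mk u : QuotSMulTop x (M (i + 2))) ∈
            LinearMap.ker (QuotSMulTop.map x (d (i + 1))) := by
          rw [LinearMap.mem_ker, QuotSMulTop.map_apply_mk, mk_eq_zero_iff]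
          exact ⟨z, hu⟩
        rw [key i hi2] at hub
        obtain ⟨vb, hvb⟩ := hub
        obtain ⟨v, rfl⟩ := Submodule.Quotient.mk_surjective _ vb
        rw [QuotSMulTop.map_apply_mk, ← sub_eq_zero, ← Submodule.Quotient.mk_sub,
          mk_eq_zero_iff] at hvb
        obtain ⟨u', hu'⟩ := hvb
        refine ⟨-u', ?_⟩
        apply hx (i + 1)
        simp only
        rw [← hu, ← map_smul, smul_neg, ← hu', map_neg, map_sub, hdd, zero_sub, neg_neg]
      · have : d (i + 1) = 0 := hz (i + 1) (by omega)
        rw [this] at hu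
        have hz' : z = 0 := by
          apply hx (i + 1)
          simp only [smul_zero]
          rw [← hu]; rfl
        rw [hz']; exact Submodule.zero_mem _
    intro i hi
    apply le_antisymm
    · intro z hz0
      rw [LinearMap.mem_ker] at hz0
      obtain ⟨N, hN⟩ := htor i hi z hz0 x (List.mem_cons_self ..)
      induction N with
      | zero => simpa using hN
      | succ N ihN =>
        apply ihN
        apply hstep i hi _ (by rw [map_smul, hz0, smul_zero])
        rwa [← mul_smul, ← pow_succ']
    · rintro _ ⟨u, rfl⟩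
      exact hdd i u

end Groth.Agent.Lib.Helper99.BE
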