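import Mathlib
import Groth.Prelude.Def_CAlgX

/-!
# Complexes of matrices: exactness, truncation, localisation

Basic toolkit for the Buchsbaum–Eisenbud rows.
-/

namespace Groth.Agent.Lib.Helper99.BE

open Matrix RingTheory.Sequence

universe u

section defs

variable {R : Type u} [CommRing R]

/-- Exactness of the complex of matrices `A` at positions `1, …, e`. -/
def Exact (e : ℕ) (n : ℕ → ℕ) (A : ∀ i, Matrix (Fin (n i)) (Fin (n (i + 1))) R) : Prop :=
  ∀ i, i < e → LinearMap.ker (A i).mulVecLin = LinearMap.range (A (i + 1)).mulVecLin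

/-- Truncation: replace the matrices `A i`, `i ≥ e`, by zero. -/
def trunc (e : ℕ) (n : ℕ → ℕ) (A : ∀ i, Matrix (Fin (n i)) (Fin (n (i + 1))) R) :
    ∀ i, Matrix (Fin (n i)) (Fin (n (i + 1))) R :=
  fun i => if i < e then A i else 0

theorem trunc_of_lt {e : ℕ} {n : ℕ → ℕ} (A : ∀ i, Matrix (Fin (n i)) (Fin (n (i + 1))) R)
    {i : ℕ} (h : i < e) : trunc e n A i = A i := if_pos h

theorem trunc_of_le {e : ℕ} {n : ℕ → ℕ} (A : ∀ i, Matrix (Fin (n i)) (Fin (n (i + 1))) R)
    {i : ℕ} (h : e ≤ i) : trunc e n A i = 0 := if_neg (by omega)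

theorem trunc_mul {e : ℕ} {n : ℕ → ℕ} (A : ∀ i, Matrix (Fin (n i)) (Fin (n (i + 1))) R)
    (hA : ∀ i, i + 2 ≤ e → A i * A (i + 1) = 0) (i : ℕ) :
    trunc e n A i * trunc e n A (i + 1) = 0 := by
  by_cases h : i + 2 ≤ e
  · rw [trunc_of_lt A (by omega), trunc_of_lt A (by omega), hA i h]
  · rw [trunc_of_le A (i := i + 1) (by omega), Matrix.mul_zero]

theorem trunc_map {S : Type u} [CommRing S] (f : R →+* S) (e : ℕ) (n : ℕ → ℕ)
    (A : ∀ i, Matrix (Fin (n i)) (Fin (n (i + 1))) R) (i : ℕ) :
    (trunc e n A i).map f = trunc e n (fun i => (A i).map f) i := by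
  unfold trunc
  split_ifs
  · rfl
  · ext a b; simp

/-- The conclusion of the Buchsbaum–Eisenbud rows is exactness of the truncated complex. -/
theorem exact_trunc_iff (e : ℕ) (he : 1 ≤ e) (n : ℕ → ℕ)
    (A : ∀ i, Matrix (Fin (n i)) (Fin (n (i + 1))) R) :
    Exact e n (trunc e n A) ↔
      (LinearMap.ker (A (e - 1)).mulVecLin = ⊥ ∧
        ∀ i, i + 2 ≤ e → LinearMap.ker (A i).mulVecLin = LinearMap.range (A (i + 1)).mulVecLin) := by
  constructor
  · intro h
    refine ⟨?_, fun i hi => ?_⟩
    · have := h (e - 1) (by omega)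
      rw [trunc_of_lt A (by omega), trunc_of_le A (i := e - 1 + 1) (by omega)] at this
      rw [this]
      simp
    · have := h i (by omega)
      rwa [trunc_of_lt A (by omega), trunc_of_lt A (by omega)] at this
  · rintro ⟨h1, h2⟩ i hi
    by_cases h : i + 2 ≤ e
    · rw [trunc_of_lt A (by omega), trunc_of_lt A (by omega)]
      exact h2 i h
    · have hie : i = e - 1 := by omega
      subst hie
      rw [trunc_of_lt A (by omega), trunc_of_le A (i := e - 1 + 1) (by omega), h1]
      simp

theorem minorIdeal_map_ringHom {S : Type u} [CommRing S] (f : R →+* S) {a b : ℕ}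
    (A : Matrix (Fin a) (Fin b) R) (t : ℕ) :
    CAlgX.minorIdeal (A.map f) t = (CAlgX.minorIdeal A t).map f := by
  unfold CAlgX.minorIdeal
  rw [Ideal.map_span, ← Set.range_comp]
  congr 2
  funext fg
  simp only [Function.comp_apply]
  rw [RingHom.map_det]
  rfl

theorem minorIdeal_eq_bot_of_lt_right' {a b : ℕ} (A : Matrix (Fin a) (Fin b) R) (t : ℕ)
    (h : b < t) : CAlgX.minorIdeal A t = ⊥ := by
  unfold CAlgX.minorIdeal
  rw [Ideal.span_eq_bot]
  rintro _ ⟨fg, rfl⟩
  have hni : ¬ Function.Injective fg.2 := by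
    intro hinj
    have := Fintype.card_le_of_injective _ hinj
    simp only [Fintype.card_fin] at this
    omega
  rw [Function.Injective] at hni
  push Not at hni
  obtain ⟨i, j, hij, hne⟩ := hni
  exact Matrix.det_zero_of_column_eq hne (fun k => by simp [hij])

theorem minorIdeal_succ_matrixRank {a b : ℕ} (A : Matrix (Fin a) (Fin b) R) :
    CAlgX.minorIdeal A (CAlgX.matrixRank A + 1) = ⊥ := by
  by_contra h
  have hb : BddAbove {r : ℕ | CAlgX.minorIdeal A r ≠ ⊥} := by
    refine ⟨b, fun r hr => ?_⟩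
    by_contra hlt
    exact hr (minorIdeal_eq_bot_of_lt_right' A r (by omega))
  have : CAlgX.matrixRank A + 1 ≤ CAlgX.matrixRank A := le_csSup hb h
  omega

/-- A weakly regular sequence on the ring is weakly regular on every flat module. -/
theorem isWeaklyRegular_of_flat {rs : List R} (h : IsWeaklyRegular R rs) (P : Type*)
    [AddCommGroup P] [Module R P] [Module.Flat R P] : IsWeaklyRegular P rs :=
  ((TensorProduct.lid R P).isWeaklyRegular_congr rs).1 h.isWeaklyRegular_rTensor

end defs

section loc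

variable {R : Type u} [CommRing R] {S : Type u} [CommRing S] [Algebra R S] (M : Submonoid R)
  [IsLocalization M S]

include M in
theorem exists_smul_eq {a : ℕ} (v : Fin a → S) :
    ∃ (s : M) (z : Fin a → R), algebraMap R S s • v = algebraMap R S ∘ z := by
  obtain ⟨s, hs⟩ := IsLocalization.exist_integer_multiples_of_finite M v
  choose z hz using hs
  refine ⟨s, z, ?_⟩
  funext i
  simp only [Pi.smul_apply, Function.comp_apply, hz i, Algebra.smul_def, smul_eq_mul,
    Algebra.algebraMap_self, RingHom.id_apply]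

include M in
theorem exists_smul_eq_zero {a : ℕ} (z : Fin a → R) (h : algebraMap R S ∘ z = 0) :
    ∃ t : M, (t : R) • z = 0 := by
  have h' : ∀ i, ∃ m : M, (m : R) * z i = 0 := fun i =>
    (IsLocalization.map_eq_zero_iff M S (z i)).1 (congrFun h i)
  choose m hm using h'
  refine ⟨∏ i, m i, ?_⟩
  funext i
  simp only [Pi.smul_apply, smul_eq_mul, Pi.zero_apply, Submonoid.coe_finsetProd]
  rw [← Finset.mul_prod_erase Finset.univ (fun j => (m j : R)) (Finset.mem_univ i)]
  rw [mul_comm (m i : R), mul_assoc, hm i, mul_zero]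

theorem map_mulVec_comp {a b : ℕ} (A : Matrix (Fin a) (Fin b) R) (z : Fin b → R) :
    (A.map (algebraMap R S)) *ᵥ (algebraMap R S ∘ z) = algebraMap R S ∘ (A *ᵥ z) := by
  funext i
  exact (RingHom.map_mulVec (algebraMap R S) A z i).symm

include M in
/-- Elements of the colon ideal `(range B : ker A)` stay in the colon ideal after localisation. -/
theorem colon_map {a b c : ℕ} (A : Matrix (Fin a) (Fin b) R) (B : Matrix (Fin b) (Fin c) R)
    (x : R) (hx : ∀ z, A *ᵥ z = 0 → x • z ∈ LinearMap.range B.mulVecLin)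
    (v : Fin b → S) (hv : (A.map (algebraMap R S)) *ᵥ v = 0) :
    algebraMap R S x • v ∈ LinearMap.range (B.map (algebraMap R S)).mulVecLin := by
  obtain ⟨s, z, hz⟩ := exists_smul_eq M v
  have h1 : algebraMap R S ∘ (A *ᵥ z) = 0 := by
    rw [← map_mulVec_comp, ← hz, Matrix.mulVec_smul, hv, smul_zero]
  obtain ⟨t, ht⟩ := exists_smul_eq_zero M _ h1
  have h2 : A *ᵥ ((t : R) • z) = 0 := by rw [Matrix.mulVec_smul, ht]
  obtain ⟨u, hu⟩ := hx _ h2
  have hs : IsUnit (algebraMap R S s) := IsLocalization.map_units S s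
  have htu : IsUnit (algebraMap R S t) := IsLocalization.map_units S t
  obtain ⟨s', hs'⟩ := hs.exists_left_inv
  obtain ⟨t', ht'⟩ := htu.exists_left_inv
  refine ⟨(s' * t') • (algebraMap R S ∘ u), ?_⟩
  rw [Matrix.mulVecLin_apply] at hu ⊢
  rw [Matrix.mulVec_smul, map_mulVec_comp, hu]
  have : algebraMap R S ∘ (x • (t : R) • z) = (algebraMap R S x * algebraMap R S t) • (algebraMap R S ∘ z) := by
    funext i
    simp only [Function.comp_apply, Pi.smul_apply, smul_eq_mul, map_mul]
    ring
  rw [this, ← hz, smul_smul, smul_smul]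
  congr 1
  calc s' * t' * (algebraMap R S x * algebraMap R S t) * algebraMap R S s
      = (s' * algebraMap R S s) * (t' * algebraMap R S t) * algebraMap R S x := by ring
    _ = algebraMap R S x := by rw [hs', ht', one_mul, one_mul]

include M in
theorem ker_le_range_map {a b c : ℕ} (A : Matrix (Fin a) (Fin b) R) (B : Matrix (Fin b) (Fin c) R)
    (h : LinearMap.ker A.mulVecLin ≤ LinearMap.range B.mulVecLin) :
    LinearMap.ker (A.map (algebraMap R S)).mulVecLin ≤
      LinearMap.range (B.map (algebraMap R S)).mulVecLin := by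
  intro v hv
  have := colon_map M A B 1 (fun z hz => by rw [one_smul]; exact h hz) v hv
  rwa [map_one, one_smul] at this

include M in
theorem exists_smul_mem_range {b c : ℕ} (B : Matrix (Fin b) (Fin c) R) (z : Fin b → R)
    (h : algebraMap R S ∘ z ∈ LinearMap.range (B.map (algebraMap R S)).mulVecLin) :
    ∃ t : M, (t : R) • z ∈ LinearMap.range B.mulVecLin := by
  obtain ⟨v, hv⟩ := h
  obtain ⟨s, u, hu⟩ := exists_smul_eq M v
  rw [Matrix.mulVecLin_apply] at hv
  have h1 : algebraMap R S ∘ ((s : R) • z - B *ᵥ u) = 0 := by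
    have e1 : algebraMap R S ∘ ((s : R) • z - B *ᵥ u) =
        algebraMap R S s • (algebraMap R S ∘ z) - algebraMap R S ∘ (B *ᵥ u) := by
      funext i
      simp [map_sub, map_mul, Algebra.smul_def]
    rw [e1, ← map_mulVec_comp, ← hu, Matrix.mulVec_smul, hv, sub_self]
  obtain ⟨t, ht⟩ := exists_smul_eq_zero M _ h1
  refine ⟨t * s, (t : R) • u, ?_⟩
  rw [Matrix.mulVecLin_apply, Matrix.mulVec_smul]
  rw [smul_sub, sub_eq_zero] at ht
  rw [← ht, Submonoid.coe_mul, mul_smul]

include M in
/-- Exactness localises. -/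
theorem exact_map {e : ℕ} {n : ℕ → ℕ} (A : ∀ i, Matrix (Fin (n i)) (Fin (n (i + 1))) R)
    (h : Exact e n A) : Exact e n (fun i => (A i).map (algebraMap R S)) := by
  intro i hi
  apply le_antisymm
  · exact ker_le_range_map M _ _ (h i hi).le
  · rintro _ ⟨v, rfl⟩
    have h0 : A i * A (i + 1) = 0 := by
      have hle := (h i hi).ge
      ext a b
      have : (A (i + 1)).mulVecLin (Pi.single b 1) ∈ LinearMap.ker (A i).mulVecLin :=
        hle ⟨_, rfl⟩
      rw [LinearMap.mem_ker, Matrix.mulVecLin_apply, Matrix.mulVecLin_apply,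
        Matrix.mulVec_mulVec] at this
      have := congrFun this a
      simpa using this
    rw [LinearMap.mem_ker, Matrix.mulVecLin_apply, Matrix.mulVecLin_apply, Matrix.mulVec_mulVec,
      ← Matrix.map_mul, h0]
    simp

end loc

end Groth.Agent.Lib.Helper99.BE
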