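import Groth.Agent.Lib.Helper99.BEA
import Groth.Agent.Lib.Helper99.BEB

/-!
# Peskine–Szpiro acyclicity lemma for complexes of matrices over a local ring
-/

namespace Groth.Agent.Lib.Helper99.BE

open Matrix RingTheory.Sequence

universe u

variable {R : Type u} [CommRing R]

/-- If a two-step complex is exact after localising at every prime different from the maximal
ideal, then its homology is `x`-power torsion for every `x` in the maximal ideal. -/
theorem torsion_of_loc [IsLocalRing R] {a b c : ℕ} (A : Matrix (Fin a) (Fin b) R)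
    (B : Matrix (Fin b) (Fin c) R)
    (hloc : ∀ (p : Ideal R) [p.IsPrime], p ≠ IsLocalRing.maximalIdeal R →
      LinearMap.ker (A.map (algebraMap R (Localization.AtPrime p))).mulVecLin ≤
        LinearMap.range (B.map (algebraMap R (Localization.AtPrime p))).mulVecLin)
    (z : Fin b → R) (hz : A *ᵥ z = 0) (x : R) (hx : x ∈ IsLocalRing.maximalIdeal R) :
    ∃ N : ℕ, x ^ N • z ∈ LinearMap.range B.mulVecLin := by
  set J : Ideal R := (LinearMap.range B.mulVecLin).colon {z} with hJ
  have hrad : x ∈ J.radical := by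
    rw [Ideal.radical_eq_sInf, Ideal.mem_sInf]
    rintro K ⟨hJK, hK⟩
    by_cases hKm : K = IsLocalRing.maximalIdeal R
    · rw [hKm]; exact hx
    · exfalso
      have hker : algebraMap R (Localization.AtPrime K) ∘ z ∈
          LinearMap.ker (A.map (algebraMap R (Localization.AtPrime K))).mulVecLin := by
        rw [LinearMap.mem_ker, Matrix.mulVecLin_apply, map_mulVec_comp, hz]
        funext i; simp
      obtain ⟨t, ht⟩ := exists_smul_mem_range K.primeCompl B z (hloc K hKm hker)
      have : (t : R) ∈ J := Submodule.mem_colon_singleton.2 ht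
      exact t.2 (hJK this)
  obtain ⟨N, hN⟩ := hrad
  exact ⟨N, Submodule.mem_colon_singleton.1 hN⟩

/-- Peskine–Szpiro acyclicity lemma, matrix form, for a truncated complex. -/
theorem acyclic_matrix [IsLocalRing R] (e : ℕ) (n : ℕ → ℕ)
    (A : ∀ i, Matrix (Fin (n i)) (Fin (n (i + 1))) R)
    (hA : ∀ i, A i * A (i + 1) = 0) (hz : ∀ i, e ≤ i → A i = 0)
    (rs : List R) (hlen : rs.length = e) (hreg : IsWeaklyRegular R rs)
    (htor : ∀ i, i < e → ∀ z, A i *ᵥ z = 0 → ∀ r ∈ rs, ∃ N : ℕ,
      r ^ N • z ∈ LinearMap.range (A (i + 1)).mulVecLin) :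
    Exact e n A := by
  subst hlen
  exact acyclic rs (fun i => Fin (n i) → R) (fun i => (A i).mulVecLin)
    (fun i => by rw [← Matrix.mulVecLin_mul, hA i, Matrix.mulVecLin_zero])
    (fun i => isWeaklyRegular_of_flat hreg _)
    (fun i hi => by rw [hz i hi, Matrix.mulVecLin_zero])
    (fun i hi z hz0 r hr => htor i hi z (by simpa using hz0) r hr)

end Groth.Agent.Lib.Helper99.BE
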