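import Groth.Agent.Lib.Helper99.BEC
import Groth.Agent.S10890

/-!
# Buchsbaum–Eisenbud sufficiency over a local ring, with torsion homology
-/

namespace Groth.Agent.Lib.Helper99.BE

open Matrix RingTheory.Sequence

universe u

variable {S : Type u} [CommRing S]

/-- The range of the matrix is a direct summand of finrank `r`. -/
def Split {a b : ℕ} (B : Matrix (Fin a) (Fin b) S) (r : ℕ) : Prop :=
  ∃ N' : Submodule S (Fin a → S), IsCompl (LinearMap.range B.mulVecLin) N' ∧
    Module.finrank S (LinearMap.range B.mulVecLin) = r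

theorem projective_of_isCompl {F : Type*} [AddCommGroup F] [Module S F] [Module.Projective S F]
    (P N' : Submodule S F) (hc : IsCompl P N') : Module.Projective S P :=
  Module.Projective.of_split P.subtype (Submodule.projectionOnto P N' hc)
    (Submodule.projectionOnto_comp_subtype hc)

theorem exact_of_split [IsLocalRing S] {a b c : ℕ} (A : Matrix (Fin a) (Fin b) S)
    (B : Matrix (Fin b) (Fin c) S) (hAB : A * B = 0) {r s : ℕ} (hA : Split A r) (hB : Split B s)
    (hrs : r + s = b) : LinearMap.ker A.mulVecLin = LinearMap.range B.mulVecLin := by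
  obtain ⟨N'', hc', hr⟩ := hA
  obtain ⟨N', hc, hs⟩ := hB
  set P := LinearMap.range B.mulVecLin with hP
  set Q := LinearMap.range A.mulVecLin with hQ
  have hprojP : Module.Projective S P := projective_of_isCompl P N' hc
  have hprojQ : Module.Projective S Q := projective_of_isCompl Q N'' hc'
  have hfreeP : Module.Free S P := Module.free_of_flat_of_isLocalRing
  have hfreeQ : Module.Free S Q := Module.free_of_flat_of_isLocalRing
  have hAP : ∀ x : P, A.mulVecLin (x : Fin b → S) = 0 := by
    rintro ⟨_, u, rfl⟩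
    simp only [Matrix.mulVecLin_apply, Matrix.mulVec_mulVec, hAB, Matrix.zero_mulVec]
  let π : (Fin b → S) →ₗ[S] P := Submodule.projectionOnto P N' hc
  have hπ : ∀ x : P, π (x : Fin b → S) = x := fun x => Submodule.projectionOnto_apply_left hc x
  let θ : (Fin b → S) →ₗ[S] Q × P := LinearMap.prod A.mulVecLin.rangeRestrict π
  have hθ1 : ∀ z, ((θ z).1 : Fin a → S) = A.mulVecLin z := fun z => rfl
  have hθ2 : ∀ z, (θ z).2 = π z := fun z => rfl
  have hθs : Function.Surjective θ := by
    rintro ⟨⟨_, v, rfl⟩, p⟩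
    refine ⟨v + ((p - π v : P) : Fin b → S), ?_⟩
    apply Prod.ext
    · apply Subtype.ext
      rw [hθ1, map_add, hAP, add_zero]
    · rw [hθ2, map_add, hπ]
      abel
  have hfr : Module.finrank S (Fin b → S) = Module.finrank S (Q × P) := by
    rw [Module.finrank_prod, hr, hs, Module.finrank_fin_fun, hrs]
  let ε : (Fin b → S) ≃ₗ[S] Q × P := LinearEquiv.ofFinrankEq _ _ hfr
  have hθi : Function.Injective θ := by
    have h1 : Function.Surjective (θ ∘ₗ ε.symm.toLinearMap) := by
      rw [LinearMap.coe_comp]; exact hθs.comp ε.symm.surjective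
    have h2 := OrzechProperty.injective_of_surjective_endomorphism _ h1
    intro x y hxy
    have : (θ ∘ₗ ε.symm.toLinearMap) (ε x) = (θ ∘ₗ ε.symm.toLinearMap) (ε y) := by
      simpa using hxy
    exact ε.injective (h2 this)
  apply le_antisymm
  · intro z hz
    rw [LinearMap.mem_ker] at hz
    have : θ z = θ ((π z : P) : Fin b → S) := by
      apply Prod.ext
      · apply Subtype.ext
        rw [hθ1, hθ1, hz, hAP]
      · rw [hθ2, hθ2, hπ]
    rw [hθi this]
    exact (π z).2
  · rintro _ ⟨u, rfl⟩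
    rw [LinearMap.mem_ker]
    exact hAP ⟨_, u, rfl⟩

/-- Local Buchsbaum–Eisenbud sufficiency, assuming the homology is torsion with respect to the
maximal ideal. -/
theorem local_suff [IsLocalRing S] (e : ℕ) (n : ℕ → ℕ)
    (B : ∀ i, Matrix (Fin (n i)) (Fin (n (i + 1))) S)
    (hB : ∀ i, B i * B (i + 1) = 0) (hz : ∀ i, e ≤ i → B i = 0)
    (ρ : ℕ → ℕ) (hρ : ∀ i, i < e → ρ i + ρ (i + 1) = n (i + 1)) (hρe : ρ e = 0)
    (h1 : ∀ i, i < e → CAlgX.minorIdeal (B i) (ρ i + 1) = ⊥)
    (h2 : ∀ i, i < e → CAlgX.minorIdeal (B i) (ρ i) = ⊤ ∨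
      ∃ rs : List S, rs.length = i + 1 ∧ (∀ x ∈ rs, x ∈ IsLocalRing.maximalIdeal S) ∧
        IsWeaklyRegular S rs)
    (h3 : ∀ i, i < e → ∀ z, B i *ᵥ z = 0 → ∀ x ∈ IsLocalRing.maximalIdeal S, ∃ N : ℕ,
      x ^ N • z ∈ LinearMap.range (B (i + 1)).mulVecLin) :
    Exact e n B := by
  classical
  -- Step 1: the splitting index
  obtain ⟨j₀, hj₀e, hj₀, rs, hlen, hmem, hreg⟩ : ∃ j₀ ≤ e,
      (∀ i, j₀ ≤ i → i < e → CAlgX.minorIdeal (B i) (ρ i) = ⊤) ∧
      ∃ rs : List S, rs.length = j₀ ∧ (∀ x ∈ rs, x ∈ IsLocalRing.maximalIdeal S) ∧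
        IsWeaklyRegular S rs := by
    have hex : ∃ j, ∀ i, j ≤ i → i < e → CAlgX.minorIdeal (B i) (ρ i) = ⊤ :=
      ⟨e, fun i hi hi' => absurd hi' (by omega)⟩
    refine ⟨Nat.find hex, Nat.find_min' hex (fun i hi hi' => absurd hi' (by omega)),
      Nat.find_spec hex, ?_⟩
    rcases Nat.eq_zero_or_pos (Nat.find hex) with h0 | hpos
    · exact ⟨[], by simp [h0], by simp, IsWeaklyRegular.nil S S⟩
    · obtain ⟨k, hk⟩ : ∃ k, Nat.find hex = k + 1 := ⟨Nat.find hex - 1, by omega⟩
      have hnot := Nat.find_min hex (m := k) (by omega)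
      push Not at hnot
      obtain ⟨i, hki, hie, hne⟩ := hnot
      have hik : i = k := by
        by_contra hik
        exact hne (Nat.find_spec hex i (by omega) hie)
      subst hik
      rcases h2 i hie with h | ⟨rs, h, h', h''⟩
      · exact absurd h hne
      · exact ⟨rs, by omega, h', h''⟩
  -- Step 2: splitting of the tail
  have hsplit : ∀ i, j₀ ≤ i → i ≤ e → Split (B i) (ρ i) := by
    intro i hi hie
    rcases Nat.lt_or_ge i e with hlt | hge
    · exact Groth.Agent.S10890.bwd (B i) (h1 i hlt) (hj₀ i hi hlt)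
    · have : i = e := by omega
      subst this
      refine ⟨⊤, ?_, ?_⟩
      · rw [hz i le_rfl, Matrix.mulVecLin_zero, LinearMap.range_zero]; exact isCompl_bot_top
      · rw [hz i le_rfl, Matrix.mulVecLin_zero, LinearMap.range_zero, finrank_bot, hρe]
  -- Step 3: exactness of the tail
  have htail : ∀ i, j₀ ≤ i → i < e →
      LinearMap.ker (B i).mulVecLin = LinearMap.range (B (i + 1)).mulVecLin := fun i hi hie =>
    exact_of_split (B i) (B (i + 1)) (hB i) (hsplit i hi hie.le) (hsplit (i + 1) (by omega) hie)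
      (hρ i hie)
  -- Step 4: the head, via the acyclicity lemma applied to the truncated complex
  let T : ∀ i, Submodule S (Fin (n i) → S) := fun i =>
    if i = j₀ then LinearMap.range (B i).mulVecLin else ⊥
  have hTj : T j₀ = LinearMap.range (B j₀).mulVecLin := if_pos rfl
  have hTne : ∀ i, i ≠ j₀ → T i = ⊥ := fun i hi => if_neg hi
  have hBB : ∀ i (u : Fin (n (i + 1 + 1)) → S), (B i).mulVecLin ((B (i + 1)).mulVecLin u) = 0 := by
    intro i u
    simp only [Matrix.mulVecLin_apply, Matrix.mulVec_mulVec, hB i, Matrix.zero_mulVec]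
  have hT : ∀ i, T (i + 1) ≤ (T i).comap (B i).mulVecLin := by
    intro i v hv
    rw [Submodule.mem_comap]
    by_cases h : i + 1 = j₀
    · subst h
      rw [hTj] at hv
      obtain ⟨u, rfl⟩ := hv
      rw [hBB]; exact Submodule.zero_mem _
    · rw [hTne _ h, Submodule.mem_bot] at hv
      rw [hv, map_zero]; exact Submodule.zero_mem _
  have hTc : ∀ i, ∃ N' : Submodule S (Fin (n i) → S), IsCompl (T i) N' := by
    intro i
    by_cases h : i = j₀
    · subst h
      obtain ⟨N', hN', -⟩ := hsplit i le_rfl hj₀e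
      exact ⟨N', by rw [hTj]; exact hN'⟩
    · exact ⟨⊤, by rw [hTne i h]; exact isCompl_bot_top⟩
  have hflat : ∀ i, Module.Flat S ((Fin (n i) → S) ⧸ T i) := by
    intro i
    obtain ⟨N', hN'⟩ := hTc i
    have : Module.Projective S N' := projective_of_isCompl N' (T i) hN'.symm
    exact Module.Flat.of_linearEquiv (Submodule.quotientEquivOfIsCompl (T i) N' hN')
  let d : ∀ i, ((Fin (n (i + 1)) → S) ⧸ T (i + 1)) →ₗ[S] ((Fin (n i) → S) ⧸ T i) := fun i =>
    if i < j₀ then Submodule.mapQ (T (i + 1)) (T i) (B i).mulVecLin (hT i) else 0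
  have hd_lt : ∀ i, i < j₀ → d i = Submodule.mapQ (T (i + 1)) (T i) (B i).mulVecLin (hT i) :=
    fun i hi => if_pos hi
  have hd_ge : ∀ i, j₀ ≤ i → d i = 0 := fun i hi => if_neg (by omega)
  have key := acyclic rs (fun i => (Fin (n i) → S) ⧸ T i) d
    (by
      intro i
      by_cases h : i + 1 < j₀
      · rw [hd_lt i (by omega), hd_lt (i + 1) h]
        apply Submodule.linearMap_qext
        ext u
        simp only [LinearMap.coe_comp, Function.comp_apply, Submodule.mkQ_apply,
          Submodule.mapQ_apply, LinearMap.zero_comp, LinearMap.zero_apply]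
        rw [hBB]; rfl
      · rw [hd_ge (i + 1) (by omega), LinearMap.comp_zero])
    (fun i => haveI := hflat i; isWeaklyRegular_of_flat hreg _)
    (fun i hi => hd_ge i (by omega))
    (by
      intro i hi zb hzb x hx
      rw [hlen] at hi
      obtain ⟨z, rfl⟩ := Submodule.Quotient.mk_surjective _ zb
      rw [LinearMap.mem_ker, hd_lt i hi, Submodule.mapQ_apply, Submodule.Quotient.mk_eq_zero,
        hTne i (by omega), Submodule.mem_bot] at hzb
      obtain ⟨N, u, hu⟩ := h3 i (by omega) z hzb x (hmem x hx)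
      refine ⟨N, ?_⟩
      by_cases h : i + 1 < j₀
      · refine ⟨Submodule.Quotient.mk u, ?_⟩
        rw [hd_lt (i + 1) h, Submodule.mapQ_apply, hu]; rfl
      · rw [hd_ge (i + 1) (by omega), LinearMap.range_zero, Submodule.mem_bot,
          ← Submodule.Quotient.mk_smul, Submodule.Quotient.mk_eq_zero]
        have hij : i + 1 = j₀ := by omega
        rw [← hu]
        have := hTj
        rw [← hij] at this
        rw [this]
        exact ⟨u, rfl⟩)
  intro i hie
  rcases Nat.lt_or_ge i j₀ with hlt | hge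
  · apply le_antisymm
    · intro z hz0
      rw [LinearMap.mem_ker] at hz0
      have hmem' : (Submodule.Quotient.mk z : (Fin (n (i + 1)) → S) ⧸ T (i + 1)) ∈
          LinearMap.ker (d i) := by
        rw [LinearMap.mem_ker, hd_lt i hlt, Submodule.mapQ_apply, hz0]; rfl
      rw [key i (by rw [hlen]; exact hlt)] at hmem'
      by_cases h : i + 1 < j₀
      · obtain ⟨ub, hub⟩ := hmem'
        obtain ⟨u, rfl⟩ := Submodule.Quotient.mk_surjective _ ub
        rw [hd_lt (i + 1) h, Submodule.mapQ_apply, Submodule.Quotient.eq, hTne (i + 1) (by omega),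
          Submodule.mem_bot, sub_eq_zero] at hub
        exact ⟨u, hub⟩
      · rw [hd_ge (i + 1) (by omega), LinearMap.range_zero, Submodule.mem_bot,
          Submodule.Quotient.mk_eq_zero] at hmem'
        have hij : i + 1 = j₀ := by omega
        have := hTj
        rw [← hij] at this
        rwa [this] at hmem'
    · rintro _ ⟨u, rfl⟩
      rw [LinearMap.mem_ker]; exact hBB i u
  · exact htail i hge hie

end Groth.Agent.Lib.Helper99.BE
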