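import Groth.Agent.Lib.Helper99.BED

/-!
# Buchsbaum–Eisenbud sufficiency over a Noetherian ring
-/

namespace Groth.Agent.Lib.Helper99.BE

open Matrix RingTheory.Sequence

universe u

variable {R : Type u} [CommRing R]

/-- For a two-step complex over a Noetherian ring which becomes exact at the prime `p`, some
element outside `p` kills the homology. -/
theorem exists_mem_colon_of_loc [IsNoetherianRing R] {a b c : ℕ} (A : Matrix (Fin a) (Fin b) R)
    (B : Matrix (Fin b) (Fin c) R) (p : Ideal R) [p.IsPrime]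
    (h : LinearMap.ker (A.map (algebraMap R (Localization.AtPrime p))).mulVecLin ≤
      LinearMap.range (B.map (algebraMap R (Localization.AtPrime p))).mulVecLin) :
    ∃ t : p.primeCompl, (t : R) ∈
      (LinearMap.range B.mulVecLin).colon (LinearMap.ker A.mulVecLin : Set (Fin b → R)) := by
  classical
  have hone : ∀ z : Fin b → R, ∃ t : p.primeCompl, z ∈ LinearMap.ker A.mulVecLin →
      (t : R) • z ∈ LinearMap.range B.mulVecLin := by
    intro z
    by_cases hz : z ∈ LinearMap.ker A.mulVecLin
    · have hker : algebraMap R (Localization.AtPrime p) ∘ z ∈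
          LinearMap.ker (A.map (algebraMap R (Localization.AtPrime p))).mulVecLin := by
        rw [LinearMap.mem_ker, Matrix.mulVecLin_apply] at hz ⊢
        rw [map_mulVec_comp, hz]
        funext i; simp
      obtain ⟨t, ht⟩ := exists_smul_mem_range p.primeCompl B z (h hker)
      exact ⟨t, fun _ => ht⟩
    · exact ⟨1, fun h => absurd h hz⟩
  choose t ht using hone
  obtain ⟨G, hG⟩ : (LinearMap.ker A.mulVecLin).FG := IsNoetherian.noetherian _
  refine ⟨∏ z ∈ G, t z, ?_⟩
  rw [Submodule.mem_colon]
  intro z hz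
  rw [SetLike.mem_coe, ← hG] at hz
  induction hz using Submodule.span_induction with
  | mem z hzG =>
    have hzk : z ∈ LinearMap.ker A.mulVecLin := by rw [← hG]; exact Submodule.subset_span hzG
    rw [Submonoid.coe_finsetProd, ← Finset.mul_prod_erase G (fun z => (t z : R)) hzG,
      mul_comm, mul_smul]
    exact Submodule.smul_mem _ _ (ht z hzk)
  | zero => rw [smul_zero]; exact Submodule.zero_mem _
  | add x y _ _ hx hy => rw [smul_add]; exact Submodule.add_mem _ hx hy
  | smul r x _ hx => rw [smul_comm]; exact Submodule.smul_mem _ _ hx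

/-- Buchsbaum–Eisenbud sufficiency over a Noetherian ring (truncated complex form). -/
theorem global_suff [IsNoetherianRing R] (e : ℕ) (n : ℕ → ℕ)
    (A : ∀ i, Matrix (Fin (n i)) (Fin (n (i + 1))) R)
    (hA : ∀ i, A i * A (i + 1) = 0) (hz : ∀ i, e ≤ i → A i = 0)
    (ρ : ℕ → ℕ) (hρ : ∀ i, i < e → ρ i + ρ (i + 1) = n (i + 1)) (hρe : ρ e = 0)
    (g1 : ∀ i, i < e → CAlgX.minorIdeal (A i) (ρ i + 1) = ⊥)
    (g2 : ∀ i, i < e → CAlgX.minorIdeal (A i) (ρ i) = ⊤ ∨
      ∃ rs : List R, rs.length = i + 1 ∧ (∀ x ∈ rs, x ∈ CAlgX.minorIdeal (A i) (ρ i)) ∧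
        IsWeaklyRegular R rs) :
    Exact e n A := by
  classical
  by_contra hne
  let 𝔞i : Fin e → Ideal R := fun i =>
    (LinearMap.range (A (i + 1)).mulVecLin).colon
      (LinearMap.ker (A i).mulVecLin : Set (Fin (n (i + 1)) → R))
  let 𝔞 : Ideal R := ⨅ i : Fin e, 𝔞i i
  have hrk : ∀ i, LinearMap.range (A (i + 1)).mulVecLin ≤ LinearMap.ker (A i).mulVecLin := by
    rintro i _ ⟨u, rfl⟩
    rw [LinearMap.mem_ker, Matrix.mulVecLin_apply, Matrix.mulVecLin_apply, Matrix.mulVec_mulVec,
      hA i, Matrix.zero_mulVec]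
  have h𝔞 : 𝔞 ≠ ⊤ := by
    intro htop
    apply hne
    intro i hi
    apply le_antisymm _ (hrk i)
    intro z hz0
    have h1 : (1 : R) ∈ 𝔞i ⟨i, hi⟩ := by
      have : (1 : R) ∈ 𝔞 := by rw [htop]; trivial
      exact (Ideal.mem_iInf.1 this) ⟨i, hi⟩
    have := Submodule.mem_colon.1 h1 z hz0
    rwa [one_smul] at this
  obtain ⟨m, hm, h𝔞m⟩ := Ideal.exists_le_maximal 𝔞 h𝔞
  haveI := hm.isPrime
  obtain ⟨p, hp, -⟩ := Ideal.exists_minimalPrimes_le h𝔞m
  haveI : p.IsPrime := hp.1.1
  have h𝔞p : 𝔞 ≤ p := hp.1.2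
  set f := algebraMap R (Localization.AtPrime p) with hf
  -- the localised complex is exact
  have hS : Exact e n (fun i => (A i).map f) := by
    refine local_suff e n (fun i => (A i).map f) ?_ ?_ ρ hρ hρe ?_ ?_ ?_
    · intro i
      rw [← Matrix.map_mul, hA i]
      ext a b; simp
    · intro i hi
      rw [hz i hi]
      ext a b; simp
    · intro i hi
      rw [minorIdeal_map_ringHom, g1 i hi, Ideal.map_bot]
    · intro i hi
      rw [minorIdeal_map_ringHom]
      rcases g2 i hi with h | ⟨rs, hlen, hmem, hreg⟩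
      · left; rw [h, Ideal.map_top]
      · by_cases hall : ∀ x ∈ rs, x ∈ p
        · right
          refine ⟨rs.map f, by simpa using hlen, ?_, ?_⟩
          · intro y hy
            obtain ⟨x, hx, rfl⟩ := List.mem_map.1 hy
            exact (IsLocalization.AtPrime.to_map_mem_maximal_iff _ p x).2 (hall x hx)
          · exact IsWeaklyRegular.of_isLocalization (Localization.AtPrime p) p.primeCompl hreg
        · left
          push Not at hall
          obtain ⟨x, hx, hxp⟩ := hall
          apply Ideal.eq_top_of_isUnit_mem _ (Ideal.mem_map_of_mem f (hmem x hx))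
          exact IsLocalization.map_units (Localization.AtPrime p) (⟨x, hxp⟩ : p.primeCompl)
    · intro i hi v hv x hx
      have hrad : x ∈ (𝔞.map f).radical := by
        rw [IsLocalization.AtPrime.radical_map_of_mem_minimalPrimes (Localization.AtPrime p) p 𝔞 hp,
          Localization.AtPrime.map_eq_maximalIdeal]
        exact hx
      obtain ⟨N, hN⟩ := hrad
      refine ⟨N, ?_⟩
      have hle : 𝔞.map f ≤ (LinearMap.range ((A (i + 1)).map f).mulVecLin).colon
          (LinearMap.ker ((A i).map f).mulVecLin : Set (Fin (n (i + 1)) → Localization.AtPrime p)) := by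
        rw [Ideal.map_le_iff_le_comap]
        intro a ha
        rw [Ideal.mem_comap, Submodule.mem_colon]
        intro w hw
        have hai : a ∈ 𝔞i ⟨i, hi⟩ := (Ideal.mem_iInf.1 ha) ⟨i, hi⟩
        refine colon_map p.primeCompl (A i) (A (i + 1)) a ?_ w (by simpa using hw)
        intro z hz0
        exact Submodule.mem_colon.1 hai z (by simpa using hz0)
      exact Submodule.mem_colon.1 (hle hN) v (by simpa using hv)
  -- hence some element outside `p` kills all homology
  have hci : ∀ i : Fin e, ∃ t : p.primeCompl, (t : R) ∈ 𝔞i i := fun i =>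
    exists_mem_colon_of_loc (A i) (A (i + 1)) p (hS i i.2).le
  choose c hc using hci
  have hcmem : ((∏ i, c i : p.primeCompl) : R) ∈ 𝔞 := by
    rw [Ideal.mem_iInf]
    intro i
    rw [Submonoid.coe_finsetProd, ← Finset.mul_prod_erase Finset.univ (fun i => (c i : R))
      (Finset.mem_univ i)]
    exact Ideal.mul_mem_right _ _ (hc i)
  exact (∏ i, c i : p.primeCompl).2 (h𝔞p hcmem)

end Groth.Agent.Lib.Helper99.BE
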