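import Groth.Agent.Lib.Helper99.BEE

/-!
# The alternating-sum bookkeeping for the Buchsbaum–Eisenbud rows
-/

namespace Groth.Agent.Lib.Helper99.BE

universe u

/-- `S_j = n_j - S_{j+1}` for the alternating sums `S_j = ∑_{t=j}^e (-1)^(t-j) n_t`. -/
theorem altSum_succ (n : ℕ → ℕ) (e j : ℕ) (hj : j ≤ e) :
    ∑ t ∈ Finset.Icc j e, (-1 : ℤ) ^ (t - j) * (n t : ℤ) =
      (n j : ℤ) - ∑ t ∈ Finset.Icc (j + 1) e, (-1 : ℤ) ^ (t - (j + 1)) * (n t : ℤ) := by
  rw [← Finset.sum_Ioc_add_eq_sum_Icc hj, ← Finset.Icc_succ_left_eq_Ioc]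
  simp only [Nat.sub_self, pow_zero, one_mul]
  have : ∑ t ∈ Finset.Icc (Order.succ j) e, (-1 : ℤ) ^ (t - j) * (n t : ℤ) =
      - ∑ t ∈ Finset.Icc (j + 1) e, (-1 : ℤ) ^ (t - (j + 1)) * (n t : ℤ) := by
    rw [← Finset.sum_neg_distrib]
    refine Finset.sum_congr rfl fun t ht => ?_
    have ht' : j + 1 ≤ t := (Finset.mem_Icc.1 ht).1
    have : t - j = (t - (j + 1)) + 1 := by omega
    rw [this, pow_succ]
    ring
  rw [this]
  ring

theorem altSum_self (n : ℕ → ℕ) (e : ℕ) :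
    ∑ t ∈ Finset.Icc e e, (-1 : ℤ) ^ (t - e) * (n t : ℤ) = (n e : ℤ) := by
  simp

/-- The rank function attached to the hypotheses of the rows. -/
noncomputable def rk {R : Type u} [CommRing R] (e : ℕ) (n : ℕ → ℕ)
    (A : ∀ i, Matrix (Fin (n i)) (Fin (n (i + 1))) R) : ℕ → ℕ :=
  fun i => if i < e then CAlgX.matrixRank (A i) else 0

theorem rk_add {R : Type u} [CommRing R] (e : ℕ) (n : ℕ → ℕ)
    (A : ∀ i, Matrix (Fin (n i)) (Fin (n (i + 1))) R)
    (hrank : ∀ j, 1 ≤ j → j ≤ e →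
      (CAlgX.matrixRank (A (j - 1)) : ℤ) = ∑ t ∈ Finset.Icc j e, (-1 : ℤ) ^ (t - j) * (n t : ℤ))
    (i : ℕ) (hi : i < e) : rk e n A i + rk e n A (i + 1) = n (i + 1) := by
  have h1 := hrank (i + 1) (by omega) (by omega)
  have e1 : i + 1 - 1 = i := by omega
  rw [e1] at h1
  unfold rk
  rw [if_pos hi]
  by_cases h : i + 1 < e
  · rw [if_pos h]
    have h2 := hrank (i + 2) (by omega) (by omega)
    have e2 : i + 2 - 1 = i + 1 := by omega
    rw [e2] at h2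
    rw [altSum_succ n e (i + 1) (by omega), ← h2] at h1
    omega
  · rw [if_neg h]
    have hie : e = i + 1 := by omega
    subst hie
    rw [altSum_self] at h1
    omega

end Groth.Agent.Lib.Helper99.BE
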