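import Groth.Agent.Lib.Helper99.BEF

/-!
# Exact complexes over a local ring of depth zero split
-/

namespace Groth.Agent.Lib.Helper99.BE

open Matrix RingTheory.Sequence TensorProduct

universe u

variable {S : Type u} [CommRing S] [IsLocalRing S]

/-- Depth zero: a nonzero element killed by the maximal ideal. -/
def DepthZero (S : Type u) [CommRing S] [IsLocalRing S] : Prop :=
  ∃ a : S, a ≠ 0 ∧ ∀ x ∈ IsLocalRing.maximalIdeal S, x * a = 0

/-- Over a local ring of depth zero an injective map of finite free modules is injective modulo
the maximal ideal. -/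
theorem mem_smul_top_of_depthZero (hS : DepthZero S) {N F : Type u} [AddCommGroup N] [Module S N]
    [AddCommGroup F] [Module S F] [Module.Finite S N] [Module.Free S N]
    (g : N →ₗ[S] F) (hg : Function.Injective g) (v : N)
    (hv : g v ∈ (IsLocalRing.maximalIdeal S • ⊤ : Submodule S F)) :
    v ∈ (IsLocalRing.maximalIdeal S • ⊤ : Submodule S N) := by
  obtain ⟨a, ha0, ha⟩ := hS
  have h1 : a • g v = 0 := by
    refine Submodule.smul_induction_on (p := fun w => a • w = 0) hv ?_ ?_
    · intro x hx w _
      rw [smul_smul, mul_comm, ha x hx, zero_smul]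
    · intro y z hy hz
      rw [smul_add, hy, hz, add_zero]
  have h2 : a • v = 0 := hg (by rw [map_smul, h1, map_zero])
  let b := Module.Free.chooseBasis S N
  have hc : ∀ i, b.repr v i ∈ IsLocalRing.maximalIdeal S := by
    intro i
    by_contra hni
    have hu : IsUnit (b.repr v i) := by
      by_contra hnu
      exact hni ((IsLocalRing.mem_maximalIdeal _).2 hnu)
    have : a * b.repr v i = 0 := by
      have := congrArg (fun w => b.repr w i) h2
      simpa using this
    exact ha0 (hu.mul_left_eq_zero.1 this)
  rw [← b.sum_repr v]
  exact Submodule.sum_mem _ fun i _ => Submodule.smul_mem_smul (hc i) trivial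

theorem split_of_depthZero (hS : DepthZero S) {N F : Type u} [AddCommGroup N] [Module S N]
    [AddCommGroup F] [Module S F] [Module.Finite S N] [Module.Free S N]
    [Module.Finite S F] [Module.Free S F]
    (g : N →ₗ[S] F) (hg : Function.Injective g) : ∃ l : F →ₗ[S] N, l ∘ₗ g = LinearMap.id := by
  rw [IsLocalRing.split_injective_iff_lTensor_residueField_injective]
  have key : Function.Injective (g.lTensor (S ⧸ IsLocalRing.maximalIdeal S)) := by
    rw [injective_iff_map_eq_zero]
    intro t ht
    obtain ⟨vb, rfl⟩ := (quotTensorEquivQuotSMul N (IsLocalRing.maximalIdeal S)).symm.surjective t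
    obtain ⟨v, rfl⟩ := Submodule.Quotient.mk_surjective _ vb
    rw [quotTensorEquivQuotSMul_symm_mk, LinearMap.lTensor_tmul] at ht
    have h1 : (Submodule.Quotient.mk (g v) : F ⧸ (IsLocalRing.maximalIdeal S • ⊤ : Submodule S F))
        = 0 := by
      rw [← quotTensorEquivQuotSMul_mk_one_tmul, ht, map_zero]
    rw [Submodule.Quotient.mk_eq_zero] at h1
    have h2 := mem_smul_top_of_depthZero hS g hg v h1
    rw [quotTensorEquivQuotSMul_symm_mk, ← quotTensorEquivQuotSMul_symm_mk,
      (Submodule.Quotient.mk_eq_zero _).2 h2, map_zero]
  exact key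

/-- One step of the splitting: if `ker A = range B`, `range B` is a direct summand of rank `s`,
and the ring has depth zero, then `range A` is a direct summand of rank `b - s`. -/
theorem split_step (hS : DepthZero S) {a b c : ℕ} (A : Matrix (Fin a) (Fin b) S)
    (B : Matrix (Fin b) (Fin c) S)
    (hex : LinearMap.ker A.mulVecLin = LinearMap.range B.mulVecLin) {s : ℕ} (hB : Split B s) :
    s ≤ b ∧ Split A (b - s) := by
  obtain ⟨N', hc, hs⟩ := hB
  set P := LinearMap.range B.mulVecLin with hP
  have hprojP : Module.Projective S P := projective_of_isCompl P N' hc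
  have hprojN : Module.Projective S N' := projective_of_isCompl N' P hc.symm
  have hfinN : Module.Finite S N' :=
    Module.Finite.of_surjective (Submodule.projectionOnto N' P hc.symm)
      (Submodule.projectionOnto_surjective hc.symm)
  have hfreeP : Module.Free S P := Module.free_of_flat_of_isLocalRing
  have hfreeN : Module.Free S N' := Module.free_of_flat_of_isLocalRing
  have hrank : s + Module.finrank S N' = b := by
    have := (Submodule.prodEquivOfIsCompl P N' hc).finrank_eq
    rw [Module.finrank_prod, hs, Module.finrank_fin_fun] at this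
    exact this
  let g : N' →ₗ[S] (Fin a → S) := A.mulVecLin ∘ₗ N'.subtype
  have hg : Function.Injective g := by
    rw [injective_iff_map_eq_zero]
    intro x hx
    have h1 : (x : Fin b → S) ∈ P := by rw [← hex, LinearMap.mem_ker]; exact hx
    have h2 : (x : Fin b → S) ∈ P ⊓ N' := ⟨h1, x.2⟩
    rw [hc.inf_eq_bot, Submodule.mem_bot] at h2
    exact Subtype.ext h2
  obtain ⟨l, hl⟩ := split_of_depthZero hS g hg
  have hrange : LinearMap.range A.mulVecLin = LinearMap.range g := by
    apply le_antisymm
    · rintro _ ⟨v, rfl⟩
      refine ⟨Submodule.projectionOnto N' P hc.symm v, ?_⟩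
      have hv : v = (Submodule.projectionOnto P N' hc v : Fin b → S) +
          (Submodule.projectionOnto N' P hc.symm v : Fin b → S) :=
        (Submodule.projection_add_projection_eq_self hc v).symm
      have hk : A.mulVecLin (Submodule.projectionOnto P N' hc v : Fin b → S) = 0 := by
        have : ((Submodule.projectionOnto P N' hc v : P) : Fin b → S) ∈
            LinearMap.ker A.mulVecLin := by rw [hex]; exact (Submodule.projectionOnto P N' hc v).2
        exact this
      conv_rhs => rw [hv, map_add, hk, zero_add]
      rfl
    · rintro _ ⟨x, rfl⟩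
      exact ⟨x, rfl⟩
  refine ⟨by omega, LinearMap.ker (g.rangeRestrict ∘ₗ l), ?_, ?_⟩
  · rw [hrange]
    apply LinearMap.isCompl_of_proj
    rintro ⟨_, x, rfl⟩
    apply Subtype.ext
    have : l (g x) = x := LinearMap.congr_fun hl x
    simp only [LinearMap.coe_comp, Function.comp_apply, LinearMap.codRestrict_apply,
      LinearMap.rangeRestrict, this]
  · rw [hrange, ← (LinearEquiv.ofInjective g hg).finrank_eq]
    omega

end Groth.Agent.Lib.Helper99.BE
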