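import Groth.Agent.Lib.Helper99.BEG
import Groth.Agent.Lib.Helper16.MinorLaplace

/-!
# Buchsbaum–Eisenbud necessity, part 1: ranks and non-zero-divisors in the determinantal ideals
-/

namespace Groth.Agent.Lib.Helper99.BE

open Matrix RingTheory.Sequence

universe u

/-- the expected rank of `A i`, as an integer -/
def sig (n : ℕ → ℕ) (e i : ℕ) : ℤ :=
  ∑ t ∈ Finset.Icc (i + 1) e, (-1 : ℤ) ^ (t - (i + 1)) * (n t : ℤ)

theorem sig_self (n : ℕ → ℕ) (e : ℕ) : sig n e e = 0 := by
  unfold sig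
  rw [Finset.Icc_eq_empty (by omega), Finset.sum_empty]

theorem sig_succ (n : ℕ → ℕ) {e i : ℕ} (hi : i < e) :
    sig n e i = (n (i + 1) : ℤ) - sig n e (i + 1) :=
  altSum_succ n e (i + 1) (by omega)

theorem sig_shift (n : ℕ → ℕ) (e i : ℕ) (he : 1 ≤ e) :
    sig (fun i => n (i + 1)) (e - 1) i = sig n e (i + 1) := by
  unfold sig
  have : Finset.Icc (i + 1 + 1) e = (Finset.Icc (i + 1) (e - 1)).map
      ⟨fun t => t + 1, fun a b h => by simpa using h⟩ := by
    ext t
    simp only [Finset.mem_Icc, Finset.mem_map, Function.Embedding.coeFn_mk]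
    constructor
    · intro h; exact ⟨t - 1, by omega, by omega⟩
    · rintro ⟨s, hs, rfl⟩; omega
  rw [this, Finset.sum_map]
  refine Finset.sum_congr rfl fun t _ => ?_
  simp only [Function.Embedding.coeFn_mk]
  congr 2
  omega

section local_part

variable {S : Type u} [CommRing S] [IsLocalRing S]

theorem split_zero {a b : ℕ} : Split (0 : Matrix (Fin a) (Fin b) S) 0 := by
  refine ⟨⊤, ?_, ?_⟩
  · rw [Matrix.mulVecLin_zero, LinearMap.range_zero]; exact isCompl_bot_top
  · rw [Matrix.mulVecLin_zero, LinearMap.range_zero, finrank_bot]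

/-- An exact complex of finite free modules over a local ring of depth zero splits, with the
expected ranks. -/
theorem split_all (hS : DepthZero S) (e : ℕ) (n : ℕ → ℕ)
    (B : ∀ i, Matrix (Fin (n i)) (Fin (n (i + 1))) S) (hz : ∀ i, e ≤ i → B i = 0)
    (hex : Exact e n B) :
    ∀ d i, i + d = e → ∃ k : ℕ, (k : ℤ) = sig n e i ∧ Split (B i) k := by
  intro d
  induction d with
  | zero =>
    intro i hi
    have : i = e := by omega
    subst this
    exact ⟨0, by rw [sig_self]; rfl, by rw [hz i le_rfl]; exact split_zero⟩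
  | succ d ih =>
    intro i hi
    obtain ⟨k', hk', hsp⟩ := ih (i + 1) (by omega)
    obtain ⟨hle, hsp'⟩ := split_step hS (B i) (B (i + 1)) (hex i (by omega)) hsp
    refine ⟨n (i + 1) - k', ?_, hsp'⟩
    rw [sig_succ n (by omega : i < e), ← hk']
    omega

theorem minors_of_depthZero (hS : DepthZero S) (e : ℕ) (n : ℕ → ℕ)
    (B : ∀ i, Matrix (Fin (n i)) (Fin (n (i + 1))) S) (hz : ∀ i, e ≤ i → B i = 0)
    (hex : Exact e n B) (i : ℕ) (hi : i ≤ e) :
    ∃ k : ℕ, (k : ℤ) = sig n e i ∧ CAlgX.minorIdeal (B i) (k + 1) = ⊥ ∧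
      CAlgX.minorIdeal (B i) k = ⊤ := by
  obtain ⟨k, hk, N', hc, hfr⟩ := split_all hS e n B hz hex (e - i) i (by omega)
  exact ⟨k, hk, Groth.Agent.S10890.fwd (B i) N' hc hfr⟩

end local_part

section global_part

variable {R : Type u} [CommRing R]

theorem depthZero_of_isAssociatedPrime [IsNoetherianRing R] (p : Ideal R) [p.IsPrime]
    (hp : IsAssociatedPrime p R) : DepthZero (Localization.AtPrime p) := by
  rw [isAssociatedPrime_iff] at hp
  obtain ⟨-, a, ha⟩ := hp
  have hpa : ∀ r : R, r ∈ p ↔ r * a = 0 := by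
    intro r
    rw [ha, Submodule.mem_colon_singleton, Submodule.mem_bot, smul_eq_mul]
  refine ⟨algebraMap R _ a, ?_, ?_⟩
  · intro h0
    obtain ⟨t, ht⟩ := (IsLocalization.map_eq_zero_iff p.primeCompl _ a).1 h0
    exact t.2 ((hpa _).2 ht)
  · intro x hx
    obtain ⟨r, s, rfl⟩ := IsLocalization.exists_mk'_eq p.primeCompl x
    rw [IsLocalization.AtPrime.mk'_mem_maximal_iff (Localization.AtPrime p) p] at hx
    have hra : r * a = 0 := (hpa _).1 hx
    rw [IsLocalization.mk'_eq_mul_mk'_one, mul_right_comm, ← map_mul, hra, map_zero, zero_mul]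

theorem minorIdeal_succ_le {a b : ℕ} (A : Matrix (Fin a) (Fin b) R) (t : ℕ) :
    CAlgX.minorIdeal A (t + 1) ≤ CAlgX.minorIdeal A t := by
  unfold CAlgX.minorIdeal
  rw [Ideal.span_le]
  rintro _ ⟨fg, rfl⟩
  exact Groth.Agent.Lib.Helper16.MinorLaplace.det_mem_minorIdeal A t (t + 1)
    (A.submatrix fg.1 fg.2) Fin.castSucc (Fin.castSucc_injective _) (fg.1 ∘ Fin.castSucc) fg.2
    (fun a j => rfl)

theorem minorIdeal_antitone {a b : ℕ} (A : Matrix (Fin a) (Fin b) R) {s t : ℕ} (h : s ≤ t) :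
    CAlgX.minorIdeal A t ≤ CAlgX.minorIdeal A s := by
  induction h with
  | refl => exact le_rfl
  | step _ ih => exact (minorIdeal_succ_le A _).trans ih

theorem matrixRank_eq {a b : ℕ} (A : Matrix (Fin a) (Fin b) R) (k : ℕ)
    (h1 : CAlgX.minorIdeal A k ≠ ⊥) (h2 : CAlgX.minorIdeal A (k + 1) = ⊥) :
    CAlgX.matrixRank A = k := by
  unfold CAlgX.matrixRank
  apply IsGreatest.csSup_eq
  refine ⟨h1, fun r hr => ?_⟩
  by_contra hlt
  exact hr (le_bot_iff.1 (h2 ▸ minorIdeal_antitone A (by omega : k + 1 ≤ r)))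

/-- Necessity, rank part: for an exact complex over a Noetherian ring the minors of size
`k_i + 1` of `A i` vanish and the ideal of minors of size `k_i` contains a non-zero-divisor. -/
theorem minors_of_exact [IsNoetherianRing R] [Nontrivial R] (e : ℕ) (n : ℕ → ℕ)
    (A : ∀ i, Matrix (Fin (n i)) (Fin (n (i + 1))) R) (hz : ∀ i, e ≤ i → A i = 0)
    (hex : Exact e n A) (i : ℕ) (hi : i ≤ e) :
    ∃ k : ℕ, (k : ℤ) = sig n e i ∧ CAlgX.minorIdeal (A i) (k + 1) = ⊥ ∧
      ∃ x ∈ CAlgX.minorIdeal (A i) k, x ∈ nonZeroDivisors R := by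
  classical
  -- the data at each associated prime
  have hloc : ∀ (p : Ideal R) [p.IsPrime], IsAssociatedPrime p R → ∃ k : ℕ, (k : ℤ) = sig n e i ∧
      (CAlgX.minorIdeal (A i) (k + 1)).map (algebraMap R (Localization.AtPrime p)) = ⊥ ∧
      (CAlgX.minorIdeal (A i) k).map (algebraMap R (Localization.AtPrime p)) = ⊤ := by
    intro p _ hp
    obtain ⟨k, hk, h1, h2⟩ := minors_of_depthZero (depthZero_of_isAssociatedPrime p hp) e n
      (fun i => (A i).map (algebraMap R (Localization.AtPrime p)))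
      (fun i hi => by rw [hz i hi]; ext a b; simp)
      (exact_map p.primeCompl A hex) i hi
    rw [minorIdeal_map_ringHom] at h1 h2
    exact ⟨k, hk, h1, h2⟩
  obtain ⟨p₀, hp₀⟩ := associatedPrimes.nonempty R R
  haveI := hp₀.isPrime
  obtain ⟨k, hk, -, -⟩ := hloc p₀ hp₀
  refine ⟨k, hk, ?_, ?_⟩
  · rw [eq_bot_iff]
    intro x hx
    rw [Submodule.mem_bot]
    by_contra hx0
    obtain ⟨p, hp, hle⟩ := exists_le_isAssociatedPrime_of_isNoetherianRing R x hx0
    haveI := hp.isPrime
    obtain ⟨k', hk', h1, -⟩ := hloc p hp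
    have hkk : k' = k := by exact_mod_cast hk'.trans hk.symm
    subst hkk
    have : algebraMap R (Localization.AtPrime p) x = 0 := by
      have := Ideal.mem_map_of_mem (algebraMap R (Localization.AtPrime p)) hx
      rwa [h1, Submodule.mem_bot] at this
    obtain ⟨t, ht⟩ := (IsLocalization.map_eq_zero_iff p.primeCompl _ x).1 this
    have : (t : R) ∈ p := hle (by
      rw [Submodule.mem_colon_singleton, Submodule.mem_bot, smul_eq_mul]; exact ht)
    exact t.2 this
  · by_contra hno
    push Not at hno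
    have hdisj : Disjoint (CAlgX.minorIdeal (A i) k : Set R) (nonZeroDivisors R) :=
      Set.disjoint_left.2 fun x hx => hno x hx
    obtain ⟨p, hp, hle⟩ : ∃ P ∈ associatedPrimes R R, CAlgX.minorIdeal (A i) k ≤ P :=
      ((CAlgX.minorIdeal (A i) k).subset_union_prime_finite (associatedPrimes.finite ..)
        (f := id) 0 0 fun _ h _ _ ↦ h.1).1 <|
      biUnion_associatedPrimes_eq_compl_nonZeroDivisors R ▸ hdisj.subset_compl_right
    haveI := hp.isPrime
    obtain ⟨k', hk', -, h2⟩ := hloc p hp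
    have hkk : k' = k := by exact_mod_cast hk'.trans hk.symm
    subst hkk
    have h3 : (CAlgX.minorIdeal (A i) k').map (algebraMap R (Localization.AtPrime p)) ≤
        IsLocalRing.maximalIdeal (Localization.AtPrime p) := by
      rw [← Localization.AtPrime.map_eq_maximalIdeal]
      exact Ideal.map_mono hle
    rw [h2] at h3
    exact (IsLocalRing.maximalIdeal.isMaximal _).ne_top (top_le_iff.1 h3)

end global_part

end Groth.Agent.Lib.Helper99.BE
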