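import Mathlib
import Groth.Agent.Lib.Helper73.DimFT.Basic

/-!
# Krull dimension of `k[σ]/I` is invariant under algebraic field extensions
-/

set_option autoImplicit false

namespace Groth.Agent.Lib.Helper99.BC
open MvPolynomial

attribute [local instance] MvPolynomial.algebraMvPolynomial

universe u
variable {k K : Type u} [Field k] [Field K] [Algebra k K] {σ : Type}

lemma faithfullyFlat : Module.FaithfullyFlat (MvPolynomial σ k) (MvPolynomial σ K) := by
  rw [← RingHom.faithfullyFlat_algebraMap_iff]
  exact RingHom.FaithfullyFlat.isStableUnderBaseChange k K (MvPolynomial σ k) (MvPolynomial σ K)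
    (RingHom.faithfullyFlat_algebraMap_iff.2 inferInstance)

lemma comap_map (I : Ideal (MvPolynomial σ k)) :
    (I.map (MvPolynomial.map (algebraMap k K))).comap (MvPolynomial.map (algebraMap k K)) = I := by
  have := faithfullyFlat (k := k) (K := K) (σ := σ)
  exact Ideal.comap_map_eq_self_of_faithfullyFlat (B := MvPolynomial σ K) I

theorem ringKrullDim_quotient_map [Algebra.IsAlgebraic k K] (I : Ideal (MvPolynomial σ k)) :
    ringKrullDim (MvPolynomial σ K ⧸ I.map (MvPolynomial.map (algebraMap k K))) =
      ringKrullDim (MvPolynomial σ k ⧸ I) := by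
  have : Algebra.IsIntegral k K := Algebra.IsAlgebraic.isIntegral
  have hI : Algebra.IsIntegral (MvPolynomial σ k) (MvPolynomial σ K) := inferInstance
  set φ : MvPolynomial σ k →+* MvPolynomial σ K := MvPolynomial.map (algebraMap k K) with hφ
  have hφi : φ.IsIntegral := hI.1
  apply Groth.Agent.Lib.Helper73.ringKrullDim_eq_of_ringHom
    (Ideal.quotientMap (I.map φ) φ Ideal.le_comap_map)
  · apply RingHom.IsIntegral.tower_top (Ideal.Quotient.mk I)
    have h : (Ideal.quotientMap (I.map φ) φ Ideal.le_comap_map).comp (Ideal.Quotient.mk I) =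
        (Ideal.Quotient.mk (I.map φ)).comp φ := by
      ext x <;> simp
    rw [h]
    exact RingHom.IsIntegral.trans _ _ hφi (RingHom.isIntegral_of_surjective _ Ideal.Quotient.mk_surjective)
  · apply Ideal.quotientMap_injective'
    rw [comap_map]

end Groth.Agent.Lib.Helper99.BC
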