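import Mathlib

/-!
# Basic elements, part A: fibre spans, ranks and the Nakayama dictionary

For a prime `p` of `A` and an `A`-module `M` we look at the fibre `κ(p) ⊗ M` and at the
`κ(p)`-span `fs p s` of the image of a subset `s ⊆ M`.  `Gen N p s` says that `M / N` can be
generated by `s` elements near `p`.
-/

open TensorProduct

namespace Groth.Agent.Lib.Helper99.BasicEl

universe u
variable {A : Type u} [CommRing A] {M : Type u} [AddCommGroup M] [Module A M]

/-- the canonical map `M → κ(p) ⊗ M` -/
noncomputable def io (p : PrimeSpectrum A) : M →ₗ[A] p.asIdeal.ResidueField ⊗[A] M :=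
  TensorProduct.mk A p.asIdeal.ResidueField M 1

/-- the `κ(p)`-span of the image of a subset in the fibre -/
noncomputable def fs (p : PrimeSpectrum A) (s : Set M) :
    Submodule p.asIdeal.ResidueField (p.asIdeal.ResidueField ⊗[A] M) :=
  Submodule.span p.asIdeal.ResidueField (io p '' s)

lemma io_mem_fs (p : PrimeSpectrum A) {s : Set M} {y : M} (hy : y ∈ s) : io p y ∈ fs p s :=
  Submodule.subset_span ⟨y, hy, rfl⟩

lemma fs_mono (p : PrimeSpectrum A) {s t : Set M} (h : s ⊆ t) : fs p s ≤ fs p t :=
  Submodule.span_mono (Set.image_mono h)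

lemma fs_union (p : PrimeSpectrum A) (s t : Set M) : fs p (s ∪ t) = fs p s ⊔ fs p t := by
  unfold fs
  rw [Set.image_union, Submodule.span_union]

lemma io_smul (p : PrimeSpectrum A) (a : A) (y : M) :
    io p (a • y) = algebraMap A p.asIdeal.ResidueField a • io p y := by
  rw [map_smul, algebraMap_smul]

lemma fs_le_iff (p : PrimeSpectrum A) {s : Set M}
    {W : Submodule p.asIdeal.ResidueField (p.asIdeal.ResidueField ⊗[A] M)} :
    fs p s ≤ W ↔ ∀ y ∈ s, io p y ∈ W := by
  unfold fs
  rw [Submodule.span_le]
  constructor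
  · intro h y hy
    exact h ⟨y, hy, rfl⟩
  · rintro h _ ⟨y, hy, rfl⟩
    exact h y hy

lemma fs_span (p : PrimeSpectrum A) (s : Set M) :
    fs p (Submodule.span A s : Set M) = fs p s := by
  apply le_antisymm
  · rw [fs_le_iff]
    intro y hy
    induction hy using Submodule.span_induction with
    | mem x hx => exact io_mem_fs p hx
    | zero => rw [map_zero]; exact Submodule.zero_mem _
    | add x y _ _ hx hy => rw [map_add]; exact Submodule.add_mem _ hx hy
    | smul a x _ hx => rw [io_smul]; exact Submodule.smul_mem _ _ hx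
  · exact fs_mono p Submodule.subset_span

lemma fs_sup (p : PrimeSpectrum A) (N N' : Submodule A M) :
    fs p ((N ⊔ N' : Submodule A M) : Set M) = fs p (N : Set M) ⊔ fs p (N' : Set M) := by
  rw [← fs_union, ← fs_span p ((N : Set M) ∪ N'), Submodule.span_union, Submodule.span_eq,
    Submodule.span_eq]

lemma fs_univ (p : PrimeSpectrum A) : fs p (Set.univ : Set M) = ⊤ := by
  rw [eq_top_iff]
  rintro v -
  induction v using TensorProduct.induction_on with
  | zero => exact Submodule.zero_mem _
  | tmul c m =>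
    have : c ⊗ₜ[A] m = c • io p m := by
      simp [io, TensorProduct.smul_tmul']
    rw [this]
    exact Submodule.smul_mem _ _ (io_mem_fs p (Set.mem_univ m))
  | add x y hx hy => exact Submodule.add_mem _ hx hy

lemma fs_eq_top_of_smul_mem (p : PrimeSpectrum A) (N : Submodule A M) (f : A)
    (hf : f ∉ p.asIdeal) (h : ∀ y : M, f • y ∈ N) : fs p (N : Set M) = ⊤ := by
  rw [eq_top_iff, ← fs_univ p, fs_le_iff]
  intro y _
  have hne : algebraMap A p.asIdeal.ResidueField f ≠ 0 := by
    rw [Ne, Ideal.algebraMap_residueField_eq_zero]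
    exact hf
  have h1 : io p (f • y) ∈ fs p (N : Set M) := io_mem_fs p (h y)
  rw [io_smul] at h1
  have h2 := Submodule.smul_mem (fs p (N : Set M))
    (algebraMap A p.asIdeal.ResidueField f)⁻¹ h1
  rwa [smul_smul, inv_mul_cancel₀ hne, one_smul] at h2

/-- Nakayama: if the image of `N` spans the fibre at `p` then `N` contains `f • M` for some
`f ∉ p`. -/
lemma exists_smul_mem_of_fs_eq_top [Module.Finite A M] (p : PrimeSpectrum A)
    (N : Submodule A M) (h : fs p (N : Set M) = ⊤) :
    ∃ f : A, f ∉ p.asIdeal ∧ ∀ y : M, f • y ∈ N := by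
  have hsub : Subsingleton (p.asIdeal.ResidueField ⊗[A] (M ⧸ N)) := by
    let g : p.asIdeal.ResidueField ⊗[A] M →ₗ[p.asIdeal.ResidueField]
        p.asIdeal.ResidueField ⊗[A] (M ⧸ N) := LinearMap.baseChange _ N.mkQ
    have hg : Function.Surjective g := by
      have : Function.Surjective (LinearMap.lTensor p.asIdeal.ResidueField N.mkQ) :=
        LinearMap.lTensor_surjective _ N.mkQ_surjective
      intro x
      obtain ⟨y, hy⟩ := this x
      exact ⟨y, hy⟩
    have hker : LinearMap.ker g = ⊤ := by
      rw [eq_top_iff, ← h, fs_le_iff]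
      intro y hy
      rw [LinearMap.mem_ker]
      change LinearMap.baseChange _ N.mkQ ((1 : p.asIdeal.ResidueField) ⊗ₜ[A] y) = 0
      rw [LinearMap.baseChange_tmul]
      have : N.mkQ y = 0 := by
        rw [Submodule.mkQ_apply, Submodule.Quotient.mk_eq_zero]; exact hy
      rw [this, TensorProduct.tmul_zero]
    refine ⟨fun a b => ?_⟩
    obtain ⟨a', rfl⟩ := hg a
    obtain ⟨b', rfl⟩ := hg b
    have ha : a' ∈ LinearMap.ker g := by rw [hker]; trivial
    have hb : b' ∈ LinearMap.ker g := by rw [hker]; trivial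
    rw [LinearMap.mem_ker.mp ha, LinearMap.mem_ker.mp hb]
  have hns : p ∉ Module.support A (M ⧸ N) := by
    rw [Module.mem_support_iff_nontrivial_residueField_tensorProduct]
    exact not_nontrivial_iff_subsingleton.mpr hsub
  rw [Module.mem_support_iff_of_finite] at hns
  obtain ⟨f, hfa, hfp⟩ := SetLike.not_le_iff_exists.mp hns
  refine ⟨f, hfp, fun y => ?_⟩
  have := Module.mem_annihilator.mp hfa (Submodule.Quotient.mk y)
  rwa [← Submodule.Quotient.mk_smul, Submodule.Quotient.mk_eq_zero] at this

/-- `M / N` can be generated by `s` elements in a neighbourhood of `p`. -/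
def Gen (N : Submodule A M) (p : PrimeSpectrum A) (s : ℕ) : Prop :=
  ∃ f : A, f ∉ p.asIdeal ∧ ∃ x : Fin s → M, ∀ y : M, f • y ∈ N ⊔ Submodule.span A (Set.range x)

lemma finrank_fs_range_le (p : PrimeSpectrum A) {ι : Type*} [Finite ι] (x : ι → M) :
    Module.finrank p.asIdeal.ResidueField (fs p (Set.range x)) ≤ Nat.card ι := by
  classical
  haveI := Fintype.ofFinite ι
  unfold fs
  rw [← Set.range_comp, Nat.card_eq_fintype_card]
  exact finrank_range_le_card _

/-- generation near `p` gives a lower bound for the fibre rank -/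
lemma finrank_le_of_gen [Module.Finite A M] (N : Submodule A M) (p : PrimeSpectrum A) (s : ℕ)
    (h : Gen N p s) :
    Module.finrank p.asIdeal.ResidueField (p.asIdeal.ResidueField ⊗[A] M) ≤
      Module.finrank p.asIdeal.ResidueField (fs p (N : Set M)) + s := by
  obtain ⟨f, hf, x, hx⟩ := h
  have h1 := fs_eq_top_of_smul_mem p _ f hf hx
  rw [fs_sup, fs_span] at h1
  have h2 := Submodule.finrank_add_le_finrank_add_finrank (fs p (N : Set M)) (fs p (Set.range x))
  rw [h1, finrank_top] at h2
  have h3 := finrank_fs_range_le p x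
  rw [Nat.card_eq_fintype_card, Fintype.card_fin] at h3
  omega

/-- a lower bound for the fibre rank gives generation near `p` -/
lemma gen_of_finrank_le [Module.Finite A M] (N : Submodule A M) (p : PrimeSpectrum A) (s : ℕ)
    (h : Module.finrank p.asIdeal.ResidueField (p.asIdeal.ResidueField ⊗[A] M) ≤
      Module.finrank p.asIdeal.ResidueField (fs p (N : Set M)) + s) : Gen N p s := by
  classical
  set W := fs p (N : Set M) with hW
  -- the image of `M` spans the quotient
  set T : Set ((p.asIdeal.ResidueField ⊗[A] M) ⧸ W) :=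
    W.mkQ '' (io p '' (Set.univ : Set M)) with hT
  have hTspan : Submodule.span p.asIdeal.ResidueField T = ⊤ := by
    rw [hT, ← Submodule.map_span]
    change Submodule.map W.mkQ (fs p Set.univ) = ⊤
    rw [fs_univ, Submodule.map_top, Submodule.range_mkQ]
  obtain ⟨g, hgT, hgspan, -⟩ :=
    Submodule.exists_fun_fin_finrank_span_eq p.asIdeal.ResidueField T
  have hd : Module.finrank p.asIdeal.ResidueField
      (Submodule.span p.asIdeal.ResidueField T) ≤ s := by
    rw [hTspan, finrank_top]
    have := Submodule.finrank_quotient_add_finrank W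
    omega
  -- choose preimages
  have hch : ∀ i, ∃ y : M, W.mkQ (io p y) = g i := by
    intro i
    obtain ⟨_, ⟨y, -, rfl⟩, hy⟩ := hgT i
    exact ⟨y, hy⟩
  choose x0 hx0 using hch
  let x : Fin s → M := fun i =>
    if hi : (i : ℕ) < Module.finrank p.asIdeal.ResidueField
        (Submodule.span p.asIdeal.ResidueField T) then x0 ⟨i, hi⟩ else 0
  have hxr : ∀ j, x0 j ∈ Set.range x := by
    intro j
    refine ⟨⟨j, lt_of_lt_of_le j.2 hd⟩, ?_⟩
    simp [x]
  have htop : fs p ((N ⊔ Submodule.span A (Set.range x) : Submodule A M) : Set M) = ⊤ := by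
    rw [fs_sup, fs_span, ← hW, ← Submodule.map_mkQ_eq_top, eq_top_iff, ← hTspan, ← hgspan,
      Submodule.span_le]
    rintro _ ⟨j, rfl⟩
    rw [← hx0 j]
    exact Submodule.mem_map_of_mem (io_mem_fs p (hxr j))
  obtain ⟨f, hf, hfy⟩ := exists_smul_mem_of_fs_eq_top p _ htop
  exact ⟨f, hf, x, hfy⟩

/-- The fibre has dimension `r` where `M` is locally free of rank `r`. -/
lemma finrank_fibre_eq (p : PrimeSpectrum A) (r : ℕ)
    (e : LocalizedModule p.asIdeal.primeCompl M ≃ₗ[Localization.AtPrime p.asIdeal]
      (Fin r → Localization.AtPrime p.asIdeal)) :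
    Module.finrank p.asIdeal.ResidueField (p.asIdeal.ResidueField ⊗[A] M) = r := by
  let K := p.asIdeal.ResidueField
  let e1 := (AlgebraTensorModule.cancelBaseChange A (Localization.AtPrime p.asIdeal) K K M).symm
  let e2 : LocalizedModule p.asIdeal.primeCompl M ≃ₗ[Localization.AtPrime p.asIdeal]
      Localization.AtPrime p.asIdeal ⊗[A] M :=
    LocalizedModule.equivTensorProduct p.asIdeal.primeCompl M
  have : Module.Free (Localization.AtPrime p.asIdeal)
      (Localization.AtPrime p.asIdeal ⊗[A] M) :=
    Module.Free.of_equiv (e.symm.trans e2)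
  rw [e1.finrank_eq, Module.finrank_baseChange, (e2.symm.trans e).finrank_eq,
    Module.finrank_fin_fun]

end Groth.Agent.Lib.Helper99.BasicEl
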