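import Groth.Agent.Lib.Helper99.BasicElA

/-!
# Basic elements, part B: the Eisenbud–Evans reduction step

For a family `m : Fin (n+1) → M` which is `min (n+1, k - ht p + 1)`-fold basic at all primes of
height `≤ k` we find `a` such that `m i + a i • m last` is `min (n, k - ht p + 1)`-fold basic at
those primes.  Iterating yields a basic element.
-/

open TensorProduct

namespace Groth.Agent.Lib.Helper99.BasicEl

universe u
variable {A : Type u} [CommRing A] {M : Type u} [AddCommGroup M] [Module A M]

/-- fibre rank of a family -/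
noncomputable def rkF (p : PrimeSpectrum A) {ι : Type*} (m : ι → M) : ℕ :=
  Module.finrank p.asIdeal.ResidueField (fs p (Set.range m))

section LA
variable {K V : Type*} [Field K] [AddCommGroup V] [Module K V]

lemma exists_nat_coeff {n : ℕ} (u : Fin n → V) (v : V)
    (h : Module.finrank K ↥(Submodule.span K (Set.range u) ⊔ Submodule.span K {v}) ≤ n) :
    ∃ c : Fin n → ℕ, Submodule.span K (Set.range u) ⊔ Submodule.span K {v} ≤
      Submodule.span K (Set.range fun i => u i + (c i : K) • v) := by
  classical
  by_cases hv : v ∈ Submodule.span K (Set.range u)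
  · refine ⟨fun _ => 0, ?_⟩
    simp only [Nat.cast_zero, zero_smul, add_zero]
    exact sup_le le_rfl ((Submodule.span_singleton_le_iff_mem _ _).mpr hv)
  · have hnli : ¬ LinearIndependent K u := by
      intro hli
      have h1 : Module.finrank K (Submodule.span K (Set.range u)) = n := by
        rw [finrank_span_eq_card hli, Fintype.card_fin]
      have : FiniteDimensional K (Submodule.span K (Set.range u)) :=
        FiniteDimensional.span_of_finite K (Set.finite_range u)
      have hlt : Submodule.span K (Set.range u) <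
          Submodule.span K (Set.range u) ⊔ Submodule.span K {v} := by
        refine lt_of_le_of_ne le_sup_left fun heq => hv ?_
        rw [heq]
        exact Submodule.mem_sup_right (Submodule.mem_span_singleton_self v)
      have := Submodule.finrank_lt_finrank_of_lt hlt
      omega
    obtain ⟨g, hg, i₀, hi₀⟩ := Fintype.not_linearIndependent_iff.mp hnli
    refine ⟨fun i => if i = i₀ then 1 else 0, ?_⟩
    set S' := Submodule.span K
      (Set.range fun i => u i + (((if i = i₀ then 1 else 0 : ℕ)) : K) • v) with hS'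
    have hj : ∀ j, j ≠ i₀ → u j ∈ S' := by
      intro j hj
      have : u j = u j + (((if j = i₀ then 1 else 0 : ℕ)) : K) • v := by simp [hj]
      rw [this]
      exact Submodule.subset_span ⟨j, rfl⟩
    have hi : u i₀ ∈ S' := by
      have hsum : g i₀ • u i₀ = - ∑ j ∈ Finset.univ.erase i₀, g j • u j := by
        rw [eq_neg_iff_add_eq_zero, Finset.add_sum_erase _ (fun j => g j • u j) (Finset.mem_univ i₀)]
        exact hg
      have : u i₀ = (g i₀)⁻¹ • (- ∑ j ∈ Finset.univ.erase i₀, g j • u j) := by
        rw [← hsum, smul_smul, inv_mul_cancel₀ hi₀, one_smul]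
      rw [this]
      refine Submodule.smul_mem _ _ (Submodule.neg_mem _ (Submodule.sum_mem _ fun j hj' => ?_))
      exact Submodule.smul_mem _ _ (hj j (Finset.ne_of_mem_erase hj'))
    have hvS : v ∈ S' := by
      have h1 : u i₀ + (((if i₀ = i₀ then 1 else 0 : ℕ)) : K) • v ∈ S' :=
        Submodule.subset_span ⟨i₀, rfl⟩
      simp only [if_true, Nat.cast_one, one_smul] at h1
      have := Submodule.sub_mem _ h1 hi
      simpa using this
    refine sup_le (Submodule.span_le.mpr ?_) ((Submodule.span_singleton_le_iff_mem _ _).mpr hvS)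
    rintro _ ⟨j, rfl⟩
    by_cases hj' : j = i₀
    · rw [hj']; exact hi
    · exact hj j hj'

end LA

/-- the shifted family -/
def shift {n : ℕ} (m : Fin (n + 1) → M) (a : Fin n → A) : Fin n → M :=
  fun i => m i.castSucc + a i • m (Fin.last n)

lemma fs_range_eq (p : PrimeSpectrum A) {n : ℕ} (m : Fin (n + 1) → M) (a : Fin n → A) :
    fs p (Set.range m) = fs p (Set.range (shift m a)) ⊔ fs p {m (Fin.last n)} := by
  apply le_antisymm
  · rw [fs_le_iff]
    rintro _ ⟨i, rfl⟩
    induction i using Fin.lastCases with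
    | last => exact Submodule.mem_sup_right (io_mem_fs p rfl)
    | cast j =>
      have : m j.castSucc = shift m a j - a j • m (Fin.last n) := by simp [shift]
      rw [this, map_sub, io_smul]
      exact Submodule.sub_mem _ (Submodule.mem_sup_left (io_mem_fs p ⟨j, rfl⟩))
        (Submodule.smul_mem _ _ (Submodule.mem_sup_right (io_mem_fs p rfl)))
  · refine sup_le ?_ (fs_mono p (by rintro _ rfl; exact ⟨_, rfl⟩))
    rw [fs_le_iff]
    rintro _ ⟨j, rfl⟩
    unfold shift
    rw [map_add, io_smul]
    exact Submodule.add_mem _ (io_mem_fs p ⟨_, rfl⟩)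
      (Submodule.smul_mem _ _ (io_mem_fs p ⟨_, rfl⟩))

lemma rkF_le_succ [Module.Finite A M] (p : PrimeSpectrum A) {n : ℕ} (m : Fin (n + 1) → M)
    (a : Fin n → A) : rkF p m ≤ rkF p (shift m a) + 1 := by
  unfold rkF
  rw [fs_range_eq p m a]
  have h1 := Submodule.finrank_add_le_finrank_add_finrank (fs p (Set.range (shift m a)))
    (fs p {m (Fin.last n)})
  have h2 := finrank_fs_range_le p (fun _ : Unit => m (Fin.last n))
  rw [Set.range_const, Nat.card_unique] at h2
  omega

lemma io_shift_add (p : PrimeSpectrum A) {n : ℕ} (m : Fin (n + 1) → M) (a b : Fin n → A)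
    (i : Fin n) :
    io p (shift m (a + b) i) = io p (shift m a i) +
      algebraMap A p.asIdeal.ResidueField (b i) • io p (m (Fin.last n)) := by
  unfold shift
  rw [Pi.add_apply, add_smul, ← add_assoc, map_add, io_smul]

lemma fs_singleton_smul (p : PrimeSpectrum A) (t : A) (ht : t ∉ p.asIdeal) (y : M) :
    fs p {t • y} = fs p {y} := by
  unfold fs
  rw [Set.image_singleton, Set.image_singleton, io_smul]
  refine Submodule.span_singleton_smul_eq (IsUnit.mk0 _ ?_) _
  rw [Ne, Ideal.algebraMap_residueField_eq_zero]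
  exact ht

/-- The finite prime avoidance step. -/
lemma finite_primes [Module.Finite A M] {n : ℕ} (m : Fin (n + 1) → M) :
    ∀ Λ : Finset (PrimeSpectrum A), ∃ a : Fin n → A,
      ∀ p ∈ Λ, rkF p m ≤ n → rkF p m ≤ rkF p (shift m a) := by
  classical
  intro Λ
  induction hc : Λ.card generalizing Λ with
  | zero =>
    rw [Finset.card_eq_zero] at hc
    subst hc
    exact ⟨0, by simp⟩
  | succ s ih =>
    have hne : Λ.Nonempty := by rw [← Finset.card_pos]; omega
    obtain ⟨p₀, hp₀⟩ := Λ.exists_minimal hne
    obtain ⟨a, ha⟩ := ih (Λ.erase p₀) (by rw [Finset.card_erase_of_mem hp₀.1]; omega)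
    have ht : ∃ t : A, t ∉ p₀.asIdeal ∧ ∀ q ∈ Λ.erase p₀, t ∈ q.asIdeal := by
      by_contra hcon
      push Not at hcon
      have hle : (Λ.erase p₀).inf (fun q => q.asIdeal) ≤ p₀.asIdeal := by
        intro t ht
        by_contra htp
        obtain ⟨q, hq, hqt⟩ := hcon t htp
        exact hqt ((Finset.inf_le hq : _ ≤ q.asIdeal) ht)
      obtain ⟨q, hq, hqp⟩ := (p₀.isPrime.inf_le').mp hle
      have hq' := Finset.mem_erase.mp hq
      have : p₀ ≤ q := hp₀.2 hq'.2 hqp
      exact hq'.1 (le_antisymm hqp this)
    obtain ⟨t, htp, htq⟩ := ht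
    by_cases hrk : rkF p₀ m ≤ n
    · let u : Fin n → p₀.asIdeal.ResidueField ⊗[A] M := fun i => io p₀ (shift m a i)
      let v : p₀.asIdeal.ResidueField ⊗[A] M := io p₀ (t • m (Fin.last n))
      have hsup : Submodule.span p₀.asIdeal.ResidueField (Set.range u) ⊔
          Submodule.span p₀.asIdeal.ResidueField {v} = fs p₀ (Set.range m) := by
        rw [fs_range_eq p₀ m a, ← fs_singleton_smul p₀ t htp]
        congr 1
        · unfold fs
          rw [← Set.range_comp]
          rfl
        · unfold fs
          rw [Set.image_singleton]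
      obtain ⟨c, hc⟩ := exists_nat_coeff u v (by rw [hsup]; exact hrk)
      refine ⟨a + fun i => t * (c i : A), ?_⟩
      intro p hp hpn
      by_cases hpp : p = p₀
      · subst hpp
        unfold rkF
        apply Submodule.finrank_mono
        rw [← hsup]
        refine hc.trans (le_of_eq ?_)
        unfold fs
        rw [← Set.range_comp]
        congr 2
        ext i
        change io p (shift m a i) + (c i : p.asIdeal.ResidueField) • io p (t • m (Fin.last n)) =
          io p (shift m (a + fun i => t * (c i : A)) i)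
        rw [io_shift_add, io_smul, map_mul, map_natCast, smul_smul, mul_comm]
      · have hq := Finset.mem_erase.mpr ⟨hpp, hp⟩
        refine (ha p hq hpn).trans (le_of_eq ?_)
        have hfun : (io p ∘ shift m a) = (io p ∘ shift m (a + fun i => t * (c i : A))) := by
          funext i
          change io p (shift m a i) = io p (shift m (a + fun i => t * (c i : A)) i)
          rw [io_shift_add, map_mul,
            Ideal.algebraMap_residueField_eq_zero.mpr (htq p hq), zero_mul, zero_smul, add_zero]
        unfold rkF fs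
        rw [← Set.range_comp, ← Set.range_comp, hfun]
    · refine ⟨a, fun p hp hpn => ?_⟩
      by_cases hpp : p = p₀
      · subst hpp
        exact absurd hpn hrk
      · exact ha p (Finset.mem_erase.mpr ⟨hpp, hp⟩) hpn

/-- the locus where `M / N` is generated by at most `r - w` elements -/
def goodLocus (N : Submodule A M) (r w : ℕ) : Set (PrimeSpectrum A) :=
  {p | ∃ s, s + w ≤ r ∧ Gen N p s}

lemma isOpen_goodLocus (N : Submodule A M) (r w : ℕ) : IsOpen (goodLocus N r w) := by
  rw [isOpen_iff_forall_mem_open]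
  rintro p ⟨s, hs, f, hf, x, hx⟩
  refine ⟨PrimeSpectrum.basicOpen f, ?_, (PrimeSpectrum.basicOpen f).isOpen, hf⟩
  intro q hq
  exact ⟨s, hs, f, hq, x, hx⟩

lemma mem_goodLocus_iff [Module.Finite A M] (p : PrimeSpectrum A) (r : ℕ)
    (hr : Module.finrank p.asIdeal.ResidueField (p.asIdeal.ResidueField ⊗[A] M) = r)
    {ι : Type*} (m : ι → M) (w : ℕ) :
    p ∈ goodLocus (Submodule.span A (Set.range m)) r w ↔ w ≤ rkF p m := by
  unfold rkF
  constructor
  · rintro ⟨s, hs, hg⟩
    have := finrank_le_of_gen _ p s hg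
    rw [fs_span, hr] at this
    omega
  · intro hw
    have hle : Module.finrank p.asIdeal.ResidueField (fs p (Set.range m)) ≤ r := by
      rw [← hr]
      exact Submodule.finrank_le _
    refine ⟨r - w, by omega, gen_of_finrank_le _ p _ ?_⟩
    rw [fs_span, hr]
    omega

lemma closed_min [IsNoetherianRing A] (Z : Set (PrimeSpectrum A)) (hZ : IsClosed Z) :
    ∃ F : Set (PrimeSpectrum A), F.Finite ∧ F ⊆ Z ∧ ∀ p ∈ Z, ∃ q ∈ F, q ≤ p := by
  obtain ⟨J, rfl⟩ := (PrimeSpectrum.isClosed_iff_zeroLocus_ideal Z).mp hZ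
  refine ⟨{q | q.asIdeal ∈ J.minimalPrimes}, ?_, ?_, ?_⟩
  · have hfin := Ideal.finite_minimalPrimes_of_isNoetherianRing A J
    refine Set.Finite.preimage (f := fun q : PrimeSpectrum A => q.asIdeal) ?_ hfin
    intro q _ q' _ h
    exact PrimeSpectrum.ext h
  · intro q hq
    rw [PrimeSpectrum.mem_zeroLocus]
    exact hq.1.2
  · intro p hp
    rw [PrimeSpectrum.mem_zeroLocus] at hp
    obtain ⟨q, hq, hqp⟩ := Ideal.exists_minimalPrimes_le (J := p.asIdeal) hp
    exact ⟨⟨q, hq.1.1⟩, hq, hqp⟩

/-- The Eisenbud–Evans reduction step on the primes of height at most `k`. -/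
theorem step [IsNoetherianRing A] [Module.Finite A M] (k r n : ℕ)
    (hr : ∀ p : PrimeSpectrum A, p.asIdeal.height ≤ k →
      Module.finrank p.asIdeal.ResidueField (p.asIdeal.ResidueField ⊗[A] M) = r)
    (m : Fin (n + 1) → M)
    (hm : ∀ p : PrimeSpectrum A, p.asIdeal.height ≤ k →
      (n + 1 ≤ rkF p m ∨ (k : ℕ∞) + 1 ≤ (rkF p m : ℕ∞) + p.asIdeal.height)) :
    ∃ a : Fin n → A, ∀ p : PrimeSpectrum A, p.asIdeal.height ≤ k →
      (n ≤ rkF p (shift m a) ∨
        (k : ℕ∞) + 1 ≤ (rkF p (shift m a) : ℕ∞) + p.asIdeal.height) := by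
  classical
  have hF : ∀ w : ℕ, ∃ F : Set (PrimeSpectrum A), F.Finite ∧
      F ⊆ (goodLocus (Submodule.span A (Set.range m)) r (w + 1))ᶜ ∧
      ∀ p ∈ (goodLocus (Submodule.span A (Set.range m)) r (w + 1))ᶜ, ∃ q ∈ F, q ≤ p :=
    fun w => closed_min _ (isOpen_goodLocus _ _ _).isClosed_compl
  choose F hFfin hFsub hFmin using hF
  have hΛfin : (⋃ w ∈ Finset.range (n + 1), F w).Finite :=
    Set.Finite.biUnion (Finset.finite_toSet _) (fun w _ => hFfin w)
  obtain ⟨a, ha⟩ := finite_primes m hΛfin.toFinset
  refine ⟨a, fun p hp => ?_⟩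
  have hR1 : rkF p m ≤ rkF p (shift m a) + 1 := rkF_le_succ p m a
  obtain ⟨h, hh⟩ := ENat.ne_top_iff_exists.mp (ne_top_of_le_ne_top (ENat.natCast_ne_top k) hp)
  rcases hm p hp with h1 | h1
  · left; omega
  · by_cases hn : rkF p m ≤ n
    swap
    · left; omega
    rw [← hh] at h1 ⊢
    have h1' : k + 1 ≤ rkF p m + h := by exact_mod_cast h1
    by_cases h2 : k + 2 ≤ rkF p m + h
    · right
      exact_mod_cast (by omega : k + 1 ≤ rkF p (shift m a) + h)
    · have hpZ : p ∈ (goodLocus (Submodule.span A (Set.range m)) r (rkF p m + 1))ᶜ := by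
        rw [Set.mem_compl_iff, mem_goodLocus_iff p r (hr p hp) m]
        omega
      obtain ⟨q, hqF, hqp⟩ := hFmin _ p hpZ
      have hqk : q.asIdeal.height ≤ k := (Ideal.height_mono hqp).trans hp
      have hqZ := hFsub _ hqF
      rw [Set.mem_compl_iff, mem_goodLocus_iff q r (hr q hqk) m] at hqZ
      have hqeq : q = p := by
        by_contra hne
        have hlt : q.asIdeal < p.asIdeal :=
          lt_of_le_of_ne hqp (fun e => hne (PrimeSpectrum.ext e))
        have hlt' := Ideal.height_strict_mono_of_isPrime_of_isPrime hlt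
        obtain ⟨h', hh'⟩ :=
          ENat.ne_top_iff_exists.mp (ne_top_of_le_ne_top (ENat.natCast_ne_top k) hqk)
        rw [← hh, ← hh'] at hlt'
        have hlt'' : h' < h := by exact_mod_cast hlt'
        rcases hm q hqk with h3 | h3
        · omega
        · rw [← hh'] at h3
          have h3' : k + 1 ≤ rkF q m + h' := by exact_mod_cast h3
          omega
      subst hqeq
      have hpΛ : q ∈ hΛfin.toFinset := by
        rw [Set.Finite.mem_toFinset]
        simp only [Set.mem_iUnion]
        exact ⟨rkF q m, Finset.mem_range.mpr (by omega), hqF⟩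
      have := ha q hpΛ hn
      right
      exact_mod_cast (by omega : k + 1 ≤ rkF q (shift m a) + h)

/-- Existence of a basic element on the primes of height at most `k`, for a module whose fibres
there all have dimension `r > k`. -/
theorem exists_basic [IsNoetherianRing A] [Module.Finite A M] (k r : ℕ) (hkr : k + 1 ≤ r)
    (hr : ∀ p : PrimeSpectrum A, p.asIdeal.height ≤ k →
      Module.finrank p.asIdeal.ResidueField (p.asIdeal.ResidueField ⊗[A] M) = r) :
    ∃ y : M, ∀ p : PrimeSpectrum A, p.asIdeal.height ≤ k → io p y ≠ 0 := by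
  have key : ∀ n : ℕ, ∀ m : Fin (n + 1) → M,
      (∀ p : PrimeSpectrum A, p.asIdeal.height ≤ k →
        (n + 1 ≤ rkF p m ∨ (k : ℕ∞) + 1 ≤ (rkF p m : ℕ∞) + p.asIdeal.height)) →
      ∃ y : M, ∀ p : PrimeSpectrum A, p.asIdeal.height ≤ k → io p y ≠ 0 := by
    intro n
    induction n with
    | zero =>
      intro m hm
      refine ⟨m 0, fun p hp h0 => ?_⟩
      have hz : rkF p m = 0 := by
        unfold rkF fs
        have : io p '' Set.range m = {0} := by
          ext v
          simp only [Set.mem_image, Set.mem_range, Set.mem_singleton_iff]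
          constructor
          · rintro ⟨_, ⟨i, rfl⟩, rfl⟩
            have hi0 : i = 0 := Fin.ext (by omega)
            rw [hi0]
            exact h0
          · rintro rfl
            exact ⟨m 0, ⟨0, rfl⟩, h0⟩
        rw [this, Submodule.span_zero_singleton, finrank_bot]
      rcases hm p hp with h1 | h1
      · omega
      · rw [hz] at h1
        obtain ⟨h, hh⟩ := ENat.ne_top_iff_exists.mp (ne_top_of_le_ne_top (ENat.natCast_ne_top k) hp)
        rw [← hh] at h1 hp
        have h1' : k + 1 ≤ 0 + h := by exact_mod_cast h1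
        have hp' : h ≤ k := by exact_mod_cast hp
        omega
    | succ n ih =>
      intro m hm
      obtain ⟨a, ha⟩ := step k r (n + 1) hr m hm
      exact ih (shift m a) ha
  obtain ⟨n, s, hs⟩ := Module.Finite.exists_fin (R := A) (M := M)
  refine key n (Fin.cons 0 s) fun p hp => Or.inr ?_
  have hrk : rkF p (Fin.cons 0 s : Fin (n + 1) → M) = r := by
    unfold rkF
    have : fs p (Set.range (Fin.cons 0 s : Fin (n + 1) → M)) = ⊤ := by
      rw [eq_top_iff, ← fs_univ p, ← Submodule.top_coe (R := A), ← hs, fs_span]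
      exact fs_mono p (by rintro _ ⟨i, rfl⟩; exact ⟨i.succ, by simp⟩)
    rw [this, finrank_top, hr p hp]
  rw [hrk]
  calc (k : ℕ∞) + 1 ≤ r := by exact_mod_cast hkr
    _ ≤ (r : ℕ∞) + p.asIdeal.height := le_self_add

end Groth.Agent.Lib.Helper99.BasicEl
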