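import Groth.Agent.Lib.Helper99.BasicElB

/-!
# Basic elements, part C: splitting off a basic element and the final induction
-/

open TensorProduct

namespace Groth.Agent.Lib.Helper99.BasicEl

universe u
variable {A : Type u} [CommRing A] {M : Type u} [AddCommGroup M] [Module A M]

/-- At a prime where `M` is free of rank `r' + 1` and `y` is basic, `y` is the first vector of a
basis of the localization. -/
lemma exists_equiv_single [Module.Finite A M] (p : PrimeSpectrum A) (r' : ℕ)
    (e : LocalizedModule p.asIdeal.primeCompl M ≃ₗ[Localization.AtPrime p.asIdeal]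
      (Fin (r' + 1) → Localization.AtPrime p.asIdeal))
    (y : M) (hy : io p y ≠ 0) :
    ∃ ψ : (Fin (r' + 1) → Localization.AtPrime p.asIdeal) ≃ₗ[Localization.AtPrime p.asIdeal]
      LocalizedModule p.asIdeal.primeCompl M,
      ψ (Pi.single 0 1) = LocalizedModule.mkLinearMap p.asIdeal.primeCompl M y := by
  classical
  have hgen : Gen (Submodule.span A {y}) p r' := by
    apply gen_of_finrank_le
    rw [finrank_fibre_eq p (r' + 1) e, fs_span]
    have : Module.finrank p.asIdeal.ResidueField (fs p {y}) = 1 := by
      unfold fs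
      rw [Set.image_singleton]
      exact finrank_span_singleton hy
    omega
  obtain ⟨f, hf, x, hx⟩ := hgen
  let b' : Fin (r' + 1) → LocalizedModule p.asIdeal.primeCompl M :=
    Fin.cons (LocalizedModule.mkLinearMap p.asIdeal.primeCompl M y)
      (fun j => LocalizedModule.mkLinearMap p.asIdeal.primeCompl M (x j))
  have hspan : Submodule.span (Localization.AtPrime p.asIdeal) (Set.range b') = ⊤ := by
    have h1 : (Submodule.span A ({y} ∪ Set.range x)).localized' (Localization.AtPrime p.asIdeal)
        p.asIdeal.primeCompl (LocalizedModule.mkLinearMap p.asIdeal.primeCompl M) = ⊤ := by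
      rw [eq_top_iff, ← Submodule.localized'_top (Localization.AtPrime p.asIdeal)
        p.asIdeal.primeCompl (LocalizedModule.mkLinearMap p.asIdeal.primeCompl M)]
      refine Submodule.localized'_le_localized'_of_smul_le (Localization.AtPrime p.asIdeal)
        p.asIdeal.primeCompl (LocalizedModule.mkLinearMap p.asIdeal.primeCompl M)
        (⟨f, hf⟩ : p.asIdeal.primeCompl) ?_
      intro z hz
      obtain ⟨m, -, rfl⟩ := (Submodule.mem_smul_pointwise_iff_exists _ _ _).mp hz
      have := hx m
      rw [Submodule.span_union]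
      exact this
    rw [Submodule.localized'_span] at h1
    rw [eq_top_iff, ← h1]
    apply Submodule.span_mono
    rintro _ ⟨m, hm, rfl⟩
    rcases hm with hm | ⟨j, rfl⟩
    · rw [Set.mem_singleton_iff] at hm
      subst hm
      exact ⟨0, rfl⟩
    · exact ⟨j.succ, by simp [b']⟩
  let ψ0 : (Fin (r' + 1) → Localization.AtPrime p.asIdeal) →ₗ[Localization.AtPrime p.asIdeal]
      LocalizedModule p.asIdeal.primeCompl M :=
    Fintype.linearCombination (Localization.AtPrime p.asIdeal) b'
  have hsurj : Function.Surjective ψ0 := by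
    rw [← LinearMap.range_eq_top, Fintype.range_linearCombination, hspan]
  have hinj : Function.Injective ψ0 := by
    have h2 : Function.Surjective (e.toLinearMap ∘ₗ ψ0) := e.surjective.comp hsurj
    have h3 := OrzechProperty.injective_of_surjective_endomorphism _ h2
    exact Function.Injective.of_comp (f := e) h3
  refine ⟨LinearEquiv.ofBijective ψ0 ⟨hinj, hsurj⟩, ?_⟩
  rw [LinearEquiv.ofBijective_apply]
  simp [ψ0, Fintype.linearCombination_apply_single, b']

/-- Splitting off a basic element lowers the local rank by one. -/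
lemma nonempty_quotient_equiv [Module.Finite A M] (p : PrimeSpectrum A) (r' : ℕ)
    (e : LocalizedModule p.asIdeal.primeCompl M ≃ₗ[Localization.AtPrime p.asIdeal]
      (Fin (r' + 1) → Localization.AtPrime p.asIdeal))
    (y : M) (hy : io p y ≠ 0) :
    Nonempty (LocalizedModule p.asIdeal.primeCompl (M ⧸ Submodule.span A {y})
      ≃ₗ[Localization.AtPrime p.asIdeal] (Fin r' → Localization.AtPrime p.asIdeal)) := by
  classical
  obtain ⟨ψ, hψ⟩ := exists_equiv_single p r' e y hy
  let T : (Fin (r' + 1) → Localization.AtPrime p.asIdeal) →ₗ[Localization.AtPrime p.asIdeal]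
      (Fin r' → Localization.AtPrime p.asIdeal) :=
    LinearMap.funLeft _ _ Fin.succ
  let g : LocalizedModule p.asIdeal.primeCompl M →ₗ[Localization.AtPrime p.asIdeal]
      (Fin r' → Localization.AtPrime p.asIdeal) := T ∘ₗ ψ.symm.toLinearMap
  have hgv : ∀ v j, g v j = ψ.symm v j.succ := fun v j => rfl
  have hg : Function.Surjective g := by
    intro w
    refine ⟨ψ (Fin.cons 0 w), ?_⟩
    ext j
    rw [hgv, ψ.symm_apply_apply, Fin.cons_succ]
  have hker : Submodule.span (Localization.AtPrime p.asIdeal)
      {LocalizedModule.mkLinearMap p.asIdeal.primeCompl M y} = LinearMap.ker g := by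
    apply le_antisymm
    · rw [Submodule.span_singleton_le_iff_mem, LinearMap.mem_ker]
      ext j
      rw [hgv, ← hψ, ψ.symm_apply_apply]
      simp [Fin.succ_ne_zero]
    · intro v hv
      rw [LinearMap.mem_ker] at hv
      have hc : ψ.symm v = (ψ.symm v 0) • (Pi.single 0 1 :
          Fin (r' + 1) → Localization.AtPrime p.asIdeal) := by
        ext i
        refine Fin.cases ?_ (fun j => ?_) i
        · simp
        · have := congr_fun hv j
          rw [hgv] at this
          rw [this]
          simp [Fin.succ_ne_zero]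
      have hv' : v = (ψ.symm v 0) • LocalizedModule.mkLinearMap p.asIdeal.primeCompl M y := by
        rw [← hψ, ← map_smul, ← hc, ψ.apply_symm_apply]
      rw [hv']
      exact Submodule.smul_mem _ _ (Submodule.mem_span_singleton_self _)
  have hloc : (Submodule.span A {y}).localized p.asIdeal.primeCompl =
      Submodule.span (Localization.AtPrime p.asIdeal)
        {LocalizedModule.mkLinearMap p.asIdeal.primeCompl M y} := by
    change (Submodule.span A {y}).localized' (Localization p.asIdeal.primeCompl)
      p.asIdeal.primeCompl (LocalizedModule.mkLinearMap p.asIdeal.primeCompl M) = _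
    rw [Submodule.localized'_span, Set.image_singleton]
  exact ⟨(localizedQuotientEquiv p.asIdeal.primeCompl (Submodule.span A {y})).symm.trans
    ((Submodule.quotEquivOfEq _ _ (hloc.trans hker)).trans (g.quotKerEquivOfSurjective hg))⟩

/-- A basic element has locally trivial annihilator. -/
lemma exists_mul_eq_zero [Module.Finite A M] (p : PrimeSpectrum A) (r' : ℕ)
    (e : LocalizedModule p.asIdeal.primeCompl M ≃ₗ[Localization.AtPrime p.asIdeal]
      (Fin (r' + 1) → Localization.AtPrime p.asIdeal))
    (y : M) (hy : io p y ≠ 0) (a : A) (ha : a • y = 0) :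
    ∃ s : A, s ∉ p.asIdeal ∧ s * a = 0 := by
  classical
  obtain ⟨ψ, hψ⟩ := exists_equiv_single p r' e y hy
  have h1 : algebraMap A (Localization.AtPrime p.asIdeal) a •
      (Pi.single 0 1 : Fin (r' + 1) → Localization.AtPrime p.asIdeal) = 0 := by
    apply ψ.injective
    rw [map_smul, hψ, map_zero, algebraMap_smul, ← map_smul, ha, map_zero]
  have h2 : algebraMap A (Localization.AtPrime p.asIdeal) a = 0 := by
    have := congr_fun h1 0
    simpa using this
  obtain ⟨s, hs⟩ := (IsLocalization.map_eq_zero_iff p.asIdeal.primeCompl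
    (Localization.AtPrime p.asIdeal) a).mp h2
  exact ⟨s, s.2, hs⟩

/-- The main induction: a free submodule of rank `j` with locally free quotient of rank `k`. -/
theorem exists_injective [IsNoetherianRing A] (k : ℕ)
    (hAss : ∀ p ∈ associatedPrimes A A, p.height ≤ k) :
    ∀ (j : ℕ) (M : Type u) [AddCommGroup M] [Module A M] [Module.Finite A M],
      (∀ p : PrimeSpectrum A, p.asIdeal.height ≤ k →
        Nonempty (LocalizedModule p.asIdeal.primeCompl M ≃ₗ[Localization.AtPrime p.asIdeal]
          (Fin (k + j) → Localization.AtPrime p.asIdeal))) →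
      ∃ Φ : (Fin j → A) →ₗ[A] M, Function.Injective Φ ∧
        ∀ p : PrimeSpectrum A, p.asIdeal.height ≤ k →
          Nonempty (LocalizedModule p.asIdeal.primeCompl (M ⧸ LinearMap.range Φ)
            ≃ₗ[Localization.AtPrime p.asIdeal] (Fin k → Localization.AtPrime p.asIdeal)) := by
  intro j
  induction j with
  | zero =>
    intro M _ _ _ hM
    refine ⟨0, fun a b _ => Subsingleton.elim a b, fun p hp => ?_⟩
    obtain ⟨e⟩ := hM p hp
    have hbot : LinearMap.range (0 : (Fin 0 → A) →ₗ[A] M) = ⊥ := LinearMap.range_zero
    let e0 : (M ⧸ LinearMap.range (0 : (Fin 0 → A) →ₗ[A] M)) ≃ₗ[A] M :=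
      Submodule.quotEquivOfEqBot _ hbot
    exact ⟨(IsLocalizedModule.mapEquiv p.asIdeal.primeCompl
      (LocalizedModule.mkLinearMap _ _) (LocalizedModule.mkLinearMap _ _)
      (Localization.AtPrime p.asIdeal) e0).trans e⟩
  | succ j ih =>
    intro M _ _ _ hM
    have hr : ∀ p : PrimeSpectrum A, p.asIdeal.height ≤ k →
        Module.finrank p.asIdeal.ResidueField (p.asIdeal.ResidueField ⊗[A] M) = k + j + 1 :=
      fun p hp => by
        obtain ⟨e⟩ := hM p hp
        exact finrank_fibre_eq p _ e
    obtain ⟨y, hy⟩ := exists_basic k (k + j + 1) (by omega) hr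
    have hM' : ∀ p : PrimeSpectrum A, p.asIdeal.height ≤ k →
        Nonempty (LocalizedModule p.asIdeal.primeCompl (M ⧸ Submodule.span A {y})
          ≃ₗ[Localization.AtPrime p.asIdeal] (Fin (k + j) → Localization.AtPrime p.asIdeal)) :=
      fun p hp => by
        obtain ⟨e⟩ := hM p hp
        exact nonempty_quotient_equiv p (k + j) e y (hy p hp)
    obtain ⟨Φ', hΦ'inj, hΦ'⟩ := ih (M ⧸ Submodule.span A {y}) hM'
    obtain ⟨Φ'', hΦ''⟩ := Module.projective_lifting_property (Submodule.span A {y}).mkQ Φ'
      (Submodule.mkQ_surjective _)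
    have hΦ''a : ∀ d, (Submodule.span A {y}).mkQ (Φ'' d) = Φ' d := fun d =>
      LinearMap.congr_fun hΦ'' d
    have hann : ∀ a : A, a • y = 0 → a = 0 := by
      intro a ha
      by_contra hne
      obtain ⟨P, hP, hle⟩ := exists_le_isAssociatedPrime_of_isNoetherianRing A a hne
      have hPk := hAss P hP
      have hPp := hP.isPrime
      obtain ⟨e⟩ := hM ⟨P, hPp⟩ hPk
      obtain ⟨s, hs, hsa⟩ := exists_mul_eq_zero ⟨P, hPp⟩ (k + j) e y (hy _ hPk) a ha
      exact hs (hle (by rw [Submodule.mem_colon_singleton]; simpa using hsa))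
    let Φ : (Fin (j + 1) → A) →ₗ[A] M :=
      (LinearMap.toSpanSingleton A M y) ∘ₗ (LinearMap.proj 0) +
        Φ'' ∘ₗ (LinearMap.funLeft A A Fin.succ)
    have hΦa : ∀ c : Fin (j + 1) → A, Φ c = c 0 • y + Φ'' (fun i => c i.succ) := fun c => rfl
    have hmkQ : ∀ c : Fin (j + 1) → A,
        (Submodule.span A {y}).mkQ (Φ c) = Φ' (fun i => c i.succ) := by
      intro c
      rw [hΦa, map_add, hΦ''a, map_smul]
      have : (Submodule.span A {y}).mkQ y = 0 := by
        rw [Submodule.mkQ_apply, Submodule.Quotient.mk_eq_zero]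
        exact Submodule.mem_span_singleton_self y
      rw [this, smul_zero, zero_add]
    have hΦinj : Function.Injective Φ := by
      rw [injective_iff_map_eq_zero]
      intro (c : Fin (j + 1) → A) hc
      have h1 : Φ' (fun i : Fin j => c i.succ) = 0 := by rw [← hmkQ, hc, map_zero]
      have h2 : (fun i : Fin j => c i.succ) = 0 :=
        (injective_iff_map_eq_zero Φ').mp hΦ'inj _ h1
      have h3 : c 0 • y = 0 := by
        have := hΦa c
        rw [hc, h2, map_zero, add_zero] at this
        exact this.symm
      have h4 := hann _ h3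
      ext i
      refine Fin.cases ?_ (fun l => ?_) i
      · simpa using h4
      · simpa using congr_fun h2 l
    have hrange : LinearMap.range Φ =
        (LinearMap.range Φ').comap (Submodule.span A {y}).mkQ := by
      apply le_antisymm
      · rintro _ ⟨c, rfl⟩
        rw [Submodule.mem_comap, hmkQ]
        exact ⟨_, rfl⟩
      · intro m hm
        rw [Submodule.mem_comap] at hm
        obtain ⟨d, hd⟩ := hm
        have h1 : m - Φ'' d ∈ Submodule.span A {y} := by
          rw [← Submodule.Quotient.mk_eq_zero, Submodule.Quotient.mk_sub, sub_eq_zero]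
          rw [← Submodule.mkQ_apply, ← Submodule.mkQ_apply, hΦ''a, hd]
        obtain ⟨a, ha⟩ := Submodule.mem_span_singleton.mp h1
        refine ⟨Fin.cons a d, ?_⟩
        rw [hΦa]
        simp only [Fin.cons_zero, Fin.cons_succ]
        rw [ha]
        abel
    refine ⟨Φ, hΦinj, fun p hp => ?_⟩
    obtain ⟨e'⟩ := hΦ' p hp
    have hle : Submodule.span A {y} ≤ LinearMap.range Φ := by
      intro m hm
      rw [hrange, Submodule.mem_comap]
      have : (Submodule.span A {y}).mkQ m = 0 := by
        rw [Submodule.mkQ_apply, Submodule.Quotient.mk_eq_zero]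
        exact hm
      rw [this]
      exact Submodule.zero_mem _
    have hmap : (LinearMap.range Φ).map (Submodule.span A {y}).mkQ = LinearMap.range Φ' := by
      rw [hrange, Submodule.map_comap_eq_of_surjective (Submodule.mkQ_surjective _)]
    let etot : (M ⧸ LinearMap.range Φ) ≃ₗ[A]
        ((M ⧸ Submodule.span A {y}) ⧸ LinearMap.range Φ') :=
      (Submodule.quotientQuotientEquivQuotient _ _ hle).symm.trans
        (Submodule.quotEquivOfEq _ _ hmap)
    exact ⟨(IsLocalizedModule.mapEquiv p.asIdeal.primeCompl
      (LocalizedModule.mkLinearMap _ _) (LocalizedModule.mkLinearMap _ _)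
      (Localization.AtPrime p.asIdeal) etot).trans e'⟩

end Groth.Agent.Lib.Helper99.BasicEl
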