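import Mathlib

set_option autoImplicit false
universe u v w

namespace Groth.Agent.Lib.Helper99.Rees
open Polynomial

attribute [local instance] Polynomial.algebra

variable {K : Type u} [Field K] {A : Type v} [CommRing A] [Algebra K A]
variable {ι : Type w} (b : Module.Basis ι K A) (U : ι → ℕ)

/-- the filtration spanned by the basis vectors of weight at most `k` -/
def Fil (k : ℕ) : Submodule K A := Submodule.span K (b '' {i | U i ≤ k})

lemma Fil_mono {k l : ℕ} (h : k ≤ l) : Fil b U k ≤ Fil b U l :=
  Submodule.span_mono (Set.image_mono (fun _ hi => le_trans hi h))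

lemma basis_mem_Fil (i : ι) {k : ℕ} (h : U i ≤ k) : b i ∈ Fil b U k :=
  Submodule.subset_span ⟨i, h, rfl⟩

lemma mem_Fil_iff (a : A) (k : ℕ) : a ∈ Fil b U k ↔ ∀ i, b.repr a i ≠ 0 → U i ≤ k := by
  unfold Fil
  rw [Module.Basis.mem_span_image]
  constructor
  · intro h i hi
    exact h (Finsupp.mem_support_iff.2 hi)
  · intro h i hi
    exact h i (Finsupp.mem_support_iff.1 hi)

/-- the multiplicativity hypotheses on the weights -/
structure IsMul : Prop where
  one_mem : (1 : A) ∈ Fil b U 0
  mul_mem : ∀ i j, b i * b j ∈ Fil b U (U i + U j)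

variable {b U}

lemma Fil_mul (h : IsMul b U) {k l : ℕ} {a a' : A} (ha : a ∈ Fil b U k) (ha' : a' ∈ Fil b U l) :
    a * a' ∈ Fil b U (k + l) := by
  have hle : Fil b U k * Fil b U l ≤ Fil b U (k + l) := by
    unfold Fil
    rw [Submodule.span_mul_span, Submodule.span_le]
    rintro _ ⟨_, ⟨i, hi, rfl⟩, _, ⟨j, hj, rfl⟩, rfl⟩
    exact Fil_mono b U (Nat.add_le_add hi hj) (h.mul_mem i j)
  exact hle (Submodule.mul_mem_mul ha ha')

lemma algebraMap_mem_Fil (h : IsMul b U) (c : K) (k : ℕ) : algebraMap K A c ∈ Fil b U k := by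
  rw [Algebra.algebraMap_eq_smul_one]
  exact Submodule.smul_mem _ _ (Fil_mono b U (Nat.zero_le k) h.one_mem)

/-- the Rees algebra of the filtration, inside `A[X]` -/
def rees (h : IsMul b U) : Subalgebra K[X] A[X] where
  carrier := {f | ∀ k, f.coeff k ∈ Fil b U k}
  mul_mem' := by
    intro f g hf hg k
    rw [coeff_mul]
    apply Submodule.sum_mem
    rintro ⟨p, q⟩ hpq
    have : p + q = k := by simpa using hpq
    rw [← this]
    exact Fil_mul h (hf p) (hg q)
  add_mem' := by
    intro f g hf hg k
    rw [coeff_add]
    exact Submodule.add_mem _ (hf k) (hg k)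
  algebraMap_mem' := by
    intro p k
    rw [Polynomial.algebraMap_def, coe_mapRingHom, coeff_map]
    exact algebraMap_mem_Fil h _ k

lemma mem_rees (h : IsMul b U) (f : A[X]) : f ∈ rees h ↔ ∀ k, f.coeff k ∈ Fil b U k := Iff.rfl

/-- the basis vectors of the Rees algebra -/
noncomputable def Bv (b : Module.Basis ι K A) (U : ι → ℕ) (i : ι) : A[X] := monomial (U i) (b i)

lemma Bv_mem (h : IsMul b U) (i : ι) : Bv b U i ∈ rees h := by
  intro k
  unfold Bv
  rw [coeff_monomial]
  split_ifs with hk
  · exact basis_mem_Fil b U i (le_of_eq hk)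
  · exact Submodule.zero_mem _

lemma smul_Bv_coeff (p : K[X]) (i : ι) (k : ℕ) :
    (p • Bv b U i).coeff k = (if U i ≤ k then p.coeff (k - U i) else 0) • b i := by
  rw [Algebra.smul_def, Polynomial.algebraMap_def, coe_mapRingHom]
  unfold Bv
  rw [← C_mul_X_pow_eq_monomial, ← mul_assoc, coeff_mul_X_pow', coeff_mul_C, coeff_map]
  split_ifs with hk
  · rw [Algebra.smul_def]
  · rw [zero_smul]

theorem linearIndependent_Bv : LinearIndependent K[X] (Bv b U) := by
  classical
  rw [linearIndependent_iff]
  intro l hl
  rw [Finsupp.linearCombination_apply] at hl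
  ext i m
  rw [Finsupp.zero_apply, coeff_zero]
  have hk := congrArg (fun f : A[X] => f.coeff (m + U i)) hl
  simp only [coeff_zero] at hk
  rw [Finsupp.sum, finsetSum_coeff] at hk
  simp_rw [smul_Bv_coeff] at hk
  have hli := b.linearIndependent
  rw [linearIndependent_iff'] at hli
  by_cases hi : i ∈ l.support
  · have := hli l.support (fun j => if U j ≤ m + U i then (l j).coeff (m + U i - U j) else 0) hk i hi
    rw [if_pos (Nat.le_add_left _ _), Nat.add_sub_cancel] at this
    exact this
  · rw [Finsupp.notMem_support_iff.1 hi, coeff_zero]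

theorem span_Bv (h : IsMul b U) :
    Submodule.span K[X] (Set.range (Bv b U)) = Subalgebra.toSubmodule (rees h) := by
  apply le_antisymm
  · rw [Submodule.span_le]
    rintro _ ⟨i, rfl⟩
    exact Bv_mem h i
  · intro f hf
    rw [Subalgebra.mem_toSubmodule] at hf
    rw [f.as_sum_support]
    apply Submodule.sum_mem
    intro k _
    have hk := hf k
    -- monomial k a for a in Fil k
    have key : ∀ a ∈ Fil b U k, (monomial k a : A[X]) ∈ Submodule.span K[X] (Set.range (Bv b U)) := by
      intro a ha
      unfold Fil at ha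
      induction ha using Submodule.span_induction with
      | mem a ha =>
        obtain ⟨i, hi, rfl⟩ := ha
        have : (monomial k (b i) : A[X]) = (X ^ (k - U i) : K[X]) • Bv b U i := by
          rw [Algebra.smul_def, Polynomial.algebraMap_def, coe_mapRingHom, Polynomial.map_pow, map_X]
          unfold Bv
          rw [X_pow_mul_monomial]
          have : U i ≤ k := hi
          rw [Nat.add_sub_cancel' this]
        rw [this]
        exact Submodule.smul_mem _ _ (Submodule.subset_span ⟨i, rfl⟩)
      | zero => rw [map_zero]; exact Submodule.zero_mem _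
      | add a a' _ _ ha ha' => rw [map_add]; exact Submodule.add_mem _ ha ha'
      | smul c a _ ha =>
        have : (monomial k (c • a) : A[X]) = (C c : K[X]) • monomial k a := by
          rw [Algebra.smul_def (C c : K[X]), Polynomial.algebraMap_def, coe_mapRingHom, map_C, C_mul_monomial,
            Algebra.smul_def]
        rw [this]
        exact Submodule.smul_mem _ _ ha
    exact key _ hk

end Groth.Agent.Lib.Helper99.Rees
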