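import Mathlib
import Groth.Agent.Lib.Helper99.ReesA

set_option autoImplicit false
universe u v w

namespace Groth.Agent.Lib.Helper99.Rees
open Polynomial

attribute [local instance] Polynomial.algebra

variable {K : Type u} [Field K] {A : Type v} [CommRing A] [Algebra K A]
variable {ι : Type w} {b : Module.Basis ι K A} {U : ι → ℕ}

theorem free_rees (h : IsMul b U) : Module.Free K[X] (rees h) := by
  have hfree : Module.Free K[X] (Submodule.span K[X] (Set.range (Bv b U))) :=
    Module.Free.of_basis (Module.Basis.span linearIndependent_Bv)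
  exact Module.Free.of_equiv ((LinearEquiv.ofEq _ _ (span_Bv h)).trans
    (Subalgebra.toSubmoduleEquiv (rees h)))

theorem exists_rep (h : IsMul b U) (f : A[X]) (hf : f ∈ rees h) :
    ∃ l : ι →₀ K[X], (l.sum fun i p => p • Bv b U i) = f := by
  have : f ∈ Submodule.span K[X] (Set.range (Bv b U)) := by
    rw [span_Bv h]; exact hf
  rwa [Finsupp.mem_span_range_iff_exists_finsupp] at this

theorem sum_smul_Bv_mem (h : IsMul b U) (l : ι →₀ K[X]) :
    (l.sum fun i p => p • Bv b U i) ∈ rees h := by
  have : (l.sum fun i p => p • Bv b U i) ∈ Submodule.span K[X] (Set.range (Bv b U)) := by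
    rw [Finsupp.mem_span_range_iff_exists_finsupp]; exact ⟨l, rfl⟩
  rw [span_Bv h] at this
  exact this

/-- evaluation at a scalar `c`, as a `K`-algebra map `A[X] → A` -/
noncomputable def evc (c : K) : A[X] →ₐ[K] A :=
  (Polynomial.aeval (algebraMap K A c)).restrictScalars K

lemma evc_apply (c : K) (f : A[X]) : evc c f = f.eval (algebraMap K A c) := by
  unfold evc
  rw [AlgHom.restrictScalars_apply, Polynomial.coe_aeval_eq_eval]

lemma evc_smul_Bv (c : K) (p : K[X]) (i : ι) :
    evc c (p • Bv b U i) = (p.eval c * c ^ U i) • b i := by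
  rw [evc_apply, Algebra.smul_def, Polynomial.algebraMap_def, coe_mapRingHom, eval_mul, eval_map_algebraMap]
  unfold Bv
  rw [eval_monomial, Polynomial.aeval_algebraMap_apply, Polynomial.aeval_def]
  have : eval₂ (algebraMap K K) c p = eval c p := rfl
  rw [this, Algebra.smul_def, map_mul, map_pow]
  ring

theorem evc_rep (c : K) (l : ι →₀ K[X]) :
    evc c (l.sum fun i p => p • Bv b U i) = l.sum fun i p => (p.eval c * c ^ U i) • b i := by
  rw [Finsupp.sum, map_sum]
  apply Finset.sum_congr rfl
  intro i _
  exact evc_smul_Bv c (l i) i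

end Groth.Agent.Lib.Helper99.Rees
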