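import Mathlib
import Groth.Agent.Lib.Helper99.ReesA
import Groth.Agent.Lib.Helper99.ReesB

set_option autoImplicit false
universe u v w

namespace Groth.Agent.Lib.Helper99.Rees
open Polynomial

attribute [local instance] Polynomial.algebra

variable {K : Type u} [Field K] {A : Type v} [CommRing A] [Algebra K A]
variable {ι : Type w} {b : Module.Basis ι K A} {U : ι → ℕ}

/-- restriction of the evaluation at `c` to the Rees algebra -/
noncomputable def phic (h : IsMul b U) (c : K) : rees h →ₐ[K] A :=
  (evc c).comp ((rees h).val.restrictScalars K)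

lemma phic_apply (h : IsMul b U) (c : K) (f : rees h) : phic h c f = evc c (f : A[X]) := rfl

theorem phic_surjective (h : IsMul b U) (c : K) (hc : c ≠ 0) : Function.Surjective (phic h c) := by
  intro a
  let l : ι →₀ K[X] := (b.repr a).mapRange (fun x => C x) (by simp)
  let l' : ι →₀ K[X] := Finsupp.onFinset (b.repr a).support (fun i => C (b.repr a i * (c ^ U i)⁻¹))
    (by
      intro i hi
      rw [Finsupp.mem_support_iff]
      intro h0
      apply hi
      rw [h0, zero_mul, map_zero])
  refine ⟨⟨_, sum_smul_Bv_mem h l'⟩, ?_⟩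
  rw [phic_apply]
  simp only
  rw [evc_rep]
  conv_rhs => rw [← b.linearCombination_repr a, Finsupp.linearCombination_apply]
  rw [Finsupp.sum, Finsupp.sum]
  have hsupp : l'.support ⊆ (b.repr a).support := by
    intro i hi
    rw [Finsupp.mem_support_iff] at hi ⊢
    intro h0
    apply hi
    simp only [l', Finsupp.onFinset_apply]
    rw [h0, zero_mul, map_zero]
  rw [Finset.sum_subset hsupp]
  · apply Finset.sum_congr rfl
    intro i _
    simp only [l', Finsupp.onFinset_apply, eval_C]
    rw [mul_assoc, inv_mul_cancel₀ (pow_ne_zero _ hc), mul_one]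
  · intro i _ hi
    rw [Finsupp.notMem_support_iff.1 hi, eval_zero, zero_mul, zero_smul]

theorem ker_phic (h : IsMul b U) (c : K) (hc : c ≠ 0) :
    RingHom.ker (phic h c).toRingHom = Ideal.span {algebraMap K[X] (rees h) (X - C c)} := by
  classical
  apply le_antisymm
  · intro f hf
    have hf' : evc c (f : A[X]) = 0 := hf
    obtain ⟨l, hl⟩ := exists_rep h (f : A[X]) f.2
    rw [← hl, evc_rep] at hf'
    have hli := b.linearIndependent
    rw [linearIndependent_iff'] at hli
    have hroot : ∀ i, (l i).IsRoot c := by
      intro i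
      by_cases hi : i ∈ l.support
      · have := hli l.support (fun i => (l i).eval c * c ^ U i) hf' i hi
        rcases mul_eq_zero.1 this with h0 | h0
        · exact h0
        · exact absurd h0 (pow_ne_zero _ hc)
      · rw [Finsupp.notMem_support_iff.1 hi]; exact eval_zero
    let q : ι →₀ K[X] := l.mapRange (fun p => p / (X - C c)) (by simp)
    have hq : ∀ i, (X - C c) * q i = l i := by
      intro i
      simp only [q, Finsupp.mapRange_apply]
      exact Polynomial.mul_div_eq_iff_isRoot.2 (hroot i)
    rw [Ideal.mem_span_singleton']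
    refine ⟨⟨_, sum_smul_Bv_mem h q⟩, ?_⟩
    apply Subtype.ext
    rw [← hl]
    show (⟨_, sum_smul_Bv_mem h q⟩ : rees h).1 * (algebraMap K[X] (rees h) (X - C c) : rees h).1 = _
    have e1 : ((algebraMap K[X] (rees h) (X - C c) : rees h) : A[X]) = algebraMap K[X] A[X] (X - C c) := rfl
    rw [e1, mul_comm, ← Algebra.smul_def]
    unfold Finsupp.sum
    rw [Finset.smul_sum]
    have hsupp : q.support ⊆ l.support := by
      intro i hi
      rw [Finsupp.mem_support_iff] at hi ⊢
      intro h0
      apply hi
      simp only [q, Finsupp.mapRange_apply, h0]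
      exact EuclideanDomain.zero_div
    rw [Finset.sum_subset hsupp]
    · apply Finset.sum_congr rfl
      intro i _
      rw [smul_smul, hq]
    · intro i _ hi
      simp only
      rw [Finsupp.notMem_support_iff.1 hi, zero_smul, smul_zero]
  · rw [Ideal.span_le, Set.singleton_subset_iff]
    show phic h c (algebraMap K[X] (rees h) (X - C c)) = 0
    rw [phic_apply]
    have e1 : ((algebraMap K[X] (rees h) (X - C c) : rees h) : A[X]) = algebraMap K[X] A[X] (X - C c) := rfl
    rw [e1, evc_apply, Polynomial.algebraMap_def, coe_mapRingHom, eval_map_algebraMap]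
    simp

/-- the fibre of the Rees algebra at `c ≠ 0` is `A` -/
noncomputable def fiberEquiv (h : IsMul b U) (c : K) (hc : c ≠ 0) :
    (rees h ⧸ Ideal.span {algebraMap K[X] (rees h) (X - C c)}) ≃ₐ[K] A :=
  (Ideal.quotientEquivAlgOfEq K (ker_phic h c hc).symm).trans
    (Ideal.quotientKerAlgEquivOfSurjective (phic_surjective h c hc))

end Groth.Agent.Lib.Helper99.Rees
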