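import Mathlib
import Groth.Agent.Lib.Helper99.ReesC

set_option autoImplicit false
universe u v w

namespace Groth.Agent.Lib.Helper99.Rees
open Polynomial

attribute [local instance] Polynomial.algebra

variable {K : Type u} [Field K] {A : Type v} [CommRing A] [Algebra K A]
variable {ι : Type w} {b : Module.Basis ι K A} {U : ι → ℕ}

/-- coefficient extraction along the basis of the Rees algebra -/
lemma lam_rep (l : ι →₀ K[X]) (i : ι) :
    b.repr ((l.sum fun j p => p • Bv b U j).coeff (U i)) i = (l i).coeff 0 := by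
  classical
  rw [Finsupp.sum, finsetSum_coeff, map_sum, Finsupp.finsetSum_apply]
  simp_rw [smul_Bv_coeff, map_smul, Finsupp.smul_apply, Module.Basis.repr_self]
  rw [Finset.sum_eq_single i]
  · rw [if_pos le_rfl, Nat.sub_self, Finsupp.single_eq_same, smul_eq_mul, mul_one]
  · intro j _ hji
    rw [Finsupp.single_eq_of_ne hji.symm, smul_zero]
  · intro hi
    rw [Finsupp.notMem_support_iff.1 hi, coeff_zero]
    simp

/-- the distinguished elements of the Rees algebra -/
noncomputable def Br (h : IsMul b U) (i : ι) : rees h := ⟨Bv b U i, Bv_mem h i⟩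

/-- the special fibre -/
abbrev Q0 (h : IsMul b U) : Type _ := rees h ⧸ Ideal.span {algebraMap K[X] (rees h) X}

/-- classes of the distinguished elements in the special fibre -/
noncomputable def Bq (h : IsMul b U) (i : ι) : Q0 h := Ideal.Quotient.mk _ (Br h i)

lemma coe_sum_smul_Br (h : IsMul b U) (s : Finset ι) (g : ι → K) :
    ((∑ i ∈ s, g i • Br h i : rees h) : A[X]) = ∑ i ∈ s, (C (g i) : K[X]) • Bv b U i := by
  rw [AddSubmonoidClass.coe_finsetSum]
  apply Finset.sum_congr rfl
  intro i _
  show g i • Bv b U i = (C (g i) : K[X]) • Bv b U i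
  rw [Algebra.smul_def (C (g i) : K[X]), Polynomial.algebraMap_def, coe_mapRingHom, map_C,
    Algebra.smul_def]
  rfl

theorem linearIndependent_Bq (h : IsMul b U) : LinearIndependent K (Bq h) := by
  classical
  rw [linearIndependent_iff']
  intro s g hsum i0 hi0
  have hmem : (∑ i ∈ s, g i • Br h i : rees h) ∈ Ideal.span {algebraMap K[X] (rees h) X} := by
    rw [← Ideal.Quotient.eq_zero_iff_mem, map_sum, ← hsum]
    apply Finset.sum_congr rfl
    intro i _
    exact map_smul (Ideal.Quotient.mkₐ K (Ideal.span {algebraMap K[X] (rees h) X})) (g i) (Br h i)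
  rw [Ideal.mem_span_singleton'] at hmem
  obtain ⟨r, hr⟩ := hmem
  obtain ⟨l, hl⟩ := exists_rep h (r : A[X]) r.2
  have hr' : ((r * algebraMap K[X] (rees h) X : rees h) : A[X]) =
      ((∑ i ∈ s, g i • Br h i : rees h) : A[X]) := congrArg (fun x : rees h => (x : A[X])) hr
  rw [coe_sum_smul_Br] at hr'
  have e1 : ((r * algebraMap K[X] (rees h) X : rees h) : A[X]) = (X : K[X]) • (r : A[X]) := by
    rw [Algebra.smul_def, mul_comm]; rfl
  rw [e1, ← hl] at hr'
  -- both sides as combinations
  let l1 : ι →₀ K[X] := l.mapRange (fun p => X * p) (by simp)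
  let l2 : ι →₀ K[X] := Finsupp.onFinset s (fun i => if i ∈ s then C (g i) else 0) (by
    intro i hi
    by_contra hn
    exact hi (if_neg hn))
  have h1 : (X : K[X]) • (l.sum fun j p => p • Bv b U j) = l1.sum fun j p => p • Bv b U j := by
    rw [Finsupp.sum_mapRange_index (by intro j; rw [zero_smul])]
    unfold Finsupp.sum
    rw [Finset.smul_sum]
    apply Finset.sum_congr rfl
    intro j _
    rw [smul_smul]
  have h2 : ∑ i ∈ s, (C (g i) : K[X]) • Bv b U i = l2.sum fun j p => p • Bv b U j := by
    rw [Finsupp.onFinset_sum]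
    · apply Finset.sum_congr rfl
      intro j hj
      rw [if_pos hj]
    · intro j; rw [zero_smul]
  rw [h1, h2] at hr'
  have := congrArg (fun f : A[X] => b.repr (f.coeff (U i0)) i0) hr'
  change b.repr ((l1.sum fun j p => p • Bv b U j).coeff (U i0)) i0 =
    b.repr ((l2.sum fun j p => p • Bv b U j).coeff (U i0)) i0 at this
  rw [lam_rep, lam_rep] at this
  simp only [l1, l2, Finsupp.mapRange_apply, Finsupp.onFinset_apply] at this
  rw [if_pos hi0, coeff_C_zero] at this
  rw [← this]
  simp

theorem span_Bq (h : IsMul b U) : Submodule.span K (Set.range (Bq h)) = ⊤ := by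
  classical
  rw [eq_top_iff]
  rintro x -
  obtain ⟨f, rfl⟩ := Ideal.Quotient.mk_surjective x
  obtain ⟨l, hl⟩ := exists_rep h (f : A[X]) f.2
  -- split off the constant terms
  have hdecomp : f = ∑ j ∈ l.support, (l j).coeff 0 • Br h j +
      (⟨_, sum_smul_Bv_mem h (l.mapRange divX (by simp))⟩ : rees h) * algebraMap K[X] (rees h) X := by
    apply Subtype.ext
    rw [← hl]
    show _ = ((∑ j ∈ l.support, (l j).coeff 0 • Br h j : rees h) : A[X]) +
      (l.mapRange divX (by simp)).sum (fun j p => p • Bv b U j) * algebraMap K[X] A[X] X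
    rw [coe_sum_smul_Br, mul_comm, ← Algebra.smul_def,
      Finsupp.sum_mapRange_index (by intro j; rw [zero_smul])]
    unfold Finsupp.sum
    rw [Finset.smul_sum, ← Finset.sum_add_distrib]
    apply Finset.sum_congr rfl
    intro j _
    rw [smul_smul, ← add_smul]
    congr 1
    rw [add_comm, mul_comm]
    exact (divX_mul_X_add (l j)).symm
  rw [hdecomp, map_add]
  have h0 : Ideal.Quotient.mk (Ideal.span {algebraMap K[X] (rees h) X})
      ((⟨_, sum_smul_Bv_mem h (l.mapRange divX (by simp))⟩ : rees h) * algebraMap K[X] (rees h) X) = 0 := by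
    rw [Ideal.Quotient.eq_zero_iff_mem]
    exact Ideal.mul_mem_left _ _ (Ideal.subset_span rfl)
  rw [h0, add_zero, map_sum]
  apply Submodule.sum_mem
  intro j _
  have : Ideal.Quotient.mk (Ideal.span {algebraMap K[X] (rees h) X}) ((l j).coeff 0 • Br h j) =
      (l j).coeff 0 • Bq h j :=
    map_smul (Ideal.Quotient.mkₐ K (Ideal.span {algebraMap K[X] (rees h) X})) _ _
  rw [this]
  exact Submodule.smul_mem _ _ (Submodule.subset_span ⟨j, rfl⟩)

/-- criterion identifying the special fibre -/
theorem bijective_of_span {B' : Type*} [CommRing B'] [Algebra K B'] (h : IsMul b U)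
    (ψ : B' →ₐ[K] Q0 h) (β : ι → B') (hβ : Submodule.span K (Set.range β) = ⊤)
    (hψ : ∀ i, ψ (β i) = Bq h i) : Function.Bijective ψ := by
  constructor
  · rw [injective_iff_map_eq_zero]
    intro x hx
    have hxs : x ∈ Submodule.span K (Set.range β) := by rw [hβ]; trivial
    rw [Finsupp.mem_span_range_iff_exists_finsupp] at hxs
    obtain ⟨l, rfl⟩ := hxs
    have hli := linearIndependent_Bq h
    rw [linearIndependent_iff] at hli
    have : l = 0 := by
      apply hli
      rw [Finsupp.linearCombination_apply, ← hx, Finsupp.sum, Finsupp.sum, map_sum]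
      apply Finset.sum_congr rfl
      intro i _
      rw [map_smul, hψ]
    rw [this, Finsupp.sum_zero_index]
  · intro y
    have hys : y ∈ Submodule.span K (Set.range (Bq h)) := by rw [span_Bq h]; trivial
    rw [Finsupp.mem_span_range_iff_exists_finsupp] at hys
    obtain ⟨l, rfl⟩ := hys
    refine ⟨l.sum fun i a => a • β i, ?_⟩
    rw [Finsupp.sum, Finsupp.sum, map_sum]
    apply Finset.sum_congr rfl
    intro i _
    rw [map_smul, hψ]

end Groth.Agent.Lib.Helper99.Rees

namespace Groth.Agent.Lib.Helper99.Rees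
open Polynomial

attribute [local instance] Polynomial.algebra

variable {K : Type u} [Field K] {A : Type v} [CommRing A] [Algebra K A]
variable {ι : Type w} {b : Module.Basis ι K A} {U : ι → ℕ}

lemma prod_monomial {ι' : Type*} (s : Finset ι') (n : ι' → ℕ) (a : ι' → A) :
    ∏ k ∈ s, (monomial (n k) (a k) : A[X]) = monomial (∑ k ∈ s, n k) (∏ k ∈ s, a k) := by
  classical
  induction s using Finset.induction_on with
  | empty => simp
  | insert x s hx ih =>
    rw [Finset.prod_insert hx, Finset.sum_insert hx, Finset.prod_insert hx, ih, monomial_mul_monomial]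

lemma monomial_mem_rees (h : IsMul b U) {k : ℕ} {a : A} (ha : a ∈ Fil b U k) :
    (monomial k a : A[X]) ∈ rees h := by
  intro m
  rw [coeff_monomial]
  split_ifs with hm
  · rw [← hm]; exact ha
  · exact Submodule.zero_mem _

/-- a monomial whose coefficient lies one step lower in the filtration dies in the special fibre -/
lemma mk_monomial_succ_eq_zero (h : IsMul b U) {k : ℕ} {a : A} (ha : a ∈ Fil b U k) :
    (Ideal.Quotient.mk (Ideal.span {algebraMap K[X] (rees h) X})
      (⟨monomial (k + 1) a, monomial_mem_rees h (Fil_mono b U (Nat.le_succ k) ha)⟩ : rees h) : Q0 h) = 0 := by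
  rw [Ideal.Quotient.eq_zero_iff_mem, Ideal.mem_span_singleton']
  refine ⟨⟨monomial k a, monomial_mem_rees h ha⟩, ?_⟩
  apply Subtype.ext
  show (monomial k a : A[X]) * algebraMap K[X] A[X] X = monomial (k + 1) a
  rw [Polynomial.algebraMap_def, coe_mapRingHom, map_X, monomial_mul_X]

end Groth.Agent.Lib.Helper99.Rees
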