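import Mathlib

set_option autoImplicit false
universe u

namespace Groth.Agent.Lib.Helper99.SMT
open MvPolynomial
open scoped MonomialOrder

section Indep
variable {σ : Type*} {K : Type*} [CommRing K] (m : MonomialOrder σ)

/-- polynomials that are monic with pairwise distinct leading monomials are linearly independent -/
theorem linearIndependent_of_monic_of_degree_injective {ι : Type*} (v : ι → MvPolynomial σ K)
    (hmonic : ∀ i, m.Monic (v i)) (hinj : Function.Injective fun i => m.degree (v i)) :
    LinearIndependent K v := by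
  classical
  rw [linearIndependent_iff']
  intro s g hsum
  by_contra hcon
  push Not at hcon
  obtain ⟨i0, hi0, hg0⟩ := hcon
  -- the nonzero coefficients
  set s' := s.filter (fun i => g i ≠ 0) with hs'
  have hne : s'.Nonempty := ⟨i0, Finset.mem_filter.2 ⟨hi0, hg0⟩⟩
  obtain ⟨i1, hi1, hmax⟩ := Finset.exists_max_image s' (fun i => m.toSyn (m.degree (v i))) hne
  have hcoef := congrArg (coeff (m.degree (v i1))) hsum
  rw [coeff_sum, coeff_zero] at hcoef
  rw [Finset.sum_eq_single i1] at hcoef
  · rw [coeff_smul, (hmonic i1).coeff_degree, smul_eq_mul, mul_one] at hcoef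
    exact (Finset.mem_filter.1 hi1).2 hcoef
  · intro i his hii1
    by_cases hgi : g i = 0
    · rw [hgi, zero_smul, coeff_zero]
    · have hi' : i ∈ s' := Finset.mem_filter.2 ⟨his, hgi⟩
      have hle := hmax i hi'
      have hlt : m.toSyn (m.degree (v i)) < m.toSyn (m.degree (v i1)) := by
        apply lt_of_le_of_ne hle
        intro heq
        exact hii1 (hinj (m.toSyn.injective heq))
      rw [coeff_smul, m.coeff_eq_zero_of_lt hlt, smul_zero]
  · intro hi1s
    exact absurd (Finset.mem_filter.1 hi1).1 hi1s

end Indep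

section ZeroBlock
variable {R : Type*} [CommRing R]

theorem det_eq_zero_of_zero_block {d : ℕ} (N : Matrix (Fin d) (Fin d) R) (Pr Pc : Finset (Fin d))
    (hcard : d < Pr.card + Pc.card) (h0 : ∀ s ∈ Pr, ∀ c ∈ Pc, N s c = 0) : N.det = 0 := by
  classical
  rw [Matrix.det_apply]
  apply Finset.sum_eq_zero
  intro π _
  have hex : ∃ c ∈ Pc, π c ∈ Pr := by
    by_contra hcon
    push Not at hcon
    have hdisj : Disjoint Pc (Pr.map π.symm.toEmbedding) := by
      rw [Finset.disjoint_left]
      intro c hc hc'
      rw [Finset.mem_map] at hc'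
      obtain ⟨s, hs, hsc⟩ := hc'
      apply hcon c hc
      rw [← hsc]
      simpa using hs
    have h1 := Finset.card_union_of_disjoint hdisj
    have h2 : (Pc ∪ Pr.map π.symm.toEmbedding).card ≤ d := by
      have := Finset.card_le_univ (Pc ∪ Pr.map π.symm.toEmbedding)
      simpa using this
    rw [Finset.card_map] at h1
    omega
  obtain ⟨c, hc, hπc⟩ := hex
  have : ∏ i, N (π i) i = 0 := Finset.prod_eq_zero (Finset.mem_univ c) (h0 _ hπc _ hc)
  rw [this, smul_zero]

end ZeroBlock

end Groth.Agent.Lib.Helper99.SMT
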