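import Mathlib
import Groth.Prelude.Def_W4bk4grassmannianPl
import Groth.Agent.Lib.Helper99.SMTIndepA

set_option autoImplicit false
universe u

namespace Groth.Agent.Lib.Helper99.SMT
open W4bk4grassmannian MvPolynomial
open scoped MonomialOrder

variable {d n : ℕ}

/-- variables of the generic matrix ring, ordered lexicographically (row first) -/
abbrev GVar (d n : ℕ) : Type := Fin n ×ₗ Fin d

/-- exponent of the term of the permutation `π` in the minor on the rows `θ` -/
noncomputable def permExp (θ : Idx d n) (π : Equiv.Perm (Fin d)) : GVar d n →₀ ℕ :=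
  ∑ t, Finsupp.single (toLex (θ.1 (π t), t)) 1

/-- exponent of the diagonal term of the minor on the rows `θ` -/
noncomputable def diag (θ : Idx d n) : GVar d n →₀ ℕ := ∑ t, Finsupp.single (toLex (θ.1 t, t)) 1

lemma permExp_one (θ : Idx d n) : permExp θ 1 = diag θ := rfl

lemma permExp_apply (θ : Idx d n) (π : Equiv.Perm (Fin d)) (i : Fin n) (c : Fin d) :
    permExp θ π (toLex (i, c)) = if θ.1 (π c) = i then 1 else 0 := by
  classical
  unfold permExp
  rw [Finsupp.finsetSum_apply]
  rw [Finset.sum_eq_single c]
  · by_cases h : θ.1 (π c) = i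
    · rw [if_pos h, h, Finsupp.single_eq_same]
    · rw [if_neg h, Finsupp.single_eq_of_ne]
      intro heq
      apply h
      have := congrArg (fun p => (ofLex p).1) heq
      simpa using this.symm
  · intro t _ htc
    rw [Finsupp.single_eq_of_ne]
    intro heq
    apply htc
    have := congrArg (fun p => (ofLex p).2) heq
    simpa using this.symm
  · intro h; exact absurd (Finset.mem_univ c) h

/-- a monomial order for which the diagonal term of every minor is the leading one -/
def DiagLeading (m : MonomialOrder (GVar d n)) : Prop :=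
  ∀ (θ : Idx d n) (π : Equiv.Perm (Fin d)), π ≠ 1 → permExp θ π ≺[m] diag θ

theorem diagLeading_lex : DiagLeading (d := d) (n := n) MonomialOrder.lex := by
  classical
  intro θ π hπ
  rw [MonomialOrder.lex_lt_iff, Finsupp.Lex.lt_iff]
  -- least moved position
  have hex : ∃ s, π s ≠ s := by
    by_contra hcon
    push Not at hcon
    exact hπ (Equiv.ext hcon)
  obtain ⟨s0, hs0, hmin⟩ := wellFounded_lt.has_min {s : Fin d | π s ≠ s} hex
  have hfix : ∀ c, c < s0 → π c = c := by
    intro c hc
    by_contra hne
    exact hmin c hne hc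
  have hfix' : ∀ c, π c < s0 → π c = c := by
    intro c hc
    have := hfix (π c) hc
    exact π.injective this
  refine ⟨toLex (θ.1 s0, s0), ?_, ?_⟩
  · rintro ⟨i, c⟩ hlt
    change toLex (i, c) < toLex (θ.1 s0, s0) at hlt
    rw [Prod.Lex.toLex_lt_toLex] at hlt
    simp only [ofLex_toLex]
    change permExp θ π (toLex (i, c)) = permExp θ 1 (toLex (i, c))
    rw [permExp_apply, permExp_apply, Equiv.Perm.one_apply]
    rcases hlt with hlt | ⟨heq, hlt⟩
    · simp only at hlt
      by_cases h1 : θ.1 c = i
      · have hc : c < s0 := by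
          rw [← θ.2.lt_iff_lt, h1]; exact hlt
        rw [hfix c hc]
      · rw [if_neg h1, if_neg]
        intro h2
        have hc : π c < s0 := by
          rw [← θ.2.lt_iff_lt, h2]; exact hlt
        rw [hfix' c hc] at h2
        exact h1 h2
    · simp only at heq hlt
      have hc := hfix c hlt
      rw [hc]
  · simp only [ofLex_toLex]
    change permExp θ π (toLex (θ.1 s0, s0)) < permExp θ 1 (toLex (θ.1 s0, s0))
    rw [permExp_apply, permExp_apply, Equiv.Perm.one_apply, if_pos rfl, if_neg]
    · exact Nat.zero_lt_one
    · intro h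
      exact hs0 (θ.2.injective h)

end Groth.Agent.Lib.Helper99.SMT
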