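import Mathlib
import Groth.Agent.Lib.Helper99.SMTIndepB

set_option autoImplicit false
universe u

namespace Groth.Agent.Lib.Helper99.SMT
open W4bk4grassmannian MvPolynomial
open scoped MonomialOrder

variable {d n : ℕ}

/-- a staircase shape: lower and upper bounds for the rows allowed in each column -/
structure Shape (d : ℕ) where
  lo : Fin d → ℕ
  hi : Fin d → ℕ
  lo_mono : Monotone lo
  hi_mono : Monotone hi

/-- membership of an index in the interval of a shape -/
def Shape.mem (S : Shape d) (θ : Idx d n) : Prop :=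
  ∀ t, S.lo t ≤ (θ.1 t).val ∧ (θ.1 t).val ≤ S.hi t

/-- a matrix vanishing outside the shape -/
def ZeroOutside (S : Shape d) {R : Type*} [Zero R] (N : Matrix (Fin n) (Fin d) R) : Prop :=
  ∀ i t, ¬ (S.lo t ≤ i.val ∧ i.val ≤ S.hi t) → N i t = 0

theorem det_submatrix_eq_zero_of_not_mem (S : Shape d) {R : Type*} [CommRing R]
    (N : Matrix (Fin n) (Fin d) R) (hN : ZeroOutside S N) (θ : Idx d n) (hθ : ¬ S.mem θ) :
    (N.submatrix θ.1 id).det = 0 := by
  unfold Shape.mem at hθ
  push Not at hθ
  obtain ⟨t, ht⟩ := hθ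
  by_cases hlo : S.lo t ≤ (θ.1 t).val
  · have hhi := ht hlo
    apply det_eq_zero_of_zero_block _ (Finset.Ici t) (Finset.Iic t)
    · rw [Fin.card_Ici, Fin.card_Iic]; have := t.isLt; omega
    · intro s hs c hc
      rw [Finset.mem_Ici] at hs
      rw [Finset.mem_Iic] at hc
      rw [Matrix.submatrix_apply]
      apply hN
      intro hcon
      have h1 := S.hi_mono hc
      have h2 : (θ.1 t).val ≤ (θ.1 s).val := θ.2.monotone hs
      simp only [id] at hcon
      omega
  · apply det_eq_zero_of_zero_block _ (Finset.Iic t) (Finset.Ici t)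
    · rw [Fin.card_Ici, Fin.card_Iic]; have := t.isLt; omega
    · intro s hs c hc
      rw [Finset.mem_Iic] at hs
      rw [Finset.mem_Ici] at hc
      rw [Matrix.submatrix_apply]
      apply hN
      intro hcon
      have h1 := S.lo_mono hc
      have h2 : (θ.1 s).val ≤ (θ.1 t).val := θ.2.monotone hs
      simp only [id] at hcon
      omega

variable (K : Type u) [CommRing K]

/-- the polynomial ring of the generic matrix -/
abbrev GenRing (d n : ℕ) : Type u := MvPolynomial (GVar d n) K

/-- the generic matrix of a shape -/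
noncomputable def genMat (S : Shape d) : Matrix (Fin n) (Fin d) (GenRing K d n) :=
  Matrix.of fun i t => if S.lo t ≤ i.val ∧ i.val ≤ S.hi t then X (toLex (i, t)) else 0

lemma zeroOutside_genMat (S : Shape d) : ZeroOutside S (genMat (n := n) K S) := by
  intro i t h
  unfold genMat
  rw [Matrix.of_apply, if_neg h]

lemma zeroOutside_map (S : Shape d) {R R' : Type*} [Zero R] [Zero R'] (N : Matrix (Fin n) (Fin d) R)
    (hN : ZeroOutside S N) (f : R → R') (hf : f 0 = 0) : ZeroOutside S (N.map f) := by
  intro i t h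
  rw [Matrix.map_apply, hN i t h, hf]

/-- evaluation of Plücker polynomials at the minors of the generic matrix of a shape -/
noncomputable def ev (S : Shape d) : PlRing K d n →ₐ[K] GenRing K d n :=
  MvPolynomial.aeval fun θ : Idx d n => ((genMat K S).submatrix θ.1 id).det

lemma ev_X (S : Shape d) (θ : Idx d n) : ev K S (X θ) = ((genMat K S).submatrix θ.1 id).det := by
  unfold ev; rw [aeval_X]

lemma ev_X_eq_zero (S : Shape d) (θ : Idx d n) (hθ : ¬ S.mem θ) : ev K S (X θ) = 0 := by
  rw [ev_X]
  exact det_submatrix_eq_zero_of_not_mem S _ (zeroOutside_genMat K S) θ hθ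

/-- specialisation of the generic matrix at a point -/
lemma eval_ev (S : Shape d) (x : GVar d n → K) (f : PlRing K d n) :
    MvPolynomial.eval x (ev K S f) = evalMinors K d n ((genMat K S).map (MvPolynomial.eval x)) f := by
  have : (MvPolynomial.aeval x : GenRing K d n →ₐ[K] K).comp (ev K S) =
      evalMinors K d n ((genMat K S).map (MvPolynomial.eval x)) := by
    apply MvPolynomial.algHom_ext
    intro θ
    rw [AlgHom.comp_apply, ev_X]
    unfold evalMinors
    rw [aeval_X]
    rw [MvPolynomial.aeval_eq_eval, RingHom.map_det]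
    rfl
  have h2 := congrArg (fun φ => φ f) this
  simp only [AlgHom.comp_apply] at h2
  rw [← h2]
  rfl

/-- the term of a permutation in the minor of the generic matrix -/
lemma prod_genMat (S : Shape d) (θ : Idx d n) (π : Equiv.Perm (Fin d)) :
    (∏ t, (genMat K S) (θ.1 (π t)) t = monomial (permExp θ π) 1) ∨
      (∏ t, (genMat K S) (θ.1 (π t)) t = 0) := by
  by_cases h : ∀ t, S.lo t ≤ (θ.1 (π t)).val ∧ (θ.1 (π t)).val ≤ S.hi t
  · left
    unfold permExp
    rw [MvPolynomial.monomial_sum_one]
    apply Finset.prod_congr rfl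
    intro t _
    unfold genMat
    rw [Matrix.of_apply, if_pos (h t)]
    rfl
  · right
    push Not at h
    obtain ⟨t, ht⟩ := h
    apply Finset.prod_eq_zero (Finset.mem_univ t)
    unfold genMat
    rw [Matrix.of_apply, if_neg]
    intro hcon
    exact absurd hcon.2 (not_le.2 (ht hcon.1))

lemma prod_genMat_one (S : Shape d) (θ : Idx d n) (hθ : S.mem θ) :
    ∏ t, (genMat K S) (θ.1 t) t = monomial (diag θ) 1 := by
  unfold diag
  rw [MvPolynomial.monomial_sum_one]
  apply Finset.prod_congr rfl
  intro t _
  unfold genMat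
  rw [Matrix.of_apply, if_pos (hθ t)]
  rfl

variable [Nontrivial K] (m : MonomialOrder (GVar d n)) (hm : DiagLeading m)

include hm in
theorem ev_X_monic (hd : 0 < d) (S : Shape d) (θ : Idx d n) (hθ : S.mem θ) :
    m.Monic (ev K S (X θ)) ∧ m.degree (ev K S (X θ)) = diag θ := by
  classical
  rw [ev_X, Matrix.det_apply, ← Finset.add_sum_erase Finset.univ _ (Finset.mem_univ (1 : Equiv.Perm (Fin d)))]
  simp only [Equiv.Perm.sign_one, one_smul, Equiv.Perm.one_apply, Matrix.submatrix_apply, id]
  rw [prod_genMat_one K S θ hθ]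
  have hdiag_ne : diag θ ≠ 0 := by
    intro h0
    have := congrArg (fun e => e (toLex (θ.1 ⟨0, hd⟩, ⟨0, hd⟩))) h0
    simp only [Finsupp.coe_zero, Pi.zero_apply] at this
    rw [← permExp_one, permExp_apply, Equiv.Perm.one_apply, if_pos rfl] at this
    exact one_ne_zero this
  have hpos : (⊥ : m.syn) < m.toSyn (diag θ) := by
    rw [bot_lt_iff_ne_bot, MonomialOrder.bot_eq_zero, Ne, m.toSyn_eq_zero_iff]
    exact hdiag_ne
  have hdeg_main : m.degree (monomial (diag θ) (1 : K)) = diag θ := by
    rw [m.degree_monomial, if_neg one_ne_zero]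
  have hR : m.degree (∑ π ∈ Finset.univ.erase (1 : Equiv.Perm (Fin d)),
      Equiv.Perm.sign π • ∏ t, (genMat K S) (θ.1 (π t)) t) ≺[m] diag θ := by
    refine lt_of_le_of_lt m.degree_sum_le ?_
    rw [Finset.sup_lt_iff hpos]
    intro π hπ
    have hπ1 : π ≠ 1 := Finset.ne_of_mem_erase hπ
    rcases prod_genMat K S θ π with h | h
    · rw [h]
      refine lt_of_le_of_lt ?_ (hm θ π hπ1)
      rcases Int.units_eq_one_or (Equiv.Perm.sign π) with hs | hs
      · rw [hs, one_smul]; exact m.degree_monomial_le 1
      · rw [hs, Units.neg_smul, one_smul, m.degree_neg]; exact m.degree_monomial_le 1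
    · rw [h, smul_zero, m.degree_zero, map_zero]
      exact hpos
  constructor
  · apply MonomialOrder.Monic.add_of_lt m.monic_monomial_one
    rw [hdeg_main]; exact hR
  · rw [m.degree_add_of_lt (by rw [hdeg_main]; exact hR), hdeg_main]

end Groth.Agent.Lib.Helper99.SMT
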