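import Mathlib
import Groth.Agent.Lib.Helper99.SMTIndepC

set_option autoImplicit false
universe u

namespace Groth.Agent.Lib.Helper99.SMT
open W4bk4grassmannian MvPolynomial
open scoped MonomialOrder

variable {d n : ℕ}

/-- the leading exponent of a product of minors along a tuple of indices -/
noncomputable def chainDeg {m' : ℕ} (c : Fin m' → Idx d n) : GVar d n →₀ ℕ := ∑ k, diag (c k)

lemma diag_apply (θ : Idx d n) (i : Fin n) (t : Fin d) :
    diag θ (toLex (i, t)) = if θ.1 t = i then 1 else 0 := by
  rw [← permExp_one, permExp_apply, Equiv.Perm.one_apply]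

lemma chainDeg_apply {m' : ℕ} (c : Fin m' → Idx d n) (i : Fin n) (t : Fin d) :
    chainDeg c (toLex (i, t)) = Multiset.count i (Finset.univ.val.map fun k => (c k).1 t) := by
  classical
  unfold chainDeg
  rw [Finsupp.finsetSum_apply]
  simp_rw [diag_apply]
  rw [Finset.sum_boole, Multiset.count_map]
  simp only [Nat.cast_id]
  rw [Finset.card_def, Finset.filter_val]
  congr 1
  apply Multiset.filter_congr
  intro k _
  exact eq_comm

theorem chainDeg_injective (hd : 0 < d) {m1 m2 : ℕ} (c : Fin m1 → Idx d n) (c' : Fin m2 → Idx d n)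
    (hc : Antitone c) (hc' : Antitone c') (h : chainDeg c = chainDeg c') :
    (⟨m1, c⟩ : Σ m', Fin m' → Idx d n) = ⟨m2, c'⟩ := by
  classical
  have hcol : ∀ t : Fin d, List.ofFn (fun k => (c k).1 t) = List.ofFn (fun k => (c' k).1 t) := by
    intro t
    have hms : (Finset.univ.val.map fun k => (c k).1 t) = (Finset.univ.val.map fun k => (c' k).1 t) := by
      ext i
      rw [← chainDeg_apply, ← chainDeg_apply, h]
    rw [Fin.univ_val_map, Fin.univ_val_map, Multiset.coe_eq_coe] at hms
    refine List.Perm.eq_of_pairwise' (r := (· ≥ ·)) ?_ ?_ hms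
    · rw [List.pairwise_ofFn]
      intro a b hab
      exact hc hab.le t
    · rw [List.pairwise_ofFn]
      intro a b hab
      exact hc' hab.le t
  have hlen : m1 = m2 := by
    have := congrArg List.length (hcol ⟨0, hd⟩)
    simpa using this
  subst hlen
  have : c = c' := by
    funext k
    apply Subtype.ext
    funext t
    exact congrFun (List.ofFn_injective (hcol t)) k
  rw [this]

variable (K : Type u) [CommRing K] [Nontrivial K] (m : MonomialOrder (GVar d n)) (hm : DiagLeading m)

lemma ev_chainMon (S : Shape d) {m' : ℕ} (c : Fin m' → Idx d n) :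
    ev K S (chainMon K c) = ∏ k, ev K S (X (c k)) := by
  unfold chainMon
  rw [map_prod]

include hm in
theorem ev_chainMon_monic (hd : 0 < d) (S : Shape d) {m' : ℕ} (c : Fin m' → Idx d n)
    (hc : ∀ k, S.mem (c k)) :
    m.Monic (ev K S (chainMon K c)) ∧ m.degree (ev K S (chainMon K c)) = chainDeg c := by
  rw [ev_chainMon]
  constructor
  · apply MonomialOrder.Monic.prod
    intro k _
    exact (ev_X_monic K m hm hd S (c k) (hc k)).1
  · rw [m.degree_prod_of_regular]
    · unfold chainDeg
      apply Finset.sum_congr rfl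
      intro k _
      exact (ev_X_monic K m hm hd S (c k) (hc k)).2
    · intro k _
      have := (ev_X_monic K m hm hd S (c k) (hc k)).1
      rw [MonomialOrder.Monic] at this
      rw [this]
      exact isRegular_one

/-- the type of standard chains inside a shape -/
abbrev ShapeChain (S : Shape d) (n : ℕ) : Type :=
  Σ m' : ℕ, {c : Fin m' → Idx d n // Antitone c ∧ ∀ k, S.mem (c k)}

include hm in
theorem linearIndependent_ev (hd : 0 < d) (S : Shape d) :
    LinearIndependent K (fun c : ShapeChain S n => ev K S (chainMon K c.2.1)) := by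
  apply linearIndependent_of_monic_of_degree_injective m
  · intro c
    exact (ev_chainMon_monic K m hm hd S c.2.1 c.2.2.2).1
  · intro c c' h
    simp only at h
    rw [(ev_chainMon_monic K m hm hd S c.2.1 c.2.2.2).2,
      (ev_chainMon_monic K m hm hd S c'.2.1 c'.2.2.2).2] at h
    have := chainDeg_injective hd c.2.1 c'.2.1 c.2.2.1 c'.2.2.1 h
    obtain ⟨m1, c1, h1⟩ := c
    obtain ⟨m2, c2, h2⟩ := c'
    simp only at this
    rw [Sigma.mk.inj_iff] at this
    obtain ⟨hm12, hcc⟩ := this
    subst hm12
    rw [heq_iff_eq] at hcc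
    subst hcc
    rfl

end Groth.Agent.Lib.Helper99.SMT
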