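import Mathlib
import Groth.Prelude.Def_W4bk4grassmannianPl

/-!
# Standard monomial theory for the Grassmannian: basic combinatorics (helper99)

Contents of tuples, `coord` of sorted tuples, the identity shuffle, bookkeeping of entries under a shuffle.
-/

set_option autoImplicit false
universe u

namespace Groth.Agent.Lib.Helper99.SMT
open W4bk4grassmannian MvPolynomial

variable {d n : ℕ}


/-- content of a tuple: the multiset of its entries -/
def cnt (a : Fin d → Fin n) : Multiset (Fin n) := Finset.univ.val.map a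

/-- sum of the entries of a tuple -/
def tsum (a : Fin d → Fin n) : ℕ := ∑ t, (a t).val

lemma tsum_eq_cnt (a : Fin d → Fin n) : tsum a = ((cnt a).map Fin.val).sum := by
  unfold tsum cnt
  rw [Multiset.map_map]
  rfl

lemma card_image_of_strictMono (θ : Idx d n) : (Finset.univ.image θ.1).card = d := by
  rw [Finset.card_image_of_injective _ θ.2.injective]; simp

lemma injective_of_card_image {a : Fin d → Fin n} (h : (Finset.univ.image a).card = d) :
    Function.Injective a := by
  have : (Finset.univ.image a).card = (Finset.univ : Finset (Fin d)).card := by simpa using h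
  exact fun x y hxy => Finset.card_image_iff.mp this (Finset.mem_coe.2 (Finset.mem_univ x))
    (Finset.mem_coe.2 (Finset.mem_univ y)) hxy

lemma sortIdx_of_strictMono (θ : Idx d n) (h : (Finset.univ.image θ.1).card = d) :
    sortIdx d n θ.1 h = θ := by
  apply Subtype.ext
  funext t
  have := Finset.orderEmbOfFin_unique h (f := θ.1) (fun x => by simp) θ.2
  simp only [sortIdx]
  exact (congrFun this t).symm

lemma invCount_of_strictMono (θ : Idx d n) : invCount d n θ.1 = 0 := by
  unfold invCount
  rw [Finset.card_eq_zero, Finset.filter_eq_empty_iff]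
  rintro ⟨p, q⟩ _ ⟨h1, h2⟩
  exact absurd (θ.2 h1) (not_lt.2 h2.le)

lemma coord_of_strictMono (K : Type u) [CommRing K] (θ : Idx d n) : coord K d n θ.1 = X θ := by
  unfold coord
  rw [dif_pos (card_image_of_strictMono θ), invCount_of_strictMono, sortIdx_of_strictMono]
  simp

lemma cnt_sortIdx (a : Fin d → Fin n) (h : (Finset.univ.image a).card = d) :
    cnt (sortIdx d n a h).1 = cnt a := by
  unfold cnt sortIdx
  have h1 := Finset.map_orderEmbOfFin_univ (Finset.univ.image a) h
  have h2 : (Finset.univ.image a).val = Finset.univ.val.map a :=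
    Finset.image_val_of_injOn (injective_of_card_image h).injOn
  rw [← h2]
  have h3 := congrArg Finset.val h1
  rw [Finset.map_val] at h3
  exact h3

lemma coord_cases (K : Type u) [CommRing K] (a : Fin d → Fin n) :
    coord K d n a = 0 ∨ ∃ θ : Idx d n, cnt θ.1 = cnt a ∧
      (coord K d n a = X θ ∨ coord K d n a = - X θ) := by
  unfold coord
  split_ifs with h
  · right
    refine ⟨sortIdx d n a h, cnt_sortIdx a h, ?_⟩
    rcases Nat.even_or_odd (invCount d n a) with he | ho
    · left; rw [he.neg_one_pow, one_mul]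
    · right; rw [ho.neg_one_pow]; ring
  · left; rfl



lemma movingRows_of_le (i j : Idx d n) (r : Fin d) (k : Fin (d + 1)) (h : k.val ≤ r.val) :
    movingRows i j r k = i.1 ⟨k.val, lt_of_le_of_lt h r.isLt⟩ := by
  unfold movingRows; rw [dif_pos h]

lemma movingRows_of_gt (i j : Idx d n) (r : Fin d) (k : Fin (d + 1)) (h : r.val < k.val) :
    movingRows i j r k = j.1 ⟨k.val - 1, by have := k.isLt; omega⟩ := by
  unfold movingRows; rw [dif_neg (by omega)]

lemma movingRows_strictMono (i j : Idx d n) (r : Fin d) (hp : i.1 r < j.1 r) :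
    StrictMono (movingRows i j r) := by
  intro k l hkl
  have hkl' : k.val < l.val := hkl
  by_cases hk : k.val ≤ r.val
  · by_cases hl : l.val ≤ r.val
    · rw [movingRows_of_le _ _ _ _ hk, movingRows_of_le _ _ _ _ hl]
      exact i.2 (by simpa using hkl')
    · rw [movingRows_of_le _ _ _ _ hk, movingRows_of_gt _ _ _ _ (by omega)]
      have h1 : i.1 ⟨k.val, lt_of_le_of_lt hk r.isLt⟩ ≤ i.1 r := i.2.monotone (by
        show (⟨k.val, _⟩ : Fin d) ≤ r
        exact hk)
      have h2 : j.1 r ≤ j.1 ⟨l.val - 1, by have := l.isLt; omega⟩ := j.2.monotone (by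
        show r ≤ (⟨l.val - 1, _⟩ : Fin d)
        show r.val ≤ l.val - 1
        omega)
      exact lt_of_le_of_lt h1 (lt_of_lt_of_le hp h2)
  · rw [movingRows_of_gt _ _ _ _ (by omega), movingRows_of_gt _ _ _ _ (by omega)]
    apply j.2
    show k.val - 1 < l.val - 1
    omega

/-- the initial segment `{0, …, r}` of the moving positions -/
def A0 (r : Fin d) : Finset (Fin (d + 1)) := Finset.univ.filter fun k => k.val ≤ r.val

lemma mem_A0 (r : Fin d) (k : Fin (d + 1)) : k ∈ A0 r ↔ k.val ≤ r.val := by simp [A0]

lemma card_A0 (r : Fin d) : (A0 r).card = r.val + 1 := by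
  have : A0 r = Finset.Iic (⟨r.val, by omega⟩ : Fin (d + 1)) := by
    ext k; simp [A0, Fin.le_def]
  rw [this, Fin.card_Iic]

lemma orderEmbOfFin_A0 (r : Fin d) (h : (A0 r).card = r.val + 1) (x : Fin (r.val + 1)) :
    (A0 r).orderEmbOfFin h x = ⟨x.val, by have := x.isLt; have := r.isLt; omega⟩ := by
  have := Finset.orderEmbOfFin_unique h
    (f := fun x : Fin (r.val + 1) => (⟨x.val, by have := x.isLt; have := r.isLt; omega⟩ : Fin (d + 1)))
    (fun x => by rw [mem_A0]; have := x.isLt; simp only; omega) (fun a b hab => hab)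
  exact (congrFun this x).symm

lemma orderEmbOfFin_A0_compl (r : Fin d) (h : (A0 r)ᶜ.card = d - r.val) (y : Fin (d - r.val)) :
    (A0 r)ᶜ.orderEmbOfFin h y = ⟨y.val + r.val + 1, by have := y.isLt; have := r.isLt; omega⟩ := by
  have := Finset.orderEmbOfFin_unique h
    (f := fun y : Fin (d - r.val) =>
      (⟨y.val + r.val + 1, by have := y.isLt; have := r.isLt; omega⟩ : Fin (d + 1)))
    (fun x => by rw [Finset.mem_compl, mem_A0]; simp only; omega)
    (fun a b hab => by
      show a.val + r.val + 1 < b.val + r.val + 1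
      have : a.val < b.val := hab
      omega)
  exact (congrFun this y).symm

lemma shuffleI_A0 (i j : Idx d n) (r : Fin d) (h : (A0 r).card = r.val + 1) :
    shuffleI i j r (A0 r) h = i.1 := by
  funext t
  unfold shuffleI
  split_ifs with ht
  · rw [orderEmbOfFin_A0, movingRows_of_le _ _ _ _ (by simpa using ht)]
  · rfl

lemma shuffleJ_A0 (i j : Idx d n) (r : Fin d) (h : (A0 r).card = r.val + 1) :
    shuffleJ i j r (A0 r) h = j.1 := by
  funext t
  unfold shuffleJ
  split_ifs with ht
  · rfl
  · rw [orderEmbOfFin_A0_compl, movingRows_of_gt _ _ _ _ (by simp only; omega)]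
    apply congrArg j.1
    apply Fin.ext
    simp only
    omega

lemma shuffleSign_A0 (r : Fin d) : shuffleSign r (A0 r) = 0 := by
  unfold shuffleSign
  have : (A0 r).sum (fun a => a.val) = ∑ x : Fin (r.val + 1), x.val := by
    have h := card_A0 r
    rw [← Finset.sum_coe_sort (A0 r)]
    rw [← Fintype.sum_equiv ((A0 r).orderIsoOfFin h).toEquiv
      (fun x => ((A0 r).orderEmbOfFin h x).val) (fun y => (y : Fin (d+1)).val) (fun x => rfl)]
    apply Finset.sum_congr rfl
    intro x _
    rw [orderEmbOfFin_A0]
  rw [this, Fin.sum_univ_eq_sum_range (fun x => x) (r.val + 1), Finset.sum_range_id,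
    Nat.add_sub_cancel, Nat.mul_comm]
  exact Nat.sub_self _



lemma sum_orderEmbOfFin {α M : Type*} [LinearOrder α] [AddCommMonoid M] (s : Finset α) {k : ℕ}
    (h : s.card = k) (G : α → M) :
    ∑ x : Fin k, G (s.orderEmbOfFin h x) = ∑ a ∈ s, G a := by
  rw [← Finset.sum_coe_sort s]
  exact Fintype.sum_equiv (s.orderIsoOfFin h).toEquiv _ _ (fun x => rfl)

lemma sum_dite_le {M : Type*} [AddCommMonoid M] (r : Fin d) (F : Fin (r.val + 1) → M) :
    ∑ t : Fin d, (if h : t.val ≤ r.val then F ⟨t.val, by omega⟩ else 0) = ∑ x, F x := by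
  symm
  refine Finset.sum_bij_ne_zero (fun x _ _ => (⟨x.val, by have := x.isLt; have := r.isLt; omega⟩ : Fin d))
    (fun _ _ _ => Finset.mem_univ _) ?_ ?_ ?_
  · intro a _ _ b _ _ hab
    apply Fin.ext
    simpa using hab
  · intro t _ ht
    by_cases h : t.val ≤ r.val
    · rw [dif_pos h] at ht
      exact ⟨⟨t.val, by omega⟩, Finset.mem_univ _, ht, rfl⟩
    · rw [dif_neg h] at ht
      exact absurd rfl ht
  · intro x _ _
    have hx : x.val ≤ r.val := by have := x.isLt; omega
    simp only
    rw [dif_pos hx]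

lemma sum_dite_ge {M : Type*} [AddCommMonoid M] (r : Fin d) (F : Fin (d - r.val) → M) :
    ∑ t : Fin d, (if h : t.val < r.val then 0 else F ⟨t.val - r.val, by have := t.isLt; omega⟩)
      = ∑ y, F y := by
  symm
  refine Finset.sum_bij_ne_zero
    (fun y _ _ => (⟨y.val + r.val, by have := y.isLt; have := r.isLt; omega⟩ : Fin d))
    (fun _ _ _ => Finset.mem_univ _) ?_ ?_ ?_
  · intro a _ _ b _ _ hab
    apply Fin.ext
    simpa using hab
  · intro t _ ht
    by_cases h : t.val < r.val
    · rw [dif_pos h] at ht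
      exact absurd rfl ht
    · rw [dif_neg h] at ht
      refine ⟨⟨t.val - r.val, by have := t.isLt; omega⟩, Finset.mem_univ _, ht, ?_⟩
      apply Fin.ext
      simp only
      omega
  · intro y _ _
    have hy : ¬ (y.val + r.val < r.val) := by omega
    simp only
    rw [dif_neg hy]
    congr 1
    apply Fin.ext
    simp

/-- content-type bookkeeping for the shuffle: for any additive function of the entries. -/
lemma sum_shuffle {M : Type*} [AddCommMonoid M] (g : Fin n → M) (i j : Idx d n) (r : Fin d)
    (A : Finset (Fin (d + 1))) (hA : A.card = r.val + 1) :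
    ∑ t, g (shuffleI i j r A hA t) + ∑ t, g (shuffleJ i j r A hA t) =
      ∑ k, g (movingRows i j r k) + (∑ t : Fin d, (if t.val ≤ r.val then 0 else g (i.1 t)) +
        ∑ t : Fin d, (if t.val < r.val then g (j.1 t) else 0)) := by
  have hC : Aᶜ.card = d - r.val := by rw [Finset.card_compl, hA, Fintype.card_fin]; omega
  have h1 : ∑ t, g (shuffleI i j r A hA t) = ∑ k ∈ A, g (movingRows i j r k) +
      ∑ t : Fin d, (if t.val ≤ r.val then 0 else g (i.1 t)) := by
    rw [← sum_orderEmbOfFin A hA (fun k => g (movingRows i j r k)),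
      ← sum_dite_le r (fun x => g (movingRows i j r (A.orderEmbOfFin hA x))), ← Finset.sum_add_distrib]
    apply Finset.sum_congr rfl
    intro t _
    unfold shuffleI
    by_cases ht : t.val ≤ r.val
    · rw [dif_pos ht, dif_pos ht, if_pos ht, add_zero]
    · rw [dif_neg ht, dif_neg ht, if_neg ht, zero_add]
  have h2 : ∑ t, g (shuffleJ i j r A hA t) = ∑ k ∈ Aᶜ, g (movingRows i j r k) +
      ∑ t : Fin d, (if t.val < r.val then g (j.1 t) else 0) := by
    rw [← sum_orderEmbOfFin Aᶜ hC (fun k => g (movingRows i j r k)),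
      ← sum_dite_ge r (fun x => g (movingRows i j r (Aᶜ.orderEmbOfFin hC x))), ← Finset.sum_add_distrib]
    apply Finset.sum_congr rfl
    intro t _
    unfold shuffleJ
    by_cases ht : t.val < r.val
    · rw [dif_pos ht, dif_pos ht, if_pos ht, zero_add]
    · rw [dif_neg ht, dif_neg ht, if_neg ht, add_zero]
  rw [h1, h2, ← Finset.sum_add_sum_compl A (fun k => g (movingRows i j r k))]
  abel


end Groth.Agent.Lib.Helper99.SMT
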