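import Mathlib
import Groth.Agent.Lib.Helper99.SMTBasic

set_option autoImplicit false
universe u

namespace Groth.Agent.Lib.Helper99.SMT
open W4bk4grassmannian MvPolynomial

variable {d n : ℕ}

/-- the sorting permutation of an injective tuple -/
noncomputable def sortPerm (a : Fin d → Fin n) (h : (Finset.univ.image a).card = d) : Equiv.Perm (Fin d) :=
  Equiv.ofBijective
    (fun t => ((Finset.univ.image a).orderIsoOfFin h).symm ⟨a t, Finset.mem_image_of_mem a (Finset.mem_univ t)⟩)
    (Finite.injective_iff_bijective.1 (by
      intro x y hxy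
      have := ((Finset.univ.image a).orderIsoOfFin h).symm.injective hxy
      exact injective_of_card_image h (Subtype.ext_iff.1 this)))

lemma sortIdx_sortPerm (a : Fin d → Fin n) (h : (Finset.univ.image a).card = d) (t : Fin d) :
    (sortIdx d n a h).1 (sortPerm a h t) = a t := by
  unfold sortIdx sortPerm
  simp only [Equiv.ofBijective_apply]
  rw [Finset.orderEmbOfFin_apply]
  change (((Finset.univ.image a).orderIsoOfFin h) (((Finset.univ.image a).orderIsoOfFin h).symm _)).1 = _
  rw [OrderIso.apply_symm_apply]

lemma sortPerm_lt_iff (a : Fin d → Fin n) (h : (Finset.univ.image a).card = d) (x y : Fin d) :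
    sortPerm a h x < sortPerm a h y ↔ a x < a y := by
  rw [← sortIdx_sortPerm a h x, ← sortIdx_sortPerm a h y]
  exact ((sortIdx d n a h).2.lt_iff_lt).symm

lemma sign_sortPerm (a : Fin d → Fin n) (h : (Finset.univ.image a).card = d) :
    Equiv.Perm.sign (sortPerm a h) = (-1 : ℤˣ) ^ invCount d n a := by
  have hinj := injective_of_card_image h
  rw [Equiv.Perm.sign_eq_prod_prod_Ioi]
  have h1 : ∀ i : Fin d, ∏ j ∈ Finset.Ioi i, (if sortPerm a h i < sortPerm a h j then (1 : ℤˣ) else -1) =
      ∏ j, (if i < j ∧ a j < a i then (-1 : ℤˣ) else 1) := by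
    intro i
    have : Finset.Ioi i = Finset.univ.filter (fun j => i < j) := by ext j; simp
    rw [this, Finset.prod_filter]
    apply Finset.prod_congr rfl
    intro j _
    by_cases hij : i < j
    · rw [if_pos hij]
      by_cases haij : a i < a j
      · rw [if_pos ((sortPerm_lt_iff a h i j).2 haij), if_neg (fun hc => absurd hc.2 (not_lt.2 haij.le))]
      · rw [if_neg (fun hc => haij ((sortPerm_lt_iff a h i j).1 hc)),
          if_pos ⟨hij, lt_of_le_of_ne (not_lt.1 haij) (fun hc => hij.ne' (hinj hc))⟩]
    · rw [if_neg hij, if_neg (fun hc => hij hc.1)]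
  simp_rw [h1]
  rw [← Fintype.prod_prod_type' (f := fun i j => if i < j ∧ a j < a i then (-1 : ℤˣ) else 1)]
  rw [Finset.prod_ite, Finset.prod_const_one, mul_one, Finset.prod_const]
  rfl

variable (K : Type u) [CommRing K]

theorem evalMinors_coord (A : Matrix (Fin n) (Fin d) K) (a : Fin d → Fin n) :
    evalMinors K d n A (coord K d n a) = (A.submatrix a id).det := by
  unfold coord
  split_ifs with h
  · rw [map_mul, map_pow, map_neg, map_one]
    unfold evalMinors
    rw [aeval_X]
    have hsub : A.submatrix a id = (A.submatrix (sortIdx d n a h).1 id).submatrix (sortPerm a h) id := by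
      ext x y
      simp only [Matrix.submatrix_apply, id]
      rw [sortIdx_sortPerm]
    rw [hsub, Matrix.det_permute, sign_sortPerm]
    congr 1
    simp
  · rw [map_zero]
    have hninj : ¬ Function.Injective a := by
      intro hinj
      apply h
      rw [Finset.card_image_of_injective _ hinj]; simp
    rw [Function.Injective] at hninj
    push Not at hninj
    obtain ⟨x, y, hxy, hne⟩ := hninj
    symm
    apply Matrix.det_zero_of_row_eq hne
    ext c
    simp [Matrix.submatrix_apply, hxy]

end Groth.Agent.Lib.Helper99.SMT
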