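import Mathlib
import Groth.Agent.Lib.Helper99.SMTBasic

set_option autoImplicit false
universe u

namespace Groth.Agent.Lib.Helper99.SMT
open W4bk4grassmannian MvPolynomial

section General
variable {K V W : Type*} [CommRing K] [AddCommGroup V] [Module K V] [AddCommGroup W] [Module K W]

lemma multilinear_swap_adjacent {m : ℕ} (G : MultilinearMap K (fun _ : Fin m => V) W)
    (H : ∀ (v : Fin m → V) (k : ℕ) (hk : k + 1 < m), v ⟨k, by omega⟩ = v ⟨k + 1, hk⟩ → G v = 0)
    (v : Fin m → V) (k : ℕ) (hk : k + 1 < m) :
    G (v ∘ Equiv.swap (⟨k, by omega⟩ : Fin m) ⟨k + 1, hk⟩) = - G v := by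
  set a : Fin m := ⟨k, by omega⟩ with ha
  set b : Fin m := ⟨k + 1, hk⟩ with hb
  have hab : a ≠ b := by rw [ha, hb]; intro h; simp [Fin.ext_iff] at h
  let B : V → V → W := fun x y => G (Function.update (Function.update v a x) b y)
  have hB0 : ∀ x, B x x = 0 := by
    intro x
    apply H _ k hk
    show Function.update (Function.update v a x) b x a = Function.update (Function.update v a x) b x b
    rw [Function.update_self, Function.update_of_ne hab, Function.update_self]
  have hBadd1 : ∀ x x' y, B (x + x') y = B x y + B x' y := by
    intro x x' y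
    show G (Function.update (Function.update v a (x + x')) b y) = _
    rw [Function.update_comm hab, G.map_update_add]
    show _ = G (Function.update (Function.update v a x) b y) + G (Function.update (Function.update v a x') b y)
    rw [Function.update_comm hab (x) y v, Function.update_comm hab x' y v]
  have hBadd2 : ∀ x y y', B x (y + y') = B x y + B x y' := by
    intro x y y'
    show G (Function.update (Function.update v a x) b (y + y')) = _
    rw [G.map_update_add]
  have h1 := hB0 (v a + v b)
  rw [hBadd1, hBadd2, hBadd2, hB0, hB0, zero_add, add_zero] at h1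
  have e1 : B (v a) (v b) = G v := by
    show G (Function.update (Function.update v a (v a)) b (v b)) = G v
    rw [Function.update_eq_self, Function.update_eq_self]
  have e2 : B (v b) (v a) = G (v ∘ Equiv.swap a b) := by
    show G (Function.update (Function.update v a (v b)) b (v a)) = _
    congr 1
    funext t
    simp only [Function.comp_apply]
    by_cases hta : t = a
    · subst hta
      rw [Function.update_of_ne hab, Function.update_self, Equiv.swap_apply_left]
    · by_cases htb : t = b
      · subst htb
        rw [Function.update_self, Equiv.swap_apply_right]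
      · rw [Function.update_of_ne htb, Function.update_of_ne hta, Equiv.swap_apply_of_ne_of_ne hta htb]
  rw [e1, e2] at h1
  exact eq_neg_of_add_eq_zero_right h1

theorem multilinear_alternating_of_adjacent {m : ℕ} (G : MultilinearMap K (fun _ : Fin m => V) W)
    (H : ∀ (v : Fin m → V) (k : ℕ) (hk : k + 1 < m), v ⟨k, by omega⟩ = v ⟨k + 1, hk⟩ → G v = 0) :
    ∀ (v : Fin m → V) (i j : Fin m), i ≠ j → v i = v j → G v = 0 := by
  have key : ∀ (gap : ℕ) (v : Fin m → V) (i j : Fin m), i.val + gap + 1 = j.val → v i = v j → G v = 0 := by
    intro gap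
    induction gap with
    | zero =>
      intro v i j hij hv
      apply H v i.val (by have := j.isLt; omega)
      have e1 : (⟨i.val, by omega⟩ : Fin m) = i := Fin.ext rfl
      have e2 : (⟨i.val + 1, by have := j.isLt; omega⟩ : Fin m) = j := Fin.ext (by simp; omega)
      rw [e1, e2]; exact hv
    | succ gap ih =>
      intro v i j hij hv
      have hj : j.val - 1 + 1 < m := by have := j.isLt; omega
      have hsw := multilinear_swap_adjacent G H v (j.val - 1) hj
      set j' : Fin m := ⟨j.val - 1, by omega⟩ with hj'
      have ej : (⟨j.val - 1 + 1, hj⟩ : Fin m) = j := Fin.ext (by simp; omega)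
      rw [ej] at hsw
      have h0 : G (v ∘ Equiv.swap j' j) = 0 := by
        apply ih (v ∘ Equiv.swap j' j) i j' (by simp [hj']; omega)
        simp only [Function.comp_apply]
        rw [Equiv.swap_apply_left, Equiv.swap_apply_of_ne_of_ne]
        · exact hv
        · intro h; rw [h, hj'] at hij; simp at hij; omega
        · intro h; rw [h] at hij; omega
      rw [h0] at hsw
      exact neg_eq_zero.1 hsw.symm
  intro v i j hij hv
  rcases lt_or_gt_of_ne hij with h | h
  · exact key (j.val - i.val - 1) v i j (by have : i.val < j.val := h; omega) hv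
  · exact key (i.val - j.val - 1) v j i (by have : j.val < i.val := h; omega) hv.symm

theorem multilinear_eq_zero_of_card_lt {m d : ℕ} (hm : d < m)
    (G : MultilinearMap K (fun _ : Fin m => (Fin d → K)) W)
    (Halt : ∀ (v : Fin m → (Fin d → K)) (i j : Fin m), i ≠ j → v i = v j → G v = 0) : G = 0 := by
  apply Module.Basis.ext_multilinear (fun _ => Pi.basisFun K (Fin d))
  intro f
  have hninj : ¬ Function.Injective f := by
    intro hinj
    have := Fintype.card_le_of_injective f hinj
    simp at this
    omega
  rw [Function.Injective] at hninj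
  push Not at hninj
  obtain ⟨x, y, hxy, hne⟩ := hninj
  rw [zero_apply]
  apply Halt _ x y hne
  simp only [hxy]

end General

variable {d n : ℕ} (K : Type u) [CommRing K]

/-- the matrix with first `r+1` rows `u`, remaining rows from `P` -/
def rowsI (r : Fin d) (P : Fin d → (Fin d → K)) (u : Fin (r.val + 1) → (Fin d → K)) :
    Matrix (Fin d) (Fin d) K :=
  Matrix.of fun t => if h : t.val ≤ r.val then u ⟨t.val, by omega⟩ else P t

/-- the matrix with first `r` rows from `Q`, remaining rows `u` -/
def rowsJ (r : Fin d) (Q : Fin d → (Fin d → K)) (u : Fin (d - r.val) → (Fin d → K)) :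
    Matrix (Fin d) (Fin d) K :=
  Matrix.of fun t => if h : t.val < r.val then Q t else u ⟨t.val - r.val, by have := t.isLt; omega⟩

lemma rowsI_update (r : Fin d) (P : Fin d → (Fin d → K)) [inst : DecidableEq (Fin (r.val + 1))]
    (u : Fin (r.val + 1) → (Fin d → K)) (x : Fin (r.val + 1)) (c : Fin d → K) :
    rowsI K r P (Function.update u x c) =
      (rowsI K r P u).updateRow (⟨x.val, by have := x.isLt; have := r.isLt; omega⟩ : Fin d) c := by
  ext t s
  rw [Matrix.updateRow_apply]
  unfold rowsI
  simp only [Matrix.of_apply]
  by_cases ht : t.val ≤ r.val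
  · rw [dif_pos ht]
    by_cases htx : t = ⟨x.val, by have := x.isLt; have := r.isLt; omega⟩
    · rw [if_pos htx]
      have : (⟨t.val, by omega⟩ : Fin (r.val + 1)) = x := by
        apply Fin.ext
        have := congrArg Fin.val htx
        simp only at this ⊢
        omega
      rw [this, Function.update_self]
    · rw [if_neg htx, dif_pos ht]
      have : (⟨t.val, by omega⟩ : Fin (r.val + 1)) ≠ x := by
        intro h; apply htx; apply Fin.ext; rw [← h]
      rw [Function.update_of_ne this]
  · rw [dif_neg ht, dif_neg ht]
    have htx : t ≠ ⟨x.val, by have := x.isLt; have := r.isLt; omega⟩ := by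
      intro h; apply ht; rw [h]; have := x.isLt; simp only; omega
    rw [if_neg htx]

lemma rowsJ_update (r : Fin d) (Q : Fin d → (Fin d → K)) [inst : DecidableEq (Fin (d - r.val))]
    (u : Fin (d - r.val) → (Fin d → K)) (x : Fin (d - r.val)) (c : Fin d → K) :
    rowsJ K r Q (Function.update u x c) =
      (rowsJ K r Q u).updateRow (⟨x.val + r.val, by have := x.isLt; have := r.isLt; omega⟩ : Fin d) c := by
  ext t s
  rw [Matrix.updateRow_apply]
  unfold rowsJ
  simp only [Matrix.of_apply]
  by_cases ht : t.val < r.val
  · rw [dif_pos ht, dif_pos ht]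
    have htx : t ≠ ⟨x.val + r.val, by have := x.isLt; have := r.isLt; omega⟩ := by
      intro h; rw [h] at ht; simp only at ht; omega
    rw [if_neg htx]
  · rw [dif_neg ht]
    by_cases htx : t = ⟨x.val + r.val, by have := x.isLt; have := r.isLt; omega⟩
    · rw [if_pos htx]
      have : (⟨t.val - r.val, by have := t.isLt; omega⟩ : Fin (d - r.val)) = x := by
        apply Fin.ext
        have := congrArg Fin.val htx
        simp only at this ⊢
        omega
      rw [this, Function.update_self]
    · rw [if_neg htx, dif_neg ht]
      have : (⟨t.val - r.val, by have := t.isLt; omega⟩ : Fin (d - r.val)) ≠ x := by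
        intro h; apply htx; apply Fin.ext; rw [← h]; simp only; omega
      rw [Function.update_of_ne this]

/-- determinant with the first `r+1` rows varying: a multilinear map -/
noncomputable def D1 (r : Fin d) (P : Fin d → (Fin d → K)) :
    MultilinearMap K (fun _ : Fin (r.val + 1) => (Fin d → K)) K where
  toFun u := (rowsI K r P u).det
  map_update_add' := by
    intro _ u x a b
    simp only [rowsI_update]
    exact Matrix.det_updateRow_add _ _ _ _
  map_update_smul' := by
    intro _ u x c a
    simp only [rowsI_update]
    exact Matrix.det_updateRow_smul _ _ _ _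

noncomputable def D2 (r : Fin d) (Q : Fin d → (Fin d → K)) :
    MultilinearMap K (fun _ : Fin (d - r.val) => (Fin d → K)) K where
  toFun u := (rowsJ K r Q u).det
  map_update_add' := by
    intro _ u x a b
    simp only [rowsJ_update]
    exact Matrix.det_updateRow_add _ _ _ _
  map_update_smul' := by
    intro _ u x c a
    simp only [rowsJ_update]
    exact Matrix.det_updateRow_smul _ _ _ _

lemma D1_apply (r : Fin d) (P : Fin d → (Fin d → K)) (u : Fin (r.val + 1) → (Fin d → K)) :
    D1 K r P u = (rowsI K r P u).det := rfl

lemma D2_apply (r : Fin d) (Q : Fin d → (Fin d → K)) (u : Fin (d - r.val) → (Fin d → K)) :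
    D2 K r Q u = (rowsJ K r Q u).det := rfl

lemma D1_alt (r : Fin d) (P : Fin d → (Fin d → K)) (u : Fin (r.val + 1) → (Fin d → K))
    (x y : Fin (r.val + 1)) (hxy : x ≠ y) (h : u x = u y) : D1 K r P u = 0 := by
  rw [D1_apply]
  have hx := x.isLt
  have hy := y.isLt
  have hr := r.isLt
  apply Matrix.det_zero_of_row_eq (i := (⟨x.val, by omega⟩ : Fin d)) (j := ⟨y.val, by omega⟩)
  · intro hh; apply hxy; apply Fin.ext; simpa using hh
  · unfold rowsI
    funext s
    simp only [Matrix.of_apply]
    rw [dif_pos (by omega), dif_pos (by omega)]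
    exact congrFun h s

lemma D2_alt (r : Fin d) (Q : Fin d → (Fin d → K)) (u : Fin (d - r.val) → (Fin d → K))
    (x y : Fin (d - r.val)) (hxy : x ≠ y) (h : u x = u y) : D2 K r Q u = 0 := by
  rw [D2_apply]
  have hx := x.isLt
  have hy := y.isLt
  have hr := r.isLt
  apply Matrix.det_zero_of_row_eq (i := (⟨x.val + r.val, by omega⟩ : Fin d)) (j := ⟨y.val + r.val, by omega⟩)
  · intro hh; apply hxy; apply Fin.ext; simpa using hh
  · unfold rowsJ
    funext s
    simp only [Matrix.of_apply]
    rw [dif_neg (by omega), dif_neg (by omega)]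
    have e1 : (⟨x.val + r.val - r.val, by omega⟩ : Fin (d - r.val)) = x := Fin.ext (by simp)
    have e2 : (⟨y.val + r.val - r.val, by omega⟩ : Fin (d - r.val)) = y := Fin.ext (by simp)
    rw [e1, e2]
    exact congrFun h s

/-- one shuffle term as a multilinear map of the `d+1` moving rows -/
noncomputable def TA (r : Fin d) (P Q : Fin d → (Fin d → K)) (A : Finset (Fin (d + 1)))
    (hA : A.card = r.val + 1) (hC : Aᶜ.card = d - r.val) :
    MultilinearMap K (fun _ : Fin (d + 1) => (Fin d → K)) K :=
  (LinearMap.mul' K K).compMultilinearMap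
    (((D1 K r P).domCoprod (D2 K r Q)).domDomCongr (finSumEquivOfFinset hA hC))

lemma TA_apply (r : Fin d) (P Q : Fin d → (Fin d → K)) (A : Finset (Fin (d + 1)))
    (hA : A.card = r.val + 1) (hC : Aᶜ.card = d - r.val) (v : Fin (d + 1) → (Fin d → K)) :
    TA K r P Q A hA hC v =
      D1 K r P (fun x => v (A.orderEmbOfFin hA x)) * D2 K r Q (fun y => v (Aᶜ.orderEmbOfFin hC y)) := by
  unfold TA
  simp [MultilinearMap.domCoprod]

end Groth.Agent.Lib.Helper99.SMT
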