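import Mathlib
import Groth.Agent.Lib.Helper99.SMTBasic
import Groth.Agent.Lib.Helper99.SMTShuffleA

set_option autoImplicit false
universe u

namespace Groth.Agent.Lib.Helper99.SMT
open W4bk4grassmannian MvPolynomial

variable {d n : ℕ}

lemma val_le_of_strictMono {p m : ℕ} (f : Fin p → Fin m) (hf : StrictMono f) :
    ∀ x : Fin p, x.val ≤ (f x).val := by
  have key : ∀ k : ℕ, ∀ x : Fin p, x.val = k → k ≤ (f x).val := by
    intro k
    induction k with
    | zero => intro x _; exact Nat.zero_le _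
    | succ k ih =>
      intro x hx
      have hlt : (⟨k, by have := x.isLt; omega⟩ : Fin p) < x := by
        rw [Fin.lt_def]; simp only; omega
      have h1 := ih ⟨k, by have := x.isLt; omega⟩ rfl
      have h2 : (f ⟨k, by have := x.isLt; omega⟩).val < (f x).val := hf hlt
      omega
  intro x; exact key x.val x rfl

lemma sum_val_ge {m : ℕ} (A : Finset (Fin m)) (r : ℕ) (hA : A.card = r + 1) :
    r * (r + 1) / 2 ≤ ∑ c ∈ A, c.val := by
  rw [← sum_orderEmbOfFin A hA (fun c => c.val)]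
  have h1 : ∑ x : Fin (r + 1), x.val ≤ ∑ x : Fin (r + 1), (A.orderEmbOfFin hA x).val :=
    Finset.sum_le_sum (fun x _ => val_le_of_strictMono _ (A.orderEmbOfFin hA).strictMono x)
  have h2 : ∑ x : Fin (r + 1), x.val = r * (r + 1) / 2 := by
    rw [Fin.sum_univ_eq_sum_range (fun x => x) (r + 1), Finset.sum_range_id, Nat.add_sub_cancel,
      Nat.mul_comm]
  omega

section Swap
variable {m : ℕ} (k : ℕ) (hk : k + 1 < m)

lemma swap_lt (u w : Fin m) (huw : u < w)
    (hne : ¬ (u = (⟨k, by omega⟩ : Fin m) ∧ w = ⟨k + 1, hk⟩)) :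
    Equiv.swap (⟨k, by omega⟩ : Fin m) ⟨k + 1, hk⟩ u < Equiv.swap (⟨k, by omega⟩ : Fin m) ⟨k + 1, hk⟩ w := by
  rw [Equiv.swap_apply_def, Equiv.swap_apply_def]
  have huw' : u.val < w.val := huw
  by_cases h1 : u = ⟨k, by omega⟩
  · have hu : u.val = k := by rw [h1]
    rw [if_pos h1]
    have h3 : w ≠ ⟨k, by omega⟩ := by intro h; rw [h] at huw'; simp only at huw'; omega
    have h4 : w ≠ ⟨k + 1, hk⟩ := fun h => hne ⟨h1, h⟩
    rw [if_neg h3, if_neg h4, Fin.lt_def]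
    have : w.val ≠ k + 1 := fun h => h4 (Fin.ext h)
    simp only; omega
  · rw [if_neg h1]
    have hu : u.val ≠ k := fun h => h1 (Fin.ext h)
    by_cases h2 : u = ⟨k + 1, hk⟩
    · have hu2 : u.val = k + 1 := by rw [h2]
      rw [if_pos h2]
      have h3 : w ≠ ⟨k, by omega⟩ := by intro h; rw [h] at huw'; simp only at huw'; omega
      have h4 : w ≠ ⟨k + 1, hk⟩ := by intro h; rw [h] at huw'; simp only at huw'; omega
      rw [if_neg h3, if_neg h4, Fin.lt_def]
      simp only; omega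
    · rw [if_neg h2]
      have hu2 : u.val ≠ k + 1 := fun h => h2 (Fin.ext h)
      by_cases h3 : w = ⟨k, by omega⟩
      · rw [if_pos h3, Fin.lt_def]
        have : w.val = k := by rw [h3]
        simp only; omega
      · rw [if_neg h3]
        by_cases h4 : w = ⟨k + 1, hk⟩
        · rw [if_pos h4, Fin.lt_def]
          have : w.val = k + 1 := by rw [h4]
          simp only; omega
        · rw [if_neg h4]; exact huw

lemma orderEmbOfFin_map_swap {p : ℕ} (A : Finset (Fin m)) (hA : A.card = p)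
    (hone : ¬ ((⟨k, by omega⟩ : Fin m) ∈ A ∧ (⟨k + 1, hk⟩ : Fin m) ∈ A))
    (hA' : (A.map (Equiv.swap (⟨k, by omega⟩ : Fin m) ⟨k + 1, hk⟩).toEmbedding).card = p) (x : Fin p) :
    (A.map (Equiv.swap (⟨k, by omega⟩ : Fin m) ⟨k + 1, hk⟩).toEmbedding).orderEmbOfFin hA' x =
      Equiv.swap (⟨k, by omega⟩ : Fin m) ⟨k + 1, hk⟩ (A.orderEmbOfFin hA x) := by
  have := Finset.orderEmbOfFin_unique hA'
    (f := fun x => Equiv.swap (⟨k, by omega⟩ : Fin m) ⟨k + 1, hk⟩ (A.orderEmbOfFin hA x))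
    (fun x => by
      rw [Finset.mem_map]
      exact ⟨A.orderEmbOfFin hA x, Finset.orderEmbOfFin_mem A hA x, rfl⟩)
    (fun x y hxy => by
      apply swap_lt k hk _ _ ((A.orderEmbOfFin hA).strictMono hxy)
      rintro ⟨h1, h2⟩
      apply hone
      rw [← h1, ← h2]
      exact ⟨Finset.orderEmbOfFin_mem A hA x, Finset.orderEmbOfFin_mem A hA y⟩)
  exact (congrFun this x).symm

lemma map_swap_eq_self (A : Finset (Fin m))
    (h : (⟨k, by omega⟩ : Fin m) ∈ A ↔ (⟨k + 1, hk⟩ : Fin m) ∈ A) :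
    A.map (Equiv.swap (⟨k, by omega⟩ : Fin m) ⟨k + 1, hk⟩).toEmbedding = A := by
  ext c
  rw [Finset.mem_map]
  constructor
  · rintro ⟨c', hc', rfl⟩
    simp only [Equiv.coe_toEmbedding]
    rw [Equiv.swap_apply_def]
    split_ifs with h1 h2
    · rw [h1] at hc'; exact h.1 hc'
    · rw [h2] at hc'; exact h.2 hc'
    · exact hc'
  · intro hc
    refine ⟨Equiv.swap (⟨k, by omega⟩ : Fin m) ⟨k + 1, hk⟩ c, ?_, by simp⟩
    rw [Equiv.swap_apply_def]
    split_ifs with h1 h2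
    · rw [h1] at hc; exact h.1 hc
    · rw [h2] at hc; exact h.2 hc
    · exact hc

lemma compl_map_swap (A : Finset (Fin m)) :
    (A.map (Equiv.swap (⟨k, by omega⟩ : Fin m) ⟨k + 1, hk⟩).toEmbedding)ᶜ =
      Aᶜ.map (Equiv.swap (⟨k, by omega⟩ : Fin m) ⟨k + 1, hk⟩).toEmbedding := by
  ext c
  simp only [Finset.mem_compl, Finset.mem_map, Equiv.coe_toEmbedding]
  constructor
  · intro h
    refine ⟨Equiv.swap (⟨k, by omega⟩ : Fin m) ⟨k + 1, hk⟩ c, ?_, by simp⟩
    intro hc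
    exact h ⟨_, hc, by simp⟩
  · rintro ⟨c', hc', rfl⟩ ⟨c'', hc'', h⟩
    rw [(Equiv.injective _ h)] at hc''
    exact hc' hc''

lemma sum_map_swap_of_mem (A : Finset (Fin m)) (ha : (⟨k, by omega⟩ : Fin m) ∈ A)
    (hb : (⟨k + 1, hk⟩ : Fin m) ∉ A) :
    ∑ c ∈ A.map (Equiv.swap (⟨k, by omega⟩ : Fin m) ⟨k + 1, hk⟩).toEmbedding, c.val =
      ∑ c ∈ A, c.val + 1 := by
  classical
  rw [Finset.sum_map, ← Finset.add_sum_erase A _ ha, ← Finset.add_sum_erase A (fun c => c.val) ha]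
  simp only [Equiv.coe_toEmbedding, Equiv.swap_apply_left]
  have : ∑ x ∈ A.erase (⟨k, by omega⟩ : Fin m), (Equiv.swap (⟨k, by omega⟩ : Fin m) ⟨k + 1, hk⟩ x).val =
      ∑ x ∈ A.erase (⟨k, by omega⟩ : Fin m), x.val := by
    apply Finset.sum_congr rfl
    intro c hc
    rw [Finset.mem_erase] at hc
    rw [Equiv.swap_apply_of_ne_of_ne hc.1 (fun h => hb (by rw [← h]; exact hc.2))]
  rw [this]
  omega

lemma sum_map_swap_of_mem' (A : Finset (Fin m)) (ha : (⟨k, by omega⟩ : Fin m) ∉ A)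
    (hb : (⟨k + 1, hk⟩ : Fin m) ∈ A) :
    ∑ c ∈ A.map (Equiv.swap (⟨k, by omega⟩ : Fin m) ⟨k + 1, hk⟩).toEmbedding, c.val + 1 =
      ∑ c ∈ A, c.val := by
  classical
  rw [Finset.sum_map, ← Finset.add_sum_erase A _ hb, ← Finset.add_sum_erase A (fun c => c.val) hb]
  simp only [Equiv.coe_toEmbedding, Equiv.swap_apply_right]
  have : ∑ x ∈ A.erase (⟨k + 1, hk⟩ : Fin m), (Equiv.swap (⟨k, by omega⟩ : Fin m) ⟨k + 1, hk⟩ x).val =
      ∑ x ∈ A.erase (⟨k + 1, hk⟩ : Fin m), x.val := by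
    apply Finset.sum_congr rfl
    intro c hc
    rw [Finset.mem_erase] at hc
    rw [Equiv.swap_apply_of_ne_of_ne (fun h => ha (by rw [← h]; exact hc.2)) hc.1]
  rw [this]
  omega

end Swap

end Groth.Agent.Lib.Helper99.SMT
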