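import Mathlib
import Groth.Agent.Lib.Helper99.SMTBasic
import Groth.Agent.Lib.Helper99.SMTShuffleA
import Groth.Agent.Lib.Helper99.SMTShuffleB
import Groth.Agent.Lib.Helper99.SMTCoord

set_option autoImplicit false
universe u

namespace Groth.Agent.Lib.Helper99.SMT
open W4bk4grassmannian MvPolynomial

variable {d n : ℕ} (K : Type u) [CommRing K]

lemma card_compl_of_card {r : Fin d} {A : Finset (Fin (d + 1))} (hA : A.card = r.val + 1) :
    Aᶜ.card = d - r.val := by
  rw [Finset.card_compl, hA, Fintype.card_fin]; omega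

/-- the value of one shuffle term on the moving rows `v` -/
noncomputable def fA (r : Fin d) (P Q : Fin d → (Fin d → K)) (v : Fin (d + 1) → (Fin d → K))
    (A : Finset (Fin (d + 1))) : K :=
  if hA : A.card = r.val + 1 then
    (-1 : K) ^ shuffleSign r A * (D1 K r P (fun x => v (A.orderEmbOfFin hA x)) *
      D2 K r Q (fun y => v (Aᶜ.orderEmbOfFin (card_compl_of_card hA) y)))
  else 0

/-- the shuffle sum as a multilinear map of the moving rows -/
noncomputable def GG (r : Fin d) (P Q : Fin d → (Fin d → K)) :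
    MultilinearMap K (fun _ : Fin (d + 1) => (Fin d → K)) K :=
  ∑ A : Finset (Fin (d + 1)), if hA : A.card = r.val + 1 then
    ((-1 : K) ^ shuffleSign r A) • TA K r P Q A hA (card_compl_of_card hA) else 0

lemma GG_apply (r : Fin d) (P Q : Fin d → (Fin d → K)) (v : Fin (d + 1) → (Fin d → K)) :
    GG K r P Q v = ∑ A : Finset (Fin (d + 1)), fA K r P Q v A := by
  unfold GG
  rw [sum_apply]
  apply Finset.sum_congr rfl
  intro A _
  unfold fA
  split_ifs with hA
  · rw [smul_apply, TA_apply, smul_eq_mul]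
  · rfl

section Adj
variable (r : Fin d) (P Q : Fin d → (Fin d → K)) (v : Fin (d + 1) → (Fin d → K))
  (k : ℕ) (hk : k + 1 < d + 1) (hv : v ⟨k, by omega⟩ = v ⟨k + 1, hk⟩)

include hv in
lemma fA_zero_of_both (A : Finset (Fin (d + 1))) (ha : (⟨k, by omega⟩ : Fin (d + 1)) ∈ A)
    (hb : (⟨k + 1, hk⟩ : Fin (d + 1)) ∈ A) : fA K r P Q v A = 0 := by
  unfold fA
  split_ifs with hA
  · have h1 : (⟨k, by omega⟩ : Fin (d + 1)) ∈ Set.range (A.orderEmbOfFin hA) := by
      rw [Finset.range_orderEmbOfFin]; exact ha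
    have h2 : (⟨k + 1, hk⟩ : Fin (d + 1)) ∈ Set.range (A.orderEmbOfFin hA) := by
      rw [Finset.range_orderEmbOfFin]; exact hb
    obtain ⟨x, hx⟩ := h1
    obtain ⟨y, hy⟩ := h2
    have hxy : x ≠ y := by
      intro h
      have e : (⟨k, by omega⟩ : Fin (d + 1)) = ⟨k + 1, hk⟩ := by rw [← hx, ← hy, h]
      exact absurd (congrArg Fin.val e) (by simp)
    rw [D1_alt K r P _ x y hxy (by show v _ = v _; rw [hx, hy]; exact hv)]
    ring
  · rfl

include hv in
lemma fA_zero_of_neither (A : Finset (Fin (d + 1))) (ha : (⟨k, by omega⟩ : Fin (d + 1)) ∉ A)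
    (hb : (⟨k + 1, hk⟩ : Fin (d + 1)) ∉ A) : fA K r P Q v A = 0 := by
  unfold fA
  split_ifs with hA
  · have hC := card_compl_of_card hA
    have h1 : (⟨k, by omega⟩ : Fin (d + 1)) ∈ Set.range (Aᶜ.orderEmbOfFin hC) := by
      rw [Finset.range_orderEmbOfFin]; simpa using ha
    have h2 : (⟨k + 1, hk⟩ : Fin (d + 1)) ∈ Set.range (Aᶜ.orderEmbOfFin hC) := by
      rw [Finset.range_orderEmbOfFin]; simpa using hb
    obtain ⟨x, hx⟩ := h1
    obtain ⟨y, hy⟩ := h2
    have hxy : x ≠ y := by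
      intro h
      have e : (⟨k, by omega⟩ : Fin (d + 1)) = ⟨k + 1, hk⟩ := by rw [← hx, ← hy, h]
      exact absurd (congrArg Fin.val e) (by simp)
    rw [D2_alt K r Q _ x y hxy (by show v _ = v _; rw [hx, hy]; exact hv)]
    ring
  · rfl

include hv in
lemma v_swap (c : Fin (d + 1)) :
    v (Equiv.swap (⟨k, by omega⟩ : Fin (d + 1)) ⟨k + 1, hk⟩ c) = v c := by
  rw [Equiv.swap_apply_def]
  split_ifs with h1 h2
  · rw [h1]; exact hv.symm
  · rw [h2]; exact hv
  · rfl

include hv in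
lemma fA_swap (A : Finset (Fin (d + 1)))
    (hone : ¬ ((⟨k, by omega⟩ : Fin (d + 1)) ∈ A ↔ (⟨k + 1, hk⟩ : Fin (d + 1)) ∈ A)) :
    fA K r P Q v A +
      fA K r P Q v (A.map (Equiv.swap (⟨k, by omega⟩ : Fin (d + 1)) ⟨k + 1, hk⟩).toEmbedding) = 0 := by
  unfold fA
  have hcard : (A.map (Equiv.swap (⟨k, by omega⟩ : Fin (d + 1)) ⟨k + 1, hk⟩).toEmbedding).card = A.card :=
    Finset.card_map _
  by_cases hA : A.card = r.val + 1
  · have hA' : (A.map (Equiv.swap (⟨k, by omega⟩ : Fin (d + 1)) ⟨k + 1, hk⟩).toEmbedding).card = r.val + 1 := by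
      rw [hcard, hA]
    rw [dif_pos hA, dif_pos hA']
    have hC := card_compl_of_card hA
    have hC' := card_compl_of_card hA'
    have hnot : ¬ ((⟨k, by omega⟩ : Fin (d + 1)) ∈ A ∧ (⟨k + 1, hk⟩ : Fin (d + 1)) ∈ A) :=
      fun h => hone ⟨fun _ => h.2, fun _ => h.1⟩
    have hnotC : ¬ ((⟨k, by omega⟩ : Fin (d + 1)) ∈ Aᶜ ∧ (⟨k + 1, hk⟩ : Fin (d + 1)) ∈ Aᶜ) := by
      rintro ⟨h1, h2⟩
      rw [Finset.mem_compl] at h1 h2
      exact hone ⟨fun h => absurd h h1, fun h => absurd h h2⟩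
    have e1 : (fun x => v ((A.map (Equiv.swap (⟨k, by omega⟩ : Fin (d + 1)) ⟨k + 1, hk⟩).toEmbedding).orderEmbOfFin
        hA' x)) = fun x => v (A.orderEmbOfFin hA x) := by
      funext x
      rw [orderEmbOfFin_map_swap k hk A hA hnot hA' x, v_swap K v k hk hv]
    have e2 : (fun y => v ((A.map (Equiv.swap (⟨k, by omega⟩ : Fin (d + 1)) ⟨k + 1, hk⟩).toEmbedding)ᶜ.orderEmbOfFin
        hC' y)) = fun y => v (Aᶜ.orderEmbOfFin hC y) := by
      funext y
      have hCm : (Aᶜ.map (Equiv.swap (⟨k, by omega⟩ : Fin (d + 1)) ⟨k + 1, hk⟩).toEmbedding).card = d - r.val := by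
        rw [Finset.card_map, hC]
      have := orderEmbOfFin_map_swap k hk Aᶜ hC hnotC hCm y
      rw [← v_swap K v k hk hv (Aᶜ.orderEmbOfFin hC y), ← this]
      congr 1
      simp only [compl_map_swap]
    rw [e1, e2]
    have hs : (-1 : K) ^ shuffleSign r (A.map (Equiv.swap (⟨k, by omega⟩ : Fin (d + 1)) ⟨k + 1, hk⟩).toEmbedding)
        = - (-1 : K) ^ shuffleSign r A := by
      unfold shuffleSign
      have g1 := sum_val_ge A r.val hA
      have g2 := sum_val_ge _ r.val hA'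
      by_cases ha : (⟨k, by omega⟩ : Fin (d + 1)) ∈ A
      · have hb : (⟨k + 1, hk⟩ : Fin (d + 1)) ∉ A := fun hb => hnot ⟨ha, hb⟩
        have := sum_map_swap_of_mem k hk A ha hb
        have e : (∑ c ∈ A.map (Equiv.swap (⟨k, by omega⟩ : Fin (d + 1)) ⟨k + 1, hk⟩).toEmbedding, c.val) -
            r.val * (r.val + 1) / 2 = (∑ c ∈ A, c.val - r.val * (r.val + 1) / 2) + 1 := by omega
        rw [e, pow_succ]; ring
      · have hb : (⟨k + 1, hk⟩ : Fin (d + 1)) ∈ A := by
          by_contra hb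
          exact hone ⟨fun h => absurd h ha, fun h => absurd h hb⟩
        have := sum_map_swap_of_mem' k hk A ha hb
        have e : (∑ c ∈ A, c.val) - r.val * (r.val + 1) / 2 =
            (∑ c ∈ A.map (Equiv.swap (⟨k, by omega⟩ : Fin (d + 1)) ⟨k + 1, hk⟩).toEmbedding, c.val -
              r.val * (r.val + 1) / 2) + 1 := by omega
        rw [e, pow_succ]; ring
    rw [hs]; ring
  · have hA' : ¬ (A.map (Equiv.swap (⟨k, by omega⟩ : Fin (d + 1)) ⟨k + 1, hk⟩).toEmbedding).card = r.val + 1 := by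
      rw [hcard]; exact hA
    rw [dif_neg hA, dif_neg hA', add_zero]

include hv in
theorem GG_adjacent : GG K r P Q v = 0 := by
  classical
  rw [GG_apply]
  refine Finset.sum_involution
    (fun A _ => A.map (Equiv.swap (⟨k, by omega⟩ : Fin (d + 1)) ⟨k + 1, hk⟩).toEmbedding) ?_ ?_
    (fun A _ => Finset.mem_univ _) ?_
  · intro A _
    by_cases hiff : ((⟨k, by omega⟩ : Fin (d + 1)) ∈ A ↔ (⟨k + 1, hk⟩ : Fin (d + 1)) ∈ A)
    · rw [map_swap_eq_self k hk A hiff]
      by_cases ha : (⟨k, by omega⟩ : Fin (d + 1)) ∈ A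
      · rw [fA_zero_of_both K r P Q v k hk hv A ha (hiff.1 ha), add_zero]
      · rw [fA_zero_of_neither K r P Q v k hk hv A ha (fun hb => ha (hiff.2 hb)), add_zero]
    · exact fA_swap K r P Q v k hk hv A hiff
  · intro A _ hne heq
    apply hne
    have hiff : ((⟨k, by omega⟩ : Fin (d + 1)) ∈ A ↔ (⟨k + 1, hk⟩ : Fin (d + 1)) ∈ A) := by
      constructor
      · intro ha
        have : Equiv.swap (⟨k, by omega⟩ : Fin (d + 1)) ⟨k + 1, hk⟩ ⟨k, by omega⟩ ∈
            A.map (Equiv.swap (⟨k, by omega⟩ : Fin (d + 1)) ⟨k + 1, hk⟩).toEmbedding :=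
          Finset.mem_map_of_mem _ ha
        rw [heq, Equiv.swap_apply_left] at this
        exact this
      · intro hb
        have : Equiv.swap (⟨k, by omega⟩ : Fin (d + 1)) ⟨k + 1, hk⟩ ⟨k + 1, hk⟩ ∈
            A.map (Equiv.swap (⟨k, by omega⟩ : Fin (d + 1)) ⟨k + 1, hk⟩).toEmbedding :=
          Finset.mem_map_of_mem _ hb
        rw [heq, Equiv.swap_apply_right] at this
        exact this
    by_cases ha : (⟨k, by omega⟩ : Fin (d + 1)) ∈ A
    · exact fA_zero_of_both K r P Q v k hk hv A ha (hiff.1 ha)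
    · exact fA_zero_of_neither K r P Q v k hk hv A ha (fun hb => ha (hiff.2 hb))
  · intro A _
    ext c
    simp only [Finset.mem_map, Equiv.coe_toEmbedding]
    constructor
    · rintro ⟨c', ⟨c'', hc'', rfl⟩, rfl⟩
      simpa using hc''
    · intro hc
      exact ⟨_, ⟨c, hc, rfl⟩, by simp⟩

end Adj

theorem GG_eq_zero (r : Fin d) (P Q : Fin d → (Fin d → K)) : GG K r P Q = 0 := by
  apply multilinear_eq_zero_of_card_lt (Nat.lt_succ_self d)
  apply multilinear_alternating_of_adjacent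
  intro v k hk hv
  exact GG_adjacent K r P Q v k hk hv

theorem evalMinors_shuffleRel (M : Matrix (Fin n) (Fin d) K) (i j : Idx d n) (r : Fin d) :
    evalMinors K d n M (shuffleRel K i j r) = 0 := by
  have h := GG_eq_zero K r (fun t => M (i.1 t)) (fun t => M (j.1 t))
  have h2 : GG K r (fun t => M (i.1 t)) (fun t => M (j.1 t)) (fun k => M (movingRows i j r k)) = 0 := by
    rw [h]; rfl
  rw [GG_apply] at h2
  rw [← h2]
  unfold shuffleRel
  rw [map_sum]
  apply Finset.sum_congr rfl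
  intro A _
  unfold shuffleTerm fA
  split_ifs with hA
  · rw [map_mul, map_mul, map_pow, map_neg, map_one, evalMinors_coord, evalMinors_coord, mul_assoc]
    congr 2
    · rw [D1_apply]
      congr 1
      ext t s
      unfold shuffleI rowsI
      simp only [Matrix.submatrix_apply, id, Matrix.of_apply]
      split_ifs <;> rfl
    · rw [D2_apply]
      congr 1
      ext t s
      unfold shuffleJ rowsJ
      simp only [Matrix.submatrix_apply, id, Matrix.of_apply]
      split_ifs <;> rfl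
  · rw [map_zero]

end Groth.Agent.Lib.Helper99.SMT
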