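import Mathlib
import Groth.Agent.Lib.Helper99.SMTBasic

set_option autoImplicit false
universe u

namespace Groth.Agent.Lib.Helper99.SMT
open W4bk4grassmannian MvPolynomial

variable {d n : ℕ}

lemma sum_shuffle_eq {M : Type*} [AddCommMonoid M] (g : Fin n → M) (i j : Idx d n) (r : Fin d)
    (A : Finset (Fin (d + 1))) (hA : A.card = r.val + 1) :
    ∑ t, g (shuffleI i j r A hA t) + ∑ t, g (shuffleJ i j r A hA t) =
      ∑ t, g (i.1 t) + ∑ t, g (j.1 t) := by
  rw [sum_shuffle g i j r A hA, ← sum_shuffle g i j r (A0 r) (card_A0 r), shuffleI_A0, shuffleJ_A0]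

lemma cnt_eq_sum (a : Fin d → Fin n) : cnt a = ∑ t, ({a t} : Multiset (Fin n)) := by
  unfold cnt
  rw [Finset.sum_eq_multiset_sum]
  conv_lhs => rw [← Multiset.sum_map_singleton (Multiset.map a Finset.univ.val), Multiset.map_map]
  rfl

lemma cnt_shuffle (i j : Idx d n) (r : Fin d) (A : Finset (Fin (d + 1))) (hA : A.card = r.val + 1) :
    cnt (shuffleI i j r A hA) + cnt (shuffleJ i j r A hA) = cnt i.1 + cnt j.1 := by
  simp only [cnt_eq_sum]
  exact sum_shuffle_eq (fun x => ({x} : Multiset (Fin n))) i j r A hA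

lemma sum_lt_sum_of_ne_A0 {m : ℕ} (f : Fin m → ℕ) (hf : StrictMono f) (r : Fin m)
    (A : Finset (Fin m)) (hA : A.card = (Finset.Iic r).card) (hne : A ≠ Finset.Iic r) :
    ∑ k ∈ Finset.Iic r, f k < ∑ k ∈ A, f k := by
  classical
  set B := Finset.Iic r with hB
  have hc : (A \ B).card = (B \ A).card := by
    have e1 := Finset.card_sdiff_add_card_inter A B
    have e2 := Finset.card_sdiff_add_card_inter B A
    rw [Finset.inter_comm] at e2
    omega
  have hpos : 0 < (A \ B).card := by
    rw [Finset.card_pos]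
    by_contra hempty
    rw [Finset.not_nonempty_iff_eq_empty, Finset.sdiff_eq_empty_iff_subset] at hempty
    exact hne (Finset.eq_of_subset_of_card_le hempty (le_of_eq hA.symm))
  have h3 : (A \ B).card • (f r + 1) ≤ ∑ k ∈ A \ B, f k := by
    apply Finset.card_nsmul_le_sum
    intro k hk
    rw [Finset.mem_sdiff, hB, Finset.mem_Iic, not_le] at hk
    exact hf hk.2
  have h4 : ∑ k ∈ B \ A, f k ≤ (B \ A).card • f r := by
    apply Finset.sum_le_card_nsmul
    intro k hk
    rw [Finset.mem_sdiff, hB, Finset.mem_Iic] at hk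
    exact hf.monotone hk.1
  rw [← Finset.sum_sdiff_lt_sum_sdiff]
  simp only [smul_eq_mul] at h3 h4
  rw [hc] at h3 hpos
  nlinarith

lemma A0_eq_Iic (r : Fin d) : A0 r = Finset.Iic (⟨r.val, by omega⟩ : Fin (d + 1)) := by
  ext k; simp [A0, Fin.le_def]

lemma tsum_shuffleI_gt (i j : Idx d n) (r : Fin d) (hp : i.1 r < j.1 r)
    (A : Finset (Fin (d + 1))) (hA : A.card = r.val + 1) (hne : A ≠ A0 r) :
    tsum i.1 < tsum (shuffleI i j r A hA) := by
  have key : ∀ (B : Finset (Fin (d + 1))) (hB : B.card = r.val + 1),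
      tsum (shuffleI i j r B hB) = ∑ k ∈ B, (movingRows i j r k).val +
        ∑ t : Fin d, (if t.val ≤ r.val then 0 else (i.1 t).val) := by
    intro B hB
    unfold tsum
    rw [← sum_orderEmbOfFin B hB (fun k => (movingRows i j r k).val),
      ← sum_dite_le r (fun x => (movingRows i j r (B.orderEmbOfFin hB x)).val), ← Finset.sum_add_distrib]
    apply Finset.sum_congr rfl
    intro t _
    unfold shuffleI
    by_cases ht : t.val ≤ r.val
    · rw [dif_pos ht, dif_pos ht, if_pos ht, add_zero]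
    · rw [dif_neg ht, dif_neg ht, if_neg ht, zero_add]
  have h0 := key (A0 r) (card_A0 r)
  rw [shuffleI_A0] at h0
  rw [h0, key A hA]
  apply Nat.add_lt_add_right
  rw [A0_eq_Iic] at hne ⊢
  apply sum_lt_sum_of_ne_A0 (fun k => (movingRows i j r k).val)
    (fun a b hab => movingRows_strictMono i j r hp hab) _ A _ hne
  rw [hA, Fin.card_Iic]

end Groth.Agent.Lib.Helper99.SMT
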