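import Mathlib
import Groth.Agent.Lib.Helper99.SMTBasic
import Groth.Agent.Lib.Helper99.SMTStraightA

set_option autoImplicit false
universe u

namespace Groth.Agent.Lib.Helper99.SMT
open W4bk4grassmannian MvPolynomial

variable {d n : ℕ}

/-- weight of an index: the sum of its entries -/
def wt (θ : Idx d n) : ℕ := tsum θ.1

lemma wt_eq_of_cnt_eq {θ : Idx d n} {a : Fin d → Fin n} (h : cnt θ.1 = cnt a) : wt θ = tsum a := by
  unfold wt; rw [tsum_eq_cnt, tsum_eq_cnt, h]

variable (K : Type u) [CommRing K]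

/-- the quadratic monomials allowed on the right of the straightening of `X a * X b` -/
def goodPairs (a b : Idx d n) : Set (PlRing K d n) :=
  {f | ∃ i' j' : Idx d n, cnt i'.1 + cnt j'.1 = cnt a.1 + cnt b.1 ∧
    wt a ^ 2 + wt b ^ 2 < wt i' ^ 2 + wt j' ^ 2 ∧ f = X i' * X j'}

lemma goodPairs_comm (a b : Idx d n) : goodPairs K a b = goodPairs K b a := by
  ext f
  constructor <;>
  · rintro ⟨i', j', h1, h2, rfl⟩
    exact ⟨i', j', by rw [h1, add_comm], by rw [add_comm (wt _ ^ 2)]; exact h2, rfl⟩

lemma neg_one_pow_mul_mem {N : Submodule K (PlRing K d n)} {f : PlRing K d n} (hf : f ∈ N) (k : ℕ) :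
    (-1 : PlRing K d n) ^ k * f ∈ N := by
  rcases Nat.even_or_odd k with he | ho
  · rw [he.neg_one_pow, one_mul]; exact hf
  · rw [ho.neg_one_pow, neg_one_mul]; exact N.neg_mem hf

lemma shuffleTerm_A0 (i j : Idx d n) (r : Fin d) : shuffleTerm K i j r (A0 r) = X i * X j := by
  unfold shuffleTerm
  rw [dif_pos (card_A0 r), shuffleSign_A0, shuffleI_A0, shuffleJ_A0, coord_of_strictMono,
    coord_of_strictMono, pow_zero, one_mul]

lemma shuffleTerm_mem_good (i j : Idx d n) (r : Fin d) (hp : i.1 r < j.1 r) (hw : wt j ≤ wt i)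
    (A : Finset (Fin (d + 1))) (hne : A ≠ A0 r) :
    shuffleTerm K i j r A ∈ Submodule.span K (goodPairs K i j) := by
  unfold shuffleTerm
  split_ifs with hA
  · rcases coord_cases K (shuffleI i j r A hA) with h0 | ⟨i', hi', hI⟩
    · rw [h0]; simp
    rcases coord_cases K (shuffleJ i j r A hA) with h0 | ⟨j', hj', hJ⟩
    · rw [h0]; simp
    have hcnt : cnt i'.1 + cnt j'.1 = cnt i.1 + cnt j.1 := by
      rw [hi', hj', cnt_shuffle]
    have hwi : wt i < wt i' := by
      rw [wt_eq_of_cnt_eq hi']; exact tsum_shuffleI_gt i j r hp A hA hne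
    have hsum : wt i' + wt j' = wt i + wt j := by
      have := congrArg (fun s : Multiset (Fin n) => (s.map Fin.val).sum) hcnt
      simp only [Multiset.map_add, Multiset.sum_add] at this
      unfold wt
      rw [tsum_eq_cnt, tsum_eq_cnt, tsum_eq_cnt, tsum_eq_cnt]
      exact this
    have hmem : X i' * X j' ∈ Submodule.span K (goodPairs K i j) := by
      apply Submodule.subset_span
      refine ⟨i', j', hcnt, ?_, rfl⟩
      nlinarith
    rw [mul_assoc]
    apply neg_one_pow_mul_mem
    rcases hI with hI | hI <;> rcases hJ with hJ | hJ <;> rw [hI, hJ]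
    · exact hmem
    · rw [mul_neg]; exact Submodule.neg_mem _ hmem
    · rw [neg_mul]; exact Submodule.neg_mem _ hmem
    · rw [neg_mul_neg]; exact hmem
  · exact Submodule.zero_mem _

theorem straighten_pair_aux (i j : Idx d n) (hij : ¬ j ≤ i) (hw : wt j ≤ wt i) :
    X i * X j ∈ Submodule.span K (goodPairs K i j) ⊔ (plIdealTop (d := d) (n := n) K).restrictScalars K := by
  classical
  -- the pivot
  have hex : ∃ t, i.1 t < j.1 t := by
    by_contra hcon
    push Not at hcon
    exact hij (fun t => hcon t)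
  obtain ⟨r, hr, hmin⟩ := wellFounded_lt.has_min {t : Fin d | i.1 t < j.1 t} hex
  have hpiv : IsPivot i j r := ⟨fun t ht => not_lt.1 (fun hlt => hmin t hlt ht), hr⟩
  have hrel : shuffleRel K i j r ∈ plIdealTop (d := d) (n := n) K :=
    Ideal.subset_span ⟨i, j, r, hpiv, rfl⟩
  have hsplit : shuffleRel K i j r = X i * X j +
      ∑ A ∈ Finset.univ.erase (A0 r), shuffleTerm K i j r A := by
    unfold shuffleRel
    rw [← Finset.add_sum_erase _ _ (Finset.mem_univ (A0 r)), shuffleTerm_A0]
  have heq : X i * X j = - ∑ A ∈ Finset.univ.erase (A0 r), shuffleTerm K i j r A +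
      shuffleRel K i j r := by rw [hsplit]; ring
  rw [heq]
  apply Submodule.add_mem_sup
  · apply Submodule.neg_mem
    apply Submodule.sum_mem
    intro A hA
    exact shuffleTerm_mem_good K i j r hr hw A (Finset.ne_of_mem_erase hA)
  · exact hrel

theorem straighten_pair (a b : Idx d n) (h1 : ¬ a ≤ b) (h2 : ¬ b ≤ a) :
    X a * X b ∈ Submodule.span K (goodPairs K a b) ⊔ (plIdealTop (d := d) (n := n) K).restrictScalars K := by
  rcases le_total (wt b) (wt a) with hw | hw
  · exact straighten_pair_aux K a b h2 hw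
  · rw [mul_comm, goodPairs_comm]
    exact straighten_pair_aux K b a h1 hw

end Groth.Agent.Lib.Helper99.SMT
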