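import Mathlib
import Groth.Agent.Lib.Helper99.SMTBasic
import Groth.Agent.Lib.Helper99.SMTStraightA
import Groth.Agent.Lib.Helper99.SMTStraightB

set_option autoImplicit false
universe u

namespace Groth.Agent.Lib.Helper99.SMT
open W4bk4grassmannian MvPolynomial

variable {d n : ℕ}

/-- the multiset of members of a tuple of indices -/
def msOf {m : ℕ} (c : Fin m → Idx d n) : Multiset (Idx d n) := Finset.univ.val.map c

/-- total content of a multiset of indices -/
def Cnt (s : Multiset (Idx d n)) : Multiset (Fin n) := (s.map fun θ => cnt θ.1).sum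

/-- the straightening measure: sum of squares of the weights -/
def Phi (s : Multiset (Idx d n)) : ℕ := (s.map fun θ => wt θ ^ 2).sum

lemma msOf_cons {m : ℕ} (a : Idx d n) (c : Fin m → Idx d n) :
    msOf (Fin.cons a c : Fin (m + 1) → Idx d n) = a ::ₘ msOf c := by
  unfold msOf
  rw [Fin.univ_succ]
  simp [Function.comp_def]

lemma mem_msOf {m : ℕ} (c : Fin m → Idx d n) (x : Idx d n) : x ∈ msOf c ↔ ∃ k, c k = x := by
  simp [msOf]

lemma exists_antitone_of_chain :
    ∀ (k : ℕ) (s : Multiset (Idx d n)), s.card = k → (∀ x ∈ s, ∀ y ∈ s, x ≤ y ∨ y ≤ x) →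
    ∃ (m : ℕ) (c : Fin m → Idx d n), Antitone c ∧ msOf c = s := by
  classical
  intro k
  induction k with
  | zero =>
    intro s hs _
    rw [Multiset.card_eq_zero] at hs
    subst hs
    exact ⟨0, Fin.elim0, fun x => x.elim0, by simp [msOf]⟩
  | succ k ih =>
    intro s hs hch
    have hne : s.toFinset.Nonempty := by
      rw [Multiset.toFinset_nonempty]
      intro h0; rw [h0] at hs; simp at hs
    obtain ⟨a, ha, hmax⟩ := s.toFinset.exists_maximal hne
    rw [Multiset.mem_toFinset] at ha
    have hamax : ∀ x ∈ s, x ≤ a := by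
      intro x hx
      rcases hch x hx a ha with h | h
      · exact h
      · exact hmax (Multiset.mem_toFinset.2 hx) h
    obtain ⟨m, c, hc, hcs⟩ := ih (s.erase a) (by rw [Multiset.card_erase_of_mem ha, hs]; rfl)
      (fun x hx y hy => hch x (Multiset.mem_of_mem_erase hx) y (Multiset.mem_of_mem_erase hy))
    refine ⟨m + 1, Fin.cons a c, ?_, ?_⟩
    · intro x y hxy
      induction x using Fin.cases with
      | zero =>
        induction y using Fin.cases with
        | zero => exact le_refl _
        | succ y =>
          rw [Fin.cons_succ, Fin.cons_zero]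
          apply hamax
          have hmem : c y ∈ s.erase a := by
            rw [← hcs, mem_msOf]
            exact ⟨y, rfl⟩
          exact Multiset.mem_of_mem_erase hmem
      | succ x =>
        induction y using Fin.cases with
        | zero => exact absurd hxy (by simp)
        | succ y =>
          rw [Fin.cons_succ, Fin.cons_succ]
          exact hc (Fin.succ_le_succ_iff.1 hxy)
    · rw [msOf_cons, hcs, Multiset.cons_erase ha]

variable (K : Type u) [CommRing K]

/-- the monomial of a multiset of indices -/
noncomputable def mon (s : Multiset (Idx d n)) : PlRing K d n := (s.map fun θ => (X θ : PlRing K d n)).prod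

lemma chainMon_eq_mon {m : ℕ} (c : Fin m → Idx d n) : chainMon K c = mon K (msOf c) := by
  unfold chainMon mon msOf
  rw [Finset.prod_eq_multiset_prod, Multiset.map_map]
  rfl

lemma mon_cons (a : Idx d n) (s : Multiset (Idx d n)) : mon K (a ::ₘ s) = X a * mon K s := by
  unfold mon; rw [Multiset.map_cons, Multiset.prod_cons]

lemma Cnt_cons (a : Idx d n) (s : Multiset (Idx d n)) : Cnt (a ::ₘ s) = cnt a.1 + Cnt s := by
  unfold Cnt; rw [Multiset.map_cons, Multiset.sum_cons]

lemma Phi_cons (a : Idx d n) (s : Multiset (Idx d n)) : Phi (a ::ₘ s) = wt a ^ 2 + Phi s := by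
  unfold Phi; rw [Multiset.map_cons, Multiset.sum_cons]

lemma wt_le (θ : Idx d n) : wt θ ≤ d * n := by
  unfold wt tsum
  calc ∑ t, (θ.1 t).val ≤ ∑ _t : Fin d, n := Finset.sum_le_sum (fun t _ => (θ.1 t).isLt.le)
    _ = d * n := by simp

lemma Phi_le (s : Multiset (Idx d n)) : Phi s ≤ s.card * (d * n) ^ 2 := by
  unfold Phi
  have := Multiset.sum_le_card_nsmul (s.map fun θ => wt θ ^ 2) ((d * n) ^ 2) (by
    intro x hx
    rw [Multiset.mem_map] at hx
    obtain ⟨θ, _, rfl⟩ := hx
    exact Nat.pow_le_pow_left (wt_le θ) 2)
  simpa using this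

/-- standard monomials related to `s`: same content, same degree, larger measure (or equal to `s`). -/
def stdSet (s : Multiset (Idx d n)) : Set (PlRing K d n) :=
  {f | ∃ (m : ℕ) (c : Fin m → Idx d n), Antitone c ∧ Cnt (msOf c) = Cnt s ∧
    (msOf c).card = s.card ∧ (Phi s < Phi (msOf c) ∨ msOf c = s) ∧ f = chainMon K c}

/-- the target of straightening -/
noncomputable def stdTarget (s : Multiset (Idx d n)) : Submodule K (PlRing K d n) :=
  Submodule.span K (stdSet K s) ⊔ (plIdealTop (d := d) (n := n) K).restrictScalars K

lemma stdSet_mono {s s' : Multiset (Idx d n)} (h1 : Cnt s' = Cnt s) (h2 : s'.card = s.card)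
    (h3 : Phi s < Phi s') : stdSet K s' ⊆ stdSet K s := by
  rintro f ⟨m, c, hc, e1, e2, e3, rfl⟩
  refine ⟨m, c, hc, e1.trans h1, e2.trans h2, Or.inl ?_, rfl⟩
  rcases e3 with e3 | e3
  · exact lt_trans h3 e3
  · rw [e3]; exact h3

theorem straighten (s : Multiset (Idx d n)) : mon K s ∈ stdTarget K s := by
  classical
  induction' hk : (s.card * (d * n) ^ 2 - Phi s) using Nat.strong_induction_on with k ih generalizing s
  by_cases hch : ∀ x ∈ s, ∀ y ∈ s, x ≤ y ∨ y ≤ x
  · obtain ⟨m, c, hc, hcs⟩ := exists_antitone_of_chain s.card s rfl hch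
    apply Submodule.mem_sup_left
    apply Submodule.subset_span
    exact ⟨m, c, hc, by rw [hcs], by rw [hcs], Or.inr hcs, by rw [chainMon_eq_mon, hcs]⟩
  · push Not at hch
    obtain ⟨x, hx, y, hy, hxy, hyx⟩ := hch
    have hne : y ≠ x := fun h => hxy (h ▸ le_refl _)
    have hy' : y ∈ s.erase x := (Multiset.mem_erase_of_ne hne).2 hy
    set s0 := (s.erase x).erase y with hs0
    have hs : s = x ::ₘ y ::ₘ s0 := by
      rw [hs0, Multiset.cons_erase hy', Multiset.cons_erase hx]
    have hmon : mon K s = X x * X y * mon K s0 := by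
      rw [hs, mon_cons, mon_cons, mul_assoc]
    rw [hmon]
    have key : ∀ f ∈ Submodule.span K (goodPairs K x y), f * mon K s0 ∈ stdTarget K s := by
      intro f hf
      induction hf using Submodule.span_induction with
      | mem f hf =>
        obtain ⟨i', j', hcnt, hwt, rfl⟩ := hf
        set s' := i' ::ₘ j' ::ₘ s0 with hs'
        have e1 : Cnt s' = Cnt s := by
          rw [hs', hs, Cnt_cons, Cnt_cons, Cnt_cons, Cnt_cons, ← add_assoc, ← add_assoc, hcnt]
        have e2 : s'.card = s.card := by rw [hs', hs]; simp
        have e3 : Phi s < Phi s' := by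
          rw [hs', hs, Phi_cons, Phi_cons, Phi_cons, Phi_cons]; omega
        have hb := Phi_le s'
        have hmem : mon K s' ∈ stdTarget K s' :=
          ih (s'.card * (d * n) ^ 2 - Phi s') (by rw [← hk, e2] at *; omega) s' rfl
        have hmono : stdTarget K s' ≤ stdTarget K s :=
          sup_le_sup_right (Submodule.span_mono (stdSet_mono K e1 e2 e3)) _
        have : X i' * X j' * mon K s0 = mon K s' := by rw [hs', mon_cons, mon_cons, mul_assoc]
        rw [this]
        exact hmono hmem
      | zero => rw [zero_mul]; exact Submodule.zero_mem _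
      | add f g _ _ hf hg => rw [add_mul]; exact Submodule.add_mem _ hf hg
      | smul c f _ hf => rw [smul_mul_assoc]; exact Submodule.smul_mem _ c hf
    obtain ⟨g, hg, h, hh, hgh⟩ := Submodule.mem_sup.1 (straighten_pair K x y hxy hyx)
    rw [← hgh, add_mul]
    apply Submodule.add_mem _ (key g hg)
    apply Submodule.mem_sup_right
    exact Ideal.mul_mem_right _ _ hh

lemma span_mon_eq_top : Submodule.span K (Set.range (mon (d := d) (n := n) K)) = ⊤ := by
  rw [eq_top_iff]
  rintro f -
  induction f using MvPolynomial.induction_on with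
  | C a =>
    have : (C a : PlRing K d n) = a • mon K (0 : Multiset (Idx d n)) := by
      unfold mon; simp [MvPolynomial.smul_eq_C_mul]
    rw [this]
    exact Submodule.smul_mem _ _ (Submodule.subset_span ⟨0, rfl⟩)
  | add p q hp hq => exact Submodule.add_mem _ hp hq
  | mul_X p i hp =>
    induction hp using Submodule.span_induction with
    | mem f hf =>
      obtain ⟨s, rfl⟩ := hf
      apply Submodule.subset_span
      exact ⟨i ::ₘ s, by rw [mon_cons, mul_comm]⟩
    | zero => rw [zero_mul]; exact Submodule.zero_mem _
    | add f g _ _ hf hg => rw [add_mul]; exact Submodule.add_mem _ hf hg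
    | smul c f _ hf => rw [smul_mul_assoc]; exact Submodule.smul_mem _ c hf

/-- General spanning statement: modulo an ideal containing the shuffle relations, everything is a combination of the
standard monomials satisfying `P`, as soon as the standard monomials violating `P` lie in the ideal. -/
theorem std_span (J : Ideal (PlRing K d n)) (hJ : plIdealTop (d := d) (n := n) K ≤ J)
    (P : ∀ m : ℕ, (Fin m → Idx d n) → Prop)
    (hP : ∀ (m : ℕ) (c : Fin m → Idx d n), Antitone c → ¬ P m c → chainMon K c ∈ J)
    (f : PlRing K d n) :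
    f ∈ Submodule.span K {g | ∃ (m : ℕ) (c : Fin m → Idx d n), Antitone c ∧ P m c ∧ g = chainMon K c} ⊔
      J.restrictScalars K := by
  classical
  have htop : f ∈ Submodule.span K (Set.range (mon (d := d) (n := n) K)) := by
    rw [span_mon_eq_top]; trivial
  induction htop using Submodule.span_induction with
  | mem f hf =>
    obtain ⟨s, rfl⟩ := hf
    have h := straighten K s
    unfold stdTarget at h
    have hle : Submodule.span K (stdSet K s) ⊔ (plIdealTop (d := d) (n := n) K).restrictScalars K ≤
        Submodule.span K {g | ∃ (m : ℕ) (c : Fin m → Idx d n), Antitone c ∧ P m c ∧ g = chainMon K c} ⊔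
          J.restrictScalars K := by
      apply sup_le
      · rw [Submodule.span_le]
        rintro g ⟨m, c, hc, -, -, -, rfl⟩
        by_cases hPc : P m c
        · exact Submodule.mem_sup_left (Submodule.subset_span ⟨m, c, hc, hPc, rfl⟩)
        · exact Submodule.mem_sup_right (hP m c hc hPc)
      · exact le_sup_of_le_right (fun x hx => hJ hx)
    exact hle h
  | zero => exact Submodule.zero_mem _
  | add f g _ _ hf hg => exact Submodule.add_mem _ hf hg
  | smul c f _ hf => exact Submodule.smul_mem _ c hf

end Groth.Agent.Lib.Helper99.SMT
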