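import Mathlib
import Groth.Agent.Lib.Helper99.SMTIndep
import Groth.Agent.Lib.Helper99.SMTShuffle
import Groth.Agent.Lib.Helper99.SMTStraight

set_option autoImplicit false
universe u

namespace Groth.Agent.Lib.Helper99.SMT
open W4bk4grassmannian MvPolynomial
open scoped MonomialOrder

variable {d n : ℕ}

/-- the shape of the Schubert variety `X(τ)` -/
def shapeLe (τ : Idx d n) : Shape d where
  lo := fun _ => 0
  hi := fun t => (τ.1 t).val
  lo_mono := monotone_const
  hi_mono := fun _ _ h => τ.2.monotone h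

/-- the shape of the Richardson variety `[σ, τ]` -/
def shapeIcc (σ τ : Idx d n) : Shape d where
  lo := fun t => (σ.1 t).val
  hi := fun t => (τ.1 t).val
  lo_mono := fun _ _ h => σ.2.monotone h
  hi_mono := fun _ _ h => τ.2.monotone h

lemma idx_le_iff (θ τ : Idx d n) : θ ≤ τ ↔ ∀ t, (θ.1 t).val ≤ (τ.1 t).val := by
  constructor
  · intro h t; exact h t
  · intro h t; exact h t

lemma mem_shapeLe (τ θ : Idx d n) : (shapeLe τ).mem θ ↔ θ ≤ τ := by
  rw [idx_le_iff]
  unfold Shape.mem shapeLe
  simp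

lemma mem_shapeIcc (σ τ θ : Idx d n) : (shapeIcc σ τ).mem θ ↔ σ ≤ θ ∧ θ ≤ τ := by
  rw [idx_le_iff, idx_le_iff]
  unfold Shape.mem shapeIcc
  simp only
  exact forall_and

variable (K : Type u) [CommRing K]

lemma mem_schubertVanishing_iff (τ : Idx d n) (f : PlRing K d n) :
    f ∈ schubertVanishing K d n τ ↔
      ∀ A : Matrix (Fin n) (Fin d) K, (∀ φ : Idx d n, ¬ φ ≤ τ → (A.submatrix φ.1 id).det = 0) →
        evalMinors K d n A f = 0 := by
  unfold schubertVanishing
  simp only [Ideal.mem_iInf]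
  rfl

lemma X_mem_schubertVanishing (τ φ : Idx d n) (h : ¬ φ ≤ τ) : X φ ∈ schubertVanishing K d n τ := by
  rw [mem_schubertVanishing_iff]
  intro A hA
  unfold evalMinors
  rw [aeval_X]
  exact hA φ h

lemma plIdealTop_le_schubertVanishing (τ : Idx d n) :
    plIdealTop (d := d) (n := n) K ≤ schubertVanishing K d n τ := by
  unfold plIdealTop
  rw [Ideal.span_le]
  rintro f ⟨i, j, r, -, rfl⟩
  rw [SetLike.mem_coe, mem_schubertVanishing_iff]
  intro A _
  exact evalMinors_shuffleRel K A i j r

lemma plIdealTop_le_plIdeal (τ : Idx d n) : plIdealTop (d := d) (n := n) K ≤ plIdeal K τ := by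
  unfold plIdealTop plIdeal
  exact Ideal.span_mono Set.subset_union_left

lemma plIdeal_le_schubertVanishing (τ : Idx d n) : plIdeal K τ ≤ schubertVanishing K d n τ := by
  unfold plIdeal
  rw [Ideal.span_le]
  rintro f (⟨i, j, r, -, rfl⟩ | ⟨φ, hφ, rfl⟩)
  · rw [SetLike.mem_coe, mem_schubertVanishing_iff]
    intro A _
    exact evalMinors_shuffleRel K A i j r
  · exact X_mem_schubertVanishing K τ φ hφ

lemma schubertVanishing_anti {τ τ' : Idx d n} (h : τ' ≤ τ) :
    schubertVanishing K d n τ ≤ schubertVanishing K d n τ' := by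
  intro f hf
  rw [mem_schubertVanishing_iff] at hf ⊢
  intro A hA
  exact hf A (fun φ hφ => hA φ (fun hφ' => hφ (le_trans hφ' h)))

/-- a monomial having a factor in an ideal lies in the ideal -/
lemma chainMon_mem_of_factor (J : Ideal (PlRing K d n)) {m' : ℕ} (c : Fin m' → Idx d n) (k : Fin m')
    (hk : X (c k) ∈ J) : chainMon K c ∈ J := by
  unfold chainMon
  rw [← Finset.mul_prod_erase Finset.univ _ (Finset.mem_univ k)]
  exact Ideal.mul_mem_right _ _ hk

section Field
variable [IsDomain K] [Infinite K]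

/-- elements of the Schubert ideal vanish at the generic matrix of any shape below `τ` -/
theorem ev_eq_zero_of_mem_schubertVanishing (τ : Idx d n) (S : Shape d)
    (hS : ∀ t, S.hi t ≤ (τ.1 t).val) (f : PlRing K d n) (hf : f ∈ schubertVanishing K d n τ) :
    ev K S f = 0 := by
  apply MvPolynomial.funext
  intro x
  rw [eval_ev, map_zero]
  rw [mem_schubertVanishing_iff] at hf
  apply hf
  intro φ hφ
  apply det_submatrix_eq_zero_of_not_mem S _
    (zeroOutside_map S _ (zeroOutside_genMat K S) _ (map_zero _))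
  intro hmem
  apply hφ
  rw [idx_le_iff]
  intro t
  exact le_trans (hmem t).2 (hS t)

variable (m : MonomialOrder (GVar d n)) (hm : DiagLeading m)

include hm in
theorem eq_zero_of_mem_span_of_ev_eq_zero (hd : 0 < d) (S : Shape d) (g : PlRing K d n)
    (hg : g ∈ Submodule.span K {f | ∃ (m' : ℕ) (c : Fin m' → Idx d n), Antitone c ∧
      (∀ k, S.mem (c k)) ∧ f = chainMon K c}) (h0 : ev K S g = 0) : g = 0 := by
  have hset : {f | ∃ (m' : ℕ) (c : Fin m' → Idx d n), Antitone c ∧
      (∀ k, S.mem (c k)) ∧ f = chainMon K c} =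
      Set.range (fun c : ShapeChain S n => chainMon K c.2.1) := by
    ext f
    constructor
    · rintro ⟨m', c, hc, hmem, rfl⟩
      exact ⟨⟨m', ⟨c, hc, hmem⟩⟩, rfl⟩
    · rintro ⟨⟨m', ⟨c, hc, hmem⟩⟩, rfl⟩
      exact ⟨m', c, hc, hmem, rfl⟩
  rw [hset, Finsupp.mem_span_range_iff_exists_finsupp] at hg
  obtain ⟨l, rfl⟩ := hg
  have hli := linearIndependent_ev K m hm hd S
  rw [linearIndependent_iff] at hli
  have : l = 0 := by
    apply hli
    rw [Finsupp.linearCombination_apply]
    rw [← h0, Finsupp.sum, Finsupp.sum, map_sum]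
    apply Finset.sum_congr rfl
    intro c _
    rw [map_smul]
  rw [this, Finsupp.sum_zero_index]

end Field

end Groth.Agent.Lib.Helper99.SMT
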