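import Mathlib
import Groth.Agent.Lib.Helper99.SMTSchubert

set_option autoImplicit false
universe u

namespace Groth.Agent.Lib.Helper99.SMT
open W4bk4grassmannian MvPolynomial
open scoped MonomialOrder

variable {d n : ℕ}

section Partial
variable {σ : Type*} {K : Type*} [CommRing K] (m : MonomialOrder σ)

/-- partial version of the independence lemma: some of the polynomials may vanish -/
theorem coeff_eq_zero_of_sum_smul_eq_zero {ι : Type*} (v : ι → MvPolynomial σ K) (T : ι → Prop)
    (hmonic : ∀ i, T i → m.Monic (v i)) (hzero : ∀ i, ¬ T i → v i = 0)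
    (hinj : ∀ i j, T i → T j → m.degree (v i) = m.degree (v j) → i = j)
    (s : Finset ι) (g : ι → K) (hsum : ∑ i ∈ s, g i • v i = 0) :
    ∀ i ∈ s, T i → g i = 0 := by
  classical
  intro i0 hi0 hT0
  by_contra hg0
  set s' := s.filter (fun i => g i ≠ 0 ∧ T i) with hs'
  have hne : s'.Nonempty := ⟨i0, Finset.mem_filter.2 ⟨hi0, hg0, hT0⟩⟩
  obtain ⟨i1, hi1, hmax⟩ := Finset.exists_max_image s' (fun i => m.toSyn (m.degree (v i))) hne
  have hi1' := Finset.mem_filter.1 hi1
  have hcoef := congrArg (coeff (m.degree (v i1))) hsum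
  rw [coeff_sum, coeff_zero] at hcoef
  rw [Finset.sum_eq_single i1] at hcoef
  · rw [coeff_smul, (hmonic i1 hi1'.2.2).coeff_degree, smul_eq_mul, mul_one] at hcoef
    exact hi1'.2.1 hcoef
  · intro i his hii1
    by_cases hTi : T i
    · by_cases hgi : g i = 0
      · rw [hgi, zero_smul, coeff_zero]
      · have hi' : i ∈ s' := Finset.mem_filter.2 ⟨his, hgi, hTi⟩
        have hle := hmax i hi'
        have hlt : m.toSyn (m.degree (v i)) < m.toSyn (m.degree (v i1)) := by
          apply lt_of_le_of_ne hle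
          intro heq
          exact hii1 (hinj i i1 hTi hi1'.2.2 (m.toSyn.injective heq))
        rw [coeff_smul, m.coeff_eq_zero_of_lt hlt, smul_zero]
    · rw [hzero i hTi, smul_zero, coeff_zero]
  · intro hi1s
    exact absurd hi1'.1 hi1s

end Partial

variable (K : Type u) [Field K] [Infinite K]

/-- chains with a predicate, the index type of a family of standard monomials -/
abbrev QChain (d n : ℕ) (Q : ∀ m' : ℕ, (Fin m' → Idx d n) → Prop) : Type :=
  Σ m' : ℕ, {c : Fin m' → Idx d n // Antitone c ∧ Q m' c}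

lemma ev_chainMon_eq_zero (S : Shape d) {m' : ℕ} (c : Fin m' → Idx d n) (h : ¬ ∀ k, S.mem (c k)) :
    ev K S (chainMon K c) = 0 := by
  push Not at h
  obtain ⟨k, hk⟩ := h
  rw [ev_chainMon]
  exact Finset.prod_eq_zero (Finset.mem_univ k) (ev_X_eq_zero K S (c k) hk)

/-- General independence: standard monomials are independent modulo an ideal `J` as soon as each of them lives on a
shape at whose generic matrix `J` vanishes. -/
theorem linearIndependent_mk_chainMon (hd : 0 < d) (J : Ideal (PlRing K d n))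
    (Q : ∀ m' : ℕ, (Fin m' → Idx d n) → Prop)
    (hQ : ∀ (m' : ℕ) (c : Fin m' → Idx d n), Antitone c → Q m' c →
      ∃ S : Shape d, (∀ k, S.mem (c k)) ∧ ∀ f ∈ J, ev K S f = 0) :
    LinearIndependent K (fun c : QChain d n Q => Ideal.Quotient.mk J (chainMon K c.2.1)) := by
  classical
  rw [linearIndependent_iff']
  intro s g hsum c0 hc0
  have hF : ∑ c ∈ s, g c • chainMon K c.2.1 ∈ J := by
    rw [← Ideal.Quotient.eq_zero_iff_mem, map_sum, ← hsum]
    apply Finset.sum_congr rfl
    intro c _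
    exact map_smul (Ideal.Quotient.mkₐ K J) (g c) (chainMon K c.2.1)
  obtain ⟨S, hS, hJ⟩ := hQ c0.1 c0.2.1 c0.2.2.1 c0.2.2.2
  have hev := hJ _ hF
  rw [map_sum] at hev
  simp_rw [map_smul] at hev
  refine coeff_eq_zero_of_sum_smul_eq_zero MonomialOrder.lex
    (fun c : QChain d n Q => ev K S (chainMon K c.2.1)) (fun c => ∀ k, S.mem (c.2.1 k))
    ?_ ?_ ?_ s g hev c0 hc0 hS
  · intro c hc
    exact (ev_chainMon_monic K MonomialOrder.lex diagLeading_lex hd S c.2.1 hc).1
  · intro c hc
    exact ev_chainMon_eq_zero K S c.2.1 hc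
  · intro c c' hc hc' h
    rw [(ev_chainMon_monic K MonomialOrder.lex diagLeading_lex hd S c.2.1 hc).2,
      (ev_chainMon_monic K MonomialOrder.lex diagLeading_lex hd S c'.2.1 hc').2] at h
    have := chainDeg_injective hd c.2.1 c'.2.1 c.2.2.1 c'.2.2.1 h
    obtain ⟨m1, c1, h1⟩ := c
    obtain ⟨m2, c2, h2⟩ := c'
    simp only at this
    rw [Sigma.mk.inj_iff] at this
    obtain ⟨hm12, hcc⟩ := this
    subst hm12
    rw [heq_iff_eq] at hcc
    subst hcc
    rfl

/-- General spanning: standard monomials with `Q` span the quotient by `J ⊇ plIdealTop` as soon as those violating `Q`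
lie in `J`. -/
theorem span_mk_chainMon_eq_top (J : Ideal (PlRing K d n)) (hJ : plIdealTop (d := d) (n := n) K ≤ J)
    (Q : ∀ m' : ℕ, (Fin m' → Idx d n) → Prop)
    (hQ : ∀ (m' : ℕ) (c : Fin m' → Idx d n), Antitone c → ¬ Q m' c → chainMon K c ∈ J) :
    Submodule.span K (Set.range fun c : QChain d n Q => Ideal.Quotient.mk J (chainMon K c.2.1)) = ⊤ := by
  classical
  rw [eq_top_iff]
  rintro x -
  obtain ⟨f, rfl⟩ := Ideal.Quotient.mk_surjective x
  have h := std_span K J hJ Q hQ f
  obtain ⟨g, hg, h', hh', rfl⟩ := Submodule.mem_sup.1 h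
  clear h
  have h0 : Ideal.Quotient.mk J h' = 0 := Ideal.Quotient.eq_zero_iff_mem.2 hh'
  rw [map_add, h0, add_zero]
  induction hg using Submodule.span_induction with
  | mem g hg =>
    obtain ⟨m', c, hc, hQc, rfl⟩ := hg
    exact Submodule.subset_span ⟨⟨m', ⟨c, hc, hQc⟩⟩, rfl⟩
  | zero => rw [map_zero]; exact Submodule.zero_mem _
  | add f g _ _ hf hg => rw [map_add]; exact Submodule.add_mem _ hf hg
  | smul c f _ hf =>
    have : Ideal.Quotient.mk J (c • f) = c • Ideal.Quotient.mk J f :=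
      map_smul (Ideal.Quotient.mkₐ K J) c f
    rw [this]
    exact Submodule.smul_mem _ c hf

/-- a combination of standard monomials with `Q` lying in `J` vanishes -/
theorem eq_zero_of_mem_span_of_mem (hd : 0 < d) (J : Ideal (PlRing K d n))
    (Q : ∀ m' : ℕ, (Fin m' → Idx d n) → Prop)
    (hQ : ∀ (m' : ℕ) (c : Fin m' → Idx d n), Antitone c → Q m' c →
      ∃ S : Shape d, (∀ k, S.mem (c k)) ∧ ∀ f ∈ J, ev K S f = 0)
    (g : PlRing K d n)
    (hg : g ∈ Submodule.span K {f | ∃ (m' : ℕ) (c : Fin m' → Idx d n), Antitone c ∧ Q m' c ∧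
      f = chainMon K c}) (hgJ : g ∈ J) : g = 0 := by
  have hset : {f | ∃ (m' : ℕ) (c : Fin m' → Idx d n), Antitone c ∧ Q m' c ∧ f = chainMon K c} =
      Set.range (fun c : QChain d n Q => chainMon K c.2.1) := by
    ext f
    constructor
    · rintro ⟨m', c, hc, hmem, rfl⟩
      exact ⟨⟨m', ⟨c, hc, hmem⟩⟩, rfl⟩
    · rintro ⟨⟨m', ⟨c, hc, hmem⟩⟩, rfl⟩
      exact ⟨m', c, hc, hmem, rfl⟩
  rw [hset, Finsupp.mem_span_range_iff_exists_finsupp] at hg
  obtain ⟨l, rfl⟩ := hg
  have hli := linearIndependent_mk_chainMon K hd J Q hQ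
  rw [linearIndependent_iff] at hli
  have : l = 0 := by
    apply hli
    rw [Finsupp.linearCombination_apply]
    rw [← Ideal.Quotient.eq_zero_iff_mem, Finsupp.sum, map_sum] at hgJ
    rw [Finsupp.sum, ← hgJ]
    apply Finset.sum_congr rfl
    intro c _
    exact (map_smul (Ideal.Quotient.mkₐ K J) (l c) (chainMon K c.2.1)).symm
  rw [this, Finsupp.sum_zero_index]

end Groth.Agent.Lib.Helper99.SMT
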