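import Mathlib
import Groth.Agent.Lib.Helper99.SMTBasis

set_option autoImplicit false
universe u

namespace Groth.Agent.Lib.Helper99.SMT
open W4bk4grassmannian MvPolynomial

variable {d n : ℕ}

lemma idx_val_ge (θ : Idx d n) (t : Fin d) : t.val ≤ (θ.1 t).val :=
  val_le_of_strictMono θ.1 θ.2 t

/-- every `θ < τ` lies below a Schubert divisor of `τ` -/
theorem exists_divisor_ge (θ τ : Idx d n) (h : θ < τ) : ∃ φ ∈ divisors τ, θ ≤ φ := by
  classical
  have hle : θ ≤ τ := h.le
  have hle' := (idx_le_iff θ τ).1 hle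
  have hex : ∃ t, (θ.1 t).val < (τ.1 t).val := by
    by_contra hcon
    push Not at hcon
    apply h.ne
    apply Subtype.ext
    funext t
    exact Fin.ext (le_antisymm (hle' t) (hcon t))
  obtain ⟨t0, ht0, hmin⟩ := wellFounded_lt.has_min {t : Fin d | (θ.1 t).val < (τ.1 t).val} hex
  have ht0' : (θ.1 t0).val < (τ.1 t0).val := ht0
  have heq : ∀ a, a < t0 → (θ.1 a).val = (τ.1 a).val := by
    intro a ha
    have : ¬ (θ.1 a).val < (τ.1 a).val := fun hlt => hmin a hlt ha
    exact le_antisymm (hle' a) (not_lt.1 this)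
  -- the divisor
  let φf : Fin d → Fin n := fun t =>
    if t = t0 then ⟨(τ.1 t0).val - 1, lt_of_le_of_lt (Nat.sub_le _ _) (τ.1 t0).isLt⟩ else τ.1 t
  have hφval : ∀ t, (φf t).val = if t = t0 then (τ.1 t0).val - 1 else (τ.1 t).val := by
    intro t
    simp only [φf]
    split_ifs <;> rfl
  have hφmono : StrictMono φf := by
    intro a b hab
    rw [Fin.lt_def, hφval, hφval]
    have hτab : (τ.1 a).val < (τ.1 b).val := τ.2 hab
    by_cases ha : a = t0
    · have hb : b ≠ t0 := by rw [← ha]; exact hab.ne'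
      rw [if_pos ha, if_neg hb]
      rw [ha] at hτab
      omega
    · rw [if_neg ha]
      by_cases hb : b = t0
      · rw [if_pos hb]
        rw [hb] at hab
        have h1 := heq a hab
        have h2 : (θ.1 a).val < (θ.1 t0).val := θ.2 hab
        omega
      · rw [if_neg hb]; exact hτab
  let φ : Idx d n := ⟨φf, hφmono⟩
  have hφτ : φ ≤ τ := by
    rw [idx_le_iff]
    intro t
    show (φf t).val ≤ _
    rw [hφval]
    split_ifs with ht
    · rw [ht]; exact Nat.sub_le _ _
    · exact le_rfl
  have hφne : φ ≠ τ := by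
    intro hcon
    have := congrArg (fun ψ : Idx d n => (ψ.1 t0).val) hcon
    change (φf t0).val = _ at this
    rw [hφval, if_pos rfl] at this
    omega
  refine ⟨φ, ⟨lt_of_le_of_ne hφτ hφne, ?_⟩, ?_⟩
  · unfold codeg
    rw [← Finset.add_sum_erase Finset.univ _ (Finset.mem_univ t0),
      ← Finset.add_sum_erase Finset.univ (fun t => (τ.1 t).val - t.val) (Finset.mem_univ t0)]
    have h1 : ∑ x ∈ Finset.univ.erase t0, ((φ.1 x).val - x.val) =
        ∑ x ∈ Finset.univ.erase t0, ((τ.1 x).val - x.val) := by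
      apply Finset.sum_congr rfl
      intro x hx
      change (φf x).val - x.val = _
      rw [hφval, if_neg (Finset.ne_of_mem_erase hx)]
    rw [h1]
    change (φf t0).val - t0.val + _ + 1 = _
    rw [hφval, if_pos rfl]
    have := idx_val_ge θ t0
    omega
  · rw [idx_le_iff]
    intro t
    show _ ≤ (φf t).val
    rw [hφval]
    split_ifs with ht
    · rw [ht]; omega
    · exact hle' t

end Groth.Agent.Lib.Helper99.SMT
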