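import Mathlib
import Groth.Agent.Lib.Helper99.SMTDivisor

set_option autoImplicit false
universe u

namespace Groth.Agent.Lib.Helper99.SMT
open W4bk4grassmannian MvPolynomial
open scoped MonomialOrder

variable {d n : ℕ}

/-- the shape of the opposite Schubert variety: indices above `β` -/
def shapeGe (β : Idx d n) : Shape d where
  lo := fun t => (β.1 t).val
  hi := fun _ => n
  lo_mono := fun _ _ h => β.2.monotone h
  hi_mono := monotone_const

lemma mem_shapeGe (β θ : Idx d n) : (shapeGe β).mem θ ↔ β ≤ θ := by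
  rw [idx_le_iff]
  unfold Shape.mem shapeGe
  simp only
  constructor
  · intro h t; exact (h t).1
  · intro h t; exact ⟨h t, (θ.1 t).isLt.le⟩

lemma wt_le_of_le {θ θ' : Idx d n} (h : θ ≤ θ') : wt θ ≤ wt θ' := by
  unfold wt tsum
  exact Finset.sum_le_sum (fun t _ => (idx_le_iff θ θ').1 h t)

lemma eq_of_le_of_wt_eq {θ θ' : Idx d n} (h : θ ≤ θ') (hw : wt θ = wt θ') : θ = θ' := by
  unfold wt tsum at hw
  have := (Finset.sum_eq_sum_iff_of_le (fun t _ => (idx_le_iff θ θ').1 h t)).1 hw
  apply Subtype.ext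
  funext t
  exact Fin.ext (this t (Finset.mem_univ t))

lemma wt_lt_of_lt {θ θ' : Idx d n} (h : θ < θ') : wt θ < wt θ' := by
  apply lt_of_le_of_ne (wt_le_of_le h.le)
  intro hw
  exact h.ne (eq_of_le_of_wt_eq h.le hw)

lemma wt_add_of_cnt {a b a' b' : Idx d n} (h : cnt a.1 + cnt b.1 = cnt a'.1 + cnt b'.1) :
    wt a + wt b = wt a' + wt b' := by
  have := congrArg (fun s : Multiset (Fin n) => (s.map Fin.val).sum) h
  simp only [Multiset.map_add, Multiset.sum_add] at this
  unfold wt
  rw [tsum_eq_cnt, tsum_eq_cnt, tsum_eq_cnt, tsum_eq_cnt]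
  exact this

lemma cnt_sup_inf (τ φ : Idx d n) :
    cnt (W4bk4grassmannian.sup τ φ).1 + cnt (W4bk4grassmannian.inf τ φ).1 = cnt τ.1 + cnt φ.1 := by
  simp only [cnt_eq_sum, ← Finset.sum_add_distrib]
  apply Finset.sum_congr rfl
  intro t _
  show ({max (τ.1 t) (φ.1 t)} : Multiset (Fin n)) + {min (τ.1 t) (φ.1 t)} = {τ.1 t} + {φ.1 t}
  rcases le_total (τ.1 t) (φ.1 t) with h | h
  · rw [max_eq_right h, min_eq_left h, add_comm]
  · rw [max_eq_left h, min_eq_right h]

lemma diag_sup_inf (τ φ : Idx d n) :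
    diag (W4bk4grassmannian.sup τ φ) + diag (W4bk4grassmannian.inf τ φ) = diag τ + diag φ := by
  unfold diag
  simp only [← Finset.sum_add_distrib]
  apply Finset.sum_congr rfl
  intro t _
  show Finsupp.single (toLex (max (τ.1 t) (φ.1 t), t)) 1 + Finsupp.single (toLex (min (τ.1 t) (φ.1 t), t)) 1 = _
  rcases le_total (τ.1 t) (φ.1 t) with h | h
  · rw [max_eq_right h, min_eq_left h, add_comm]
  · rw [max_eq_left h, min_eq_right h]

lemma le_sup_left' (τ φ : Idx d n) : τ ≤ W4bk4grassmannian.sup τ φ := fun t => le_max_left _ _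
lemma le_sup_right' (τ φ : Idx d n) : φ ≤ W4bk4grassmannian.sup τ φ := fun t => le_max_right _ _
lemma inf_le_left' (τ φ : Idx d n) : W4bk4grassmannian.inf τ φ ≤ τ := fun t => min_le_left _ _
lemma inf_le_right' (τ φ : Idx d n) : W4bk4grassmannian.inf τ φ ≤ φ := fun t => min_le_right _ _
lemma sup_le' {τ φ α : Idx d n} (h1 : τ ≤ α) (h2 : φ ≤ α) : W4bk4grassmannian.sup τ φ ≤ α :=
  fun t => max_le (h1 t) (h2 t)
lemma le_inf' {τ φ β : Idx d n} (h1 : β ≤ τ) (h2 : β ≤ φ) : β ≤ W4bk4grassmannian.inf τ φ :=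
  fun t => le_min (h1 t) (h2 t)

variable (K : Type u) [Field K] [Infinite K]

lemma mem_vanishing_iff (f : PlRing K d n) :
    f ∈ vanishing K d n ↔ ∀ A : Matrix (Fin n) (Fin d) K, evalMinors K d n A f = 0 := by
  unfold vanishing
  simp only [Ideal.mem_iInf]
  rfl

lemma plIdealTop_le_vanishing : plIdealTop (d := d) (n := n) K ≤ vanishing K d n := by
  unfold plIdealTop
  rw [Ideal.span_le]
  rintro f ⟨i, j, r, -, rfl⟩
  rw [SetLike.mem_coe, mem_vanishing_iff]
  intro A
  exact evalMinors_shuffleRel K A i j r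

theorem ev_eq_zero_of_mem_vanishing (S : Shape d) (f : PlRing K d n) (hf : f ∈ vanishing K d n) :
    ev K S f = 0 := by
  apply MvPolynomial.funext
  intro x
  rw [eval_ev, map_zero]
  exact (mem_vanishing_iff K f).1 hf _

/-- products of two minors: monic with the expected degree -/
lemma ev_pair_monic (hd : 0 < d) (S : Shape d) (α β : Idx d n) (hα : S.mem α) (hβ : S.mem β) :
    (MonomialOrder.lex).Monic (ev K S (X α * X β)) ∧
      (MonomialOrder.lex).degree (ev K S (X α * X β)) = diag α + diag β := by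
  have h1 := ev_X_monic K MonomialOrder.lex diagLeading_lex hd S α hα
  have h2 := ev_X_monic K MonomialOrder.lex diagLeading_lex hd S β hβ
  rw [map_mul]
  refine ⟨h1.1.mul h2.1, ?_⟩
  rw [MonomialOrder.degree_mul h1.1.ne_zero h2.1.ne_zero, h1.2, h2.2]

lemma pair_injective (hd : 0 < d) {α β α' β' : Idx d n} (h1 : β ≤ α) (h2 : β' ≤ α')
    (h : diag α + diag β = diag α' + diag β') : α = α' ∧ β = β' := by
  have hc : Antitone (![α, β] : Fin 2 → Idx d n) := by
    intro a b hab
    fin_cases a <;> fin_cases b <;> simp at hab ⊢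
    exact h1
  have hc' : Antitone (![α', β'] : Fin 2 → Idx d n) := by
    intro a b hab
    fin_cases a <;> fin_cases b <;> simp at hab ⊢
    exact h2
  have hdeg : chainDeg (![α, β] : Fin 2 → Idx d n) = chainDeg (![α', β'] : Fin 2 → Idx d n) := by
    unfold chainDeg
    rw [Fin.sum_univ_two, Fin.sum_univ_two]
    exact h
  have := chainDeg_injective hd _ _ hc hc' hdeg
  rw [Sigma.mk.inj_iff] at this
  have h3 := eq_of_heq this.2
  exact ⟨congrFun h3 0, congrFun h3 1⟩

end Groth.Agent.Lib.Helper99.SMT
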