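import Mathlib
import Groth.Agent.Lib.Helper99.SMTShapeA

set_option autoImplicit false
universe u

namespace Groth.Agent.Lib.Helper99.SMT
open W4bk4grassmannian MvPolynomial
open scoped MonomialOrder

variable {d n : ℕ}
variable (K : Type u) [Field K] [Infinite K]

/-- standard pairs with the content of `{τ, φ}` -/
abbrev PairIdx (τ φ : Idx d n) : Type :=
  {p : Idx d n × Idx d n // p.2 ≤ p.1 ∧ cnt p.1.1 + cnt p.2.1 = cnt τ.1 + cnt φ.1}

/-- the quadratic standard monomial of a pair -/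
noncomputable def pairMon (τ φ : Idx d n) (p : PairIdx τ φ) : PlRing K d n := X p.1.1 * X p.1.2

/-- the straightening of `X τ * X φ` as a finitely supported combination of standard pairs of the same content -/
theorem exists_pair_expansion (τ φ : Idx d n) :
    ∃ l : PairIdx τ φ →₀ K, X τ * X φ - (l.sum fun p a => a • pairMon K τ φ p) ∈
      plIdealTop (d := d) (n := n) K := by
  classical
  have h := straighten K (τ ::ₘ φ ::ₘ (0 : Multiset (Idx d n)))
  unfold stdTarget at h
  obtain ⟨g, hg, h', hh', hgh⟩ := Submodule.mem_sup.1 h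
  have hmon : mon K (τ ::ₘ φ ::ₘ (0 : Multiset (Idx d n))) = X τ * X φ := by
    rw [mon_cons, mon_cons]; unfold mon; simp
  rw [hmon] at hgh
  have hsub : stdSet K (τ ::ₘ φ ::ₘ (0 : Multiset (Idx d n))) ⊆ Set.range (pairMon K τ φ) := by
    rintro f ⟨m', c, hc, hcnt, hcard, -, rfl⟩
    have hm' : m' = 2 := by
      have : (msOf c).card = m' := by unfold msOf; simp
      rw [this] at hcard
      simpa using hcard
    subst hm'
    have hcnt' : cnt (c 0).1 + cnt (c 1).1 = cnt τ.1 + cnt φ.1 := by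
      have e1 : msOf c = c 0 ::ₘ c 1 ::ₘ 0 := by
        unfold msOf
        rw [Fin.univ_val_map]
        simp [List.ofFn_succ]
        rfl
      rw [e1, Cnt_cons, Cnt_cons, Cnt_cons, Cnt_cons] at hcnt
      simpa [Cnt] using hcnt
    refine ⟨⟨(c 0, c 1), hc (by simp), hcnt'⟩, ?_⟩
    unfold pairMon chainMon
    rw [Fin.prod_univ_two]
  have hg' : g ∈ Submodule.span K (Set.range (pairMon K τ φ)) := Submodule.span_mono hsub hg
  rw [Finsupp.mem_span_range_iff_exists_finsupp] at hg'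
  obtain ⟨l, hl⟩ := hg'
  refine ⟨l, ?_⟩
  rw [hl, ← hgh, add_sub_cancel_left]
  exact hh'

end Groth.Agent.Lib.Helper99.SMT

namespace Groth.Agent.Lib.Helper99.SMT
open W4bk4grassmannian MvPolynomial
open scoped MonomialOrder

variable {d n : ℕ}
variable (K : Type u) [Field K] [Infinite K]

lemma pair_key (hd : 0 < d) (τ φ : Idx d n) (l : PairIdx τ φ →₀ K) (S : Shape d)
    (hsum : ∑ p ∈ l.support, l p • ev K S (pairMon K τ φ p) = 0) :
    ∀ p ∈ l.support, S.mem p.1.1 → S.mem p.1.2 → l p = 0 := by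
  intro p hp hm1 hm2
  refine coeff_eq_zero_of_sum_smul_eq_zero MonomialOrder.lex
    (fun p : PairIdx τ φ => ev K S (pairMon K τ φ p)) (fun p => S.mem p.1.1 ∧ S.mem p.1.2)
    ?_ ?_ ?_ l.support l hsum p hp ⟨hm1, hm2⟩
  · intro q hq
    exact (ev_pair_monic K hd S q.1.1 q.1.2 hq.1 hq.2).1
  · intro q hq
    unfold pairMon
    rw [map_mul]
    by_cases h1 : S.mem q.1.1
    · have h2 : ¬ S.mem q.1.2 := fun h2 => hq ⟨h1, h2⟩
      rw [ev_X_eq_zero K S _ h2, mul_zero]
    · rw [ev_X_eq_zero K S _ h1, zero_mul]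
  · intro q q' hq hq' hdeg
    unfold pairMon at hdeg
    rw [(ev_pair_monic K hd S q.1.1 q.1.2 hq.1 hq.2).2,
      (ev_pair_monic K hd S q'.1.1 q'.1.2 hq'.1 hq'.2).2] at hdeg
    obtain ⟨e1, e2⟩ := pair_injective hd q.2.1 q'.2.1 hdeg
    exact Subtype.ext (Prod.ext e1 e2)

theorem straightening_shape' (hd : 0 < d) (τ φ : Idx d n) :
    ∃ g ∈ Submodule.span K {f : PlRing K d n | ∃ α β : Idx d n,
        β ≤ α ∧ W4bk4grassmannian.sup τ φ < α ∧ β < W4bk4grassmannian.inf τ φ ∧
          cnt α.1 + cnt β.1 = cnt τ.1 + cnt φ.1 ∧ f = MvPolynomial.X α * MvPolynomial.X β},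
      MvPolynomial.X τ * MvPolynomial.X φ -
          MvPolynomial.X (W4bk4grassmannian.sup τ φ) * MvPolynomial.X (W4bk4grassmannian.inf τ φ) - g ∈
        vanishing K d n := by
  classical
  obtain ⟨l, hl⟩ := exists_pair_expansion K τ φ
  set σ := W4bk4grassmannian.sup τ φ with hσ
  set ρ := W4bk4grassmannian.inf τ φ with hρ
  have hρσ : ρ ≤ σ := le_trans (inf_le_left' τ φ) (le_sup_left' τ φ)
  let pstar : PairIdx τ φ := ⟨(σ, ρ), hρσ, cnt_sup_inf τ φ⟩
  have hh : ∀ S : Shape d, ev K S (X τ * X φ) = ∑ p ∈ l.support, l p • ev K S (pairMon K τ φ p) := by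
    intro S
    have := ev_eq_zero_of_mem_vanishing K S _ (plIdealTop_le_vanishing K hl)
    rw [map_sub, sub_eq_zero] at this
    rw [this, Finsupp.sum, map_sum]
    apply Finset.sum_congr rfl
    intro p _
    rw [map_smul]
  -- (A)
  have hA : ∀ p ∈ l.support, τ ≤ p.1.1 ∧ φ ≤ p.1.1 ∧ p.1.2 ≤ τ ∧ p.1.2 ≤ φ := by
    intro p hp
    have hlp : l p ≠ 0 := Finsupp.mem_support_iff.1 hp
    refine ⟨?_, ?_, ?_, ?_⟩
    · by_contra hn
      apply hlp
      apply pair_key K hd τ φ l (shapeLe p.1.1) _ p hp ((mem_shapeLe _ _).2 le_rfl)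
        ((mem_shapeLe _ _).2 p.2.1)
      rw [← hh, map_mul, ev_X_eq_zero K _ τ (fun h => hn ((mem_shapeLe _ _).1 h)), zero_mul]
    · by_contra hn
      apply hlp
      apply pair_key K hd τ φ l (shapeLe p.1.1) _ p hp ((mem_shapeLe _ _).2 le_rfl)
        ((mem_shapeLe _ _).2 p.2.1)
      rw [← hh, map_mul, ev_X_eq_zero K _ φ (fun h => hn ((mem_shapeLe _ _).1 h)), mul_zero]
    · by_contra hn
      apply hlp
      apply pair_key K hd τ φ l (shapeGe p.1.2) _ p hp ((mem_shapeGe _ _).2 p.2.1)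
        ((mem_shapeGe _ _).2 le_rfl)
      rw [← hh, map_mul, ev_X_eq_zero K _ τ (fun h => hn ((mem_shapeGe _ _).1 h)), zero_mul]
    · by_contra hn
      apply hlp
      apply pair_key K hd τ φ l (shapeGe p.1.2) _ p hp ((mem_shapeGe _ _).2 p.2.1)
        ((mem_shapeGe _ _).2 le_rfl)
      rw [← hh, map_mul, ev_X_eq_zero K _ φ (fun h => hn ((mem_shapeGe _ _).1 h)), mul_zero]
  -- (B)
  have hB : ∀ p ∈ l.support, p = pstar ∨ (σ < p.1.1 ∧ p.1.2 < ρ) := by
    intro p hp
    obtain ⟨a1, a2, a3, a4⟩ := hA p hp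
    have h1 : σ ≤ p.1.1 := sup_le' a1 a2
    have h2 : p.1.2 ≤ ρ := le_inf' a3 a4
    have hwt : wt p.1.1 + wt p.1.2 = wt σ + wt ρ := by
      apply wt_add_of_cnt
      rw [p.2.2, cnt_sup_inf]
    by_cases heq : p.1.1 = σ
    · left
      have hw2 : wt p.1.2 = wt ρ := by rw [heq] at hwt; omega
      have := eq_of_le_of_wt_eq h2 hw2
      exact Subtype.ext (Prod.ext heq this)
    · right
      have hlt : σ < p.1.1 := lt_of_le_of_ne h1 (Ne.symm heq)
      have hw1 := wt_lt_of_lt hlt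
      refine ⟨hlt, lt_of_le_of_ne h2 ?_⟩
      intro h3
      rw [h3] at hwt
      omega
  -- (C)
  have hC : l pstar = 1 := by
    have hS := hh (shapeLe σ)
    rw [Finset.sum_eq_single pstar] at hS
    · have hmτ : (shapeLe σ).mem τ := (mem_shapeLe _ _).2 (le_sup_left' τ φ)
      have hmφ : (shapeLe σ).mem φ := (mem_shapeLe _ _).2 (le_sup_right' τ φ)
      have hmσ : (shapeLe σ).mem σ := (mem_shapeLe _ _).2 le_rfl
      have hmρ : (shapeLe σ).mem ρ := (mem_shapeLe _ _).2 hρσ
      have e1 := ev_pair_monic K hd (shapeLe σ) τ φ hmτ hmφ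
      have e2 := ev_pair_monic K hd (shapeLe σ) σ ρ hmσ hmρ
      have c1 := e1.1.coeff_degree
      have c2 := e2.1.coeff_degree
      rw [e1.2] at c1
      rw [e2.2, diag_sup_inf] at c2
      have := congrArg (coeff (diag τ + diag φ)) hS
      rw [c1, coeff_smul] at this
      change 1 = l pstar • coeff (diag τ + diag φ) (ev K (shapeLe σ) (X σ * X ρ)) at this
      rw [c2, smul_eq_mul, mul_one] at this
      exact this.symm
    · intro p hp hne
      rcases hB p hp with h | ⟨h, -⟩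
      · exact absurd h hne
      · unfold pairMon
        rw [map_mul, ev_X_eq_zero K _ p.1.1 (fun hm => not_le_of_gt h ((mem_shapeLe _ _).1 hm)),
          zero_mul, smul_zero]
    · intro hp
      rw [Finsupp.notMem_support_iff.1 hp, zero_smul]
  have hpstar : pstar ∈ l.support := by
    rw [Finsupp.mem_support_iff, hC]; exact one_ne_zero
  refine ⟨∑ p ∈ l.support.erase pstar, l p • pairMon K τ φ p, ?_, ?_⟩
  · apply Submodule.sum_mem
    intro p hp
    apply Submodule.smul_mem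
    apply Submodule.subset_span
    rcases hB p (Finset.mem_of_mem_erase hp) with h | ⟨h1, h2⟩
    · exact absurd h (Finset.ne_of_mem_erase hp)
    · exact ⟨p.1.1, p.1.2, p.2.1, h1, h2, p.2.2, rfl⟩
  · have hsplit : (l.sum fun p a => a • pairMon K τ φ p) =
        X σ * X ρ + ∑ p ∈ l.support.erase pstar, l p • pairMon K τ φ p := by
      rw [Finsupp.sum, ← Finset.add_sum_erase _ _ hpstar, hC, one_smul]
      rfl
    have : X τ * X φ - X σ * X ρ - ∑ p ∈ l.support.erase pstar, l p • pairMon K τ φ p =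
        X τ * X φ - (l.sum fun p a => a • pairMon K τ φ p) := by
      rw [hsplit]; ring
    rw [this]
    exact plIdealTop_le_vanishing K hl

theorem straightening_shape (hd : 0 < d) (τ φ : Idx d n) :
    ∃ g ∈ Submodule.span K {f : PlRing K d n | ∃ α β : Idx d n,
        β ≤ α ∧ W4bk4grassmannian.sup τ φ < α ∧ β < W4bk4grassmannian.inf τ φ ∧
          f = MvPolynomial.X α * MvPolynomial.X β},
      MvPolynomial.X τ * MvPolynomial.X φ -
          MvPolynomial.X (W4bk4grassmannian.sup τ φ) * MvPolynomial.X (W4bk4grassmannian.inf τ φ) - g ∈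
        vanishing K d n := by
  obtain ⟨g, hg, h⟩ := straightening_shape' K hd τ φ
  refine ⟨g, ?_, h⟩
  refine Submodule.span_mono ?_ hg
  rintro f ⟨α, β, h1, h2, h3, -, rfl⟩
  exact ⟨α, β, h1, h2, h3, rfl⟩

end Groth.Agent.Lib.Helper99.SMT
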