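import Mathlib
import Groth.Agent.Lib.Helper99.SMTShape
import Groth.Agent.Lib.Helper99.ReesD

set_option autoImplicit false
universe u

namespace Groth.Agent.Lib.Helper99.SMT
open W4bk4grassmannian MvPolynomial

variable {d n : ℕ}
variable (K : Type u) [Field K] [Infinite K]

/-- the coordinate ring of the cone over the Schubert variety -/
abbrev ACone (w : Idx d n) : Type u := PlRing K d n ⧸ schubertVanishing K d n w

/-- standard chains on `X(w)` -/
abbrev WChain (w : Idx d n) : Type := QChain d n (fun _ c => ∀ k, c k ≤ w)

theorem linearIndependent_wchain (hd : 0 < d) (w : Idx d n) :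
    LinearIndependent K (fun c : WChain w =>
      (Ideal.Quotient.mk (schubertVanishing K d n w) (chainMon K c.2.1) : ACone K w)) := by
  apply linearIndependent_mk_chainMon K hd (schubertVanishing K d n w) (fun _ c => ∀ k, c k ≤ w)
  intro m' c _ hc
  refine ⟨shapeLe w, fun k => (mem_shapeLe w (c k)).2 (hc k), ?_⟩
  intro f hf
  exact ev_eq_zero_of_mem_schubertVanishing K w (shapeLe w) (fun t => le_rfl) f hf

theorem span_wchain (w : Idx d n) :
    Submodule.span K (Set.range fun c : WChain w =>
      (Ideal.Quotient.mk (schubertVanishing K d n w) (chainMon K c.2.1) : ACone K w)) = ⊤ := by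
  apply span_mk_chainMon_eq_top K (schubertVanishing K d n w) (plIdealTop_le_schubertVanishing K w)
  intro m' c _ hQ
  push Not at hQ
  obtain ⟨k, hk⟩ := hQ
  exact chainMon_mem_of_factor K _ c k (X_mem_schubertVanishing K w (c k) hk)

/-- the standard monomial basis of the cone over `X(w)` -/
noncomputable def wbasis (hd : 0 < d) (w : Idx d n) : Module.Basis (WChain w) K (ACone K w) :=
  Module.Basis.mk (linearIndependent_wchain K hd w) (le_of_eq (span_wchain K w).symm)

lemma wbasis_apply (hd : 0 < d) (w : Idx d n) (c : WChain w) :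
    wbasis K hd w c = Ideal.Quotient.mk (schubertVanishing K d n w) (chainMon K c.2.1) := by
  unfold wbasis
  rw [Module.Basis.mk_apply]

/-- weight of a chain for a weight function on indices -/
def chainWt (u : Idx d n → ℕ) {m' : ℕ} (c : Fin m' → Idx d n) : ℕ := ∑ k, u (c k)

/-- weight of a multiset of indices -/
def msWt (u : Idx d n → ℕ) (s : Multiset (Idx d n)) : ℕ := (s.map u).sum

lemma chainWt_eq_msWt (u : Idx d n → ℕ) {m' : ℕ} (c : Fin m' → Idx d n) :
    chainWt u c = msWt u (msOf c) := by
  unfold chainWt msWt msOf
  rw [Multiset.map_map]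
  rfl

/-- the hypothesis making the weight filtration multiplicative: every monomial expands into standard monomials on
`X(w)` of at most its own weight. -/
def MulProp (hd : 0 < d) (w : Idx d n) (u : Idx d n → ℕ) : Prop :=
  ∀ s : Multiset (Idx d n), (Ideal.Quotient.mk (schubertVanishing K d n w) (mon K s) : ACone K w) ∈
    Rees.Fil (wbasis K hd w) (fun c : WChain w => chainWt u c.2.1) (msWt u s)

theorem isMul_of_mulProp (hd : 0 < d) (w : Idx d n) (u : Idx d n → ℕ) (h : MulProp K hd w u) :
    Rees.IsMul (wbasis K hd w) (fun c : WChain w => chainWt u c.2.1) := by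
  constructor
  · have := h 0
    have e : (Ideal.Quotient.mk (schubertVanishing K d n w) (mon K (0 : Multiset (Idx d n))) : ACone K w) = 1 := by
      unfold mon; simp
    rw [e] at this
    have e2 : msWt u (0 : Multiset (Idx d n)) = 0 := by unfold msWt; simp
    rw [e2] at this
    exact this
  · intro c c'
    rw [wbasis_apply, wbasis_apply, ← map_mul, chainMon_eq_mon, chainMon_eq_mon]
    have e : mon K (msOf c.2.1) * mon K (msOf c'.2.1) = mon K (msOf c.2.1 + msOf c'.2.1) := by
      unfold mon; rw [Multiset.map_add, Multiset.prod_add]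
    rw [e]
    have := h (msOf c.2.1 + msOf c'.2.1)
    have e2 : msWt u (msOf c.2.1 + msOf c'.2.1) = chainWt u c.2.1 + chainWt u c'.2.1 := by
      rw [chainWt_eq_msWt, chainWt_eq_msWt]
      unfold msWt; rw [Multiset.map_add, Multiset.sum_add]
    rw [e2] at this
    exact this

end Groth.Agent.Lib.Helper99.SMT
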