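import Mathlib
import Groth.Agent.Lib.Helper99.SMTDegenA

set_option autoImplicit false
universe u

namespace Groth.Agent.Lib.Helper99.SMT
open W4bk4grassmannian MvPolynomial

attribute [local instance] Polynomial.algebra

variable {d n : ℕ}
variable (K : Type u) [Field K] [Infinite K]

section Generic
variable (hd : 0 < d) (w : Idx d n) (u : Idx d n → ℕ) (hmul : MulProp K hd w u)

include hmul in
lemma mkX_mem_Fil (θ : Idx d n) :
    (Ideal.Quotient.mk (schubertVanishing K d n w) (X θ) : ACone K w) ∈
      Rees.Fil (wbasis K hd w) (fun c : WChain w => chainWt u c.2.1) (u θ) := by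
  have := hmul {θ}
  have e1 : mon K ({θ} : Multiset (Idx d n)) = X θ := by unfold mon; simp
  have e2 : msWt u ({θ} : Multiset (Idx d n)) = u θ := by unfold msWt; simp
  rw [e1, e2] at this
  exact this

/-- the generators of the Rees algebra -/
noncomputable def yGen (θ : Idx d n) : Rees.rees (isMul_of_mulProp K hd w u hmul) :=
  ⟨Polynomial.monomial (u θ) (Ideal.Quotient.mk (schubertVanishing K d n w) (X θ) : ACone K w),
    Rees.monomial_mem_rees _ (mkX_mem_Fil K hd w u hmul θ)⟩

/-- the map from the polynomial ring on `H(w)` to the special fibre -/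
noncomputable def psi0 : MvPolynomial (Below w) K →ₐ[K] Rees.Q0 (isMul_of_mulProp K hd w u hmul) :=
  MvPolynomial.aeval fun θ : Below w =>
    (Ideal.Quotient.mk _ (yGen K hd w u hmul θ.1) : Rees.Q0 (isMul_of_mulProp K hd w u hmul))

lemma psi0_X (θ : Below w) :
    psi0 K hd w u hmul (X θ) = Ideal.Quotient.mk _ (yGen K hd w u hmul θ.1) := by
  unfold psi0; rw [aeval_X]

lemma coe_prod_yGen {m' : ℕ} (c : Fin m' → Idx d n) :
    ((∏ k, yGen K hd w u hmul (c k) : Rees.rees (isMul_of_mulProp K hd w u hmul)) :
      Polynomial (ACone K w)) =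
      Polynomial.monomial (chainWt u c)
        (Ideal.Quotient.mk (schubertVanishing K d n w) (chainMon K c) : ACone K w) := by
  rw [SubmonoidClass.coe_finsetProd]
  have h1 : ∀ k, ((yGen K hd w u hmul (c k) : Rees.rees (isMul_of_mulProp K hd w u hmul)) :
      Polynomial (ACone K w)) = Polynomial.monomial (u (c k))
        (Ideal.Quotient.mk (schubertVanishing K d n w) (X (c k)) : ACone K w) := fun k => rfl
  simp_rw [h1]
  rw [Rees.prod_monomial]
  have h2 : (∏ k, (Ideal.Quotient.mk (schubertVanishing K d n w) (X (c k)) : ACone K w)) =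
      Ideal.Quotient.mk (schubertVanishing K d n w) (chainMon K c) := by
    unfold chainMon
    rw [map_prod]
  rw [h2]
  rfl

/-- the special-fibre images of the standard monomials of `K[H(w)]` -/
lemma psi0_chain (c : WChain w) :
    psi0 K hd w u hmul (∏ k, X (⟨c.2.1 k, c.2.2.2 k⟩ : Below w)) =
      Rees.Bq (isMul_of_mulProp K hd w u hmul) c := by
  rw [map_prod]
  simp_rw [psi0_X]
  rw [← map_prod]
  unfold Rees.Bq
  congr 1
  apply Subtype.ext
  rw [coe_prod_yGen]
  unfold Rees.Br Rees.Bv
  simp only
  rw [wbasis_apply]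

/-- The degeneration theorem: given a weight making the standard-monomial filtration multiplicative, an ideal `I_B`
killed in the special fibre, and spanning of `K[H(w)]/I_B` by standard monomials, the Rees algebra is a flat family
with special fibre `K[H(w)]/I_B` and general fibre the cone over `X(w)`. -/
theorem degeneration (I_B : Ideal (MvPolynomial (Below w) K))
    (hkill : ∀ f ∈ I_B, psi0 K hd w u hmul f = 0)
    (hspan : Submodule.span K (Set.range fun c : WChain w =>
      (Ideal.Quotient.mk I_B (∏ k, X (⟨c.2.1 k, c.2.2.2 k⟩ : Below w)) :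
        MvPolynomial (Below w) K ⧸ I_B)) = ⊤) :
    ∃ (R : Type u) (_ : CommRing R) (_ : Algebra K R) (_ : Algebra (Polynomial K) R)
      (_ : IsScalarTower K (Polynomial K) R),
      Module.Free (Polynomial K) R ∧
      Nonempty ((R ⧸ Ideal.span {algebraMap (Polynomial K) R Polynomial.X}) ≃ₐ[K]
        (MvPolynomial (Below w) K ⧸ I_B)) ∧
      ∀ c : K, c ≠ 0 →
        Nonempty ((R ⧸ Ideal.span {algebraMap (Polynomial K) R (Polynomial.X - Polynomial.C c)}) ≃ₐ[K]
          (PlRing K d n ⧸ schubertVanishing K d n w)) := by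
  have hIs := isMul_of_mulProp K hd w u hmul
  refine ⟨Rees.rees hIs, inferInstance, inferInstance, inferInstance, inferInstance,
    Rees.free_rees hIs, ?_, ?_⟩
  · let ψ : (MvPolynomial (Below w) K ⧸ I_B) →ₐ[K] Rees.Q0 hIs :=
      Ideal.Quotient.liftₐ I_B (psi0 K hd w u hmul) hkill
    have hbij : Function.Bijective ψ := by
      apply Rees.bijective_of_span hIs ψ
        (fun c : WChain w => (Ideal.Quotient.mk I_B (∏ k, X (⟨c.2.1 k, c.2.2.2 k⟩ : Below w)) :
          MvPolynomial (Below w) K ⧸ I_B)) hspan
      intro c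
      exact psi0_chain K hd w u hmul c
    exact ⟨(AlgEquiv.ofBijective ψ hbij).symm⟩
  · intro c hc
    exact ⟨Rees.fiberEquiv hIs c hc⟩

end Generic

end Groth.Agent.Lib.Helper99.SMT
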