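import Mathlib
import Groth.Agent.Lib.Helper99.SMTDegenB

set_option autoImplicit false
universe u

namespace Groth.Agent.Lib.Helper99.SMT
open W4bk4grassmannian MvPolynomial

variable {d n : ℕ}

/-- monomials of multisets span a polynomial ring -/
lemma span_msMon_eq_top (K : Type u) [CommRing K] (σ : Type*) :
    Submodule.span K (Set.range fun s : Multiset σ => ((s.map fun a => (X a : MvPolynomial σ K)).prod)) = ⊤ := by
  rw [eq_top_iff]
  rintro f -
  induction f using MvPolynomial.induction_on with
  | C a =>
    have : (C a : MvPolynomial σ K) = a • (((0 : Multiset σ).map fun a => (X a : MvPolynomial σ K)).prod) := by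
      simp [MvPolynomial.smul_eq_C_mul]
    rw [this]
    exact Submodule.smul_mem _ _ (Submodule.subset_span ⟨0, rfl⟩)
  | add p q hp hq => exact Submodule.add_mem _ hp hq
  | mul_X p i hp =>
    induction hp using Submodule.span_induction with
    | mem f hf =>
      obtain ⟨s, rfl⟩ := hf
      apply Submodule.subset_span
      refine ⟨i ::ₘ s, ?_⟩
      simp only
      rw [Multiset.map_cons, Multiset.prod_cons, mul_comm]
    | zero => rw [zero_mul]; exact Submodule.zero_mem _
    | add f g _ _ hf hg => rw [add_mul]; exact Submodule.add_mem _ hf hg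
    | smul c f _ hf => rw [smul_mul_assoc]; exact Submodule.smul_mem _ c hf

/-- arranging a chain multiset of `H(w)` into an antitone tuple -/
lemma exists_wchain_of_chain (w : Idx d n) (s : Multiset (Below w))
    (hs : ∀ x ∈ s, ∀ y ∈ s, x ≤ y ∨ y ≤ x) :
    ∃ c : WChain w, Finset.univ.val.map (fun k => (⟨c.2.1 k, c.2.2.2 k⟩ : Below w)) = s := by
  have hs' : ∀ x ∈ s.map Subtype.val, ∀ y ∈ s.map Subtype.val, x ≤ y ∨ y ≤ x := by
    intro x hx y hy
    rw [Multiset.mem_map] at hx hy
    obtain ⟨x', hx', rfl⟩ := hx
    obtain ⟨y', hy', rfl⟩ := hy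
    exact hs x' hx' y' hy'
  obtain ⟨m', c, hc, hcs⟩ := exists_antitone_of_chain _ (s.map Subtype.val) rfl hs'
  have hcw : ∀ k, c k ≤ w := by
    intro k
    have : c k ∈ s.map Subtype.val := by rw [← hcs, mem_msOf]; exact ⟨k, rfl⟩
    rw [Multiset.mem_map] at this
    obtain ⟨x, _, hx⟩ := this
    rw [← hx]; exact x.2
  refine ⟨⟨m', ⟨c, hc, hcw⟩⟩, ?_⟩
  apply Multiset.map_injective Subtype.val_injective
  rw [Multiset.map_map, ← hcs]
  rfl

variable (K : Type u) [Field K] [Infinite K]

/-- membership in a step of the weight filtration via the straightening -/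
lemma mk_mon_mem_Fil (hd : 0 < d) (w : Idx d n) (u : Idx d n → ℕ) (s : Multiset (Idx d n)) (N : ℕ)
    (hN : ∀ (m' : ℕ) (c : Fin m' → Idx d n), Antitone c → (msOf c).card = s.card →
      (Phi s < Phi (msOf c) ∨ msOf c = s) → (∀ k, c k ≤ w) → chainWt u c ≤ N) :
    (Ideal.Quotient.mk (schubertVanishing K d n w) (mon K s) : ACone K w) ∈
      Rees.Fil (wbasis K hd w) (fun c : WChain w => chainWt u c.2.1) N := by
  classical
  have h := straighten K s
  unfold stdTarget at h
  obtain ⟨g, hg, h', hh', hgh⟩ := Submodule.mem_sup.1 h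
  have hh'' : h' ∈ plIdealTop (d := d) (n := n) K := hh'
  rw [← hgh, map_add, Ideal.Quotient.eq_zero_iff_mem.2 (plIdealTop_le_schubertVanishing K w hh''), add_zero]
  clear hgh h
  induction hg using Submodule.span_induction with
  | mem g hg =>
    obtain ⟨m', c, hc, -, hcard, hΦ, rfl⟩ := hg
    by_cases hcw : ∀ k, c k ≤ w
    · have := Rees.basis_mem_Fil (wbasis K hd w) (fun c : WChain w => chainWt u c.2.1)
        (⟨m', ⟨c, hc, hcw⟩⟩ : WChain w) (hN m' c hc hcard hΦ hcw)
      rw [wbasis_apply] at this
      exact this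
    · push Not at hcw
      obtain ⟨k, hk⟩ := hcw
      rw [Ideal.Quotient.eq_zero_iff_mem.2
        (chainMon_mem_of_factor K _ c k (X_mem_schubertVanishing K w (c k) hk))]
      exact Submodule.zero_mem _
  | zero => rw [map_zero]; exact Submodule.zero_mem _
  | add f g _ _ hf hg => rw [map_add]; exact Submodule.add_mem _ hf hg
  | smul c f _ hf =>
    have : Ideal.Quotient.mk (schubertVanishing K d n w) (c • f) =
        c • Ideal.Quotient.mk (schubertVanishing K d n w) f :=
      map_smul (Ideal.Quotient.mkₐ K (schubertVanishing K d n w)) c f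
    rw [this]
    exact Submodule.smul_mem _ c hf

/-- the Stanley–Reisner weight -/
def uSR (d n : ℕ) (θ : Idx d n) : ℕ := (d * n) ^ 2 - wt θ ^ 2

lemma msWt_uSR (s : Multiset (Idx d n)) : msWt (uSR d n) s + Phi s = s.card * (d * n) ^ 2 := by
  induction s using Multiset.induction_on with
  | empty => simp [msWt, Phi]
  | cons a s ih =>
    have h1 : msWt (uSR d n) (a ::ₘ s) = uSR d n a + msWt (uSR d n) s := by
      unfold msWt; rw [Multiset.map_cons, Multiset.sum_cons]
    rw [h1, Phi_cons, Multiset.card_cons, Nat.succ_mul]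
    have h2 : wt a ^ 2 ≤ (d * n) ^ 2 := Nat.pow_le_pow_left (wt_le a) 2
    have h3 : uSR d n a + wt a ^ 2 = (d * n) ^ 2 := by unfold uSR; omega
    omega

theorem mulProp_uSR (hd : 0 < d) (w : Idx d n) : MulProp K hd w (uSR d n) := by
  intro s
  apply mk_mon_mem_Fil K hd w (uSR d n) s
  intro m' c _ hcard hΦ _
  rw [chainWt_eq_msWt]
  have h1 := msWt_uSR (msOf c)
  have h2 := msWt_uSR s
  rw [hcard] at h1
  have h3 : Phi s ≤ Phi (msOf c) := by
    rcases hΦ with h | h
    · exact h.le
    · rw [h]
  omega

/-- strict drop of the weight for non-chains -/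
theorem strict_uSR (hd : 0 < d) (w : Idx d n) (a b : Idx d n) (h1 : ¬ a ≤ b) (h2 : ¬ b ≤ a) :
    ∃ k, uSR d n a + uSR d n b = k + 1 ∧
      (Ideal.Quotient.mk (schubertVanishing K d n w) (X a * X b) : ACone K w) ∈
        Rees.Fil (wbasis K hd w) (fun c : WChain w => chainWt (uSR d n) c.2.1) k := by
  set s : Multiset (Idx d n) := a ::ₘ b ::ₘ 0 with hs
  have hmon : mon K s = X a * X b := by
    rw [hs, mon_cons, mon_cons]; unfold mon; simp
  have hw : msWt (uSR d n) s = uSR d n a + uSR d n b := by
    rw [hs]; unfold msWt; simp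
  -- every standard chain with the same multiset-size has strictly smaller weight
  have key : ∀ (m' : ℕ) (c : Fin m' → Idx d n), Antitone c → (msOf c).card = s.card →
      (Phi s < Phi (msOf c) ∨ msOf c = s) → (∀ k, c k ≤ w) →
      chainWt (uSR d n) c ≤ uSR d n a + uSR d n b - 1 := by
    intro m' c hc hcard hΦ _
    have hlt : Phi s < Phi (msOf c) := by
      rcases hΦ with h | h
      · exact h
      · exfalso
        have ha : a ∈ msOf c := by rw [h, hs]; simp
        have hb : b ∈ msOf c := by rw [h, hs]; simp
        rw [mem_msOf] at ha hb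
        obtain ⟨ka, rfl⟩ := ha
        obtain ⟨kb, rfl⟩ := hb
        rcases le_total ka kb with hk | hk
        · exact h2 (hc hk)
        · exact h1 (hc hk)
    rw [chainWt_eq_msWt]
    have e1 := msWt_uSR (msOf c)
    have e2 := msWt_uSR s
    rw [hcard] at e1
    rw [hw] at e2
    omega
  have hpos : 1 ≤ uSR d n a + uSR d n b := by
    -- the empty case cannot occur: the straightening of `s` has a term
    by_contra hcon
    have h0 : uSR d n a + uSR d n b = 0 := by omega
    have e2 := msWt_uSR s
    rw [hw, h0, zero_add] at e2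
    -- then `Phi s` is maximal, so `s` would be its own standard form; use straightening
    have hst := straighten K s
    unfold stdTarget at hst
    -- all elements of stdSet have Phi ≥ Phi s = card * B ≥ their Phi, so msOf c = s is forced
    have hempty : stdSet K s = ∅ := by
      ext f
      simp only [Set.mem_empty_iff_false, iff_false]
      rintro ⟨m', c, hc, -, hcard, hΦ, -⟩
      rcases hΦ with h | h
      · have := Phi_le (msOf c)
        rw [hcard] at this
        omega
      · have ha : a ∈ msOf c := by rw [h, hs]; simp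
        have hb : b ∈ msOf c := by rw [h, hs]; simp
        rw [mem_msOf] at ha hb
        obtain ⟨ka, rfl⟩ := ha
        obtain ⟨kb, rfl⟩ := hb
        rcases le_total ka kb with hk | hk
        · exact h2 (hc hk)
        · exact h1 (hc hk)
    rw [hempty, Submodule.span_empty, bot_sup_eq, hmon] at hst
    -- so X a * X b lies in plIdealTop, hence vanishes on all matrices; contradiction via generic matrix
    have hev := ev_eq_zero_of_mem_vanishing K (shapeGe (W4bk4grassmannian.inf a b)) _
      (plIdealTop_le_vanishing K hst)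
    have hm := (ev_pair_monic K hd (shapeGe (W4bk4grassmannian.inf a b)) a b
      ((mem_shapeGe _ _).2 (inf_le_left' a b)) ((mem_shapeGe _ _).2 (inf_le_right' a b))).1
    exact hm.ne_zero hev
  refine ⟨uSR d n a + uSR d n b - 1, by omega, ?_⟩
  rw [← hmon]
  exact mk_mon_mem_Fil K hd w (uSR d n) s _ key

end Groth.Agent.Lib.Helper99.SMT
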