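import Mathlib
import Groth.Agent.Lib.Helper99.SMTDegenC

set_option autoImplicit false
universe u

namespace Groth.Agent.Lib.Helper99.SMT
open W4bk4grassmannian MvPolynomial

variable {d n : ℕ}

/-- number of entries of `θ` that are at most `v` -/
def kcnt (θ : Idx d n) (v : Fin n) : ℕ := (Finset.univ.filter fun t => θ.1 t ≤ v).card

lemma kcnt_le (θ : Idx d n) (v : Fin n) : kcnt θ v ≤ d := by
  unfold kcnt
  calc _ ≤ (Finset.univ : Finset (Fin d)).card := Finset.card_filter_le _ _
    _ = d := by simp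

/-- the entries at most `v` form an initial segment -/
lemma le_iff_lt_kcnt (θ : Idx d n) (v : Fin n) (t : Fin d) : θ.1 t ≤ v ↔ t.val < kcnt θ v := by
  classical
  set S := Finset.univ.filter fun t => θ.1 t ≤ v with hS
  have hlower : ∀ t ∈ S, ∀ t', t' ≤ t → t' ∈ S := by
    intro t ht t' htt'
    rw [hS, Finset.mem_filter] at ht ⊢
    exact ⟨Finset.mem_univ _, le_trans (θ.2.monotone htt') ht.2⟩
  have hsub : S ⊆ Finset.univ.filter (fun t : Fin d => t.val < S.card) := by
    intro t ht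
    rw [Finset.mem_filter]
    refine ⟨Finset.mem_univ _, ?_⟩
    have : Finset.Iic t ⊆ S := fun t' ht' => hlower t ht t' (Finset.mem_Iic.1 ht')
    have h2 := Finset.card_le_card this
    rw [Fin.card_Iic] at h2
    omega
  have hcard : (Finset.univ.filter (fun t : Fin d => t.val < S.card)).card = S.card := by
    have hle : S.card ≤ d := kcnt_le θ v
    have : Finset.univ.filter (fun t : Fin d => t.val < S.card) =
        (Finset.range S.card).attachFin (fun k hk => lt_of_lt_of_le (Finset.mem_range.1 hk) hle) := by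
      ext t; simp
    rw [this, Finset.card_attachFin, Finset.card_range]
  have heq : S = Finset.univ.filter (fun t : Fin d => t.val < S.card) :=
    Finset.eq_of_subset_of_card_le hsub (le_of_eq hcard)
  show θ.1 t ≤ v ↔ t.val < S.card
  constructor
  · intro h
    have : t ∈ S := Finset.mem_filter.2 ⟨Finset.mem_univ _, h⟩
    rw [heq] at this
    exact (Finset.mem_filter.1 this).2
  · intro h
    have : t ∈ S := by rw [heq]; exact Finset.mem_filter.2 ⟨Finset.mem_univ _, h⟩
    exact (Finset.mem_filter.1 this).2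

lemma kcnt_eq_countP (θ : Idx d n) (v : Fin n) : kcnt θ v = (cnt θ.1).countP (· ≤ v) := by
  unfold kcnt cnt
  rw [Multiset.countP_map, Finset.card_def, Finset.filter_val]

lemma kcnt_add_of_cnt {a b a' b' : Idx d n} (h : cnt a.1 + cnt b.1 = cnt a'.1 + cnt b'.1) (v : Fin n) :
    kcnt a v + kcnt b v = kcnt a' v + kcnt b' v := by
  simp only [kcnt_eq_countP]
  rw [← Multiset.countP_add, ← Multiset.countP_add, h]

lemma kcnt_anti {θ θ' : Idx d n} (h : θ ≤ θ') (v : Fin n) : kcnt θ' v ≤ kcnt θ v := by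
  unfold kcnt
  apply Finset.card_le_card
  intro t ht
  rw [Finset.mem_filter] at ht ⊢
  exact ⟨ht.1, le_trans (h t) ht.2⟩

lemma kcnt_card_lt (k : ℕ) (hk : k ≤ d) : (Finset.univ.filter (fun t : Fin d => t.val < k)).card = k := by
  have : Finset.univ.filter (fun t : Fin d => t.val < k) =
      (Finset.range k).attachFin (fun j hj => lt_of_lt_of_le (Finset.mem_range.1 hj) hk) := by
    ext t; simp
  rw [this, Finset.card_attachFin, Finset.card_range]

lemma kcnt_sup (a b : Idx d n) (v : Fin n) :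
    kcnt (W4bk4grassmannian.sup a b) v = min (kcnt a v) (kcnt b v) := by
  have : (Finset.univ.filter fun t => (W4bk4grassmannian.sup a b).1 t ≤ v) =
      Finset.univ.filter (fun t : Fin d => t.val < min (kcnt a v) (kcnt b v)) := by
    ext t
    simp only [Finset.mem_filter, Finset.mem_univ, true_and]
    show max (a.1 t) (b.1 t) ≤ v ↔ _
    rw [max_le_iff, le_iff_lt_kcnt, le_iff_lt_kcnt, lt_min_iff]
  unfold kcnt at *
  rw [this]
  exact kcnt_card_lt _ (le_trans (min_le_left _ _) (kcnt_le a v))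

lemma kcnt_inf (a b : Idx d n) (v : Fin n) :
    kcnt (W4bk4grassmannian.inf a b) v = max (kcnt a v) (kcnt b v) := by
  have : (Finset.univ.filter fun t => (W4bk4grassmannian.inf a b).1 t ≤ v) =
      Finset.univ.filter (fun t : Fin d => t.val < max (kcnt a v) (kcnt b v)) := by
    ext t
    simp only [Finset.mem_filter, Finset.mem_univ, true_and]
    show min (a.1 t) (b.1 t) ≤ v ↔ _
    rw [min_le_iff, le_iff_lt_kcnt, le_iff_lt_kcnt, lt_max_iff]
  unfold kcnt at *
  rw [this]
  exact kcnt_card_lt _ (max_le (kcnt_le a v) (kcnt_le b v))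

/-- the convex potential -/
def Psi (θ : Idx d n) : ℕ := ∑ v : Fin n, kcnt θ v ^ 2

lemma Psi_le (θ : Idx d n) : Psi θ ≤ n * d ^ 2 := by
  unfold Psi
  calc ∑ v : Fin n, kcnt θ v ^ 2 ≤ ∑ _v : Fin n, d ^ 2 :=
        Finset.sum_le_sum (fun v _ => Nat.pow_le_pow_left (kcnt_le θ v) 2)
    _ = n * d ^ 2 := by simp

lemma Psi_sup_inf (a b : Idx d n) :
    Psi (W4bk4grassmannian.sup a b) + Psi (W4bk4grassmannian.inf a b) = Psi a + Psi b := by
  unfold Psi
  rw [← Finset.sum_add_distrib, ← Finset.sum_add_distrib]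
  apply Finset.sum_congr rfl
  intro v _
  rw [kcnt_sup, kcnt_inf]
  rcases le_total (kcnt a v) (kcnt b v) with h | h
  · rw [min_eq_left h, max_eq_right h]
  · rw [min_eq_right h, max_eq_left h, add_comm]

/-- the convexity inequality: spreading a standard pair strictly increases the potential -/
lemma Psi_lt_of_spread {σ ρ α β : Idx d n} (hρσ : ρ ≤ σ) (hσα : σ < α) (hβρ : β ≤ ρ)
    (hcnt : cnt α.1 + cnt β.1 = cnt σ.1 + cnt ρ.1) : Psi σ + Psi ρ < Psi α + Psi β := by
  unfold Psi
  rw [← Finset.sum_add_distrib, ← Finset.sum_add_distrib]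
  have hterm : ∀ v : Fin n, kcnt σ v ^ 2 + kcnt ρ v ^ 2 ≤ kcnt α v ^ 2 + kcnt β v ^ 2 := by
    intro v
    have h1 := kcnt_anti hσα.le v
    have h2 := kcnt_anti hρσ v
    have h3 := kcnt_anti hβρ v
    have h4 := kcnt_add_of_cnt hcnt v
    nlinarith
  apply Finset.sum_lt_sum (fun v _ => hterm v)
  -- a strict place
  have hex : ∃ t, σ.1 t < α.1 t := by
    by_contra hcon
    push Not at hcon
    exact hσα.ne (le_antisymm hσα.le (fun t => hcon t))
  obtain ⟨t, ht⟩ := hex
  refine ⟨σ.1 t, Finset.mem_univ _, ?_⟩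
  have h1 := kcnt_anti hσα.le (σ.1 t)
  have h2 := kcnt_anti hρσ (σ.1 t)
  have h3 := kcnt_anti hβρ (σ.1 t)
  have h4 := kcnt_add_of_cnt hcnt (σ.1 t)
  have h5 : t.val < kcnt σ (σ.1 t) := (le_iff_lt_kcnt σ (σ.1 t) t).1 le_rfl
  have h6 : ¬ t.val < kcnt α (σ.1 t) := fun h => absurd ((le_iff_lt_kcnt α (σ.1 t) t).2 h) (not_le.2 ht)
  nlinarith

/-- the Hibi weight -/
def uH (d n : ℕ) (θ : Idx d n) : ℕ := n * d ^ 2 + 1 - Psi θ

lemma uH_add_Psi (θ : Idx d n) : uH d n θ + Psi θ = n * d ^ 2 + 1 := by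
  unfold uH
  have := Psi_le θ
  omega

lemma uH_pos (θ : Idx d n) : 1 ≤ uH d n θ := by
  have := uH_add_Psi θ
  have := Psi_le θ
  omega

lemma uH_sup_inf (a b : Idx d n) :
    uH d n (W4bk4grassmannian.sup a b) + uH d n (W4bk4grassmannian.inf a b) = uH d n a + uH d n b := by
  have := Psi_sup_inf a b
  have := uH_add_Psi a
  have := uH_add_Psi b
  have := uH_add_Psi (W4bk4grassmannian.sup a b)
  have := uH_add_Psi (W4bk4grassmannian.inf a b)
  omega

lemma uH_lt_of_spread {σ ρ α β : Idx d n} (hρσ : ρ ≤ σ) (hσα : σ < α) (hβρ : β ≤ ρ)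
    (hcnt : cnt α.1 + cnt β.1 = cnt σ.1 + cnt ρ.1) :
    uH d n α + uH d n β < uH d n σ + uH d n ρ := by
  have := Psi_lt_of_spread hρσ hσα hβρ hcnt
  have := uH_add_Psi α
  have := uH_add_Psi β
  have := uH_add_Psi σ
  have := uH_add_Psi ρ
  omega

end Groth.Agent.Lib.Helper99.SMT
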