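import Mathlib
import Groth.Agent.Lib.Helper99.SMTHibiA

/-!
# Bitableaux: counting functions of increasing tuples, sorted enumerations and complements
-/

set_option autoImplicit false
universe u

namespace Groth.Agent.Lib.Helper99.Bit
open W4bk4grassmannian
open Groth.Agent.Lib.Helper99.SMT

variable {N : ℕ}

/-- the sorted enumeration of a finite set -/
def sortFin (s : Finset (Fin N)) (k : ℕ) (h : s.card = k) : Idx k N :=
  ⟨fun i => s.orderEmbOfFin h i, (s.orderEmbOfFin h).strictMono⟩

lemma sortFin_mem (s : Finset (Fin N)) (k : ℕ) (h : s.card = k) (i : Fin k) :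
    (sortFin s k h).1 i ∈ s := Finset.orderEmbOfFin_mem s h i

lemma image_sortFin (s : Finset (Fin N)) (k : ℕ) (h : s.card = k) :
    Finset.univ.image (sortFin s k h).1 = s :=
  Finset.image_orderEmbOfFin_univ s h

lemma card_image_idx {k : ℕ} (a : Idx k N) : (Finset.univ.image a.1).card = k := by
  rw [Finset.card_image_of_injective _ a.2.injective, Finset.card_univ, Fintype.card_fin]

lemma sortFin_image {k : ℕ} (a : Idx k N) : sortFin (Finset.univ.image a.1) k (card_image_idx a) = a := by
  apply Subtype.ext
  symm
  exact Finset.orderEmbOfFin_unique (card_image_idx a)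
    (fun x => Finset.mem_image_of_mem _ (Finset.mem_univ x)) a.2

lemma sortFin_congr (s s' : Finset (Fin N)) (k : ℕ) (h : s.card = k) (h' : s'.card = k) (hs : s = s') :
    sortFin s k h = sortFin s' k h' := by
  subst hs; rfl

/-- the counting function of a tuple in terms of its image -/
lemma kcnt_eq_card_filter {k : ℕ} (a : Idx k N) (v : Fin N) :
    kcnt a v = ((Finset.univ.image a.1).filter (· ≤ v)).card := by
  unfold kcnt
  rw [Finset.filter_image, Finset.card_image_of_injective _ a.2.injective]

lemma kcnt_sortFin (s : Finset (Fin N)) (k : ℕ) (h : s.card = k) (v : Fin N) :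
    kcnt (sortFin s k h) v = (s.filter (· ≤ v)).card := by
  rw [kcnt_eq_card_filter, image_sortFin]

/-- complementary sets have complementary counting functions -/
lemma card_filter_compl (s : Finset (Fin N)) (v : Fin N) :
    (s.filter (· ≤ v)).card + (sᶜ.filter (· ≤ v)).card = v.val + 1 := by
  have h1 : (s.filter (· ≤ v)) ∪ (sᶜ.filter (· ≤ v)) = Finset.Iic v := by
    ext x
    simp only [Finset.mem_union, Finset.mem_filter, Finset.mem_compl, Finset.mem_Iic]
    tauto
  have h2 : Disjoint (s.filter (· ≤ v)) (sᶜ.filter (· ≤ v)) := by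
    rw [Finset.disjoint_left]
    intro x hx hx'
    rw [Finset.mem_filter] at hx hx'
    exact (Finset.mem_compl.1 hx'.1) hx.1
  rw [← Finset.card_union_of_disjoint h2, h1, Fin.card_Iic]

/-- comparison of counting functions of two increasing tuples of possibly different lengths -/
lemma kcnt_le_iff {k k' : ℕ} (hN : 0 < N) (a : Idx k N) (a' : Idx k' N) :
    (∀ v, kcnt a v ≤ kcnt a' v) ↔
      k ≤ k' ∧ ∀ (j : Fin k) (j' : Fin k'), j.val = j'.val → a'.1 j' ≤ a.1 j := by
  constructor
  · intro h
    have hk : k ≤ k' := by
      have h1 := h ⟨N - 1, by omega⟩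
      have e1 : kcnt a ⟨N - 1, by omega⟩ = k := by
        unfold kcnt
        rw [Finset.filter_true_of_mem, Finset.card_univ, Fintype.card_fin]
        intro t _
        rw [Fin.le_def]
        have := (a.1 t).isLt
        simp only
        omega
      have e2 : kcnt a' ⟨N - 1, by omega⟩ = k' := by
        unfold kcnt
        rw [Finset.filter_true_of_mem, Finset.card_univ, Fintype.card_fin]
        intro t _
        rw [Fin.le_def]
        have := (a'.1 t).isLt
        simp only
        omega
      omega
    refine ⟨hk, ?_⟩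
    intro j j' hjj'
    have h1 : j.val < kcnt a (a.1 j) := (le_iff_lt_kcnt a (a.1 j) j).1 le_rfl
    have h2 := h (a.1 j)
    rw [le_iff_lt_kcnt a' (a.1 j) j']
    omega
  · rintro ⟨hk, h⟩ v
    unfold kcnt
    have : (Finset.univ.filter fun t => a.1 t ≤ v).card =
        ((Finset.univ.filter fun t => a.1 t ≤ v).map (Fin.castLEEmb hk)).card := by
      rw [Finset.card_map]
    rw [this]
    apply Finset.card_le_card
    intro x hx
    rw [Finset.mem_map] at hx
    obtain ⟨t, ht, rfl⟩ := hx
    rw [Finset.mem_filter] at ht ⊢
    exact ⟨Finset.mem_univ _, le_trans (h t (Fin.castLEEmb hk t) rfl) ht.2⟩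

end Groth.Agent.Lib.Helper99.Bit
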