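import Mathlib
import Groth.Agent.Lib.Helper99.BitA

/-!
# Bitableaux: the Plücker index attached to a minor
-/

set_option autoImplicit false
universe u

namespace Groth.Agent.Lib.Helper99.Bit
open W4bk4grassmannian
open Groth.Agent.Lib.Helper99.SMT

variable {m n : ℕ}

lemma gap_le {d N : ℕ} (θ : Idx d N) :
    ∀ (g : ℕ) (a b : Fin d), a.val + g = b.val → (θ.1 a).val + g ≤ (θ.1 b).val := by
  intro g
  induction g with
  | zero =>
    intro a b hab
    have : a = b := Fin.ext (by omega)
    rw [this]; omega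
  | succ g ih =>
    intro a b hab
    have hb := b.isLt
    have h1 := ih a ⟨b.val - 1, by omega⟩ (by simp only; omega)
    have h2 : (θ.1 ⟨b.val - 1, by omega⟩).val < (θ.1 b).val :=
      θ.2 (by rw [Fin.lt_def]; simp only; omega)
    omega

lemma idx_card_le {d N : ℕ} (θ : Idx d N) : d ≤ N := by
  have := Fintype.card_le_of_injective θ.1 θ.2.injective
  simpa using this

/-- entries of an increasing tuple are bounded from above -/
lemma idx_val_le {d N : ℕ} (θ : Idx d N) (t : Fin d) : (θ.1 t).val + (d - 1 - t.val) ≤ N - 1 := by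
  have h1 := gap_le θ (d - 1 - t.val) t ⟨d - 1, by have := t.isLt; omega⟩ (by simp only; have := t.isLt; omega)
  have h2 := (θ.1 ⟨d - 1, by have := t.isLt; omega⟩).isLt
  omega

/-- size of a minor -/
abbrev sz (M : MinorIdx m n) : ℕ := M.1 + 1

lemma sz_le_m (M : MinorIdx m n) : sz M ≤ m := idx_card_le M.2.1
lemma sz_le_n (M : MinorIdx m n) : sz M ≤ n := idx_card_le M.2.2

/-- the complement of the columns of a minor, sorted -/
def colCompl (M : MinorIdx m n) : Idx (n - sz M) n :=
  sortFin (Finset.univ.image M.2.2.1)ᶜ (n - sz M) (by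
    rw [Finset.card_compl, card_image_idx, Fintype.card_fin])

lemma kcnt_colCompl (M : MinorIdx m n) (v : Fin n) :
    kcnt (colCompl M) v + kcnt M.2.2 v = v.val + 1 := by
  unfold colCompl
  rw [kcnt_sortFin, kcnt_eq_card_filter, add_comm]
  exact card_filter_compl _ v

/-- the function underlying `toIdx` -/
def toIdxFun (M : MinorIdx m n) (i : Fin n) : Fin (m + n) :=
  if h : i.val < sz M then ⟨(M.2.1.1 ⟨i.val, h⟩).val, by have := (M.2.1.1 ⟨i.val, h⟩).isLt; omega⟩
  else ⟨m + (n - 1 - ((colCompl M).1 ⟨n - 1 - i.val, by have := i.isLt; omega⟩).val), by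
    have := i.isLt; omega⟩

lemma toIdxFun_val_lt (M : MinorIdx m n) (i : Fin n) (h : i.val < sz M) :
    (toIdxFun M i).val = (M.2.1.1 ⟨i.val, h⟩).val := by
  unfold toIdxFun
  rw [dif_pos h]

lemma toIdxFun_val_ge (M : MinorIdx m n) (i : Fin n) (h : ¬ i.val < sz M) :
    (toIdxFun M i).val =
      m + (n - 1 - ((colCompl M).1 ⟨n - 1 - i.val, by have := i.isLt; omega⟩).val) := by
  unfold toIdxFun
  rw [dif_neg h]

lemma toIdxFun_strictMono (M : MinorIdx m n) : StrictMono (toIdxFun M) := by
  intro i i' hii'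
  have hv : i.val < i'.val := hii'
  rw [Fin.lt_def]
  by_cases h : i.val < sz M
  · rw [toIdxFun_val_lt M i h]
    by_cases h' : i'.val < sz M
    · rw [toIdxFun_val_lt M i' h']
      exact M.2.1.2 (by rw [Fin.lt_def]; exact hv)
    · rw [toIdxFun_val_ge M i' h']
      have := (M.2.1.1 ⟨i.val, h⟩).isLt
      omega
  · have h' : ¬ i'.val < sz M := by omega
    rw [toIdxFun_val_ge M i h, toIdxFun_val_ge M i' h']
    have hlt : (colCompl M).1 ⟨n - 1 - i'.val, by have := i'.isLt; omega⟩ <
        (colCompl M).1 ⟨n - 1 - i.val, by have := i.isLt; omega⟩ :=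
      (colCompl M).2 (by rw [Fin.lt_def]; simp only; have := i'.isLt; omega)
    have hlt' : ((colCompl M).1 ⟨n - 1 - i'.val, by have := i'.isLt; omega⟩).val <
        ((colCompl M).1 ⟨n - 1 - i.val, by have := i.isLt; omega⟩).val := hlt
    have := ((colCompl M).1 ⟨n - 1 - i.val, by have := i.isLt; omega⟩).isLt
    omega

/-- the index of the Plücker coordinate of `[X ; J]` attached to a minor of `X` -/
def toIdx (M : MinorIdx m n) : Idx n (m + n) := ⟨toIdxFun M, toIdxFun_strictMono M⟩

lemma toIdx_val_lt (M : MinorIdx m n) (i : Fin n) (h : i.val < sz M) :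
    ((toIdx M).1 i).val = (M.2.1.1 ⟨i.val, h⟩).val := toIdxFun_val_lt M i h

lemma toIdx_val_ge (M : MinorIdx m n) (i : Fin n) (h : ¬ i.val < sz M) :
    ((toIdx M).1 i).val =
      m + (n - 1 - ((colCompl M).1 ⟨n - 1 - i.val, by have := i.isLt; omega⟩).val) :=
  toIdxFun_val_ge M i h

lemma toIdx_lt_iff (M : MinorIdx m n) (i : Fin n) : ((toIdx M).1 i).val < m ↔ i.val < sz M := by
  constructor
  · intro h
    by_contra hcon
    rw [toIdx_val_ge M i hcon] at h
    omega
  · intro h
    rw [toIdx_val_lt M i h]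
    exact (M.2.1.1 ⟨i.val, h⟩).isLt

/-- the largest index `(m, m + 1, …, m + n - 1)`: the empty minor -/
def thetaMax (m n : ℕ) : Idx n (m + n) := ⟨Fin.natAdd m, Fin.strictMono_natAdd m⟩

lemma thetaMax_val (i : Fin n) : ((thetaMax m n).1 i).val = m + i.val := rfl

lemma toIdx_ne_thetaMax (M : MinorIdx m n) : toIdx M ≠ thetaMax m n := by
  intro h
  have hn : 0 < n := lt_of_lt_of_le (Nat.succ_pos _) (sz_le_n M)
  have h1 := (toIdx_lt_iff M ⟨0, hn⟩).2 (Nat.succ_pos _)
  rw [h, thetaMax_val] at h1
  omega

/-- the order on minors is the order of the Plücker indices -/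
theorem toIdx_le_iff (M M' : MinorIdx m n) : toIdx M' ≤ toIdx M ↔ MinorGE M M' := by
  have hn : 0 < n := lt_of_lt_of_le (Nat.succ_pos _) (sz_le_n M)
  rw [idx_le_iff]
  constructor
  · intro h
    have hk : sz M ≤ sz M' := by
      by_contra hcon
      push Not at hcon
      have hi : sz M' < n := lt_of_lt_of_le hcon (sz_le_n M)
      have h1 := h ⟨sz M', hi⟩
      have h2 := (toIdx_lt_iff M ⟨sz M', hi⟩).2 hcon
      have h3 : ¬ ((toIdx M').1 ⟨sz M', hi⟩).val < m := by
        rw [toIdx_lt_iff]; simp
      omega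
    refine ⟨by unfold sz at hk; omega, ?_⟩
    intro j j' hjj'
    have hjn : j.val < n := lt_of_lt_of_le j.isLt (sz_le_n M)
    constructor
    · have h1 := h ⟨j.val, hjn⟩
      rw [toIdx_val_lt M ⟨j.val, hjn⟩ j.isLt, toIdx_val_lt M' ⟨j.val, hjn⟩ (by simp only; rw [hjj']; exact j'.isLt)]
        at h1
      rw [Fin.le_def]
      have e : (⟨j.val, by rw [hjj']; exact j'.isLt⟩ : Fin (sz M')) = j' := Fin.ext hjj'
      rw [e] at h1
      exact h1
    · have hB : ∀ v, kcnt M.2.2 v ≤ kcnt M'.2.2 v := by
        intro v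
        have hc : ∀ v, kcnt (colCompl M') v ≤ kcnt (colCompl M) v := by
          rw [kcnt_le_iff hn]
          refine ⟨by omega, ?_⟩
          intro p p' hpp'
          have hp := p.isLt
          have hi : n - 1 - p.val < n := by omega
          have h1 := h ⟨n - 1 - p.val, hi⟩
          rw [toIdx_val_ge M' ⟨n - 1 - p.val, hi⟩ (by simp only; omega),
            toIdx_val_ge M ⟨n - 1 - p.val, hi⟩ (by simp only; omega)] at h1
          simp only at h1
          have e1 : (⟨n - 1 - (n - 1 - p.val), by omega⟩ : Fin (n - sz M')) = p := Fin.ext (by simp only; omega)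
          have e2 : (⟨n - 1 - (n - 1 - p.val), by omega⟩ : Fin (n - sz M)) = p' :=
            Fin.ext (by simp only; omega)
          rw [e1, e2] at h1
          have b1 := ((colCompl M').1 p).isLt
          have b2 := ((colCompl M).1 p').isLt
          rw [Fin.le_def]
          omega
        have := hc v
        have := kcnt_colCompl M v
        have := kcnt_colCompl M' v
        omega
      exact ((kcnt_le_iff hn M.2.2 M'.2.2).1 hB).2 j j' hjj'
  · rintro ⟨hs, h⟩ i
    have hk : sz M ≤ sz M' := by unfold sz; omega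
    by_cases hi : i.val < sz M
    · have hi' : i.val < sz M' := by omega
      rw [toIdx_val_lt M i hi, toIdx_val_lt M' i hi']
      exact (h ⟨i.val, hi⟩ ⟨i.val, hi'⟩ rfl).1
    · by_cases hi' : i.val < sz M'
      · have h1 := (toIdx_lt_iff M' i).2 hi'
        have h2 : ¬ ((toIdx M).1 i).val < m := by rw [toIdx_lt_iff]; exact hi
        omega
      · rw [toIdx_val_ge M i hi, toIdx_val_ge M' i hi']
        have hin := i.isLt
        set p : Fin (n - sz M) := ⟨n - 1 - i.val, by omega⟩ with hp
        set p' : Fin (n - sz M') := ⟨n - 1 - i.val, by omega⟩ with hp'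
        have hB : ∀ v, kcnt M.2.2 v ≤ kcnt M'.2.2 v := by
          rw [kcnt_le_iff hn]
          exact ⟨hk, fun j j' hjj' => (h j j' hjj').2⟩
        have key : (colCompl M).1 p ≤ (colCompl M').1 p' := by
          rw [le_iff_lt_kcnt (colCompl M) ((colCompl M').1 p') p]
          have h1 : p'.val < kcnt (colCompl M') ((colCompl M').1 p') :=
            (le_iff_lt_kcnt (colCompl M') _ p').1 le_rfl
          have := hB ((colCompl M').1 p')
          have := kcnt_colCompl M ((colCompl M').1 p')
          have := kcnt_colCompl M' ((colCompl M').1 p')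
          have e : p.val = p'.val := rfl
          omega
        have key' : ((colCompl M).1 p).val ≤ ((colCompl M').1 p').val := key
        have b1 := ((colCompl M').1 p').isLt
        omega

end Groth.Agent.Lib.Helper99.Bit
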