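import Mathlib
import Groth.Agent.Lib.Helper99.BitB

/-!
# Bitableaux: the correspondence between minors and Plücker indices is bijective
-/

set_option autoImplicit false
universe u

namespace Groth.Agent.Lib.Helper99.Bit
open W4bk4grassmannian
open Groth.Agent.Lib.Helper99.SMT

variable {m n : ℕ}

lemma minorGE_refl (M : MinorIdx m n) : MinorGE M M := by
  rw [← toIdx_le_iff]

theorem toIdx_injective : Function.Injective (toIdx (m := m) (n := n)) := by
  intro M M' h
  have h1 : MinorGE M M' := by rw [← toIdx_le_iff, h]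
  have h2 : MinorGE M' M := by rw [← toIdx_le_iff, h]
  obtain ⟨s, A, B⟩ := M
  obtain ⟨s', A', B'⟩ := M'
  have hs : s = s' := le_antisymm h1.1 h2.1
  subst hs
  have hA : A = A' := by
    apply Subtype.ext
    funext j
    exact le_antisymm (h2.2 j j rfl).1 (h1.2 j j rfl).1
  have hB : B = B' := by
    apply Subtype.ext
    funext j
    exact le_antisymm (h2.2 j j rfl).2 (h1.2 j j rfl).2
  rw [hA, hB]

/-- an index all of whose entries are at least `m` is the largest one -/
lemma eq_thetaMax_of_forall_ge (θ : Idx n (m + n)) (h : ∀ i, m ≤ (θ.1 i).val) : θ = thetaMax m n := by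
  apply Subtype.ext
  funext i
  apply Fin.ext
  rw [thetaMax_val]
  have h1 := idx_val_le θ i
  have hi := i.isLt
  by_cases h0 : n = 0
  · omega
  · have hn : 0 < n := Nat.pos_of_ne_zero h0
    have h2 := gap_le θ i.val ⟨0, hn⟩ i (by simp)
    have h3 := h ⟨0, hn⟩
    omega

/-- every index except the largest one comes from a minor -/
theorem exists_toIdx_eq (hm : 0 < m) (θ : Idx n (m + n)) (hθ : θ ≠ thetaMax m n) :
    ∃ M : MinorIdx m n, toIdx M = θ := by
  classical
  set v0 : Fin (m + n) := ⟨m - 1, by omega⟩ with hv0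
  set kk := kcnt θ v0 with hkk
  have hlt : ∀ i : Fin n, (θ.1 i).val < m ↔ i.val < kk := by
    intro i
    rw [← le_iff_lt_kcnt θ v0 i, Fin.le_def]
    simp only [hv0]
    omega
  have hkk_pos : 0 < kk := by
    by_contra hcon
    apply hθ
    apply eq_thetaMax_of_forall_ge
    intro i
    by_contra hi
    have := (hlt i).1 (by omega)
    omega
  have hkk_le : kk ≤ n := kcnt_le θ v0
  -- the rows
  have hAlt : ∀ j : Fin kk, (θ.1 ⟨j.val, by have := j.isLt; omega⟩).val < m := fun j => (hlt _).2 j.isLt
  set Af : Fin (kk - 1 + 1) → Fin m := fun j => ⟨(θ.1 ⟨j.val, by have := j.isLt; omega⟩).val,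
    hAlt ⟨j.val, by have := j.isLt; omega⟩⟩ with hAf
  have hAmono : StrictMono Af := by
    intro j j' hjj'
    rw [Fin.lt_def]
    simp only [hAf]
    exact θ.2 (by rw [Fin.lt_def]; exact hjj')
  set A : Idx (kk - 1 + 1) m := ⟨Af, hAmono⟩ with hA
  -- the reversed shifted tail
  have hgbound : ∀ p : Fin (n - kk), n - 1 - ((θ.1 ⟨n - 1 - p.val, by have := p.isLt; omega⟩).val - m) < n := by
    intro p; have := p.isLt; omega
  set g : Fin (n - kk) → Fin n := fun p =>
    ⟨n - 1 - ((θ.1 ⟨n - 1 - p.val, by have := p.isLt; omega⟩).val - m), hgbound p⟩ with hg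
  have htail : ∀ i : Fin n, ¬ i.val < kk → m ≤ (θ.1 i).val ∧ (θ.1 i).val - m ≤ n - 1 := by
    intro i hi
    have h1 : ¬ (θ.1 i).val < m := fun h => hi ((hlt i).1 h)
    have := (θ.1 i).isLt
    omega
  have hgmono : StrictMono g := by
    intro p p' hpp'
    rw [Fin.lt_def]
    simp only [hg]
    have hp := p.isLt
    have hp' := p'.isLt
    have hv : p.val < p'.val := hpp'
    have h1 : θ.1 ⟨n - 1 - p'.val, by omega⟩ < θ.1 ⟨n - 1 - p.val, by omega⟩ :=
      θ.2 (by rw [Fin.lt_def]; simp only; omega)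
    have h1' : (θ.1 ⟨n - 1 - p'.val, by omega⟩).val < (θ.1 ⟨n - 1 - p.val, by omega⟩).val := h1
    have h2 := htail ⟨n - 1 - p'.val, by omega⟩ (by simp only; omega)
    have h3 := htail ⟨n - 1 - p.val, by omega⟩ (by simp only; omega)
    omega
  set Cset : Finset (Fin n) := Finset.univ.image g with hCset
  have hCcard : Cset.card = n - kk := by
    rw [hCset, Finset.card_image_of_injective _ hgmono.injective, Finset.card_univ, Fintype.card_fin]
  have hBcard : Csetᶜ.card = kk - 1 + 1 := by
    rw [Finset.card_compl, hCcard, Fintype.card_fin]; omega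
  set B : Idx (kk - 1 + 1) n := sortFin Csetᶜ (kk - 1 + 1) hBcard with hB
  refine ⟨⟨kk - 1, A, B⟩, ?_⟩
  have hsz : sz (⟨kk - 1, A, B⟩ : MinorIdx m n) = kk := by unfold sz; simp only; omega
  -- the complement of the columns is the tail
  have hcc : ∀ p : Fin (n - sz (⟨kk - 1, A, B⟩ : MinorIdx m n)),
      ((colCompl (⟨kk - 1, A, B⟩ : MinorIdx m n)).1 p).val = (g ⟨p.val, by have := p.isLt; omega⟩).val := by
    have hset : (Finset.univ.image (⟨kk - 1, A, B⟩ : MinorIdx m n).2.2.1)ᶜ = Cset := by
      simp only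
      rw [hB, image_sortFin, compl_compl]
    have e1 : n - sz (⟨kk - 1, A, B⟩ : MinorIdx m n) = n - kk := by rw [hsz]
    have hg' : StrictMono (fun p : Fin (n - sz (⟨kk - 1, A, B⟩ : MinorIdx m n)) =>
        g ⟨p.val, by have := p.isLt; omega⟩) := by
      intro p p' hpp'
      exact hgmono (by rw [Fin.lt_def]; exact hpp')
    have huniq := Finset.orderEmbOfFin_unique (s := (Finset.univ.image (⟨kk - 1, A, B⟩ : MinorIdx m n).2.2.1)ᶜ)
      (k := n - sz (⟨kk - 1, A, B⟩ : MinorIdx m n))
      (by rw [Finset.card_compl, card_image_idx, Fintype.card_fin])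
      (f := fun p => g ⟨p.val, by have := p.isLt; omega⟩)
      (by
        intro p
        rw [hset, hCset]
        exact Finset.mem_image_of_mem _ (Finset.mem_univ _)) hg'
    intro p
    unfold colCompl sortFin
    simp only
    rw [← huniq]
  apply Subtype.ext
  funext i
  apply Fin.ext
  by_cases hi : i.val < sz (⟨kk - 1, A, B⟩ : MinorIdx m n)
  · rw [toIdx_val_lt _ i hi]
  · rw [toIdx_val_ge _ i hi, hcc]
    simp only [hg]
    have hin := i.isLt
    have h1 := htail i (by rw [hsz] at hi; exact hi)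
    have e : (⟨n - 1 - (n - 1 - i.val), by omega⟩ : Fin n) = i := Fin.ext (by simp only; omega)
    rw [e]
    omega

/-- the shape of the Plücker indices of the minors of size less than `t` -/
def shapeT (m n t : ℕ) : Shape n where
  lo := fun i => if i.val < t - 1 then 0 else m + (i.val - (t - 1))
  hi := fun _ => m + n
  lo_mono := by
    intro i i' hii'
    have hv : i.val ≤ i'.val := hii'
    simp only
    split_ifs <;> omega
  hi_mono := monotone_const

lemma mem_shapeT_toIdx (t : ℕ) (M : MinorIdx m n) : (shapeT m n t).mem (toIdx M) ↔ sz M ≤ t - 1 := by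
  constructor
  · intro h
    by_contra hcon
    push Not at hcon
    have hi : t - 1 < n := lt_of_lt_of_le hcon (sz_le_n M)
    have h1 := (h ⟨t - 1, hi⟩).1
    unfold shapeT at h1
    simp only at h1
    rw [if_neg (lt_irrefl _)] at h1
    have h2 := (toIdx_lt_iff M ⟨t - 1, hi⟩).2 hcon
    omega
  · intro h i
    have hin := i.isLt
    refine ⟨?_, by have := ((toIdx M).1 i).isLt; unfold shapeT; simp only; omega⟩
    unfold shapeT
    simp only
    split_ifs with hit
    · exact Nat.zero_le _
    · have hi : ¬ i.val < sz M := by omega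
      rw [toIdx_val_ge M i hi]
      have h1 := idx_val_le (colCompl M) ⟨n - 1 - i.val, by omega⟩
      simp only at h1
      omega

lemma shapeT_lo (t : ℕ) (i : Fin n) :
    (shapeT m n t).lo i = if i.val < t - 1 then 0 else m + (i.val - (t - 1)) := rfl

lemma shapeT_hi (t : ℕ) (i : Fin n) : (shapeT m n t).hi i = m + n := rfl

/-- an index outside the shape has at least `t` entries below `m` -/
lemma lt_of_not_mem_shapeT (t : ℕ) (θ : Idx n (m + n)) (h : ¬ (shapeT m n t).mem θ) :
    t ≤ n ∧ ∀ j : Fin n, j.val < t → (θ.1 j).val < m := by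
  unfold Shape.mem at h
  push Not at h
  obtain ⟨i, hi⟩ := h
  rw [shapeT_lo, shapeT_hi] at hi
  have hin := i.isLt
  have hθi := (θ.1 i).isLt
  have hit : ¬ i.val < t - 1 := by
    intro hlt
    rw [if_pos hlt] at hi
    have := hi (Nat.zero_le _)
    omega
  rw [if_neg hit] at hi
  have hlo : (θ.1 i).val < m + (i.val - (t - 1)) := by
    by_contra hcon
    push Not at hcon
    have := hi hcon
    omega
  by_cases ht0' : t = 0
  · subst ht0'
    exact ⟨Nat.zero_le _, fun j hj => absurd hj (Nat.not_lt_zero _)⟩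
  have ht0 : 0 < t := Nat.pos_of_ne_zero ht0'
  refine ⟨by omega, ?_⟩
  intro j hj
  have hjle : j.val ≤ t - 1 := by omega
  have h1 := gap_le θ (i.val - (t - 1)) ⟨t - 1, by omega⟩ i (by simp only; omega)
  have h2 : (θ.1 j).val ≤ (θ.1 ⟨t - 1, by omega⟩).val :=
    θ.2.monotone (by rw [Fin.le_def]; exact hjle)
  omega

end Groth.Agent.Lib.Helper99.Bit
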