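import Mathlib
import Groth.Agent.Lib.Helper99.BitC

/-!
# Bitableaux: minors of `X` are Plücker coordinates of `[X ; J]`
-/

set_option autoImplicit false
universe u

namespace Groth.Agent.Lib.Helper99.Bit
open W4bk4grassmannian
open Groth.Agent.Lib.Helper99.SMT

variable {m n : ℕ}

section Stack
variable {R : Type*} [CommRing R]

/-- the matrix `[X ; J]`: `X` on top of the anti-identity -/
def stack (X : Matrix (Fin m) (Fin n) R) : Matrix (Fin (m + n)) (Fin n) R :=
  Matrix.of fun i c => if h : i.val < m then X ⟨i.val, h⟩ c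
    else if c.val + (i.val - m) + 1 = n then 1 else 0

lemma stack_apply_lt (X : Matrix (Fin m) (Fin n) R) (i : Fin (m + n)) (c : Fin n) (h : i.val < m) :
    stack X i c = X ⟨i.val, h⟩ c := by
  unfold stack
  rw [Matrix.of_apply, dif_pos h]

lemma stack_apply_ge (X : Matrix (Fin m) (Fin n) R) (i : Fin (m + n)) (c : Fin n) (h : ¬ i.val < m) :
    stack X i c = if c.val + (i.val - m) + 1 = n then 1 else 0 := by
  unfold stack
  rw [Matrix.of_apply, dif_neg h]

lemma stack_map {R' : Type*} [CommRing R'] (φ : R →+* R') (X : Matrix (Fin m) (Fin n) R) :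
    (stack X).map φ = stack (X.map φ) := by
  apply Matrix.ext
  intro i c
  rw [Matrix.map_apply]
  by_cases h : i.val < m
  · rw [stack_apply_lt X i c h, stack_apply_lt _ i c h, Matrix.map_apply]
  · rw [stack_apply_ge X i c h, stack_apply_ge _ i c h]
    split_ifs
    · exact map_one φ
    · exact map_zero φ

end Stack

section Equivs
variable (M : MinorIdx m n)

lemma sz_add : sz M + (n - sz M) = n := by have := sz_le_n M; omega

/-- rows of the block decomposition: the first `sz M` positions, then the others -/
def eR : Fin (sz M) ⊕ Fin (n - sz M) ≃ Fin n := finSumFinEquiv.trans (finCongr (sz_add M))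

lemma eR_inl (j : Fin (sz M)) : (eR M (Sum.inl j)).val = j.val := by
  unfold eR
  simp

lemma eR_inr (j : Fin (n - sz M)) : (eR M (Sum.inr j)).val = sz M + j.val := by
  unfold eR
  simp

/-- the function underlying the column equivalence: the columns of the minor, then the other columns in decreasing
order -/
def eCfun : Fin (sz M) ⊕ Fin (n - sz M) → Fin n
  | Sum.inl j => M.2.2.1 j
  | Sum.inr j => (colCompl M).1 ⟨n - sz M - 1 - j.val, by have := j.isLt; omega⟩

lemma colCompl_notMem (p : Fin (n - sz M)) : (colCompl M).1 p ∉ Finset.univ.image M.2.2.1 := by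
  have := sortFin_mem (Finset.univ.image M.2.2.1)ᶜ (n - sz M) (by
    rw [Finset.card_compl, card_image_idx, Fintype.card_fin]) p
  exact Finset.mem_compl.1 this

lemma eCfun_injective : Function.Injective (eCfun M) := by
  intro a b hab
  rcases a with j | j <;> rcases b with j' | j'
  · simp only [eCfun] at hab
    rw [M.2.2.2.injective hab]
  · simp only [eCfun] at hab
    exfalso
    apply colCompl_notMem M ⟨n - sz M - 1 - j'.val, by have := j'.isLt; omega⟩
    rw [← hab]
    exact Finset.mem_image_of_mem _ (Finset.mem_univ _)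
  · simp only [eCfun] at hab
    exfalso
    apply colCompl_notMem M ⟨n - sz M - 1 - j.val, by have := j.isLt; omega⟩
    rw [hab]
    exact Finset.mem_image_of_mem _ (Finset.mem_univ _)
  · simp only [eCfun] at hab
    have := (colCompl M).2.injective hab
    rw [Fin.ext_iff] at this
    simp only at this
    congr 1
    apply Fin.ext
    have := j.isLt
    have := j'.isLt
    omega

/-- columns of the block decomposition -/
noncomputable def eC : Fin (sz M) ⊕ Fin (n - sz M) ≃ Fin n :=
  Equiv.ofBijective (eCfun M) ((Fintype.bijective_iff_injective_and_card _).2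
    ⟨eCfun_injective M, by simp [sz_add M]⟩)

lemma eC_apply (x : Fin (sz M) ⊕ Fin (n - sz M)) : eC M x = eCfun M x := rfl

/-- the sign relating a minor to its Plücker coordinate -/
noncomputable def eps : ℤˣ := Equiv.Perm.sign ((eR M).symm.trans (eC M))

end Equivs

section Det
variable {R : Type*} [CommRing R]

/-- a minor of `X` is, up to a sign depending only on its rows and columns, the Plücker coordinate of `[X ; J]` on the
rows `toIdx M` -/
theorem det_stack_toIdx (M : MinorIdx m n) (X : Matrix (Fin m) (Fin n) R) :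
    ((stack X).submatrix (toIdx M).1 id).det =
      ((eps M : ℤ) : R) * (X.submatrix M.2.1.1 M.2.2.1).det := by
  classical
  set Y := (stack X).submatrix (toIdx M).1 id with hY
  set σ := (eR M).symm.trans (eC M) with hσ
  set Nb := (Y.submatrix id σ).submatrix (eR M) (eR M) with hNb
  have h1 : Nb.det = ((eps M : ℤ) : R) * Y.det := by
    rw [hNb, Matrix.det_submatrix_equiv_self, Matrix.det_permute']
    rfl
  have hentry : ∀ a b, Nb a b = stack X ((toIdx M).1 (eR M a)) (eCfun M b) := by
    intro a b
    rw [hNb, Matrix.submatrix_apply, Matrix.submatrix_apply, hY, Matrix.submatrix_apply]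
    simp only [id, hσ, Equiv.trans_apply, Equiv.symm_apply_apply]
    rfl
  have h11 : Nb.toBlocks₁₁ = X.submatrix M.2.1.1 M.2.2.1 := by
    apply Matrix.ext
    intro i j
    rw [Matrix.toBlocks₁₁, Matrix.of_apply, hentry]
    have hi : (eR M (Sum.inl i)).val < sz M := by rw [eR_inl]; exact i.isLt
    have hlt : ((toIdx M).1 (eR M (Sum.inl i))).val < m := (toIdx_lt_iff M _).2 hi
    rw [stack_apply_lt X _ _ hlt, Matrix.submatrix_apply]
    congr 1
    apply Fin.ext
    simp only
    rw [toIdx_val_lt M _ hi]
    have e : (⟨(eR M (Sum.inl i)).val, hi⟩ : Fin (sz M)) = i := Fin.ext (eR_inl M i)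
    rw [e]
  have hrow : ∀ i : Fin (n - sz M), ∀ b, Nb (Sum.inr i) b =
      if (eCfun M b).val = ((colCompl M).1 ⟨n - sz M - 1 - i.val, by have := i.isLt; omega⟩).val
      then 1 else 0 := by
    intro i b
    rw [hentry]
    have hi : ¬ (eR M (Sum.inr i)).val < sz M := by rw [eR_inr]; omega
    have hge : ¬ ((toIdx M).1 (eR M (Sum.inr i))).val < m := by rw [toIdx_lt_iff]; exact hi
    rw [stack_apply_ge X _ _ hge, toIdx_val_ge M _ hi]
    have hil := i.isLt
    have hszn := sz_le_n M
    have e : (⟨n - 1 - (eR M (Sum.inr i)).val, by rw [eR_inr]; omega⟩ : Fin (n - sz M)) =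
        ⟨n - sz M - 1 - i.val, by omega⟩ := by
      apply Fin.ext
      simp only
      rw [eR_inr]
      omega
    rw [e]
    have hb := ((colCompl M).1 ⟨n - sz M - 1 - i.val, by omega⟩).isLt
    have hb' := (eCfun M b).isLt
    congr 1
    apply propext
    constructor <;> intro h <;> omega
  have h21 : Nb.toBlocks₂₁ = 0 := by
    apply Matrix.ext
    intro i j
    rw [Matrix.toBlocks₂₁, Matrix.of_apply, hrow, Matrix.zero_apply, if_neg]
    intro h
    apply colCompl_notMem M ⟨n - sz M - 1 - i.val, by have := i.isLt; omega⟩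
    have : (colCompl M).1 ⟨n - sz M - 1 - i.val, by have := i.isLt; omega⟩ = eCfun M (Sum.inl j) :=
      Fin.ext h.symm
    rw [this]
    exact Finset.mem_image_of_mem _ (Finset.mem_univ _)
  have h22 : Nb.toBlocks₂₂ = 1 := by
    apply Matrix.ext
    intro i j
    rw [Matrix.toBlocks₂₂, Matrix.of_apply, hrow, Matrix.one_apply]
    by_cases hij : i = j
    · subst hij
      rw [if_pos rfl]
      exact if_pos rfl
    · rw [if_neg hij, if_neg]
      intro h
      apply hij
      have h' : eCfun M (Sum.inr j) = eCfun M (Sum.inr i) := Fin.ext h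
      have := eCfun_injective M h'
      exact (Sum.inr_injective this).symm
  have h2 : Nb.det = (X.submatrix M.2.1.1 M.2.2.1).det := by
    rw [← Matrix.fromBlocks_toBlocks Nb, h21, h22, h11, Matrix.det_fromBlocks_zero₂₁, Matrix.det_one, mul_one]
  have hsq : ((eps M : ℤ) : R) * ((eps M : ℤ) : R) = 1 := by
    rw [← Int.cast_mul, ← Units.val_mul, Int.units_mul_self, Units.val_one, Int.cast_one]
  calc Y.det = ((eps M : ℤ) : R) * (((eps M : ℤ) : R) * Y.det) := by rw [← mul_assoc, hsq, one_mul]
    _ = _ := by rw [← h1, h2]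

/-- the sign of the anti-identity -/
noncomputable def eps0 (n : ℕ) : ℤˣ := Equiv.Perm.sign (Fin.revPerm : Equiv.Perm (Fin n))

theorem det_stack_thetaMax (X : Matrix (Fin m) (Fin n) R) :
    ((stack X).submatrix (thetaMax m n).1 id).det = ((eps0 n : ℤ) : R) := by
  classical
  have : (stack X).submatrix (thetaMax m n).1 id =
      (1 : Matrix (Fin n) (Fin n) R).submatrix id (Fin.revPerm : Equiv.Perm (Fin n)) := by
    apply Matrix.ext
    intro i c
    rw [Matrix.submatrix_apply, Matrix.submatrix_apply, Matrix.one_apply]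
    have hge : ¬ ((thetaMax m n).1 i).val < m := by rw [thetaMax_val]; omega
    rw [stack_apply_ge X _ _ hge, thetaMax_val]
    simp only [id, Fin.revPerm_apply]
    have hi := i.isLt
    have hc := c.isLt
    congr 1
    apply propext
    rw [Fin.ext_iff, Fin.val_rev]
    constructor <;> intro h <;> omega
  rw [this, Matrix.det_permute', Matrix.det_one, mul_one]
  rfl

end Det

end Groth.Agent.Lib.Helper99.Bit
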