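import Mathlib
import Groth.Agent.Lib.Helper99.SMTBasis
import Groth.Agent.Lib.Helper99.SMTShapeA
import Groth.Agent.Lib.Helper99.SMTCoord

/-!
# First fundamental theorem for `SL_d`: generalities

The generic matrix, points of the matrix space, the Plücker comorphism at points, Cramer's rule for `M * adjugate T`,
and a homogenisation device.
-/

set_option autoImplicit false
universe u

namespace Groth.Agent.Lib.Helper99.FFT
open W4bk4grassmannian MvPolynomial
open Groth.Agent.Lib.Helper99.SMT

variable (K : Type u) [Field K] (d n : ℕ)

/-- the generic `n × d` matrix -/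
noncomputable def gen : Matrix (Fin n) (Fin d) (MatRing K d n) := Matrix.of fun i t => X (i, t)

lemma minor_eq (a : Fin d → Fin n) : minor K d n a = ((gen K d n).submatrix a id).det := rfl

variable {d n}

/-- the point of the matrix space attached to a matrix -/
def pt (A : Matrix (Fin n) (Fin d) K) : Fin n × Fin d → K := fun p => A p.1 p.2

lemma gen_map_eval (A : Matrix (Fin n) (Fin d) K) :
    (gen K d n).map (MvPolynomial.eval (pt K A)) = A := by
  ext i t
  rw [Matrix.map_apply]
  unfold gen
  rw [Matrix.of_apply, eval_X]
  rfl

lemma eval_minor (A : Matrix (Fin n) (Fin d) K) (a : Fin d → Fin n) :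
    MvPolynomial.eval (pt K A) (minor K d n a) = (A.submatrix a id).det := by
  rw [minor_eq, RingHom.map_det]
  congr 1
  ext i t
  rw [RingHom.mapMatrix_apply, Matrix.map_apply, Matrix.submatrix_apply, Matrix.submatrix_apply]
  unfold gen
  rw [Matrix.of_apply, eval_X]
  rfl

lemma eval_pluckerMap (A : Matrix (Fin n) (Fin d) K) (f : PlRing K d n) :
    MvPolynomial.eval (pt K A) (pluckerMap K d n f) = evalMinors K d n A f := by
  have : (MvPolynomial.aeval (pt K A) : MatRing K d n →ₐ[K] K).comp (pluckerMap K d n) =
      evalMinors K d n A := by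
    apply MvPolynomial.algHom_ext
    intro θ
    rw [AlgHom.comp_apply]
    unfold pluckerMap evalMinors
    rw [aeval_X, aeval_X, MvPolynomial.aeval_eq_eval]
    exact eval_minor K A θ.1
  have h2 := congrArg (fun φ => φ f) this
  simp only [AlgHom.comp_apply] at h2
  rw [← h2]
  rfl

lemma eq_of_eval_pt_eq [Infinite K] (f g : MatRing K d n)
    (h : ∀ A : Matrix (Fin n) (Fin d) K, MvPolynomial.eval (pt K A) f = MvPolynomial.eval (pt K A) g) :
    f = g := by
  apply MvPolynomial.funext
  intro x
  have := h (Matrix.of fun i t => x (i, t))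
  have hx : pt K (Matrix.of fun i t => x (i, t)) = x := by
    funext p
    rfl
  rw [hx] at this
  exact this

lemma pluckerMap_eq_zero_of_mem_vanishing [Infinite K] (f : PlRing K d n) (hf : f ∈ vanishing K d n) :
    pluckerMap K d n f = 0 := by
  apply eq_of_eval_pt_eq
  intro A
  rw [eval_pluckerMap, map_zero]
  exact (mem_vanishing_iff K f).1 hf A

lemma pluckerMap_coord [Infinite K] (a : Fin d → Fin n) :
    pluckerMap K d n (coord K d n a) = minor K d n a := by
  apply eq_of_eval_pt_eq
  intro A
  rw [eval_pluckerMap, eval_minor, evalMinors_coord]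

lemma adjoin_eq_range :
    Algebra.adjoin K (Set.range fun θ : Idx d n => minor K d n θ.1) = (pluckerMap K d n).range := by
  unfold pluckerMap
  exact Algebra.adjoin_range_eq_range_aeval K _

lemma minor_mem_range [Infinite K] (a : Fin d → Fin n) : minor K d n a ∈ (pluckerMap K d n).range :=
  ⟨coord K d n a, pluckerMap_coord K a⟩

section Cramer
variable {R : Type*} [CommRing R]

/-- Cramer's rule: the entries of `M * adjugate (M_a)` are the minors with one row exchanged -/
lemma mul_adjugate_submatrix_apply (M : Matrix (Fin n) (Fin d) R) (a : Fin d → Fin n) (i : Fin n) (j : Fin d) :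
    (M * (M.submatrix a id).adjugate) i j = (M.submatrix (Function.update a j i) id).det := by
  have h1 := Matrix.cramer_transpose_apply (M.submatrix a id) (M i) j
  rw [Matrix.cramer_eq_adjugate_mulVec, ← Matrix.adjugate_transpose] at h1
  have h2 : (M.submatrix a id).updateRow j (M i) = M.submatrix (Function.update a j i) id := by
    ext r c
    rw [Matrix.updateRow_apply, Matrix.submatrix_apply, Matrix.submatrix_apply]
    by_cases hr : r = j
    · subst hr
      rw [if_pos rfl, Function.update_self]
      rfl
    · rw [if_neg hr, Function.update_of_ne hr]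
  rw [h2] at h1
  rw [← h1, Matrix.mul_apply, Matrix.mulVec, dotProduct]
  apply Finset.sum_congr rfl
  intro k _
  rw [Matrix.transpose_apply, mul_comm]

end Cramer

end Groth.Agent.Lib.Helper99.FFT
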