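import Mathlib
import Groth.Agent.Lib.Helper99.FFTA
import Groth.Agent.Lib.Helper99.SMTDivisor

/-!
# The open cell of a Schubert variety: Cramer's identity for Plücker coordinates
-/

set_option autoImplicit false
universe u

namespace Groth.Agent.Lib.Helper99.Normal
open W4bk4grassmannian MvPolynomial
open Groth.Agent.Lib.Helper99.SMT

variable (K : Type u) [Field K] {d n : ℕ}

lemma mem_vanishing_iff' (f : PlRing K d n) :
    f ∈ vanishing K d n ↔ ∀ A : Matrix (Fin n) (Fin d) K, evalMinors K d n A f = 0 := by
  unfold vanishing
  simp only [Ideal.mem_iInf]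
  rfl

lemma vanishing_le_schubertVanishing (w : Idx d n) : vanishing K d n ≤ schubertVanishing K d n w := by
  intro f hf
  rw [mem_vanishing_iff'] at hf
  rw [mem_schubertVanishing_iff]
  intro A _
  exact hf A

/-- the matrix of the signed Plücker coordinates `p_{τ[i → j]}` -/
noncomputable def Cmat (τ : Idx d n) : Matrix (Fin n) (Fin d) (PlRing K d n) :=
  Matrix.of fun j i => coord K d n (Function.update τ.1 i j)

lemma Cmat_map_evalMinors (τ : Idx d n) (A : Matrix (Fin n) (Fin d) K) :
    (Cmat K τ).map (evalMinors K d n A) = A * (A.submatrix τ.1 id).adjugate := by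
  ext j i
  rw [Matrix.map_apply, Cmat, Matrix.of_apply, evalMinors_coord, FFT.mul_adjugate_submatrix_apply]

/-- Cramer's identity: `p_a p_τ^(d-1)` is the minor on the rows `a` of the matrix of the `p_{τ[i → j]}`,
on the Grassmannian. -/
theorem cramer_identity (τ a : Idx d n) :
    X a * X τ ^ (d - 1) - ((Cmat K τ).submatrix a.1 id).det ∈ vanishing K d n := by
  rw [mem_vanishing_iff']
  intro A
  rw [map_sub, map_mul, map_pow, sub_eq_zero]
  have h1 : evalMinors K d n A (((Cmat K τ).submatrix a.1 id).det) =
      ((A * (A.submatrix τ.1 id).adjugate).submatrix a.1 id).det := by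
    rw [AlgHom.map_det]
    congr 1
    rw [← Cmat_map_evalMinors]
    rfl
  rw [h1]
  have h2 : (A * (A.submatrix τ.1 id).adjugate).submatrix a.1 id =
      A.submatrix a.1 id * (A.submatrix τ.1 id).adjugate := by
    ext s t
    rw [Matrix.submatrix_apply, Matrix.mul_apply, Matrix.mul_apply]
    rfl
  rw [h2, Matrix.det_mul, Matrix.det_adjugate, Fintype.card_fin]
  unfold evalMinors
  rw [aeval_X, aeval_X]

section Entries
variable (τ : Idx d n)

lemma coord_update_self (i : Fin d) : coord K d n (Function.update τ.1 i (τ.1 i)) = X τ := by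
  rw [Function.update_eq_self]
  exact coord_of_strictMono K τ

lemma coord_update_of_mem (i k : Fin d) (hki : k ≠ i) :
    coord K d n (Function.update τ.1 i (τ.1 k)) = 0 := by
  unfold coord
  rw [dif_neg]
  intro h
  have hinj := injective_of_card_image h
  have : Function.update τ.1 i (τ.1 k) i = Function.update τ.1 i (τ.1 k) k := by
    rw [Function.update_self, Function.update_of_ne hki]
  exact hki (hinj this).symm

lemma coord_update_mem_of_gt (i : Fin d) (j : Fin n) (hj : τ.1 i < j) :
    coord K d n (Function.update τ.1 i j) ∈ schubertVanishing K d n τ := by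
  unfold coord
  split_ifs with h
  · apply Ideal.mul_mem_left
    apply X_mem_schubertVanishing
    intro hle
    have h1 : SMT.tsum (sortIdx d n _ h).1 = SMT.tsum (Function.update τ.1 i j) := by
      rw [tsum_eq_cnt, tsum_eq_cnt, cnt_sortIdx]
    have h2 : SMT.tsum (sortIdx d n _ h).1 ≤ SMT.tsum τ.1 := by
      unfold SMT.tsum
      apply Finset.sum_le_sum
      intro t _
      exact hle t
    have h3 : SMT.tsum τ.1 < SMT.tsum (Function.update τ.1 i j) := by
      unfold SMT.tsum
      apply Finset.sum_lt_sum
      · intro t _
        by_cases hti : t = i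
        · subst hti
          rw [Function.update_self]
          exact hj.le
        · rw [Function.update_of_ne hti]
      · refine ⟨i, Finset.mem_univ _, ?_⟩
        rw [Function.update_self]
        exact hj
    omega
  · exact Ideal.zero_mem _

end Entries

end Groth.Agent.Lib.Helper99.Normal
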