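import Mathlib
import Groth.Agent.Lib.Helper99.NormalB

/-!
# The open cell of a Schubert variety: the normal-form matrix
-/

set_option autoImplicit false
universe u

namespace Groth.Agent.Lib.Helper99.Normal
open W4bk4grassmannian MvPolynomial
open Groth.Agent.Lib.Helper99.SMT

variable (K : Type u) [Field K] {d n : ℕ}

section EvN
variable {ι : Type*}

/-- evaluation of Plücker polynomials at the minors of a matrix of polynomials -/
noncomputable def evN (M : Matrix (Fin n) (Fin d) (MvPolynomial ι K)) : PlRing K d n →ₐ[K] MvPolynomial ι K :=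
  MvPolynomial.aeval fun θ : Idx d n => (M.submatrix θ.1 id).det

lemma evN_X (M : Matrix (Fin n) (Fin d) (MvPolynomial ι K)) (θ : Idx d n) :
    evN K M (X θ) = (M.submatrix θ.1 id).det := by
  unfold evN; rw [aeval_X]

lemma eval_evN (M : Matrix (Fin n) (Fin d) (MvPolynomial ι K)) (x : ι → K) (f : PlRing K d n) :
    MvPolynomial.eval x (evN K M f) = evalMinors K d n (M.map (MvPolynomial.eval x)) f := by
  have : (MvPolynomial.aeval x : MvPolynomial ι K →ₐ[K] K).comp (evN K M) =
      evalMinors K d n (M.map (MvPolynomial.eval x)) := by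
    apply MvPolynomial.algHom_ext
    intro θ
    rw [AlgHom.comp_apply, evN_X]
    unfold evalMinors
    rw [aeval_X]
    rw [MvPolynomial.aeval_eq_eval, RingHom.map_det]
    rfl
  have h2 := congrArg (fun φ => φ f) this
  simp only [AlgHom.comp_apply] at h2
  rw [← h2]
  rfl

lemma evN_coord [Infinite K] (M : Matrix (Fin n) (Fin d) (MvPolynomial ι K)) (a : Fin d → Fin n) :
    evN K M (coord K d n a) = (M.submatrix a id).det := by
  apply MvPolynomial.funext
  intro x
  rw [eval_evN, evalMinors_coord, RingHom.map_det]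
  rfl

lemma evN_eq_zero_of_mem_schubertVanishing [Infinite K] (τ : Idx d n)
    (M : Matrix (Fin n) (Fin d) (MvPolynomial ι K)) (hM : ZeroOutside (shapeLe τ) M)
    (f : PlRing K d n) (hf : f ∈ schubertVanishing K d n τ) : evN K M f = 0 := by
  apply MvPolynomial.funext
  intro x
  rw [eval_evN, map_zero]
  rw [mem_schubertVanishing_iff] at hf
  apply hf
  intro φ hφ
  apply det_submatrix_eq_zero_of_not_mem (shapeLe τ) _ (zeroOutside_map _ _ hM _ (map_zero _))
  intro hmem
  exact hφ ((mem_shapeLe τ φ).1 hmem)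

end EvN

variable (τ : Idx d n)

/-- the cell coordinates: positions `(j, i)` with `j` not a row of `τ` and `j < τ_i` -/
def Cell (τ : Idx d n) : Type := {p : Fin n × Fin d // p.1 ∉ Set.range τ.1 ∧ p.1 < τ.1 p.2}

/-- the coordinate ring of `cell × line` -/
abbrev QRing (τ : Idx d n) : Type u := MvPolynomial (Option (Cell τ)) K

open Classical in
/-- the normal form of the matrices of the open cell: identity on the rows `τ` -/
noncomputable def N0 : Matrix (Fin n) (Fin d) (QRing K τ) :=
  Matrix.of fun j i => if j = τ.1 i then 1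
    else if h : j ∉ Set.range τ.1 ∧ j < τ.1 i then X (some ⟨(j, i), h⟩) else 0

/-- the scaling matrix `diag(t, 1, …, 1)` -/
noncomputable def Dg (i0 : Fin d) : Matrix (Fin d) (Fin d) (QRing K τ) :=
  Matrix.diagonal (Function.update (fun _ => (1 : QRing K τ)) i0 (X none))

/-- the normal form, scaled -/
noncomputable def NN (i0 : Fin d) : Matrix (Fin n) (Fin d) (QRing K τ) := N0 K τ * Dg K τ i0

lemma N0_tau (k i : Fin d) : N0 K τ (τ.1 k) i = if k = i then 1 else 0 := by
  unfold N0
  rw [Matrix.of_apply]
  by_cases hki : k = i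
  · subst hki
    rw [if_pos rfl, if_pos rfl]
  · rw [if_neg (fun h => hki (τ.2.injective h)), if_neg hki, dif_neg]
    intro h
    exact h.1 ⟨k, rfl⟩

lemma N0_cell (p : Cell τ) : N0 K τ p.1.1 p.1.2 = X (some p) := by
  unfold N0
  have h1 : ¬ p.1.1 = τ.1 p.1.2 := fun h => p.2.1 ⟨p.1.2, h.symm⟩
  rw [Matrix.of_apply, if_neg h1, dif_pos p.2]
  rfl

lemma N0_of_gt (j : Fin n) (i : Fin d) (h : τ.1 i < j) : N0 K τ j i = 0 := by
  unfold N0
  rw [Matrix.of_apply, if_neg (fun h' => by rw [h'] at h; exact lt_irrefl _ h), dif_neg]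
  intro h'
  exact lt_asymm h h'.2

lemma N0_submatrix : (N0 K τ).submatrix τ.1 id = 1 := by
  apply Matrix.ext
  intro k i
  rw [Matrix.submatrix_apply, Matrix.one_apply]
  exact N0_tau K τ k i

lemma NN_submatrix (i0 : Fin d) : (NN K τ i0).submatrix τ.1 id = Dg K τ i0 := by
  have : (NN K τ i0).submatrix τ.1 id = (N0 K τ).submatrix τ.1 id * Dg K τ i0 := by
    apply Matrix.ext
    intro s t
    unfold NN
    rw [Matrix.submatrix_apply, Matrix.mul_apply, Matrix.mul_apply]
    rfl
  rw [this, N0_submatrix, Matrix.one_mul]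

lemma det_Dg (i0 : Fin d) : (Dg K τ i0).det = X none := by
  unfold Dg
  rw [Matrix.det_diagonal, Finset.prod_update_of_mem (Finset.mem_univ i0)]
  simp

lemma zeroOutside_NN (i0 : Fin d) : ZeroOutside (shapeLe τ) (NN K τ i0) := by
  intro j i h
  unfold NN Dg
  rw [Matrix.mul_diagonal, N0_of_gt, zero_mul]
  unfold shapeLe at h
  simp only at h
  have : (τ.1 i).val < j.val := by omega
  exact this

/-- the minors of the normal form with one row of `τ` exchanged -/
lemma det_NN_update (i0 : Fin d) (i : Fin d) (j : Fin n) :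
    ((NN K τ i0).submatrix (Function.update τ.1 i j) id).det = X none * N0 K τ j i := by
  rw [← FFT.mul_adjugate_submatrix_apply, NN_submatrix]
  unfold NN
  rw [Matrix.mul_assoc, Matrix.mul_adjugate, det_Dg, Matrix.mul_smul, Matrix.mul_one, Matrix.smul_apply,
    smul_eq_mul]

end Groth.Agent.Lib.Helper99.Normal
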