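import Mathlib
import Groth.Agent.Lib.Helper99.BitD
import Groth.Agent.Lib.Helper99.NormalC
import Groth.Agent.Lib.Helper16.MinorLaplace

/-!
# Bitableaux: standard bitableaux span the determinantal ring
-/

set_option autoImplicit false
universe u

namespace Groth.Agent.Lib.Helper99.Bit
open W4bk4grassmannian MvPolynomial
open Groth.Agent.Lib.Helper99.SMT Groth.Agent.Lib.Helper99.Normal

variable (K : Type u) [Field K] (m n : ℕ)

/-- the dehomogenisation map: Plücker coordinates of `[X ; J]` -/
noncomputable def Phi : PlRing K n (m + n) →ₐ[K] MvPolynomial (Fin m × Fin n) K :=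
  evN K (stack (genMatrix K m n))

variable {m n}

lemma Phi_X (θ : Idx n (m + n)) :
    Phi K m n (X θ) = ((stack (genMatrix K m n)).submatrix θ.1 id).det := evN_X K _ θ

lemma Phi_X_toIdx (M : MinorIdx m n) :
    Phi K m n (X (toIdx M)) = ((eps M : ℤ) : MvPolynomial (Fin m × Fin n) K) * minorOf K M := by
  rw [Phi_X, det_stack_toIdx]
  rfl

lemma Phi_X_thetaMax :
    Phi K m n (X (thetaMax m n)) = ((eps0 n : ℤ) : MvPolynomial (Fin m × Fin n) K) := by
  rw [Phi_X, det_stack_thetaMax]

lemma Phi_X_mem (t : ℕ) (θ : Idx n (m + n)) (h : ¬ (shapeT m n t).mem θ) :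
    Phi K m n (X θ) ∈ CAlgX.minorIdeal (genMatrix K m n) t := by
  obtain ⟨htn, hlt⟩ := lt_of_not_mem_shapeT t θ h
  rw [Phi_X]
  refine Groth.Agent.Lib.Helper16.MinorLaplace.det_mem_minorIdeal (genMatrix K m n) t n _
    (Fin.castLE htn) (Fin.castLE_injective htn)
    (fun a => ⟨(θ.1 (Fin.castLE htn a)).val, hlt _ (by simp)⟩) id ?_
  intro a j
  rw [Matrix.submatrix_apply, stack_apply_lt _ _ _ (hlt _ (by simp))]

lemma intCast_mul_smul {σ : Type*} (e : ℤ) (u : K) (p : MvPolynomial σ K) :
    (e : MvPolynomial σ K) * (u • p) = ((e : K) * u) • p := by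
  rw [Algebra.smul_def, Algebra.smul_def, map_mul, map_intCast]
  ring

lemma evN_eq_zero_of_mem_vanishing [Infinite K] {d N : ℕ} {ι : Type*}
    (M : Matrix (Fin N) (Fin d) (MvPolynomial ι K)) (f : PlRing K d N) (hf : f ∈ vanishing K d N) :
    evN K M f = 0 := by
  apply MvPolynomial.funext
  intro x
  rw [eval_evN, map_zero]
  exact (mem_vanishing_iff' K f).1 hf _

/-- a unit scalar: `±1` -/
lemma intCast_units_mul_self (R : Type*) [CommRing R] (e : ℤˣ) : ((e : ℤ) : R) * ((e : ℤ) : R) = 1 := by
  rw [← Int.cast_mul, ← Units.val_mul, Int.units_mul_self, Units.val_one, Int.cast_one]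

/-- the index type of the standard bitableaux with minors of size less than `t` -/
abbrev StdBit (m n t : ℕ) : Type :=
  Σ k : ℕ, {c : Fin k → MinorIdx m n //
    (∀ i, (c i).1 + 1 ≤ t - 1) ∧ ∀ i j, i < j → MinorGE (c i) (c j)}

/-- the product of the minors of a bitableau -/
noncomputable def bitMon {t : ℕ} (c : StdBit m n t) : MvPolynomial (Fin m × Fin n) K :=
  Finset.univ.prod fun i => minorOf K (c.2.1 i)

/-- dehomogenising a standard monomial gives, up to a scalar, a standard bitableau all of whose minors come from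
the chain -/
theorem Phi_chainMon (hm : 0 < m) (t : ℕ) :
    ∀ (q : ℕ) (c : Fin q → Idx n (m + n)), Antitone c → (∀ k, (shapeT m n t).mem (c k)) →
      ∃ (u : K) (c' : StdBit m n t), Phi K m n (chainMon K c) = u • bitMon K c' ∧
        ∀ i, ∃ k, toIdx (c'.2.1 i) = c k := by
  intro q
  induction q with
  | zero =>
    intro c _ _
    refine ⟨1, ⟨0, ⟨fun i => i.elim0, fun i => i.elim0, fun i => i.elim0⟩⟩, ?_, fun i => i.elim0⟩
    unfold chainMon bitMon
    simp
  | succ q ih =>
    intro c hc hmem
    set tl : Fin q → Idx n (m + n) := fun i => c i.succ with htl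
    have htl_anti : Antitone tl := fun i j hij => hc (Fin.succ_le_succ_iff.2 hij)
    obtain ⟨u, c', hc', hfrom⟩ := ih tl htl_anti (fun k => hmem k.succ)
    have hsplit : chainMon K c = X (c 0) * chainMon K tl := by
      unfold chainMon
      rw [Fin.prod_univ_succ]
    by_cases h0 : c 0 = thetaMax m n
    · refine ⟨((eps0 n : ℤ) : K) * u, c', ?_, ?_⟩
      · rw [hsplit, map_mul, h0, Phi_X_thetaMax, hc', intCast_mul_smul]
      · intro i
        obtain ⟨k, hk⟩ := hfrom i
        exact ⟨k.succ, hk⟩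
    · obtain ⟨M0, hM0⟩ := exists_toIdx_eq hm (c 0) h0
      have hsize : M0.1 + 1 ≤ t - 1 := by
        have := hmem 0
        rw [← hM0, mem_shapeT_toIdx] at this
        exact this
      have hge : ∀ i, MinorGE M0 (c'.2.1 i) := by
        intro i
        obtain ⟨k, hk⟩ := hfrom i
        rw [← toIdx_le_iff, hk, hM0]
        exact hc (Fin.zero_le _)
      have hP1 : ∀ i : Fin (c'.1 + 1), ((Fin.cons M0 c'.2.1 : Fin (c'.1 + 1) → MinorIdx m n) i).1 + 1 ≤ t - 1 := by
        intro i
        refine Fin.cases ?_ ?_ i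
        · rw [Fin.cons_zero]; exact hsize
        · intro i'
          rw [Fin.cons_succ]; exact c'.2.2.1 i'
      have hP2 : ∀ i j : Fin (c'.1 + 1), i < j →
          MinorGE ((Fin.cons M0 c'.2.1 : Fin (c'.1 + 1) → MinorIdx m n) i)
            ((Fin.cons M0 c'.2.1 : Fin (c'.1 + 1) → MinorIdx m n) j) := by
        intro i j hij
        revert hij
        refine Fin.cases ?_ ?_ i
        · refine Fin.cases ?_ ?_ j
          · intro h; exact absurd h (lt_irrefl _)
          · intro j' _
            rw [Fin.cons_zero, Fin.cons_succ]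
            exact hge j'
        · intro i'
          refine Fin.cases ?_ ?_ j
          · intro h; exact absurd h (Fin.not_lt_zero _)
          · intro j' h
            rw [Fin.cons_succ, Fin.cons_succ]
            exact c'.2.2.2 i' j' (Fin.succ_lt_succ_iff.1 h)
      refine ⟨((eps M0 : ℤ) : K) * u, ⟨c'.1 + 1, ⟨Fin.cons M0 c'.2.1, hP1, hP2⟩⟩, ?_, ?_⟩
      · rw [hsplit, map_mul, ← hM0, Phi_X_toIdx, hc']
        have hb : bitMon K (⟨c'.1 + 1, ⟨Fin.cons M0 c'.2.1, hP1, hP2⟩⟩ : StdBit m n t) =
            minorOf K M0 * bitMon K c' := by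
          unfold bitMon
          simp only
          rw [Fin.prod_univ_succ]
          simp only [Fin.cons_zero, Fin.cons_succ]
        rw [hb, mul_assoc, mul_smul_comm, intCast_mul_smul, mul_smul]
      · change ∀ i : Fin (c'.1 + 1), ∃ k, toIdx ((Fin.cons M0 c'.2.1 : Fin (c'.1 + 1) → MinorIdx m n) i) = c k
        intro i
        refine Fin.cases ?_ ?_ i
        · exact ⟨0, by rw [Fin.cons_zero]; exact hM0⟩
        · intro i'
          obtain ⟨k, hk⟩ := hfrom i'
          exact ⟨k.succ, by rw [Fin.cons_succ]; exact hk⟩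

end Groth.Agent.Lib.Helper99.Bit
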