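import Mathlib
import Groth.Agent.Lib.Helper99.BitE
import Groth.Agent.Lib.Helper99.SMTShapeA

/-!
# Bitableaux: the spanning theorem
-/

set_option autoImplicit false
universe u

namespace Groth.Agent.Lib.Helper99.Bit
open W4bk4grassmannian MvPolynomial
open Groth.Agent.Lib.Helper99.SMT Groth.Agent.Lib.Helper99.Normal

variable (K : Type u) [Field K] {m n : ℕ}

/-- the `1 × 1` minor at `(i, j)` -/
def entryIdx (i : Fin m) (j : Fin n) : MinorIdx m n :=
  ⟨0, ⟨fun _ => i, fun a b hab => by
      exfalso; have := a.isLt; have := b.isLt; rw [Fin.lt_def] at hab; omega⟩,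
    ⟨fun _ => j, fun a b hab => by
      exfalso; have := a.isLt; have := b.isLt; rw [Fin.lt_def] at hab; omega⟩⟩

lemma minorOf_entryIdx (i : Fin m) (j : Fin n) : minorOf K (entryIdx i j) = X (i, j) := by
  unfold minorOf entryIdx
  simp only
  rw [Matrix.det_fin_one]
  rfl

theorem Phi_surjective : Function.Surjective (Phi K m n) := by
  rw [← AlgHom.range_eq_top, eq_top_iff, ← MvPolynomial.adjoin_range_X]
  apply Algebra.adjoin_le
  rintro _ ⟨⟨i, j⟩, rfl⟩
  refine ⟨C ((eps (entryIdx i j) : ℤ) : K) * X (toIdx (entryIdx i j)), ?_⟩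
  change Phi K m n _ = _
  rw [map_mul, Phi_X_toIdx, minorOf_entryIdx]
  have : Phi K m n (C ((eps (entryIdx i j) : ℤ) : K)) =
      ((eps (entryIdx i j) : ℤ) : MvPolynomial (Fin m × Fin n) K) := by
    rw [← MvPolynomial.algebraMap_eq, AlgHom.commutes, map_intCast]
  rw [this, ← mul_assoc, intCast_units_mul_self, one_mul]

/-- Standard bitableaux with minors of size less than `t` span the determinantal ring. -/
theorem span_bitMon [Infinite K] (hm : 0 < m) (t : ℕ) :
    Submodule.span K (Set.range fun c : StdBit m n t =>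
      Ideal.Quotient.mk (CAlgX.minorIdeal (genMatrix K m n) t) (bitMon K c)) = ⊤ := by
  classical
  set It := CAlgX.minorIdeal (genMatrix K m n) t with hIt
  rw [eq_top_iff]
  rintro x -
  obtain ⟨f, rfl⟩ := Ideal.Quotient.mk_surjective x
  obtain ⟨g, rfl⟩ := Phi_surjective K f
  set Jt : Ideal (PlRing K n (m + n)) := Ideal.comap (Phi K m n).toRingHom It with hJt
  have hJ : plIdealTop (d := n) (n := m + n) K ≤ Jt := by
    intro f hf
    rw [hJt, Ideal.mem_comap]
    have : Phi K m n f = 0 := evN_eq_zero_of_mem_vanishing K _ f (plIdealTop_le_vanishing K hf)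
    change Phi K m n f ∈ It
    rw [this]
    exact Ideal.zero_mem _
  have hspan := std_span K Jt hJ (fun _ c => ∀ k, (shapeT m n t).mem (c k)) (by
    intro q c _ hP
    push Not at hP
    obtain ⟨k, hk⟩ := hP
    apply chainMon_mem_of_factor K _ c k
    rw [hJt, Ideal.mem_comap]
    exact Phi_X_mem K t (c k) hk) g
  obtain ⟨g1, hg1, j, hj, rfl⟩ := Submodule.mem_sup.1 hspan
  have hj' : Phi K m n j ∈ It := hj
  rw [map_add, map_add, Ideal.Quotient.eq_zero_iff_mem.2 hj', add_zero]
  set L : PlRing K n (m + n) →ₗ[K] (MvPolynomial (Fin m × Fin n) K ⧸ It) :=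
    (Ideal.Quotient.mkₐ K It).toLinearMap.comp (Phi K m n).toLinearMap with hL
  have hLg : Ideal.Quotient.mk It (Phi K m n g1) = L g1 := rfl
  rw [hLg]
  have hmap := Submodule.mem_map_of_mem (f := L) hg1
  rw [Submodule.map_span] at hmap
  refine (Submodule.span_le.2 ?_) hmap
  rintro _ ⟨_, ⟨q, c, hc, hmem, rfl⟩, rfl⟩
  obtain ⟨u, c', hc', -⟩ := Phi_chainMon K hm t q c hc hmem
  have : L (chainMon K c) = u • Ideal.Quotient.mk It (bitMon K c') := by
    change Ideal.Quotient.mk It (Phi K m n (chainMon K c)) = _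
    rw [hc']
    exact map_smul (Ideal.Quotient.mkₐ K It) u _
  rw [this]
  apply Submodule.smul_mem
  apply Submodule.subset_span
  exact Set.mem_range_self c'

end Groth.Agent.Lib.Helper99.Bit
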