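import Mathlib
import Groth.Agent.Lib.Helper99.BitF
import Groth.Agent.Lib.Helper99.SMTCoord

/-!
# Bitableaux: points of the shape, decomposition `M = [X ; J] g`, vanishing of the `t`-minors
-/

set_option autoImplicit false
universe u

namespace Groth.Agent.Lib.Helper99.Bit
open W4bk4grassmannian MvPolynomial
open Groth.Agent.Lib.Helper99.SMT Groth.Agent.Lib.Helper99.Normal

section Tuples
variable {R : Type*} [CommRing R] {m n s : ℕ}

/-- if all minors on increasing tuples vanish, so do the minors on arbitrary tuples -/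
theorem det_submatrix_eq_zero_of_strictMono (X : Matrix (Fin m) (Fin n) R)
    (h : ∀ (A : Idx s m) (B : Idx s n), (X.submatrix A.1 B.1).det = 0)
    (a : Fin s → Fin m) (b : Fin s → Fin n) : (X.submatrix a b).det = 0 := by
  classical
  by_cases ha : Function.Injective a
  · by_cases hb : Function.Injective b
    · have hca : (Finset.univ.image a).card = s := by
        rw [Finset.card_image_of_injective _ ha, Finset.card_univ, Fintype.card_fin]
      have hcb : (Finset.univ.image b).card = s := by
        rw [Finset.card_image_of_injective _ hb, Finset.card_univ, Fintype.card_fin]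
      have : X.submatrix a b =
          ((X.submatrix (sortIdx s m a hca).1 (sortIdx s n b hcb).1).submatrix (sortPerm a hca) id).submatrix id
            (sortPerm b hcb) := by
        apply Matrix.ext
        intro i j
        simp only [Matrix.submatrix_apply, id]
        rw [sortIdx_sortPerm, sortIdx_sortPerm]
      rw [this, Matrix.det_permute', Matrix.det_permute, h, mul_zero, mul_zero]
    · rw [Function.Injective] at hb
      push Not at hb
      obtain ⟨i, j, hij, hne⟩ := hb
      apply Matrix.det_zero_of_column_eq hne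
      intro k
      rw [Matrix.submatrix_apply, Matrix.submatrix_apply, hij]
  · rw [Function.Injective] at ha
    push Not at ha
    obtain ⟨i, j, hij, hne⟩ := ha
    apply Matrix.det_zero_of_row_eq hne
    funext k
    rw [Matrix.submatrix_apply, Matrix.submatrix_apply, hij]

end Tuples

section Points
variable (K : Type u) [Field K] {m n : ℕ}

/-- the anti-identity matrix -/
def antiId (n : ℕ) : Matrix (Fin n) (Fin n) K := fun r c => if c.val + r.val + 1 = n then 1 else 0

lemma stack_apply_ge' (X : Matrix (Fin m) (Fin n) K) (i : Fin (m + n)) (c : Fin n) (h : ¬ i.val < m) :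
    stack X i c = antiId K n ⟨i.val - m, by have := i.isLt; omega⟩ c := by
  rw [stack_apply_ge X i c h]
  rfl

lemma antiId_eq : antiId K n = (stack (0 : Matrix (Fin m) (Fin n) K)).submatrix (thetaMax m n).1 id := by
  apply Matrix.ext
  intro r c
  rw [Matrix.submatrix_apply, stack_apply_ge _ _ _ (by rw [thetaMax_val]; omega), thetaMax_val]
  unfold antiId
  simp only [id]
  congr 1
  apply propext
  constructor <;> intro h <;> omega

lemma det_antiId (m : ℕ) : (antiId K n).det = ((eps0 n : ℤ) : K) := by
  rw [antiId_eq K (m := m), det_stack_thetaMax]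

lemma isUnit_det_antiId : IsUnit (antiId K n).det := by
  rw [det_antiId K 0]
  apply IsUnit.mk0
  intro h
  have := intCast_units_mul_self K (eps0 n)
  rw [h, zero_mul] at this
  exact zero_ne_one this

/-- a matrix with invertible bottom block is `[X ; J] g` -/
theorem exists_decomp (M0 : Matrix (Fin (m + n)) (Fin n) K)
    (h : (M0.submatrix (thetaMax m n).1 id).det ≠ 0) :
    ∃ (X0 : Matrix (Fin m) (Fin n) K) (g0 : Matrix (Fin n) (Fin n) K),
      g0.det ≠ 0 ∧ stack X0 * g0 = M0 := by
  classical
  set J := antiId K n with hJ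
  have hJu : IsUnit J.det := isUnit_det_antiId K
  set bot := M0.submatrix (thetaMax m n).1 id with hbot
  set g0 := J⁻¹ * bot with hg0
  have hg0det : g0.det ≠ 0 := by
    rw [hg0, Matrix.det_mul]
    apply mul_ne_zero
    · rw [Matrix.det_nonsing_inv, Ring.inverse_eq_inv']
      exact inv_ne_zero hJu.ne_zero
    · exact h
  have hg0u : IsUnit g0.det := IsUnit.mk0 _ hg0det
  set top : Matrix (Fin m) (Fin n) K := fun i c => M0 (Fin.castAdd n i) c with htop
  set X0 := top * g0⁻¹ with hX0
  refine ⟨X0, g0, hg0det, ?_⟩
  apply Matrix.ext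
  intro i c
  rw [Matrix.mul_apply]
  by_cases hi : i.val < m
  · have h1 : ∑ k, stack X0 i k * g0 k c = (X0 * g0) ⟨i.val, hi⟩ c := by
      rw [Matrix.mul_apply]
      apply Finset.sum_congr rfl
      intro k _
      rw [stack_apply_lt X0 i k hi]
    rw [h1, hX0, Matrix.mul_assoc, Matrix.nonsing_inv_mul _ hg0u, Matrix.mul_one]
    rfl
  · have h1 : ∑ k, stack X0 i k * g0 k c = (J * g0) ⟨i.val - m, by have := i.isLt; omega⟩ c := by
      rw [Matrix.mul_apply]
      apply Finset.sum_congr rfl
      intro k _
      rw [stack_apply_ge' K X0 i k hi]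
    rw [h1, hg0, ← Matrix.mul_assoc, Matrix.mul_nonsing_inv _ hJu, Matrix.one_mul, hbot, Matrix.submatrix_apply]
    congr 1
    apply Fin.ext
    rw [thetaMax_val]
    simp only
    omega

/-- minors of `A g` -/
lemma evalMinors_mul_X {d N : ℕ} (A : Matrix (Fin N) (Fin d) K) (g : Matrix (Fin d) (Fin d) K) (θ : Idx d N) :
    evalMinors K d N (A * g) (X θ) = evalMinors K d N A (X θ) * g.det := by
  unfold evalMinors
  rw [aeval_X, aeval_X]
  have : (A * g).submatrix θ.1 id = A.submatrix θ.1 id * g := by
    apply Matrix.ext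
    intro s t
    rw [Matrix.submatrix_apply, Matrix.mul_apply, Matrix.mul_apply]
    rfl
  rw [this, Matrix.det_mul]

lemma evalMinors_mul_chainMon {d N q : ℕ} (A : Matrix (Fin N) (Fin d) K) (g : Matrix (Fin d) (Fin d) K)
    (c : Fin q → Idx d N) :
    evalMinors K d N (A * g) (chainMon K c) = evalMinors K d N A (chainMon K c) * g.det ^ q := by
  unfold chainMon
  rw [map_prod, map_prod]
  simp_rw [evalMinors_mul_X]
  rw [Finset.prod_mul_distrib, Finset.prod_const, Finset.card_univ, Fintype.card_fin]

/-- the point of the matrix space attached to a matrix -/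
def ptM (X0 : Matrix (Fin m) (Fin n) K) : Fin m × Fin n → K := fun p => X0 p.1 p.2

lemma genMatrix_map_eval (X0 : Matrix (Fin m) (Fin n) K) :
    (genMatrix K m n).map (MvPolynomial.eval (ptM K X0)) = X0 := by
  apply Matrix.ext
  intro i j
  rw [Matrix.map_apply]
  unfold genMatrix
  rw [Matrix.of_apply, eval_X]
  rfl

lemma eval_Phi (X0 : Matrix (Fin m) (Fin n) K) (f : PlRing K n (m + n)) :
    MvPolynomial.eval (ptM K X0) (Phi K m n f) = evalMinors K n (m + n) (stack X0) f := by
  unfold Phi
  rw [eval_evN, stack_map, genMatrix_map_eval]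

/-- on a matrix of the shape, with invertible bottom block, the determinantal ideal vanishes at the top part -/
theorem eval_eq_zero_of_mem_minorIdeal (s : ℕ) (M0 : Matrix (Fin (m + n)) (Fin n) K)
    (hM0 : ZeroOutside (shapeT m n (s + 1)) M0) (X0 : Matrix (Fin m) (Fin n) K)
    (g0 : Matrix (Fin n) (Fin n) K) (hg0 : g0.det ≠ 0) (hdec : stack X0 * g0 = M0)
    (f : MvPolynomial (Fin m × Fin n) K) (hf : f ∈ CAlgX.minorIdeal (genMatrix K m n) (s + 1)) :
    MvPolynomial.eval (ptM K X0) f = 0 := by
  have hminor : ∀ (a : Fin (s + 1) → Fin m) (b : Fin (s + 1) → Fin n), (X0.submatrix a b).det = 0 := by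
    apply det_submatrix_eq_zero_of_strictMono
    intro A B
    have h1 := det_stack_toIdx (⟨s, A, B⟩ : MinorIdx m n) X0
    simp only at h1
    have h2 : ((stack X0).submatrix (toIdx (⟨s, A, B⟩ : MinorIdx m n)).1 id).det * g0.det = 0 := by
      have : (stack X0).submatrix (toIdx (⟨s, A, B⟩ : MinorIdx m n)).1 id * g0 =
          M0.submatrix (toIdx (⟨s, A, B⟩ : MinorIdx m n)).1 id := by
        rw [← hdec]
        apply Matrix.ext
        intro i j
        rw [Matrix.submatrix_apply, Matrix.mul_apply, Matrix.mul_apply]
        rfl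
      rw [← Matrix.det_mul, this]
      apply det_submatrix_eq_zero_of_not_mem (shapeT m n (s + 1)) M0 hM0
      rw [mem_shapeT_toIdx]
      unfold sz
      simp
    have h3 : ((stack X0).submatrix (toIdx (⟨s, A, B⟩ : MinorIdx m n)).1 id).det = 0 := by
      rcases mul_eq_zero.1 h2 with h | h
      · exact h
      · exact absurd h hg0
    rw [h3] at h1
    have h4 := intCast_units_mul_self K (eps (⟨s, A, B⟩ : MinorIdx m n))
    rcases mul_eq_zero.1 h1.symm with h | h
    · rw [h, zero_mul] at h4
      exact absurd h4 zero_ne_one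
    · exact h
  have hle : CAlgX.minorIdeal (genMatrix K m n) (s + 1) ≤ RingHom.ker (MvPolynomial.eval (ptM K X0)) := by
    unfold CAlgX.minorIdeal
    rw [Ideal.span_le]
    rintro _ ⟨⟨a, b⟩, rfl⟩
    rw [SetLike.mem_coe, RingHom.mem_ker, RingHom.map_det]
    have : (MvPolynomial.eval (ptM K X0)).mapMatrix ((genMatrix K m n).submatrix a b) = X0.submatrix a b := by
      rw [RingHom.mapMatrix_apply, ← Matrix.submatrix_map, genMatrix_map_eval]
    rw [this]
    exact hminor a b
  exact hle hf

end Points

end Groth.Agent.Lib.Helper99.Bit
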