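import Mathlib
import Groth.Agent.Lib.Helper99.BitG
import Groth.Agent.Lib.Helper99.SMTBasis

/-!
# Bitableaux: standard bitableaux are linearly independent in the determinantal ring
-/

set_option autoImplicit false
universe u

namespace Groth.Agent.Lib.Helper99.Bit
open W4bk4grassmannian MvPolynomial
open Groth.Agent.Lib.Helper99.SMT Groth.Agent.Lib.Helper99.Normal

variable {m n : ℕ}

lemma le_thetaMax (θ : Idx n (m + n)) : θ ≤ thetaMax m n := by
  rw [idx_le_iff]
  intro i
  rw [thetaMax_val]
  have := idx_val_le θ i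
  have := i.isLt
  omega

lemma mem_shapeT_thetaMax (t : ℕ) : (shapeT m n t).mem (thetaMax m n) := by
  intro i
  rw [shapeT_lo, shapeT_hi, thetaMax_val]
  have := i.isLt
  constructor
  · split_ifs <;> omega
  · omega

/-- a standard bitableau as a chain of Plücker indices, padded by copies of the largest index -/
def padChain {t : ℕ} (a : ℕ) (c : StdBit m n t) : Fin (a + c.1) → Idx n (m + n) :=
  Fin.append (fun _ : Fin a => thetaMax m n) (fun i => toIdx (c.2.1 i))

lemma padChain_antitone {t : ℕ} (a : ℕ) (c : StdBit m n t) : Antitone (padChain a c) := by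
  intro i j
  refine Fin.addCases (fun i' => ?_) (fun i' => ?_) i <;>
    refine Fin.addCases (fun j' => ?_) (fun j' => ?_) j
  · intro _
    unfold padChain
    rw [Fin.append_left, Fin.append_left]
  · intro _
    unfold padChain
    rw [Fin.append_left]
    exact le_thetaMax _
  · intro h
    exfalso
    rw [Fin.le_def, Fin.val_natAdd, Fin.val_castAdd] at h
    have := j'.isLt
    omega
  · intro h
    unfold padChain
    rw [Fin.append_right, Fin.append_right]
    rw [Fin.le_def, Fin.val_natAdd, Fin.val_natAdd] at h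
    rw [toIdx_le_iff]
    by_cases hij : i' = j'
    · rw [hij]; exact minorGE_refl _
    · exact c.2.2.2 i' j' (lt_of_le_of_ne (by rw [Fin.le_def]; omega) hij)

lemma padChain_mem {t : ℕ} (a : ℕ) (c : StdBit m n t) (k : Fin (a + c.1)) :
    (shapeT m n t).mem (padChain a c k) := by
  refine Fin.addCases (fun i' => ?_) (fun i' => ?_) k
  · unfold padChain
    rw [Fin.append_left]
    exact mem_shapeT_thetaMax t
  · unfold padChain
    rw [Fin.append_right, mem_shapeT_toIdx]
    exact c.2.2.1 i'

/-- the padded chain determines the bitableau -/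
lemma padChain_injective {t : ℕ} (a a' : ℕ) (c c' : StdBit m n t)
    (h : (⟨a + c.1, padChain a c⟩ : Σ q, Fin q → Idx n (m + n)) = ⟨a' + c'.1, padChain a' c'⟩) : c = c' := by
  classical
  have key : ∀ (a : ℕ) (c : StdBit m n t),
      (List.ofFn (padChain a c)).filter (fun θ => decide (θ ≠ thetaMax m n)) =
        List.ofFn (fun i => toIdx (c.2.1 i)) := by
    intro a c
    unfold padChain
    rw [List.ofFn_fin_append, List.filter_append]
    have h1 : (List.ofFn (fun _ : Fin a => thetaMax m n)).filter (fun θ => decide (θ ≠ thetaMax m n)) = [] := by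
      rw [List.filter_eq_nil_iff]
      intro θ hθ
      rw [List.mem_ofFn] at hθ
      obtain ⟨_, rfl⟩ := hθ
      simp
    have h2 : (List.ofFn (fun i => toIdx (c.2.1 i))).filter (fun θ => decide (θ ≠ thetaMax m n)) =
        List.ofFn (fun i => toIdx (c.2.1 i)) := by
      rw [List.filter_eq_self]
      intro θ hθ
      rw [List.mem_ofFn] at hθ
      obtain ⟨i, rfl⟩ := hθ
      simp only [decide_eq_true_eq]
      exact toIdx_ne_thetaMax _
    rw [h1, h2, List.nil_append]
  have h1 := congrArg (fun p : Σ q, Fin q → Idx n (m + n) =>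
    (List.ofFn p.2).filter (fun θ => decide (θ ≠ thetaMax m n))) h
  simp only at h1
  rw [key, key, List.ofFn_inj'] at h1
  obtain ⟨k, f, hf⟩ := c
  obtain ⟨k', f', hf'⟩ := c'
  simp only at h1
  rw [Sigma.mk.inj_iff] at h1
  obtain ⟨hk, hfun⟩ := h1
  subst hk
  have hfun' := eq_of_heq hfun
  have : f = f' := by
    funext i
    exact toIdx_injective (congrFun hfun' i)
  subst this
  rfl

/-- the sign of a padded bitableau -/
noncomputable def sg {t : ℕ} (a : ℕ) (c : StdBit m n t) : ℤˣ :=
  (eps0 n) ^ a * Finset.univ.prod fun i => eps (c.2.1 i)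

variable (K : Type u) [Field K]

lemma Phi_chainMon_padChain {t : ℕ} (a : ℕ) (c : StdBit m n t) :
    Phi K m n (chainMon K (padChain a c)) =
      ((sg a c : ℤ) : MvPolynomial (Fin m × Fin n) K) * bitMon K c := by
  unfold chainMon
  rw [map_prod, Fin.prod_univ_add]
  have h1 : ∀ i : Fin a, Phi K m n (X (padChain a c (Fin.castAdd c.1 i))) =
      ((eps0 n : ℤ) : MvPolynomial (Fin m × Fin n) K) := by
    intro i
    unfold padChain
    rw [Fin.append_left, Phi_X_thetaMax]
  have h2 : ∀ i : Fin c.1, Phi K m n (X (padChain a c (Fin.natAdd a i))) =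
      ((eps (c.2.1 i) : ℤ) : MvPolynomial (Fin m × Fin n) K) * minorOf K (c.2.1 i) := by
    intro i
    unfold padChain
    rw [Fin.append_right, Phi_X_toIdx]
  simp_rw [h1, h2]
  rw [Finset.prod_const, Finset.card_univ, Fintype.card_fin, Finset.prod_mul_distrib]
  unfold sg bitMon
  rw [Units.val_mul, Units.val_pow_eq_pow_val, Units.coe_prod, Int.cast_mul, Int.cast_pow, Int.cast_prod,
    mul_assoc]

variable [Infinite K]

/-- the key vanishing: a combination of padded chain monomials of the same degree whose dehomogenisation vanishes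
at the top parts of the matrices of the shape vanishes at the generic matrix of the shape -/
theorem ev_eq_zero_of_Phi_vanish (hn : 0 < n) (s : ℕ) (N : ℕ) (Q : PlRing K n (m + n))
    (hQ : ∀ (A : Matrix (Fin (m + n)) (Fin n) K) (g : Matrix (Fin n) (Fin n) K),
      evalMinors K n (m + n) (A * g) Q = evalMinors K n (m + n) A Q * g.det ^ N)
    (hvan : ∀ (M0 : Matrix (Fin (m + n)) (Fin n) K) (X0 : Matrix (Fin m) (Fin n) K)
      (g0 : Matrix (Fin n) (Fin n) K), ZeroOutside (shapeT m n (s + 1)) M0 → g0.det ≠ 0 →
      stack X0 * g0 = M0 → MvPolynomial.eval (ptM K X0) (Phi K m n Q) = 0) :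
    ev K (shapeT m n (s + 1)) Q = 0 := by
  set S := shapeT m n (s + 1) with hS
  have hne : ev K S (X (thetaMax m n)) ≠ 0 :=
    (ev_X_monic K MonomialOrder.lex diagLeading_lex hn S _ (mem_shapeT_thetaMax _)).1.ne_zero
  have hprod : ev K S (X (thetaMax m n)) * ev K S Q = 0 := by
    apply MvPolynomial.funext
    intro x
    rw [map_mul, map_zero, eval_ev, eval_ev]
    set M0 := (genMat K S).map (MvPolynomial.eval x) with hM0
    have hM0z : ZeroOutside S M0 := zeroOutside_map S _ (zeroOutside_genMat K S) _ (map_zero _)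
    by_cases hδ : evalMinors K n (m + n) M0 (X (thetaMax m n)) = 0
    · rw [hδ, zero_mul]
    · have hδ' : (M0.submatrix (thetaMax m n).1 id).det ≠ 0 := by
        unfold evalMinors at hδ
        rw [aeval_X] at hδ
        exact hδ
      obtain ⟨X0, g0, hg0, hdec⟩ := exists_decomp K M0 hδ'
      have h1 := hQ (stack X0) g0
      rw [hdec] at h1
      rw [h1, ← eval_Phi, hvan M0 X0 g0 hM0z hg0 hdec, zero_mul, mul_zero]
  rcases mul_eq_zero.1 hprod with h | h
  · exact absurd h hne
  · exact h

/-- a combination of standard bitableaux vanishing at the top parts of the matrices of the shape is trivial -/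
theorem coeff_eq_zero_of_eval_eq_zero (hn : 0 < n) (s : ℕ) (fs : Finset (StdBit m n (s + 1)))
    (g : StdBit m n (s + 1) → K)
    (hvan : ∀ (M0 : Matrix (Fin (m + n)) (Fin n) K) (X0 : Matrix (Fin m) (Fin n) K)
      (g0 : Matrix (Fin n) (Fin n) K), ZeroOutside (shapeT m n (s + 1)) M0 → g0.det ≠ 0 →
      stack X0 * g0 = M0 → MvPolynomial.eval (ptM K X0) (∑ c ∈ fs, g c • bitMon K c) = 0) :
    ∀ c ∈ fs, g c = 0 := by
  classical
  set N := fs.sup (fun c => c.1) with hN
  have hlen : ∀ c ∈ fs, (N - c.1) + c.1 = N := by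
    intro c hc
    have : c.1 ≤ N := Finset.le_sup (f := fun c : StdBit m n (s + 1) => c.1) hc
    omega
  set Q : PlRing K n (m + n) :=
    ∑ c ∈ fs, g c • (((sg (N - c.1) c : ℤ) : PlRing K n (m + n)) * chainMon K (padChain (N - c.1) c)) with hQdef
  have hPhiQ : Phi K m n Q = ∑ c ∈ fs, g c • bitMon K c := by
    rw [hQdef, map_sum]
    apply Finset.sum_congr rfl
    intro c _
    rw [map_smul, map_mul, map_intCast, Phi_chainMon_padChain, ← mul_assoc, intCast_units_mul_self, one_mul]
  have hhom : ∀ (A : Matrix (Fin (m + n)) (Fin n) K) (g0 : Matrix (Fin n) (Fin n) K),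
      evalMinors K n (m + n) (A * g0) Q = evalMinors K n (m + n) A Q * g0.det ^ N := by
    intro A g0
    rw [hQdef, map_sum, map_sum, Finset.sum_mul]
    apply Finset.sum_congr rfl
    intro c hc
    have hpow : g0.det ^ (N - c.1 + c.1) = g0.det ^ N := by rw [hlen c hc]
    rw [map_smul, map_smul, map_mul, map_mul, map_intCast, map_intCast, evalMinors_mul_chainMon, hpow,
      smul_eq_mul, smul_eq_mul]
    ring
  have hev := ev_eq_zero_of_Phi_vanish K hn s N Q hhom (by
    intro M0 X0 g0 h1 h2 h3
    rw [hPhiQ]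
    exact hvan M0 X0 g0 h1 h2 h3)
  rw [hQdef, map_sum] at hev
  have hev' : ∑ c ∈ fs, (g c * ((sg (N - c.1) c : ℤ) : K)) •
      ev K (shapeT m n (s + 1)) (chainMon K (padChain (N - c.1) c)) = 0 := by
    rw [← hev]
    apply Finset.sum_congr rfl
    intro c _
    rw [map_smul, map_mul, map_intCast, mul_smul]
    congr 1
    rw [Algebra.smul_def, map_intCast]
  have hzero := coeff_eq_zero_of_sum_smul_eq_zero MonomialOrder.lex
    (fun c : StdBit m n (s + 1) => ev K (shapeT m n (s + 1)) (chainMon K (padChain (N - c.1) c)))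
    (fun _ => True)
    (fun c _ => (ev_chainMon_monic K MonomialOrder.lex diagLeading_lex hn _ _ (padChain_mem _ c)).1)
    (fun c hc => absurd trivial hc)
    (by
      intro c c' _ _ hdeg
      rw [(ev_chainMon_monic K MonomialOrder.lex diagLeading_lex hn _ _ (padChain_mem _ c)).2,
        (ev_chainMon_monic K MonomialOrder.lex diagLeading_lex hn _ _ (padChain_mem _ c')).2] at hdeg
      have := chainDeg_injective hn _ _ (padChain_antitone _ c) (padChain_antitone _ c') hdeg
      exact padChain_injective _ _ c c' this)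
    fs (fun c => g c * ((sg (N - c.1) c : ℤ) : K)) hev'
  intro c hc
  have h1 := hzero c hc trivial
  rcases mul_eq_zero.1 h1 with h | h
  · exact h
  · exfalso
    have := intCast_units_mul_self K (sg (N - c.1) c)
    rw [h, zero_mul] at this
    exact zero_ne_one this

/-- Standard bitableaux with minors of size less than `t` are linearly independent in the determinantal ring. -/
theorem linearIndependent_bitMon (hn : 0 < n) (t : ℕ) (ht : 1 ≤ t) :
    LinearIndependent K (fun c : StdBit m n t =>
      Ideal.Quotient.mk (CAlgX.minorIdeal (genMatrix K m n) t) (bitMon K c)) := by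
  classical
  obtain ⟨s, rfl⟩ : ∃ s, t = s + 1 := ⟨t - 1, by omega⟩
  rw [linearIndependent_iff']
  intro fs g hsum
  have hmem : ∑ c ∈ fs, g c • bitMon K c ∈ CAlgX.minorIdeal (genMatrix K m n) (s + 1) := by
    rw [← Ideal.Quotient.eq_zero_iff_mem, map_sum, ← hsum]
    apply Finset.sum_congr rfl
    intro c _
    exact map_smul (Ideal.Quotient.mkₐ K _) (g c) (bitMon K c)
  apply coeff_eq_zero_of_eval_eq_zero K hn s fs g
  intro M0 X0 g0 h1 h2 h3
  exact eval_eq_zero_of_mem_minorIdeal K s M0 h1 X0 g0 h2 h3 _ hmem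

end Groth.Agent.Lib.Helper99.Bit
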