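import Mathlib
import Groth.Agent.Lib.Helper99.BitH

/-!
# Bitableaux: independence of standard bitableaux on the matrices of a shape
-/

set_option autoImplicit false
universe u

namespace Groth.Agent.Lib.Helper99.Bit
open W4bk4grassmannian MvPolynomial
open Groth.Agent.Lib.Helper99.SMT Groth.Agent.Lib.Helper99.Normal

variable {m n : ℕ}

lemma padChain_mem' {t : ℕ} (S : Shape n) (hS : S.mem (thetaMax m n)) (a : ℕ) (c : StdBit m n t)
    (hc : ∀ i, S.mem (toIdx (c.2.1 i))) (k : Fin (a + c.1)) : S.mem (padChain a c k) := by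
  refine Fin.addCases (fun i' => ?_) (fun i' => ?_) k
  · unfold padChain
    rw [Fin.append_left]
    exact hS
  · unfold padChain
    rw [Fin.append_right]
    exact hc i'

variable (K : Type u) [Field K]

lemma ev_chainMon_padChain_eq_zero {t : ℕ} (S : Shape n) (a : ℕ) (c : StdBit m n t)
    (hc : ¬ ∀ i, S.mem (toIdx (c.2.1 i))) : ev K S (chainMon K (padChain a c)) = 0 := by
  push Not at hc
  obtain ⟨i, hi⟩ := hc
  rw [ev_chainMon]
  apply Finset.prod_eq_zero (Finset.mem_univ (Fin.natAdd a i))
  apply ev_X_eq_zero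
  unfold padChain
  rw [Fin.append_right]
  exact hi

variable [Infinite K]

/-- the key vanishing, for a general shape containing the largest index -/
theorem ev_eq_zero_of_Phi_vanish' (hn : 0 < n) (S : Shape n) (hS : S.mem (thetaMax m n)) (N : ℕ)
    (Q : PlRing K n (m + n))
    (hQ : ∀ (A : Matrix (Fin (m + n)) (Fin n) K) (g : Matrix (Fin n) (Fin n) K),
      evalMinors K n (m + n) (A * g) Q = evalMinors K n (m + n) A Q * g.det ^ N)
    (hvan : ∀ (M0 : Matrix (Fin (m + n)) (Fin n) K) (X0 : Matrix (Fin m) (Fin n) K)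
      (g0 : Matrix (Fin n) (Fin n) K), ZeroOutside S M0 → g0.det ≠ 0 →
      stack X0 * g0 = M0 → MvPolynomial.eval (ptM K X0) (Phi K m n Q) = 0) :
    ev K S Q = 0 := by
  have hne : ev K S (X (thetaMax m n)) ≠ 0 :=
    (ev_X_monic K MonomialOrder.lex diagLeading_lex hn S _ hS).1.ne_zero
  have hprod : ev K S (X (thetaMax m n)) * ev K S Q = 0 := by
    apply MvPolynomial.funext
    intro x
    rw [map_mul, map_zero, eval_ev, eval_ev]
    set M0 := (genMat K S).map (MvPolynomial.eval x) with hM0
    have hM0z : ZeroOutside S M0 := zeroOutside_map S _ (zeroOutside_genMat K S) _ (map_zero _)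
    by_cases hδ : evalMinors K n (m + n) M0 (X (thetaMax m n)) = 0
    · rw [hδ, zero_mul]
    · have hδ' : (M0.submatrix (thetaMax m n).1 id).det ≠ 0 := by
        unfold evalMinors at hδ
        rw [aeval_X] at hδ
        exact hδ
      obtain ⟨X0, g0, hg0, hdec⟩ := exists_decomp K M0 hδ'
      have h1 := hQ (stack X0) g0
      rw [hdec] at h1
      rw [h1, ← eval_Phi, hvan M0 X0 g0 hM0z hg0 hdec, zero_mul, mul_zero]
  rcases mul_eq_zero.1 hprod with h | h
  · exact absurd h hne
  · exact h

/-- a combination of standard bitableaux vanishing at the top parts of the matrices of a shape has no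
bitableau all of whose minors lie in the shape -/
theorem coeff_eq_zero_of_eval_eq_zero' (hn : 0 < n) (S : Shape n) (hS : S.mem (thetaMax m n)) (t : ℕ)
    (fs : Finset (StdBit m n t)) (g : StdBit m n t → K)
    (hvan : ∀ (M0 : Matrix (Fin (m + n)) (Fin n) K) (X0 : Matrix (Fin m) (Fin n) K)
      (g0 : Matrix (Fin n) (Fin n) K), ZeroOutside S M0 → g0.det ≠ 0 →
      stack X0 * g0 = M0 → MvPolynomial.eval (ptM K X0) (∑ c ∈ fs, g c • bitMon K c) = 0) :
    ∀ c ∈ fs, (∀ i, S.mem (toIdx (c.2.1 i))) → g c = 0 := by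
  classical
  set N := fs.sup (fun c => c.1) with hN
  have hlen : ∀ c ∈ fs, (N - c.1) + c.1 = N := by
    intro c hc
    have : c.1 ≤ N := Finset.le_sup (f := fun c : StdBit m n t => c.1) hc
    omega
  set Q : PlRing K n (m + n) :=
    ∑ c ∈ fs, g c • (((sg (N - c.1) c : ℤ) : PlRing K n (m + n)) * chainMon K (padChain (N - c.1) c)) with hQdef
  have hPhiQ : Phi K m n Q = ∑ c ∈ fs, g c • bitMon K c := by
    rw [hQdef, map_sum]
    apply Finset.sum_congr rfl
    intro c _
    rw [map_smul, map_mul, map_intCast, Phi_chainMon_padChain, ← mul_assoc, intCast_units_mul_self, one_mul]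
  have hhom : ∀ (A : Matrix (Fin (m + n)) (Fin n) K) (g0 : Matrix (Fin n) (Fin n) K),
      evalMinors K n (m + n) (A * g0) Q = evalMinors K n (m + n) A Q * g0.det ^ N := by
    intro A g0
    rw [hQdef, map_sum, map_sum, Finset.sum_mul]
    apply Finset.sum_congr rfl
    intro c hc
    have hpow : g0.det ^ (N - c.1 + c.1) = g0.det ^ N := by rw [hlen c hc]
    rw [map_smul, map_smul, map_mul, map_mul, map_intCast, map_intCast, evalMinors_mul_chainMon, hpow,
      smul_eq_mul, smul_eq_mul]
    ring
  have hev := ev_eq_zero_of_Phi_vanish' K hn S hS N Q hhom (by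
    intro M0 X0 g0 h1 h2 h3
    rw [hPhiQ]
    exact hvan M0 X0 g0 h1 h2 h3)
  rw [hQdef, map_sum] at hev
  have hev' : ∑ c ∈ fs, (g c * ((sg (N - c.1) c : ℤ) : K)) •
      ev K S (chainMon K (padChain (N - c.1) c)) = 0 := by
    rw [← hev]
    apply Finset.sum_congr rfl
    intro c _
    rw [map_smul, map_mul, map_intCast, mul_smul]
    congr 1
    rw [Algebra.smul_def, map_intCast]
  have hzero := coeff_eq_zero_of_sum_smul_eq_zero MonomialOrder.lex
    (fun c : StdBit m n t => ev K S (chainMon K (padChain (N - c.1) c)))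
    (fun c => ∀ i, S.mem (toIdx (c.2.1 i)))
    (fun c hc => (ev_chainMon_monic K MonomialOrder.lex diagLeading_lex hn _ _ (padChain_mem' S hS _ c hc)).1)
    (fun c hc => ev_chainMon_padChain_eq_zero K S _ c hc)
    (by
      intro c c' hc hc' hdeg
      rw [(ev_chainMon_monic K MonomialOrder.lex diagLeading_lex hn _ _ (padChain_mem' S hS _ c hc)).2,
        (ev_chainMon_monic K MonomialOrder.lex diagLeading_lex hn _ _ (padChain_mem' S hS _ c' hc')).2] at hdeg
      have := chainDeg_injective hn _ _ (padChain_antitone _ c) (padChain_antitone _ c') hdeg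
      exact padChain_injective _ _ c c' this)
    fs (fun c => g c * ((sg (N - c.1) c : ℤ) : K)) hev'
  intro c hc hcS
  have h1 := hzero c hc hcS
  rcases mul_eq_zero.1 h1 with h | h
  · exact h
  · exfalso
    have := intCast_units_mul_self K (sg (N - c.1) c)
    rw [h, zero_mul] at this
    exact zero_ne_one this

end Groth.Agent.Lib.Helper99.Bit
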