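import Mathlib
import Groth.Agent.Lib.Helper99.CMGlueA

/-!
# Gluing two Cohen–Macaulay closed subschemes along a Cohen–Macaulay subscheme of codimension one
-/

set_option autoImplicit false
universe u

namespace Groth.Agent.Lib.Helper99.CM
open LocCoh Groth.Agent.Lib.Helper67

variable {S : Type u} [CommRing S] (I J : Ideal S)

/-- the diagonal map `S/(I ∩ J) → S/I × S/J` -/
noncomputable def diagMap : (S ⧸ (I ⊓ J)) →ₗ[S] (S ⧸ I) × (S ⧸ J) :=
  LinearMap.prod (Submodule.mapQ (I ⊓ J) I LinearMap.id (fun _ hx => hx.1))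
    (Submodule.mapQ (I ⊓ J) J LinearMap.id (fun _ hx => hx.2))

/-- the difference map `S/I × S/J → S/(I + J)` -/
noncomputable def diffMap : (S ⧸ I) × (S ⧸ J) →ₗ[S] S ⧸ (I ⊔ J) :=
  LinearMap.coprod (Submodule.mapQ I (I ⊔ J) LinearMap.id (fun _ hx => Ideal.mem_sup_left hx))
    (-(Submodule.mapQ J (I ⊔ J) LinearMap.id (fun _ hx => Ideal.mem_sup_right hx)))

lemma diagMap_mk (s : S) : diagMap I J (Ideal.Quotient.mk (I ⊓ J) s) =
    (Ideal.Quotient.mk I s, Ideal.Quotient.mk J s) := rfl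

lemma diffMap_mk (a b : S) : diffMap I J (Ideal.Quotient.mk I a, Ideal.Quotient.mk J b) =
    Ideal.Quotient.mk (I ⊔ J) a - Ideal.Quotient.mk (I ⊔ J) b := by
  unfold diffMap
  rw [LinearMap.coprod_apply, LinearMap.neg_apply, ← sub_eq_add_neg]
  rfl

lemma diagMap_injective : Function.Injective (diagMap I J) := by
  rw [← LinearMap.ker_eq_bot, LinearMap.ker_eq_bot']
  intro x hx
  obtain ⟨s, rfl⟩ := Ideal.Quotient.mk_surjective x
  rw [diagMap_mk, Prod.mk_eq_zero, Ideal.Quotient.eq_zero_iff_mem, Ideal.Quotient.eq_zero_iff_mem] at hx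
  rw [Ideal.Quotient.eq_zero_iff_mem]
  exact ⟨hx.1, hx.2⟩

lemma diffMap_surjective : Function.Surjective (diffMap I J) := by
  intro y
  obtain ⟨s, rfl⟩ := Ideal.Quotient.mk_surjective y
  refine ⟨(Ideal.Quotient.mk I s, Ideal.Quotient.mk J 0), ?_⟩
  rw [diffMap_mk, map_zero, sub_zero]

lemma exact_diagMap_diffMap : Function.Exact (diagMap I J) (diffMap I J) := by
  intro y
  obtain ⟨u, v⟩ := y
  obtain ⟨a, rfl⟩ := Ideal.Quotient.mk_surjective u
  obtain ⟨b, rfl⟩ := Ideal.Quotient.mk_surjective v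
  rw [diffMap_mk]
  constructor
  · intro h
    rw [← map_sub, Ideal.Quotient.eq_zero_iff_mem] at h
    obtain ⟨i, hi, j, hj, hij⟩ := Submodule.mem_sup.1 h
    refine ⟨Ideal.Quotient.mk (I ⊓ J) (a - i), ?_⟩
    rw [diagMap_mk, Prod.mk.injEq]
    constructor
    · rw [Ideal.Quotient.eq]
      have : a - i - a = -i := by ring
      rw [this]
      exact I.neg_mem hi
    · rw [Ideal.Quotient.eq]
      have : a - i - b = j := by
        have : a - b = i + j := hij.symm
        linear_combination this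
      rw [this]
      exact hj
  · rintro ⟨x, hx⟩
    obtain ⟨s, rfl⟩ := Ideal.Quotient.mk_surjective x
    rw [diagMap_mk, Prod.mk.injEq] at hx
    rw [← map_sub, Ideal.Quotient.eq_zero_iff_mem]
    have h1 : s - a ∈ I := Ideal.Quotient.eq.1 hx.1
    have h2 : s - b ∈ J := Ideal.Quotient.eq.1 hx.2
    have : a - b = -(s - a) + (s - b) := by ring
    rw [this]
    exact Submodule.add_mem_sup (I.neg_mem h1) h2

variable [IsNoetherianRing S]

/-- depth of a product -/
lemma min_le_idealDepth_prod (q : Ideal S) (M N : Type u) [AddCommGroup M] [Module S M] [Module.Finite S M]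
    [AddCommGroup N] [Module S N] [Module.Finite S N] :
    min (idealDepth q M) (idealDepth q N) ≤ idealDepth q (M × N) := by
  apply idealDepth_mid_ge q M (M × N) N (LinearMap.inl S M N) (LinearMap.snd S M N)
    LinearMap.inl_injective LinearMap.snd_surjective
  intro y
  constructor
  · intro h
    refine ⟨y.1, ?_⟩
    rw [LinearMap.inl_apply]
    rw [LinearMap.snd_apply] at h
    exact Prod.ext rfl h.symm
  · rintro ⟨x, rfl⟩
    rfl

/-- Gluing lemma: if `S/I`, `S/J` are Cohen–Macaulay of pure dimension `e`, `S/(I + J)` is Cohen–Macaulay of pure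
dimension `e - 1` and `S/(I ∩ J)` has dimension at most `e` (all in the form of dimension formulas), then
`S/(I ∩ J)` is Cohen–Macaulay. -/
theorem cm_glue (e : ℕ) (he : 1 ≤ e)
    (hI : IsCohenMacaulayRing (S ⧸ I)) (hJ : IsCohenMacaulayRing (S ⧸ J))
    (hIJ : IsCohenMacaulayRing (S ⧸ (I ⊔ J)))
    (HI : ∀ q : Ideal S, q.IsPrime → I ≤ q →
      (((q.map (Ideal.Quotient.mk I)).height : ℕ∞) : WithBot ℕ∞) + ringKrullDim (S ⧸ q) = (e : WithBot ℕ∞))
    (HJ : ∀ q : Ideal S, q.IsPrime → J ≤ q →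
      (((q.map (Ideal.Quotient.mk J)).height : ℕ∞) : WithBot ℕ∞) + ringKrullDim (S ⧸ q) = (e : WithBot ℕ∞))
    (HIJ : ∀ q : Ideal S, q.IsPrime → I ⊔ J ≤ q →
      (((q.map (Ideal.Quotient.mk (I ⊔ J))).height : ℕ∞) : WithBot ℕ∞) + ringKrullDim (S ⧸ q) =
        ((e - 1 : ℕ) : WithBot ℕ∞))
    (Hle : ∀ q : Ideal S, q.IsPrime → I ⊓ J ≤ q →
      (((q.map (Ideal.Quotient.mk (I ⊓ J))).height : ℕ∞) : WithBot ℕ∞) + ringKrullDim (S ⧸ q) ≤
        (e : WithBot ℕ∞)) :
    IsCohenMacaulayRing (S ⧸ (I ⊓ J)) := by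
  refine { isCohenMacaulayLocalRing_localization := fun P _ => ?_ }
  apply isCMLocal_of_height_le_idealDepth
  set q := P.comap (Ideal.Quotient.mk (I ⊓ J)) with hq
  have hqP : q.map (Ideal.Quotient.mk (I ⊓ J)) = P :=
    Ideal.map_comap_of_surjective _ Ideal.Quotient.mk_surjective P
  have hdep : idealDepth P (S ⧸ (I ⊓ J)) = idealDepth q (S ⧸ (I ⊓ J)) := by
    rw [idealDepth_eq_idealDepth_map_of_finite (B := S ⧸ (I ⊓ J)) q (S ⧸ (I ⊓ J)),
      Ideal.Quotient.algebraMap_eq, hqP]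
  rw [hdep, ← hqP]
  -- the three depth estimates
  have key : ∀ (L : Ideal S) (k : ℕ) (hk : k ≤ e) (hL : IsCohenMacaulayRing (S ⧸ L)) (hle : I ⊓ J ≤ L)
      (HL : ∀ q : Ideal S, q.IsPrime → L ≤ q →
        (((q.map (Ideal.Quotient.mk L)).height : ℕ∞) : WithBot ℕ∞) + ringKrullDim (S ⧸ q) =
          ((e - k : ℕ) : WithBot ℕ∞)),
      (q.map (Ideal.Quotient.mk (I ⊓ J))).height ≤ idealDepth q (S ⧸ L) + k := by
    intro L k hk hL hle HL
    have h1 : (q.map (Ideal.Quotient.mk (I ⊓ J))).height - k ≤ idealDepth q (S ⧸ L) := by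
      apply le_idealDepth_quotient L q hL
      intro Q hQ hqQ
      rw [tsub_le_iff_right]
      set q' := Q.comap (Ideal.Quotient.mk L) with hq'
      have hq'prime : q'.IsPrime := Ideal.comap_isPrime _ _
      have hQq' : q'.map (Ideal.Quotient.mk L) = Q :=
        Ideal.map_comap_of_surjective _ Ideal.Quotient.mk_surjective Q
      have hLq' : L ≤ q' := by
        intro x hx
        rw [hq', Ideal.mem_comap, Ideal.Quotient.eq_zero_iff_mem.2 hx]
        exact Q.zero_mem
      have hqq' : q ≤ q' := Ideal.map_le_iff_le_comap.1 hqQ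
      have h2 := HL q' hq'prime hLq'
      rw [hQq'] at h2
      have h3 := Hle q' hq'prime (hle.trans hLq')
      have h4 : (q.map (Ideal.Quotient.mk (I ⊓ J))).height ≤ (q'.map (Ideal.Quotient.mk (I ⊓ J))).height :=
        Ideal.height_mono (Ideal.map_mono hqq')
      exact h4.trans (le_add_of_dim_formulas _ _ _ e k hk h3 h2)
    calc (q.map (Ideal.Quotient.mk (I ⊓ J))).height
        ≤ (q.map (Ideal.Quotient.mk (I ⊓ J))).height - k + k := le_tsub_add
      _ ≤ idealDepth q (S ⧸ L) + k := by gcongr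
  have kI := key I 0 (Nat.zero_le _) hI inf_le_left (by simpa using HI)
  have kJ := key J 0 (Nat.zero_le _) hJ inf_le_right (by simpa using HJ)
  have kIJ := key (I ⊔ J) 1 he hIJ (inf_le_left.trans le_sup_left) HIJ
  rw [Nat.cast_zero, add_zero] at kI kJ
  rw [Nat.cast_one] at kIJ
  have hSES := idealDepth_left_ge q (S ⧸ (I ⊓ J)) ((S ⧸ I) × (S ⧸ J)) (S ⧸ (I ⊔ J)) (diagMap I J) (diffMap I J)
    (diagMap_injective I J) (diffMap_surjective I J) (exact_diagMap_diffMap I J)
  have hprod := min_le_idealDepth_prod q (S ⧸ I) (S ⧸ J)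
  refine le_trans ?_ hSES
  rw [le_min_iff]
  refine ⟨le_trans ?_ hprod, kIJ⟩
  rw [le_min_iff]
  exact ⟨kI, kJ⟩

end Groth.Agent.Lib.Helper99.CM
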