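import Mathlib
import Groth.Agent.Lib.Helper99.CMGlueB

/-!
# Lifting the Cohen–Macaulay property from a hypersurface section and its complement
-/

set_option autoImplicit false
universe u

namespace Groth.Agent.Lib.Helper99.CM
open LocCoh Groth.Agent.Lib.Helper67 Groth.Agent.Lib.Helper56
open scoped Pointwise

variable {S : Type u} [CommRing S]

section Quot
variable (I : Ideal S) (x : S)

/-- the projection `S/I → S/(I + (x))` -/
noncomputable def projMap : (S ⧸ I) →ₗ[S] S ⧸ (I ⊔ Ideal.span {x}) :=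
  Submodule.mapQ I (I ⊔ Ideal.span {x}) LinearMap.id (fun _ hx => Ideal.mem_sup_left hx)

lemma projMap_mk (s : S) : projMap I x (Ideal.Quotient.mk I s) = Ideal.Quotient.mk (I ⊔ Ideal.span {x}) s := rfl

lemma projMap_surjective : Function.Surjective (projMap I x) := by
  intro y
  obtain ⟨s, rfl⟩ := Ideal.Quotient.mk_surjective y
  exact ⟨Ideal.Quotient.mk I s, rfl⟩

lemma ker_projMap : LinearMap.ker (projMap I x) = x • (⊤ : Submodule S (S ⧸ I)) := by
  ext y
  obtain ⟨s, rfl⟩ := Ideal.Quotient.mk_surjective y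
  rw [LinearMap.mem_ker, projMap_mk, Ideal.Quotient.eq_zero_iff_mem, Submodule.mem_smul_pointwise_iff_exists]
  constructor
  · intro h
    obtain ⟨i, hi, j, hj, hij⟩ := Submodule.mem_sup.1 h
    obtain ⟨a, rfl⟩ := Ideal.mem_span_singleton'.1 hj
    refine ⟨Ideal.Quotient.mk I a, Submodule.mem_top, ?_⟩
    change x • Ideal.Quotient.mk I a = Ideal.Quotient.mk I s
    rw [← hij, Algebra.smul_def, Ideal.Quotient.algebraMap_eq, ← map_mul, eq_comm, Ideal.Quotient.eq]
    have : i + a * x - x * a = i := by ring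
    rw [this]
    exact hi
  · rintro ⟨b, -, hb⟩
    obtain ⟨a, rfl⟩ := Ideal.Quotient.mk_surjective b
    have hb' : Ideal.Quotient.mk I (x * a) = Ideal.Quotient.mk I s := by
      rw [← hb, map_mul]
      rfl
    have h1 : x * a - s ∈ I := Ideal.Quotient.eq.1 hb'
    have h2 : s = x * a - (x * a - s) := by ring
    rw [h2]
    apply Ideal.sub_mem
    · exact Ideal.mem_sup_right (Ideal.mul_mem_right _ _ (Ideal.subset_span rfl))
    · exact Ideal.mem_sup_left h1

/-- `(S/I)/x(S/I) ≃ S/(I + (x))` as `S`-modules -/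
noncomputable def quotSMulTopEquiv : QuotSMulTop x (S ⧸ I) ≃ₗ[S] S ⧸ (I ⊔ Ideal.span {x}) :=
  (Submodule.quotEquivOfEq _ _ (ker_projMap I x).symm).trans
    (LinearMap.quotKerEquivOfSurjective (projMap I x) (projMap_surjective I x))

end Quot

variable [IsNoetherianRing S]

/-- the height of a prime of `S/I0` is bounded by the depth of a Cohen–Macaulay quotient `S/L` of pure dimension
`e - k` -/
lemma height_le_idealDepth_add (I0 L : Ideal S) (hle : I0 ≤ L) (q : Ideal S) (e k : ℕ) (hk : k ≤ e)
    (hL : IsCohenMacaulayRing (S ⧸ L))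
    (HL : ∀ q : Ideal S, q.IsPrime → L ≤ q →
      (((q.map (Ideal.Quotient.mk L)).height : ℕ∞) : WithBot ℕ∞) + ringKrullDim (S ⧸ q) =
        ((e - k : ℕ) : WithBot ℕ∞))
    (Hle : ∀ q : Ideal S, q.IsPrime → I0 ≤ q →
      (((q.map (Ideal.Quotient.mk I0)).height : ℕ∞) : WithBot ℕ∞) + ringKrullDim (S ⧸ q) ≤ (e : WithBot ℕ∞)) :
    (q.map (Ideal.Quotient.mk I0)).height ≤ idealDepth q (S ⧸ L) + k := by
  have h1 : (q.map (Ideal.Quotient.mk I0)).height - k ≤ idealDepth q (S ⧸ L) := by
    apply le_idealDepth_quotient L q hL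
    intro Q hQ hqQ
    rw [tsub_le_iff_right]
    set q' := Q.comap (Ideal.Quotient.mk L) with hq'
    have hq'prime : q'.IsPrime := Ideal.comap_isPrime _ _
    have hQq' : q'.map (Ideal.Quotient.mk L) = Q :=
      Ideal.map_comap_of_surjective _ Ideal.Quotient.mk_surjective Q
    have hLq' : L ≤ q' := by
      intro x hx
      rw [hq', Ideal.mem_comap, Ideal.Quotient.eq_zero_iff_mem.2 hx]
      exact Q.zero_mem
    have hqq' : q ≤ q' := Ideal.map_le_iff_le_comap.1 hqQ
    have h2 := HL q' hq'prime hLq'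
    rw [hQq'] at h2
    have h3 := Hle q' hq'prime (hle.trans hLq')
    have h4 : (q.map (Ideal.Quotient.mk I0)).height ≤ (q'.map (Ideal.Quotient.mk I0)).height :=
      Ideal.height_mono (Ideal.map_mono hqq')
    exact h4.trans (le_add_of_dim_formulas _ _ _ e k hk h3 h2)
  calc (q.map (Ideal.Quotient.mk I0)).height
      ≤ (q.map (Ideal.Quotient.mk I0)).height - k + k := le_tsub_add
    _ ≤ idealDepth q (S ⧸ L) + k := by gcongr

/-- a localisation of a Cohen–Macaulay localisation -/
lemma isCMLocal_of_away {R : Type u} [CommRing R] (y : R) (hloc : IsCohenMacaulayRing (Localization.Away y))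
    (P : Ideal R) [hP : P.IsPrime] (hy : y ∉ P) : IsCohenMacaulayLocalRing (Localization.AtPrime P) := by
  have hdisj : Disjoint (Submonoid.powers y : Set R) (P : Set R) := by
    rw [Set.disjoint_left]
    rintro _ ⟨k, rfl⟩ hk
    exact hy (hP.mem_of_pow_mem k hk)
  set P' := P.map (algebraMap R (Localization.Away y)) with hP'
  have hP'prime : P'.IsPrime := IsLocalization.isPrime_of_isPrime_disjoint (Submonoid.powers y) _ P hP hdisj
  have hcomap : P'.comap (algebraMap R (Localization.Away y)) = P :=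
    IsLocalization.under_map_of_isPrime_disjoint (Submonoid.powers y) _ hP hdisj
  have h1 := hloc.isCohenMacaulayLocalRing_localization P'
  have h2 : IsLocalization.AtPrime (Localization.AtPrime P') (P'.comap (algebraMap R (Localization.Away y))) :=
    IsLocalization.isLocalization_isLocalization_atPrime_isLocalization (Submonoid.powers y) _ P'
  have h3 : IsCohenMacaulayLocalRing (Localization.AtPrime (P'.comap (algebraMap R (Localization.Away y)))) :=
    isCohenMacaulayLocalRing_of_ringEquiv
      (IsLocalization.algEquiv (P'.comap (algebraMap R (Localization.Away y))).primeCompl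
        (Localization.AtPrime (P'.comap (algebraMap R (Localization.Away y))))
        (Localization.AtPrime P')).toRingEquiv.symm h1
  have main : ∀ (P0 : Ideal R) [P0.IsPrime], P0 = P → IsCohenMacaulayLocalRing (Localization.AtPrime P0) →
      IsCohenMacaulayLocalRing (Localization.AtPrime P) := by
    intro P0 _ h0 h
    subst h0
    exact h
  exact main _ hcomap h3

/-- Lifting lemma: if `x` is a nonzerodivisor on `S/I`, the hypersurface section `S/(I + (x))` is Cohen–Macaulay of
pure dimension `e - 1`, `S/I` has dimension at most `e`, and the complement of the section is Cohen–Macaulay, then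
`S/I` is Cohen–Macaulay. -/
theorem cm_lift (I : Ideal S) (x : S) (hx : ∀ a : S, x * a ∈ I → a ∈ I) (e : ℕ) (he : 1 ≤ e)
    (hCM : IsCohenMacaulayRing (S ⧸ (I ⊔ Ideal.span {x})))
    (H : ∀ q : Ideal S, q.IsPrime → I ⊔ Ideal.span {x} ≤ q →
      (((q.map (Ideal.Quotient.mk (I ⊔ Ideal.span {x}))).height : ℕ∞) : WithBot ℕ∞) + ringKrullDim (S ⧸ q) =
        ((e - 1 : ℕ) : WithBot ℕ∞))
    (Hle : ∀ q : Ideal S, q.IsPrime → I ≤ q →
      (((q.map (Ideal.Quotient.mk I)).height : ℕ∞) : WithBot ℕ∞) + ringKrullDim (S ⧸ q) ≤ (e : WithBot ℕ∞))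
    (hloc : IsCohenMacaulayRing (Localization.Away (Ideal.Quotient.mk I x))) :
    IsCohenMacaulayRing (S ⧸ I) := by
  refine { isCohenMacaulayLocalRing_localization := fun P hP => ?_ }
  by_cases hxP : Ideal.Quotient.mk I x ∈ P
  · apply isCMLocal_of_height_le_idealDepth
    set q := P.comap (Ideal.Quotient.mk I) with hq
    have hqP : q.map (Ideal.Quotient.mk I) = P :=
      Ideal.map_comap_of_surjective _ Ideal.Quotient.mk_surjective P
    have hdep : idealDepth P (S ⧸ I) = idealDepth q (S ⧸ I) := by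
      rw [idealDepth_eq_idealDepth_map_of_finite (B := S ⧸ I) q (S ⧸ I), Ideal.Quotient.algebraMap_eq, hqP]
    have hxq : x ∈ q := hxP
    have hIM : q • (⊤ : Submodule S (S ⧸ I)) ≠ ⊤ := by
      rw [Ne, smul_top_eq_top_iff_map (B := S ⧸ I) (S ⧸ I) q, Ideal.Quotient.algebraMap_eq, hqP]
      intro h
      have h1 : P • (⊤ : Submodule (S ⧸ I) (S ⧸ I)) = P := by
        rw [smul_eq_mul, Ideal.mul_top]
      rw [h1] at h
      exact hP.ne_top h
    have hreg : IsSMulRegular (S ⧸ I) x := by
      rw [isSMulRegular_iff_right_eq_zero_of_smul]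
      intro m hm
      obtain ⟨a, rfl⟩ := Ideal.Quotient.mk_surjective m
      have hm' : Ideal.Quotient.mk I (x * a) = 0 := by
        rw [← hm, map_mul]
        rfl
      rw [Ideal.Quotient.eq_zero_iff_mem] at hm' ⊢
      exact hx a hm'
    have h1 := idealDepth_quotSMulTop_add_one q (S ⧸ I) hIM x hxq hreg
    rw [Groth.Agent.Lib.Helper67.idealDepth_congr q (quotSMulTopEquiv I x)] at h1
    rw [hdep, ← hqP, ← h1]
    have h2 := height_le_idealDepth_add I (I ⊔ Ideal.span {x}) le_sup_left q e 1 he hCM H Hle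
    rw [Nat.cast_one] at h2
    exact h2
  · exact isCMLocal_of_away _ hloc P hxP

end Groth.Agent.Lib.Helper99.CM
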