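import Mathlib
import Groth.Agent.Lib.Helper99.CMGlueC

/-!
# A hypersurface section of a Cohen–Macaulay quotient is Cohen–Macaulay
-/

set_option autoImplicit false
universe u

namespace Groth.Agent.Lib.Helper99.CM
open LocCoh Groth.Agent.Lib.Helper67 Groth.Agent.Lib.Helper56
open scoped Pointwise

variable {S : Type u} [CommRing S] [IsNoetherianRing S]

/-- Quotient lemma: if `S/I` is Cohen–Macaulay of pure dimension `e + 1` and `x` is a nonzerodivisor on it such that
`S/(I + (x))` has dimension at most `e` (in the form of dimension formulas), then `S/(I + (x))` is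
Cohen–Macaulay. -/
theorem cm_quot (I : Ideal S) (x : S) (hx : ∀ a : S, x * a ∈ I → a ∈ I) (e : ℕ)
    (hCM : IsCohenMacaulayRing (S ⧸ I))
    (HI : ∀ q : Ideal S, q.IsPrime → I ≤ q →
      (((q.map (Ideal.Quotient.mk I)).height : ℕ∞) : WithBot ℕ∞) + ringKrullDim (S ⧸ q) =
        ((e + 1 : ℕ) : WithBot ℕ∞))
    (Hle : ∀ q : Ideal S, q.IsPrime → I ⊔ Ideal.span {x} ≤ q →
      (((q.map (Ideal.Quotient.mk (I ⊔ Ideal.span {x}))).height : ℕ∞) : WithBot ℕ∞) + ringKrullDim (S ⧸ q) ≤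
        (e : WithBot ℕ∞)) :
    IsCohenMacaulayRing (S ⧸ (I ⊔ Ideal.span {x})) := by
  refine { isCohenMacaulayLocalRing_localization := fun P hP => ?_ }
  apply isCMLocal_of_height_le_idealDepth
  set q := P.comap (Ideal.Quotient.mk (I ⊔ Ideal.span {x})) with hq
  have hqprime : q.IsPrime := Ideal.comap_isPrime _ _
  have hqP : q.map (Ideal.Quotient.mk (I ⊔ Ideal.span {x})) = P :=
    Ideal.map_comap_of_surjective _ Ideal.Quotient.mk_surjective P
  have hLq : (I ⊔ Ideal.span {x}) ≤ q := by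
    intro y hy
    rw [hq, Ideal.mem_comap, Ideal.Quotient.eq_zero_iff_mem.2 hy]
    exact P.zero_mem
  have hIq : I ≤ q := le_sup_left.trans hLq
  have hxq : x ∈ q := hLq (Ideal.mem_sup_right (Ideal.subset_span rfl))
  have hdep : idealDepth P (S ⧸ (I ⊔ Ideal.span {x})) = idealDepth q (S ⧸ (I ⊔ Ideal.span {x})) := by
    rw [idealDepth_eq_idealDepth_map_of_finite (B := S ⧸ (I ⊔ Ideal.span {x})) q (S ⧸ (I ⊔ Ideal.span {x})), Ideal.Quotient.algebraMap_eq, hqP]
  have hPI : (q.map (Ideal.Quotient.mk I)).IsPrime := Ideal.isPrime_map_quotientMk_of_isPrime hIq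
  have hIM : q • (⊤ : Submodule S (S ⧸ I)) ≠ ⊤ := by
    rw [Ne, smul_top_eq_top_iff_map (B := S ⧸ I) (S ⧸ I) q, Ideal.Quotient.algebraMap_eq]
    intro h
    have h1 : (q.map (Ideal.Quotient.mk I)) • (⊤ : Submodule (S ⧸ I) (S ⧸ I)) = q.map (Ideal.Quotient.mk I) := by
      rw [smul_eq_mul, Ideal.mul_top]
    rw [h1] at h
    exact hPI.ne_top h
  have hreg : IsSMulRegular (S ⧸ I) x := by
    rw [isSMulRegular_iff_right_eq_zero_of_smul]
    intro m hm
    obtain ⟨a, rfl⟩ := Ideal.Quotient.mk_surjective m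
    have hm' : Ideal.Quotient.mk I (x * a) = 0 := by
      rw [← hm, map_mul]
      rfl
    rw [Ideal.Quotient.eq_zero_iff_mem] at hm' ⊢
    exact hx a hm'
  have h1 := idealDepth_quotSMulTop_add_one q (S ⧸ I) hIM x hxq hreg
  rw [Groth.Agent.Lib.Helper67.idealDepth_congr q (quotSMulTopEquiv I x)] at h1
  have h2 : (q.map (Ideal.Quotient.mk I)).height ≤ idealDepth q (S ⧸ I) :=
    le_idealDepth_quotient I q hCM _ (fun Q _ hle => Ideal.height_mono hle)
  have h3 : (q.map (Ideal.Quotient.mk (I ⊔ Ideal.span {x}))).height + 1 ≤ (q.map (Ideal.Quotient.mk I)).height + (0 : ℕ) := by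
    apply le_add_of_dim_formulas _ _ (ringKrullDim (S ⧸ q)) (e + 1) 0 (Nat.zero_le _)
    · have h4 := Hle q hqprime hLq
      have h5 : (((q.map (Ideal.Quotient.mk (I ⊔ Ideal.span {x}))).height + 1 : ℕ∞) : WithBot ℕ∞) + ringKrullDim (S ⧸ q) =
          ((((q.map (Ideal.Quotient.mk (I ⊔ Ideal.span {x}))).height : ℕ∞) : WithBot ℕ∞) + ringKrullDim (S ⧸ q)) + 1 := by
        rw [WithBot.coe_add, WithBot.coe_one]
        ring
      rw [h5, Nat.cast_add, Nat.cast_one]
      exact add_le_add_left h4 1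
    · rw [Nat.sub_zero]
      exact HI q hqprime hIq
  rw [Nat.cast_zero, add_zero] at h3
  rw [hdep, ← hqP]
  have h6 : (q.map (Ideal.Quotient.mk (I ⊔ Ideal.span {x}))).height + 1 ≤ idealDepth q (S ⧸ (I ⊔ Ideal.span {x})) + 1 := by
    rw [h1]
    exact h3.trans h2
  exact (ENat.add_le_add_iff_right ENat.one_ne_top).1 h6

end Groth.Agent.Lib.Helper99.CM
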