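import Groth.Agent.S0009
import Groth.Agent.Lib.Helper21.ClImmSupport
import Groth.Agent.Lib.Helper78.ModStalk
import Groth.Agent.Lib.Helper78.ModStalkExact
import Groth.Prelude.Def_FlatMod2
import Groth.Agent.Lib.Helper64.CohPush

/-!
# Pieces for Chevalley's theorem S0021 (helper99)

* `subsingleton_HH_of_retract`, `subsingleton_HH_of_coprod`: `H^p` vanishing passes to retracts, in
  particular from `F^{⊕ r}` to `F`.
* `subsingleton_HH_of_iso`.
* `support_push_structure`: the support of `g_* O_Z` is the range of `g` (closed range).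
* `smul_stalk_eq_zero`: for `Z` integral with generic point `η`, the stalk of `g_* O_Z` at `g η` is
  killed by the maximal ideal.
-/

set_option autoImplicit false
universe u

open AlgebraicGeometry CategoryTheory Opposite TopologicalSpace Limits

namespace Groth.Agent.Lib.Helper99.ChevA

open Groth.Agent.Lib.Helper78.ModStalkExact Abelian

variable {X : Scheme.{u}}

/-- vanishing of cohomology passes to retracts -/
theorem subsingleton_HH_of_retract {F N : X.Modules} (i : F ⟶ N) (r : N ⟶ F) (h : i ≫ r = 𝟙 F)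
    (p : ℕ) (hN : Subsingleton (Coh.HH X N p)) : Subsingleton (Coh.HH X F p) := by
  refine ⟨fun a b => ?_⟩
  suffices h0 : ∀ x : Coh.HH X F p, x = 0 from (h0 a).trans (h0 b).symm
  intro x
  have h1 : (SheafOfModules.toSheaf X.ringCatSheaf).map i ≫
      (SheafOfModules.toSheaf X.ringCatSheaf).map r = 𝟙 (Coh.toAb F) := by
    exact ((SheafOfModules.toSheaf X.ringCatSheaf).map_comp i r).symm.trans
      ((congrArg (fun φ => (SheafOfModules.toSheaf X.ringCatSheaf).map φ) h).trans
        ((SheafOfModules.toSheaf X.ringCatSheaf).map_id F))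
  have hx : x = x.comp (Ext.mk₀ (𝟙 (Coh.toAb F))) (add_zero p) := (Ext.comp_mk₀_id x).symm
  have hz : x.comp (Ext.mk₀ ((SheafOfModules.toSheaf X.ringCatSheaf).map i)) (add_zero p) = 0 :=
    @Subsingleton.elim (Coh.HH X N p) hN _ _
  rw [hx, ← h1, ← Ext.mk₀_comp_mk₀, ← Ext.comp_assoc_of_third_deg_zero, hz, Ext.zero_comp]

theorem subsingleton_HH_of_iso {F N : X.Modules} (e : F ≅ N) (p : ℕ)
    (hN : Subsingleton (Coh.HH X N p)) : Subsingleton (Coh.HH X F p) :=
  subsingleton_HH_of_retract e.hom e.inv e.hom_inv_id p hN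

theorem subsingleton_HH_of_coprod (F : X.Modules) (r : ℕ) (hr : 1 ≤ r) (p : ℕ)
    (h : Subsingleton (Coh.HH X (∐ fun _ : Fin r => F) p)) : Subsingleton (Coh.HH X F p) := by
  refine subsingleton_HH_of_retract (Sigma.ι (fun _ : Fin r => F) ⟨0, hr⟩)
    (Sigma.desc (fun _ => 𝟙 F)) ?_ p h
  simp

open Groth.Agent.Lib.Helper78.ModStalk

/-- the support of `g_* O_Z` contains the range of `g` -/
theorem range_subset_support_push_structure {Z : Scheme.{u}} (g : Z ⟶ X) :
    Set.range g ⊆ CohB1.support ((Coh.push g).obj (Coh.structureModule Z)) := by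
  rintro x ⟨z, rfl⟩ hsub
  -- the germ of `1` vanishes
  let G := (Coh.push g).obj (Coh.structureModule Z)
  let one : Γ(G, ⊤) := (1 : Γ(Z, g ⁻¹ᵁ ⊤))
  have h0 : G.presheaf.germ ⊤ (g z) trivial one = 0 := @Subsingleton.elim _ hsub _ _
  have h0' : G.presheaf.germ ⊤ (g z) trivial one = G.presheaf.germ ⊤ (g z) trivial 0 := by
    rw [h0, map_zero]
  obtain ⟨W, hW, iW, _, hres⟩ := TopCat.Presheaf.germ_eq G.presheaf (U := ⊤) (V := ⊤) (g z)
    trivial trivial one 0 h0'
  have h1 : (1 : Γ(Z, g ⁻¹ᵁ W)) = 0 := by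
    have := hres
    rw [map_zero] at this
    refine Eq.trans ?_ this
    change (1 : Γ(Z, g ⁻¹ᵁ W)) = (Z.presheaf.map ((Opens.map g.base).map iW).op).hom (1 : Γ(Z, g ⁻¹ᵁ ⊤))
    rw [map_one]
  have hsubs : Subsingleton Γ(Z, g ⁻¹ᵁ W) := subsingleton_of_zero_eq_one h1.symm
  have hne : Nonempty ((g ⁻¹ᵁ W : Z.Opens) : Scheme.{u}) := ⟨⟨z, hW⟩⟩
  have : Nontrivial Γ(Z, g ⁻¹ᵁ W) := inferInstance
  exact not_subsingleton _ hsubs

/-- the support of `g_* O_Z` is the range of `g`, when the range is closed -/
theorem support_push_structure_of_isClosed {Z : Scheme.{u}} (g : Z ⟶ X)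
    (hcl : IsClosed (Set.range g)) :
    CohB1.support ((Coh.push g).obj (Coh.structureModule Z)) = Set.range g :=
  le_antisymm
    (Groth.Agent.Lib.Helper21.ClImmSupport.support_pushforward_subset_range g hcl _)
    (range_subset_support_push_structure g)

/-- the support of `g_* O_Z` is the range of `g`, for `g` finite -/
theorem support_push_structure {Z : Scheme.{u}} (g : Z ⟶ X) [IsFinite g] :
    CohB1.support ((Coh.push g).obj (Coh.structureModule Z)) = Set.range g :=
  support_push_structure_of_isClosed g g.isClosedMap.isClosed_range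

/-- for `Z` integral with generic point `η`, the stalk of `g_* O_Z` at `g η` is killed by the
maximal ideal of `O_{X, g η}` -/
theorem smul_stalk_eq_zero {Z : Scheme.{u}} (g : Z ⟶ X) [IsIntegral Z] :
    ∀ a ∈ IsLocalRing.maximalIdeal (X.presheaf.stalk (g (genericPoint Z))),
      ∀ m : ((Coh.push g).obj (Coh.structureModule Z)).presheaf.stalk (g (genericPoint Z)),
        a • m = 0 := by
  intro a ha m
  obtain ⟨W, hxW, r', m', rfl, rfl⟩ :=
    exists_germ_eq₂ ((Coh.push g).obj (Coh.structureModule Z)) (g (genericPoint Z)) a m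
  rw [← germ_smul]
  -- `r'` vanishes at `ξ`, hence its pullback vanishes at the generic point of `Z`, hence is zero
  have hnu : ¬ IsUnit (X.presheaf.germ W (g (genericPoint Z)) hxW r') := ha
  have hnot : g (genericPoint Z) ∉ X.basicOpen r' := fun h =>
    hnu ((X.mem_basicOpen r' (g (genericPoint Z)) hxW).mp h)
  have hpre : genericPoint Z ∉ Z.basicOpen ((g.app W).hom r') := by
    rw [← Scheme.preimage_basicOpen]
    exact hnot
  have hbot : Z.basicOpen ((g.app W).hom r') = ⊥ := by
    by_contra hne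
    have hne' : ((Z.basicOpen ((g.app W).hom r') : Z.Opens) : Set Z).Nonempty :=
      Set.nonempty_iff_ne_empty.mpr (fun h => hne (SetLike.coe_injective (by simpa using h)))
    exact hpre (((genericPoint_spec Z).mem_open_set_iff (Z.basicOpen _).isOpen).mpr
      (by simpa [Set.inter_univ] using hne'))
  have hzero : (g.app W).hom r' = 0 := (basicOpen_eq_bot_iff _).mp hbot
  have : r' • m' = 0 := by
    refine (Groth.Agent.Lib.Helper64.CohPush.pushforward_smul g _ W r' m').trans ?_
    rw [hzero, zero_smul]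
    rfl
  rw [this]
  exact map_zero _

end Groth.Agent.Lib.Helper99.ChevA
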