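import Mathlib

/-!
# The scheme-theoretic image of an integral scheme is integral (helper99, for helper70's S7909)
-/

set_option autoImplicit false
universe u
open CategoryTheory CategoryTheory.Limits AlgebraicGeometry

namespace Groth.Agent.Lib.Helper99.ContrINT

/-- sections of the scheme-theoretic image inject into sections of the source, over every open -/
theorem toImage_app_injective {X P : Scheme.{u}} (h : X ⟶ P) [QuasiCompact h]
    (W : h.image.Opens) : Function.Injective (h.toImage.app W) := by
  rw [injective_iff_map_eq_zero]
  intro s hs
  refine h.image.IsSheaf.section_ext fun x hx ↦ ?_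
  obtain ⟨_, ⟨_, ⟨U, hU, rfl⟩, rfl⟩, hxU, hUW⟩ :=
    (P.isBasis_affineOpens.of_isInducing h.imageι.isEmbedding.isInducing).exists_subset_of_mem_open
      hx W.isOpen
  refine ⟨h.imageι ⁻¹ᵁ U, hUW, hxU, ?_⟩
  apply h.toImage_app_injective ⟨U, hU⟩
  rw [map_zero, map_zero, ← ConcreteCategory.comp_apply, h.toImage.naturality]
  simp [hs]

/-- the scheme-theoretic image of a reduced scheme is reduced -/
theorem isReduced_image {X P : Scheme.{u}} [IsReduced X] (h : X ⟶ P) [QuasiCompact h] :
    IsReduced h.image :=
  ⟨fun W ↦ isReduced_of_injective _ (toImage_app_injective h W)⟩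

/-- the scheme-theoretic image of an integral scheme is integral -/
theorem isIntegral_image {X P : Scheme.{u}} [IsIntegral X] (h : X ⟶ P) [QuasiCompact h] :
    IsIntegral h.image := by
  have : IsReduced h.image := isReduced_image h
  have : IrreducibleSpace h.image := by
    have hd : DenseRange h.toImage := h.toImage.denseRange
    have hirr : IsIrreducible (Set.univ : Set h.image) := by
      have h1 : IsIrreducible (Set.range h.toImage) := by
        rw [← Set.image_univ]
        exact (IrreducibleSpace.isIrreducible_univ X).image _ h.toImage.continuous.continuousOn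
      have h2 := h1.closure
      rwa [hd.closure_range] at h2
    exact @IrreducibleSpace.mk _ _ ⟨hirr.2⟩ ⟨hirr.1.some⟩
  exact isIntegral_of_irreducibleSpace_of_isReduced _

end Groth.Agent.Lib.Helper99.ContrINT
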