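import Mathlib

/-!
# Compatible families over complete Noetherian local flat algebras: dévissage (helper99)

`Obj A` bundles an `A`-algebra `B` that is a complete Noetherian local ring flat over `A`;
`Fam A M` is a compatible family of elements `x_B ∈ B ⊗[A] M`; `Good A M` says that every
compatible family comes from an element of `M`.  We show `Good` is stable under extensions.
-/

set_option autoImplicit false
open TensorProduct IsLocalRing

namespace Groth.Agent.Lib.Helper99.CplFam

universe u

/-- A complete Noetherian local ring flat over `A`. -/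
structure Obj (A : Type u) [CommRing A] where
  B : Type u
  [ring : CommRing B]
  [alg : Algebra A B]
  [noeth : IsNoetherianRing B]
  [loc : IsLocalRing B]
  [cpl : IsAdicComplete (maximalIdeal B) B]
  [flat : Module.Flat A B]

attribute [instance] Obj.ring Obj.alg Obj.noeth Obj.loc Obj.cpl Obj.flat

variable (A : Type u) [CommRing A]

/-- A compatible family of elements of `B ⊗[A] M`. -/
structure Fam (M : Type u) [AddCommGroup M] [Module A M] where
  x : ∀ o : Obj A, o.B ⊗[A] M
  compat : ∀ (o o' : Obj A) (g : o.B →ₐ[A] o'.B),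
    LinearMap.rTensor M g.toLinearMap (x o) = x o'

/-- every compatible family is constant. -/
def Good (M : Type u) [AddCommGroup M] [Module A M] : Prop :=
  ∀ F : Fam A M, ∃ m : M, ∀ o : Obj A, F.x o = (1 : o.B) ⊗ₜ[A] m

variable {A}

theorem good_of_subsingleton (M : Type u) [AddCommGroup M] [Module A M] [Subsingleton M] :
    Good A M := by
  intro F
  refine ⟨0, fun o => ?_⟩
  haveI : Subsingleton (o.B ⊗[A] M) := inferInstance
  exact Subsingleton.elim _ _

theorem good_of_exact {N₁ N₂ N₃ : Type u} [AddCommGroup N₁] [Module A N₁] [AddCommGroup N₂]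
    [Module A N₂] [AddCommGroup N₃] [Module A N₃] (f : N₁ →ₗ[A] N₂) (g : N₂ →ₗ[A] N₃)
    (hf : Function.Injective f) (hg : Function.Surjective g) (hex : Function.Exact f g)
    (h₁ : Good A N₁) (h₃ : Good A N₃) : Good A N₂ := by
  intro F
  -- push forward to `N₃`
  let F₃ : Fam A N₃ :=
    { x := fun o => LinearMap.lTensor o.B g (F.x o)
      compat := fun o o' k => by
        rw [← F.compat o o' k]
        rw [← LinearMap.comp_apply, ← LinearMap.comp_apply, LinearMap.rTensor_comp_lTensor,
          LinearMap.lTensor_comp_rTensor] }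
  obtain ⟨m₃, hm₃⟩ := h₃ F₃
  obtain ⟨m₂, rfl⟩ := hg m₃
  have hker : ∀ o : Obj A, ∃ y : o.B ⊗[A] N₁,
      LinearMap.lTensor o.B f y = F.x o - (1 : o.B) ⊗ₜ[A] m₂ := by
    intro o
    have hex' := lTensor_exact o.B hex hg
    refine (hex' _).mp ?_
    rw [map_sub, LinearMap.lTensor_tmul]
    exact sub_eq_zero.mpr (hm₃ o)
  choose y hy using hker
  have hinj : ∀ o : Obj A, Function.Injective (LinearMap.lTensor o.B f) := fun o =>
    Module.Flat.lTensor_preserves_injective_linearMap f hf
  let F₁ : Fam A N₁ :=
    { x := y
      compat := fun o o' k => by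
        apply hinj o'
        rw [hy o', ← F.compat o o' k]
        rw [← LinearMap.comp_apply, LinearMap.lTensor_comp_rTensor,
          ← LinearMap.rTensor_comp_lTensor, LinearMap.comp_apply, hy o, map_sub,
          LinearMap.rTensor_tmul]
        simp }
  obtain ⟨m₁, hm₁⟩ := h₁ F₁
  refine ⟨m₂ + f m₁, fun o => ?_⟩
  have h := hy o
  rw [show y o = F₁.x o from rfl, hm₁ o, LinearMap.lTensor_tmul] at h
  rw [tmul_add, h]
  abel

end Groth.Agent.Lib.Helper99.CplFam
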