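import Groth.Agent.Lib.Helper99.CplFamA
import Groth.Agent.S0543

set_option autoImplicit false
open TensorProduct IsLocalRing

namespace Groth.Agent.Lib.Helper99.CplFam

universe u

variable {A : Type u} [CommRing A]

/-- completion of a Noetherian local flat `A`-algebra as an object. -/
noncomputable abbrev Obj.ofLocal (R : Type u) [CommRing R] [Algebra A R] [IsNoetherianRing R]
    [IsLocalRing R] [Module.Flat A R] : Obj A :=
  letI : IsNoetherianRing (AdicCompletion (maximalIdeal R) R) := Groth.Agent.S0543.result R _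
  letI : Module.Flat A (AdicCompletion (maximalIdeal R) R) :=
    Module.Flat.trans A R (AdicCompletion (maximalIdeal R) R)
  { B := AdicCompletion (maximalIdeal R) R }

section lift

variable (R : Type u) [CommRing R] [Algebra A R] [IsNoetherianRing R] [IsLocalRing R]
  (C : Type u) [CommRing C] [Algebra A C] [IsLocalRing C] [IsAdicComplete (maximalIdeal C) C]
  (φ : R →ₐ[A] C) (hφ : (maximalIdeal R).map φ ≤ maximalIdeal C)

include hφ in
theorem pow_le_comap (n : ℕ) : maximalIdeal R ^ n ≤ (maximalIdeal C ^ n).comap φ := by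
  rw [← Ideal.map_le_iff_le_comap]
  have h1 : (maximalIdeal R ^ n).map (φ : R →+* C) = ((maximalIdeal R).map (φ : R →+* C)) ^ n :=
    Ideal.map_pow _ _ _
  exact h1.le.trans (Ideal.pow_right_mono hφ n)

/-- the level maps. -/
noncomputable def liftLevel (n : ℕ) :
    AdicCompletion (maximalIdeal R) R →ₐ[A] C ⧸ maximalIdeal C ^ n :=
  (Ideal.quotientMapₐ (maximalIdeal C ^ n) φ (pow_le_comap R C φ hφ n)).comp
    ((AdicCompletion.evalₐ (maximalIdeal R) n).restrictScalars A)

theorem liftLevel_mk (n : ℕ) (a : AdicCompletion.AdicCauchySequence (maximalIdeal R) R) :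
    liftLevel R C φ hφ n (AdicCompletion.mk (maximalIdeal R) R a) =
      Ideal.Quotient.mk (maximalIdeal C ^ n) (φ (a.val n)) := by
  unfold liftLevel
  rw [AlgHom.comp_apply, AlgHom.restrictScalars_apply, AdicCompletion.evalₐ_mk]
  rfl

theorem liftLevel_compat {m n : ℕ} (hle : m ≤ n) :
    (Ideal.Quotient.factorₐ A (Ideal.pow_le_pow_right hle)).comp (liftLevel R C φ hφ n) =
      liftLevel R C φ hφ m := by
  ext x
  obtain ⟨a, rfl⟩ := AdicCompletion.mk_surjective (maximalIdeal R) R x
  rw [AlgHom.comp_apply, liftLevel_mk, liftLevel_mk, Ideal.Quotient.factorₐ_apply_mk,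
    Ideal.Quotient.eq, ← map_sub]
  have h1 : a.val n - a.val m ∈ maximalIdeal R ^ m := by
    have h2 := a.property hle
    rw [SModEq.sub_mem] at h2
    have h3 : a.val m - a.val n ∈ maximalIdeal R ^ m := by
      simpa using h2
    have := neg_mem h3
    simpa using this
  exact pow_le_comap R C φ hφ m h1

/-- the lift of a local homomorphism to the completion. -/
noncomputable def liftCompletion : AdicCompletion (maximalIdeal R) R →ₐ[A] C :=
  IsAdicComplete.liftAlgHom (maximalIdeal C) (liftLevel R C φ hφ)
    (fun hle => liftLevel_compat R C φ hφ hle)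

end lift

end Groth.Agent.Lib.Helper99.CplFam
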