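import Groth.Agent.Lib.Helper99.CplFamB

set_option autoImplicit false
open TensorProduct IsLocalRing

namespace Groth.Agent.Lib.Helper99.CplFam

universe u

variable {A : Type u} [CommRing A] (p : Ideal A) (B : Type u) [CommRing B] [Algebra A B]

theorem exists_eq_tmul_one (y : B ⊗[A] (A ⧸ p)) : ∃ β : B, y = β ⊗ₜ[A] (1 : A ⧸ p) := by
  induction y using TensorProduct.induction_on with
  | zero => exact ⟨0, (zero_tmul _ _).symm⟩
  | tmul b c =>
    obtain ⟨c, rfl⟩ := Ideal.Quotient.mk_surjective c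
    refine ⟨c • b, ?_⟩
    rw [TensorProduct.smul_tmul]
    congr 1
    rw [Algebra.smul_def, mul_one]
    rfl
  | add y₁ y₂ h₁ h₂ =>
    obtain ⟨β₁, rfl⟩ := h₁
    obtain ⟨β₂, rfl⟩ := h₂
    exact ⟨β₁ + β₂, (add_tmul _ _ _).symm⟩

theorem smul_eq_zero_of_mem (a : A) (ha : a ∈ p) (y : B ⊗[A] (A ⧸ p)) : a • y = 0 := by
  obtain ⟨β, rfl⟩ := exists_eq_tmul_one p B y
  rw [TensorProduct.smul_tmul', TensorProduct.smul_tmul]
  have : a • (1 : A ⧸ p) = 0 := by
    rw [Algebra.smul_def, mul_one]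
    exact Ideal.Quotient.eq_zero_iff_mem.mpr ha
  rw [this, tmul_zero]

theorem smul_injective_of_not_mem [p.IsPrime] [Module.Flat A B] (s : A) (hs : s ∉ p) :
    Function.Injective (fun y : B ⊗[A] (A ⧸ p) => s • y) := by
  let μ : (A ⧸ p) →ₗ[A] (A ⧸ p) := LinearMap.lsmul A (A ⧸ p) s
  have hμ : Function.Injective μ := by
    intro c₁ c₂ h
    have h' : s • c₁ = s • c₂ := h
    rw [Algebra.smul_def, Algebra.smul_def] at h'
    have hne : algebraMap A (A ⧸ p) s ≠ 0 := by
      intro h0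
      exact hs (Ideal.Quotient.eq_zero_iff_mem.mp h0)
    exact mul_left_cancel₀ hne h'
  have h1 := Module.Flat.lTensor_preserves_injective_linearMap (M := B) μ hμ
  have h2 : (fun y : B ⊗[A] (A ⧸ p) => s • y) = LinearMap.lTensor B μ := by
    funext y
    induction y using TensorProduct.induction_on with
    | zero => simp
    | tmul b c => simp [μ, TensorProduct.tmul_smul]
    | add y₁ y₂ h₁ h₂ => simp only [smul_add, map_add, h₁, h₂]
  rw [h2]
  exact h1

theorem mem_map_of_tmul_one_eq_zero (β : B) (h : β ⊗ₜ[A] (1 : A ⧸ p) = 0) :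
    β ∈ p.map (algebraMap A B) := by
  have h3 := congrArg (TensorProduct.tensorQuotEquivQuotSMul B p) h
  rw [show (1 : A ⧸ p) = Ideal.Quotient.mk p 1 from rfl,
    TensorProduct.tensorQuotEquivQuotSMul_tmul_mk, map_zero, one_smul,
    Submodule.Quotient.mk_eq_zero] at h3
  rw [Ideal.smul_top_eq_map] at h3
  exact h3

end Groth.Agent.Lib.Helper99.CplFam
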