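import Groth.Agent.Lib.Helper99.CplFamC

set_option autoImplicit false
open TensorProduct IsLocalRing

namespace Groth.Agent.Lib.Helper99.CplFam

universe u

variable {A : Type u} [CommRing A] [IsNoetherianRing A] (p : Ideal A) [p.IsPrime]

instance : IsNoetherianRing (Localization.AtPrime p) :=
  IsLocalization.isNoetherianRing p.primeCompl _ inferInstance

instance : Module.Flat A (Localization.AtPrime p) := IsLocalization.flat _ p.primeCompl

/-- the completed local ring at `p`. -/
abbrev Ahat : Type u :=
  AdicCompletion (maximalIdeal (Localization.AtPrime p)) (Localization.AtPrime p)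

theorem maximalIdeal_Ahat :
    maximalIdeal (Ahat p) = p.map (algebraMap A (Ahat p)) := by
  have h1 : maximalIdeal (Ahat p) = (maximalIdeal (Localization.AtPrime p)).map
      (algebraMap (Localization.AtPrime p) (Ahat p)) := AdicCompletion.maximalIdeal_eq_map
  have h2 : maximalIdeal (Localization.AtPrime p) = p.map (algebraMap A (Localization.AtPrime p)) :=
    Localization.AtPrime.map_eq_maximalIdeal.symm
  have h3 := congrArg (Ideal.map (algebraMap (Localization.AtPrime p) (Ahat p))) h2
  rw [h1, h3, Ideal.map_map, ← IsScalarTower.algebraMap_eq]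

/-- generic value: every element of `Â_p ⊗ A/p` is a fraction. -/
theorem exists_smul_eq_tmul (y : (Ahat p) ⊗[A] (A ⧸ p)) :
    ∃ s : A, s ∉ p ∧ ∃ a : A, s • y = (1 : Ahat p) ⊗ₜ[A] (Ideal.Quotient.mk p a) := by
  obtain ⟨β, rfl⟩ := exists_eq_tmul_one p (Ahat p) y
  -- residue field surjectivity
  have hbij := AdicCompletion.residueField_map_bijective (Localization.AtPrime p)
  obtain ⟨r, hr⟩ := hbij.2 (residue _ β)
  obtain ⟨r, rfl⟩ := residue_surjective r
  rw [ResidueField.map_residue] at hr
  have hmem : β - algebraMap (Localization.AtPrime p) _ r ∈ maximalIdeal (Ahat p) := by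
    rw [← residue_eq_zero_iff, map_sub, hr, sub_self]
  obtain ⟨a, s, rfl⟩ := IsLocalization.exists_mk'_eq p.primeCompl r
  refine ⟨s.1, s.2, a, ?_⟩
  rw [maximalIdeal_Ahat] at hmem
  set ν := β - algebraMap (Localization.AtPrime p) (Ahat p) (IsLocalization.mk' _ a s) with hν
  have hν0 : ν ⊗ₜ[A] (1 : A ⧸ p) = 0 := by
    refine Submodule.span_induction (p := fun w _ => w ⊗ₜ[A] (1 : A ⧸ p) = 0) ?_ ?_ ?_ ?_ hmem
    · rintro _ ⟨c, hc, rfl⟩
      rw [Algebra.algebraMap_eq_smul_one, TensorProduct.smul_tmul]
      have : c • (1 : A ⧸ p) = 0 := by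
        rw [Algebra.smul_def, mul_one]
        exact Ideal.Quotient.eq_zero_iff_mem.mpr hc
      rw [this, tmul_zero]
    · exact zero_tmul _ _
    · intro w₁ w₂ _ _ h₁ h₂
      rw [add_tmul, h₁, h₂, add_zero]
    · intro b w _ hw
      have : (b • w) ⊗ₜ[A] (1 : A ⧸ p) = b • (w ⊗ₜ[A] (1 : A ⧸ p)) := rfl
      rw [this, hw, smul_zero]
  have hβ : β = ν + algebraMap (Localization.AtPrime p) (Ahat p) (IsLocalization.mk' _ a s) := by
    rw [hν]; ring
  have hs : s.1 • algebraMap (Localization.AtPrime p) (Ahat p) (IsLocalization.mk' _ a s) =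
      algebraMap A (Ahat p) a := by
    rw [Algebra.smul_def, IsScalarTower.algebraMap_apply A (Localization.AtPrime p) (Ahat p),
      ← map_mul, IsLocalization.mk'_spec', ← IsScalarTower.algebraMap_apply]
  rw [hβ, add_tmul, smul_add, hν0, smul_zero, zero_add, TensorProduct.smul_tmul', hs,
    Algebra.algebraMap_eq_smul_one, TensorProduct.smul_tmul]
  congr 1
  rw [Algebra.smul_def, mul_one]
  rfl

end Groth.Agent.Lib.Helper99.CplFam

namespace Groth.Agent.Lib.Helper99.CplFam

universe u

variable {A : Type u} [CommRing A] [IsNoetherianRing A] (p : Ideal A) [p.IsPrime]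

/-- the map from the completed local ring at `p` to a complete local `A`-algebra centred at `p`. -/
theorem exists_algHom_of_comap_eq (C : Type u) [CommRing C] [Algebra A C] [IsLocalRing C]
    [IsAdicComplete (maximalIdeal C) C]
    (hC : (maximalIdeal C).comap (algebraMap A C) = p) : Nonempty (Ahat p →ₐ[A] C) := by
  have hunit : ∀ y : p.primeCompl, IsUnit (algebraMap A C y) := by
    intro y
    by_contra hy
    have h1 : algebraMap A C y ∈ maximalIdeal C := (mem_maximalIdeal _).mpr hy
    have h2 : (y : A) ∈ (maximalIdeal C).comap (algebraMap A C) := h1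
    rw [hC] at h2
    exact y.2 h2
  let φ : Localization.AtPrime p →ₐ[A] C :=
    IsLocalization.liftAlgHom (M := p.primeCompl) (f := Algebra.ofId A C) hunit
  have hφ : (maximalIdeal (Localization.AtPrime p)).map φ ≤ maximalIdeal C := by
    have h2 : maximalIdeal (Localization.AtPrime p) =
        p.map (algebraMap A (Localization.AtPrime p)) :=
      Localization.AtPrime.map_eq_maximalIdeal.symm
    rw [h2, Ideal.map_le_iff_le_comap, Ideal.map_le_iff_le_comap]
    intro a ha
    rw [Ideal.mem_comap, Ideal.mem_comap]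
    have h3 : φ (algebraMap A (Localization.AtPrime p) a) = algebraMap A C a := φ.commutes a
    change φ (algebraMap A (Localization.AtPrime p) a) ∈ _
    rw [h3]
    have : a ∈ (maximalIdeal C).comap (algebraMap A C) := hC ▸ ha
    exact this
  exact ⟨liftCompletion (Localization.AtPrime p) C φ hφ⟩

end Groth.Agent.Lib.Helper99.CplFam
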