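import Groth.Agent.Lib.Helper99.CplFamD

set_option autoImplicit false
open TensorProduct IsLocalRing

namespace Groth.Agent.Lib.Helper99.CplFam

universe u

section general

variable {A : Type u} [CommRing A] (B C : Type u) [CommRing B] [CommRing C] [Algebra A B]
  [Algebra A C] [Algebra B C] [IsScalarTower A B C] (N : Type u) [AddCommGroup N] [Module A N]

/-- `rTensor` along `B → C` is base change. -/
theorem rTensor_toAlgHom_eq (w : B ⊗[A] N) :
    LinearMap.rTensor N (IsScalarTower.toAlgHom A B C).toLinearMap w =
      TensorProduct.AlgebraTensorModule.cancelBaseChange A B C C N ((1 : C) ⊗ₜ[B] w) := by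
  induction w using TensorProduct.induction_on with
  | zero => simp
  | tmul b n =>
    rw [TensorProduct.AlgebraTensorModule.cancelBaseChange_tmul, LinearMap.rTensor_tmul]
    congr 1
    rw [Algebra.smul_def, mul_one]
    rfl
  | add w₁ w₂ h₁ h₂ => rw [map_add, h₁, h₂, tmul_add, map_add]

theorem rTensor_injective_of_faithfullyFlat [Module.FaithfullyFlat B C] :
    Function.Injective (LinearMap.rTensor N (IsScalarTower.toAlgHom A B C).toLinearMap) := by
  intro w₁ w₂ h
  rw [rTensor_toAlgHom_eq, rTensor_toAlgHom_eq] at h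
  have h' := (TensorProduct.AlgebraTensorModule.cancelBaseChange A B C C N).injective h
  exact Module.FaithfullyFlat.tensorProduct_mk_injective (A := B) (B := C) (B ⊗[A] N) h'

end general

variable {A : Type u} [CommRing A] (B : Type u) [CommRing B] [Algebra A B] [IsNoetherianRing B]
  (P : Ideal B) [P.IsPrime] (N : Type u) [AddCommGroup N] [Module A N]

theorem exists_smul_eq_zero_of_rTensor_eq_zero (z : B ⊗[A] N)
    (hz : LinearMap.rTensor N (IsScalarTower.toAlgHom A B (Ahat P)).toLinearMap z = 0) :
    ∃ t : B, t ∉ P ∧ t • z = 0 := by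
  haveI : Module.FaithfullyFlat (Localization.AtPrime P) (Ahat P) :=
    Module.FaithfullyFlat.of_flat_of_isLocalHom
  have hcomp : (IsScalarTower.toAlgHom A B (Ahat P)).toLinearMap =
      (IsScalarTower.toAlgHom A (Localization.AtPrime P) (Ahat P)).toLinearMap ∘ₗ
        (IsScalarTower.toAlgHom A B (Localization.AtPrime P)).toLinearMap := by
    ext b
    simp [IsScalarTower.algebraMap_apply B (Localization.AtPrime P) (Ahat P)]
  rw [hcomp, LinearMap.rTensor_comp, LinearMap.comp_apply] at hz
  have h0 : LinearMap.rTensor N (IsScalarTower.toAlgHom A B (Localization.AtPrime P)).toLinearMap z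
      = 0 := by
    apply rTensor_injective_of_faithfullyFlat (Localization.AtPrime P) (Ahat P) N
    rw [hz, map_zero]
  rw [rTensor_toAlgHom_eq, LinearEquiv.map_eq_zero_iff] at h0
  haveI : IsLocalizedModule P.primeCompl
      (TensorProduct.mk B (Localization.AtPrime P) (B ⊗[A] N) 1) :=
    (isLocalizedModule_iff_isBaseChange P.primeCompl (Localization.AtPrime P) _).mpr
      (TensorProduct.isBaseChange B (B ⊗[A] N) (Localization.AtPrime P))
  have h1 : (TensorProduct.mk B (Localization.AtPrime P) (B ⊗[A] N) 1) z = 0 := h0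
  obtain ⟨t, ht⟩ := (IsLocalizedModule.eq_zero_iff P.primeCompl
    (TensorProduct.mk B (Localization.AtPrime P) (B ⊗[A] N) 1)).mp h1
  exact ⟨t.1, t.2, ht⟩

end Groth.Agent.Lib.Helper99.CplFam
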