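import Groth.Agent.Lib.Helper99.CplFamE

set_option autoImplicit false
open TensorProduct IsLocalRing

namespace Groth.Agent.Lib.Helper99.CplFam

universe u

variable {A : Type u} [CommRing A] [IsNoetherianRing A] (p : Ideal A) [p.IsPrime]

/-- the completed local ring at `p` as an object. -/
noncomputable abbrev objAt : Obj A := Obj.ofLocal (Localization.AtPrime p)

/-- the completed local ring of an object at a prime, as an object. -/
noncomputable abbrev Obj.at (o : Obj A) (P : Ideal o.B) [P.IsPrime] : Obj A :=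
  haveI : Module.Flat A (Localization.AtPrime P) := Module.Flat.trans A o.B _
  Obj.ofLocal (Localization.AtPrime P)

theorem comap_maximalIdeal_Ahat (B : Type u) [CommRing B] [Algebra A B] [IsNoetherianRing B]
    (P : Ideal B) [P.IsPrime] :
    (maximalIdeal (Ahat P)).comap (algebraMap A (Ahat P)) = P.comap (algebraMap A B) := by
  have h1 : (maximalIdeal (Ahat P)).comap (algebraMap (Localization.AtPrime P) (Ahat P)) =
      maximalIdeal (Localization.AtPrime P) := by
    ext r
    rw [Ideal.mem_comap, mem_maximalIdeal, mem_maximalIdeal, mem_nonunits_iff, mem_nonunits_iff,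
      not_iff_not]
    exact isUnit_map_iff (algebraMap (Localization.AtPrime P) (Ahat P)) r
  have h2 : (maximalIdeal (Localization.AtPrime P)).comap (algebraMap B (Localization.AtPrime P))
      = P := Localization.AtPrime.under_maximalIdeal
  rw [IsScalarTower.algebraMap_eq A B (Ahat P),
    IsScalarTower.algebraMap_eq B (Localization.AtPrime P) (Ahat P), ← Ideal.comap_comap,
    ← Ideal.comap_comap, h1, h2]

theorem claim1 (F : Fam A (A ⧸ p)) (s a : A)
    (hsa : s • F.x (objAt p) = (1 : (objAt p).B) ⊗ₜ[A] (Ideal.Quotient.mk p a))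
    (o : Obj A) (ho : (maximalIdeal o.B).comap (algebraMap A o.B) = p) :
    s • F.x o = (1 : o.B) ⊗ₜ[A] (Ideal.Quotient.mk p a) := by
  obtain ⟨g⟩ := exists_algHom_of_comap_eq p o.B ho
  have hc := F.compat (objAt p) o g
  rw [← hc, ← map_smul, hsa, LinearMap.rTensor_tmul]
  simp

theorem claim2 (F : Fam A (A ⧸ p)) (s a : A)
    (hsa : s • F.x (objAt p) = (1 : (objAt p).B) ⊗ₜ[A] (Ideal.Quotient.mk p a))
    (o : Obj A) :
    s • F.x o = (1 : o.B) ⊗ₜ[A] (Ideal.Quotient.mk p a) := by
  by_contra hne
  set z : o.B ⊗[A] (A ⧸ p) := s • F.x o - (1 : o.B) ⊗ₜ[A] (Ideal.Quotient.mk p a) with hz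
  have hz0 : z ≠ 0 := sub_ne_zero.mpr hne
  have hz0' : (⟨z, Submodule.mem_span_singleton_self z⟩ : Submodule.span o.B {z}) ≠ 0 := by
    intro h
    exact hz0 (congrArg Subtype.val h)
  obtain ⟨P, hP, -⟩ := exists_le_isAssociatedPrime_of_isNoetherianRing o.B _ hz0'
  obtain ⟨hPprime, ⟨w, hwmem⟩, hw⟩ := isAssociatedPrime_iff.mp hP
  obtain ⟨b, rfl⟩ := Submodule.mem_span_singleton.mp hwmem
  have hmemP : ∀ t : o.B, t ∈ P ↔ t • (b • z) = 0 := by
    intro t
    rw [hw, Submodule.mem_colon_singleton, Submodule.mem_bot]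
    constructor
    · intro h
      exact congrArg Subtype.val h
    · intro h
      exact Subtype.ext h
  have hbz : b • z ≠ 0 := by
    intro h
    have h1 : (1 : o.B) ∈ P := (hmemP 1).mpr (by rw [one_smul, h])
    exact hPprime.ne_top ((Ideal.eq_top_iff_one P).mpr h1)
  have hPA : P.comap (algebraMap A o.B) = p := by
    ext c
    rw [Ideal.mem_comap, hmemP, algebraMap_smul]
    constructor
    · intro h
      by_contra hc
      exact hbz (smul_injective_of_not_mem p o.B c hc (by simpa using h))
    · intro hc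
      exact smul_eq_zero_of_mem p o.B c hc _
  have ho' : (maximalIdeal (o.at P).B).comap (algebraMap A (o.at P).B) = p := by
    rw [← hPA]
    exact comap_maximalIdeal_Ahat o.B P
  have h1 := claim1 p F s a hsa (o.at P) ho'
  have hc := F.compat o (o.at P) (IsScalarTower.toAlgHom A o.B (Ahat P))
  have hzero : LinearMap.rTensor (A ⧸ p) (IsScalarTower.toAlgHom A o.B (Ahat P)).toLinearMap z
      = 0 := by
    rw [hz, map_sub, map_smul, hc, LinearMap.rTensor_tmul]
    rw [show (IsScalarTower.toAlgHom A o.B (Ahat P)).toLinearMap (1 : o.B) = (1 : Ahat P) by simp]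
    exact sub_eq_zero.mpr h1
  obtain ⟨t, htP, htz⟩ := exists_smul_eq_zero_of_rTensor_eq_zero o.B P (A ⧸ p) z hzero
  apply htP
  rw [hmemP, smul_comm, htz, smul_zero]

theorem claim3 (F : Fam A (A ⧸ p)) (s a : A)
    (h2 : ∀ o : Obj A, s • F.x o = (1 : o.B) ⊗ₜ[A] (Ideal.Quotient.mk p a)) :
    ∃ d : A, a - s * d ∈ p := by
  by_contra hcon
  push Not at hcon
  set I : Ideal A := Ideal.span {s} ⊔ p with hI
  set J : Ideal A := Submodule.colon I {a} with hJ
  have hJtop : J ≠ ⊤ := by
    intro htop
    have h1 : (1 : A) ∈ J := htop ▸ Submodule.mem_top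
    rw [hJ, Submodule.mem_colon_singleton, one_smul, hI, Submodule.mem_sup] at h1
    obtain ⟨y, hy, c, hc, hyc⟩ := h1
    obtain ⟨d, rfl⟩ := Ideal.mem_span_singleton'.mp hy
    apply hcon d
    rw [← hyc]
    have : d * s + c - s * d = c := by ring
    rw [this]
    exact hc
  obtain ⟨q, hqmax, hJq⟩ := Ideal.exists_le_maximal J hJtop
  haveI := hqmax.isPrime
  obtain ⟨β, hβ⟩ := exists_eq_tmul_one p (Ahat q) (F.x (objAt q))
  have h3 := h2 (objAt q)
  rw [hβ] at h3
  have h4 : (s • β - algebraMap A (Ahat q) a) ⊗ₜ[A] (1 : A ⧸ p) = 0 := by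
    rw [sub_tmul, ← TensorProduct.smul_tmul', h3, Algebra.algebraMap_eq_smul_one,
      TensorProduct.smul_tmul]
    have : a • (1 : A ⧸ p) = Ideal.Quotient.mk p a := by
      rw [Algebra.smul_def, mul_one]
      rfl
    rw [this, sub_self]
  have h5 := mem_map_of_tmul_one_eq_zero p (Ahat q) _ h4
  have h6 : algebraMap A (Ahat q) a ∈ I.map (algebraMap A (Ahat q)) := by
    have h7 : s • β ∈ I.map (algebraMap A (Ahat q)) := by
      rw [Algebra.smul_def]
      apply Ideal.mul_mem_right
      apply Ideal.mem_map_of_mem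
      exact Ideal.mem_sup_left (Ideal.mem_span_singleton_self s)
    have h8 : s • β - algebraMap A (Ahat q) a ∈ I.map (algebraMap A (Ahat q)) :=
      Ideal.map_mono (le_sup_right) h5
    have := sub_mem h7 h8
    simpa using this
  haveI : Module.FaithfullyFlat (Localization.AtPrime q) (Ahat q) :=
    Module.FaithfullyFlat.of_flat_of_isLocalHom
  have h9 : algebraMap A (Localization.AtPrime q) a ∈ I.map (algebraMap A (Localization.AtPrime q)) := by
    rw [← Ideal.comap_map_eq_self_of_faithfullyFlat (B := Ahat q)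
      (I.map (algebraMap A (Localization.AtPrime q))), Ideal.mem_comap, Ideal.map_map,
      ← IsScalarTower.algebraMap_eq, ← IsScalarTower.algebraMap_apply]
    exact h6
  obtain ⟨⟨i, t⟩, hit⟩ := (IsLocalization.mem_map_algebraMap_iff q.primeCompl
    (Localization.AtPrime q)).mp h9
  rw [← map_mul] at hit
  obtain ⟨c, hc⟩ := (IsLocalization.eq_iff_exists q.primeCompl (Localization.AtPrime q)).mp hit
  have hmem : (c : A) * (t : A) ∈ J := by
    rw [hJ, Submodule.mem_colon_singleton, smul_eq_mul]
    have : (c : A) * (t : A) * a = (c : A) * (i : A) := by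
      rw [← hc]; ring
    rw [this]
    exact Ideal.mul_mem_left _ _ i.2
  have hq := hJq hmem
  rcases (Ideal.IsPrime.mem_or_mem inferInstance hq) with h | h
  · exact c.2 h
  · exact t.2 h

theorem good_quot_prime : Good A (A ⧸ p) := by
  intro F
  obtain ⟨s, hs, a, hsa⟩ := exists_smul_eq_tmul p (F.x (objAt p))
  have h2 := claim2 p F s a hsa
  obtain ⟨d, hd⟩ := claim3 p F s a h2
  refine ⟨Ideal.Quotient.mk p d, fun o => ?_⟩
  apply smul_injective_of_not_mem p o.B s hs
  change s • F.x o = s • ((1 : o.B) ⊗ₜ[A] (Ideal.Quotient.mk p d))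
  rw [h2 o, TensorProduct.smul_tmul', TensorProduct.smul_tmul]
  congr 1
  rw [Algebra.smul_def]
  change Ideal.Quotient.mk p a = Ideal.Quotient.mk p s * Ideal.Quotient.mk p d
  rw [← map_mul, Ideal.Quotient.eq]
  exact hd

theorem good_of_finite (M : Type u) [AddCommGroup M] [Module A M] [Module.Finite A M] :
    Good A M := by
  refine IsNoetherianRing.induction_on_isQuotientEquivQuotientPrime A (M := M) inferInstance
    (motive := fun N _ _ _ => Good A N) ?_ ?_ ?_
  · intro N _ _ _ _
    exact good_of_subsingleton N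
  · intro N _ _ _ q e
    exact good_of_exact (N₃ := PUnit.{u + 1}) (e.symm : (A ⧸ q.asIdeal) →ₗ[A] N) 0
      e.symm.injective (Function.surjective_to_subsingleton _)
      ((e.symm.exact_zero_iff_surjective _).2 e.symm.surjective)
      (good_quot_prime q.asIdeal) (good_of_subsingleton _)
  · intro N₁ _ _ _ N₂ _ _ _ N₃ _ _ _ f g hf hg hex h₁ h₃
    exact good_of_exact f g hf hg hex h₁ h₃

end Groth.Agent.Lib.Helper99.CplFam
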