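import Mathlib
import Groth.Agent.Lib.Helper99.FFTA

/-!
# First fundamental theorem for `SL_d`: an invariant times a power of a minor is a polynomial in the minors
-/

set_option autoImplicit false
universe u

namespace Groth.Agent.Lib.Helper99.FFT
open W4bk4grassmannian MvPolynomial
open Groth.Agent.Lib.Helper99.SMT

section Hom
variable {K : Type u} [Field K] {σ : Type*} [Fintype σ]

/-- homogenisation device: `δ ^ N * f (E / δ)` written without denominators -/
noncomputable def hom {R : Type*} [CommRing R] [Algebra K R] (f : MvPolynomial σ K) (N : ℕ) (δ : R)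
    (E : σ → R) : R :=
  ∑ m ∈ f.support, algebraMap K R (f.coeff m) * δ ^ (N - ∑ p, m p) * ∏ p, E p ^ m p

lemma hom_mem {R : Type*} [CommRing R] [Algebra K R] (f : MvPolynomial σ K) (N : ℕ) (δ : R)
    (E : σ → R) (S : Subalgebra K R) (hδ : δ ∈ S) (hE : ∀ p, E p ∈ S) : hom f N δ E ∈ S := by
  unfold hom
  apply Subalgebra.sum_mem
  intro m _
  apply Subalgebra.mul_mem
  · apply Subalgebra.mul_mem
    · exact Subalgebra.algebraMap_mem S _
    · exact Subalgebra.pow_mem S hδ _
  · apply Subalgebra.prod_mem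
    intro p _
    exact Subalgebra.pow_mem S (hE p) _

lemma map_hom {R R' : Type*} [CommRing R] [Algebra K R] [CommRing R'] [Algebra K R'] (φ : R →ₐ[K] R')
    (f : MvPolynomial σ K) (N : ℕ) (δ : R) (E : σ → R) :
    φ (hom f N δ E) = hom f N (φ δ) (fun p => φ (E p)) := by
  unfold hom
  rw [map_sum]
  apply Finset.sum_congr rfl
  intro m _
  rw [map_mul, map_mul, AlgHom.commutes, map_pow, map_prod]
  congr 1
  apply Finset.prod_congr rfl
  intro p _
  rw [map_pow]

lemma hom_field (f : MvPolynomial σ K) (N : ℕ) (hN : f.totalDegree ≤ N) (δ : K) (hδ : δ ≠ 0)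
    (E : σ → K) : hom f N δ E = δ ^ N * MvPolynomial.eval (fun p => δ⁻¹ * E p) f := by
  unfold hom
  rw [eval_eq', Finset.mul_sum]
  apply Finset.sum_congr rfl
  intro m hm
  have hle : ∑ p, m p ≤ N := by
    have h1 := le_totalDegree hm
    rw [Finsupp.sum_fintype _ _ (fun _ => rfl)] at h1
    exact h1.trans hN
  have h2 : ∏ p, (δ⁻¹ * E p) ^ m p = (δ⁻¹) ^ (∑ p, m p) * ∏ p, E p ^ m p := by
    simp_rw [mul_pow]
    rw [Finset.prod_mul_distrib, Finset.prod_pow_eq_pow_sum]
  rw [h2]
  have h3 : δ ^ N = δ ^ (N - ∑ p, m p) * δ ^ (∑ p, m p) := (pow_sub_mul_pow δ hle).symm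
  rw [h3, Algebra.algebraMap_self_apply]
  have h4 : δ ^ (∑ p, m p) * (δ⁻¹) ^ (∑ p, m p) = 1 := by
    rw [← mul_pow, mul_inv_cancel₀ hδ, one_pow]
  calc coeff m f * δ ^ (N - ∑ p, m p) * ∏ p, E p ^ m p
      = coeff m f * δ ^ (N - ∑ p, m p) * (δ ^ (∑ p, m p) * (δ⁻¹) ^ (∑ p, m p)) * ∏ p, E p ^ m p := by
        rw [h4, mul_one]
    _ = _ := by ring

end Hom

variable (K : Type u) [Field K] {d n : ℕ}

lemma eval_rightTranslate (g : Matrix.SpecialLinearGroup (Fin d) K) (A : Matrix (Fin n) (Fin d) K)
    (f : MatRing K d n) :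
    MvPolynomial.eval (pt K A) (rightTranslate K d n g f) =
      MvPolynomial.eval (pt K (A * (g : Matrix (Fin d) (Fin d) K))) f := by
  have : (MvPolynomial.aeval (pt K A) : MatRing K d n →ₐ[K] K).comp (rightTranslate K d n g) =
      MvPolynomial.aeval (pt K (A * (g : Matrix (Fin d) (Fin d) K))) := by
    apply MvPolynomial.algHom_ext
    intro p
    rw [AlgHom.comp_apply]
    unfold rightTranslate
    rw [aeval_X, aeval_X, map_sum]
    unfold pt
    rw [Matrix.mul_apply]
    apply Finset.sum_congr rfl
    intro k _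
    rw [map_mul, aeval_X, aeval_C]
    rfl
  have h2 := congrArg (fun φ => φ f) this
  simp only [AlgHom.comp_apply] at h2
  exact h2

section Efun
variable {R : Type*} [CommRing R]

/-- the matrix `M * adjugate M_a * diag(det M_a, 1, …, 1)` (the `det M_a` at the position `j0`) -/
noncomputable def Efun (a : Fin d → Fin n) (j0 : Fin d) (M : Matrix (Fin n) (Fin d) R) :
    Matrix (Fin n) (Fin d) R :=
  M * (M.submatrix a id).adjugate *
    Matrix.diagonal (Function.update (fun _ => (1 : R)) j0 (M.submatrix a id).det)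

lemma Efun_apply (a : Fin d → Fin n) (j0 : Fin d) (M : Matrix (Fin n) (Fin d) R) (i : Fin n) (j : Fin d) :
    Efun a j0 M i j = (M.submatrix (Function.update a j i) id).det *
      (if j = j0 then (M.submatrix a id).det else 1) := by
  unfold Efun
  rw [Matrix.mul_diagonal, mul_adjugate_submatrix_apply]
  congr 1
  by_cases hj : j = j0
  · subst hj
    rw [Function.update_self, if_pos rfl]
  · rw [Function.update_of_ne hj, if_neg hj]

lemma Efun_map {R' : Type*} [CommRing R'] (φ : R →+* R') (a : Fin d → Fin n) (j0 : Fin d)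
    (M : Matrix (Fin n) (Fin d) R) : (Efun a j0 M).map φ = Efun a j0 (M.map φ) := by
  ext i j
  rw [Matrix.map_apply, Efun_apply, Efun_apply, map_mul]
  have h : ∀ b : Fin d → Fin n, φ ((M.submatrix b id).det) = ((M.map φ).submatrix b id).det := by
    intro b
    rw [RingHom.map_det]
    rfl
  rw [h]
  congr 1
  by_cases hj : j = j0
  · rw [if_pos hj, if_pos hj, h]
  · rw [if_neg hj, if_neg hj, map_one]

end Efun

/-- the element of `SL_d` moving `A` to its normal form -/
lemma exists_sl (hd : 0 < d) (a : Fin d → Fin n) (j0 : Fin d) (A : Matrix (Fin n) (Fin d) K)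
    (hA : (A.submatrix a id).det ≠ 0) :
    ∃ g : Matrix.SpecialLinearGroup (Fin d) K,
      A * (g : Matrix (Fin d) (Fin d) K) = ((A.submatrix a id).det)⁻¹ • Efun a j0 A := by
  set δ := (A.submatrix a id).det with hδ
  set g0 : Matrix (Fin d) (Fin d) K := δ⁻¹ • ((A.submatrix a id).adjugate *
    Matrix.diagonal (Function.update (fun _ => (1 : K)) j0 δ)) with hg0
  have hdet : g0.det = 1 := by
    rw [hg0, Matrix.det_smul, Matrix.det_mul, Matrix.det_adjugate, Matrix.det_diagonal,
      Fintype.card_fin, ← hδ]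
    have hprod : ∏ i, Function.update (fun _ => (1 : K)) j0 δ i = δ := by
      rw [Finset.prod_update_of_mem (Finset.mem_univ j0)]
      simp
    rw [hprod]
    have : δ ^ (d - 1) * δ = δ ^ d := by
      rw [← pow_succ]
      congr 1
      omega
    rw [this, inv_pow, inv_mul_cancel₀]
    exact pow_ne_zero _ hA
  refine ⟨⟨g0, hdet⟩, ?_⟩
  change A * g0 = _
  rw [hg0, Matrix.mul_smul]
  congr 1
  unfold Efun
  rw [Matrix.mul_assoc]

/-- an `SL_d`-invariant function takes the same value at a matrix and at its normal form -/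
lemma eval_eq_of_invariant (hd : 0 < d) (a : Fin d → Fin n) (j0 : Fin d) (f : MatRing K d n)
    (hf : ∀ g : Matrix.SpecialLinearGroup (Fin d) K, rightTranslate K d n g f = f)
    (A : Matrix (Fin n) (Fin d) K) (hA : (A.submatrix a id).det ≠ 0) :
    MvPolynomial.eval (pt K A) f =
      MvPolynomial.eval (fun p => ((A.submatrix a id).det)⁻¹ * Efun a j0 A p.1 p.2) f := by
  obtain ⟨g, hg⟩ := exists_sl K hd a j0 A hA
  have h1 := eval_rightTranslate K g A f
  rw [hf g, hg] at h1
  rw [h1]
  rfl

/-- Key step: an invariant times a power of any minor lies in the algebra of minors. -/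
theorem exists_pow_mul_mem [Infinite K] (hd : 0 < d) (a : Fin d → Fin n) (f : MatRing K d n)
    (hf : ∀ g : Matrix.SpecialLinearGroup (Fin d) K, rightTranslate K d n g f = f) :
    ∃ N : ℕ, minor K d n a ^ N * f ∈ (pluckerMap K d n).range := by
  set j0 : Fin d := ⟨0, hd⟩
  set δ := minor K d n a with hδ
  set N := f.totalDegree with hN
  set E : Fin n × Fin d → MatRing K d n := fun p => Efun a j0 (gen K d n) p.1 p.2 with hE
  have hEmem : ∀ p, E p ∈ (pluckerMap K d n).range := by
    intro p
    rw [hE]
    simp only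
    rw [Efun_apply]
    apply Subalgebra.mul_mem
    · exact minor_mem_range K _
    · split_ifs
      · exact minor_mem_range K _
      · exact Subalgebra.one_mem _
  have hF : hom f N δ E ∈ (pluckerMap K d n).range :=
    hom_mem f N δ E _ (minor_mem_range K a) hEmem
  refine ⟨N + 1, ?_⟩
  have key : δ ^ (N + 1) * f = δ * hom f N δ E := by
    apply eq_of_eval_pt_eq
    intro A
    rw [map_mul, map_mul, map_pow]
    have h1 : MvPolynomial.eval (pt K A) δ = (A.submatrix a id).det := eval_minor K A a
    rw [h1]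
    by_cases hA : (A.submatrix a id).det = 0
    · rw [hA, zero_pow (Nat.succ_ne_zero N), zero_mul, zero_mul]
    · have h2 : MvPolynomial.eval (pt K A) (hom f N δ E) =
          hom f N ((A.submatrix a id).det) (fun p => Efun a j0 A p.1 p.2) := by
        have : MvPolynomial.eval (pt K A) (hom f N δ E) =
            hom f N (MvPolynomial.eval (pt K A) δ) (fun p => MvPolynomial.eval (pt K A) (E p)) :=
          map_hom (MvPolynomial.aeval (pt K A) : MatRing K d n →ₐ[K] K) f N δ E
        rw [this, h1]
        congr 1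
        funext p
        have h3 := Efun_map (MvPolynomial.eval (pt K A)) a j0 (gen K d n)
        rw [gen_map_eval] at h3
        rw [← h3, Matrix.map_apply]
      rw [h2, hom_field f N le_rfl _ hA, ← eval_eq_of_invariant K hd a j0 f hf A hA, pow_succ]
      ring
  rw [key]
  exact Subalgebra.mul_mem _ (minor_mem_range K a) hF

end Groth.Agent.Lib.Helper99.FFT
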