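import Mathlib
import Groth.Agent.Lib.Helper99.BitH

/-!
# Second fundamental theorem for `GL`: the kernel of the comorphism of `(U, W) ↦ U W` is the determinantal ideal
-/

set_option autoImplicit false
universe u

namespace Groth.Agent.Lib.Helper99.Sft
open W4bk4grassmannian MvPolynomial
open Groth.Agent.Lib.Helper99.SMT Groth.Agent.Lib.Helper99.Normal Groth.Agent.Lib.Helper99.Bit

variable (K : Type u) [Field K] {m q r : ℕ}

/-- the point of the pair space attached to a pair of matrices -/
def ptP (U0 : Matrix (Fin m) (Fin r) K) (W0 : Matrix (Fin r) (Fin q) K) :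
    (Fin m × Fin r) ⊕ (Fin r × Fin q) → K :=
  Sum.elim (fun p => U0 p.1 p.2) (fun p => W0 p.1 p.2)

lemma eval_pairingMap (U0 : Matrix (Fin m) (Fin r) K) (W0 : Matrix (Fin r) (Fin q) K)
    (f : MvPolynomial (Fin m × Fin q) K) :
    MvPolynomial.eval (ptP K U0 W0) (pairingMap K r m q f) = MvPolynomial.eval (ptM K (U0 * W0)) f := by
  have h : (MvPolynomial.eval (ptP K U0 W0)).comp (pairingMap K r m q).toRingHom =
      MvPolynomial.eval (ptM K (U0 * W0)) := by
    apply MvPolynomial.ringHom_ext
    · intro a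
      rw [RingHom.comp_apply, eval_C]
      change MvPolynomial.eval (ptP K U0 W0) (pairingMap K r m q (C a)) = a
      rw [← MvPolynomial.algebraMap_eq, AlgHom.commutes, MvPolynomial.algebraMap_eq, eval_C]
    · intro p
      rw [RingHom.comp_apply, eval_X]
      change MvPolynomial.eval (ptP K U0 W0) (pairingMap K r m q (X p)) = _
      unfold pairingMap
      rw [aeval_X, map_sum]
      unfold ptM
      rw [Matrix.mul_apply]
      apply Finset.sum_congr rfl
      intro k _
      rw [map_mul, eval_X, eval_X]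
      rfl
  exact RingHom.congr_fun h f

lemma det_mul_eq_zero (A : Matrix (Fin (r + 1)) (Fin r) K) (B : Matrix (Fin r) (Fin (r + 1)) K) :
    (A * B).det = 0 := by
  by_contra h
  have hu : IsUnit (A * B) := (Matrix.isUnit_iff_isUnit_det _).2 (IsUnit.mk0 _ h)
  have h1 := Matrix.rank_of_isUnit (A * B) hu
  have h2 := Matrix.rank_mul_le_left A B
  have h3 := Matrix.rank_le_width A
  rw [Fintype.card_fin] at h1
  omega

theorem minorIdeal_le_ker [Infinite K] :
    CAlgX.minorIdeal (genMatrix K m q) (r + 1) ≤ RingHom.ker (pairingMap K r m q).toRingHom := by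
  unfold CAlgX.minorIdeal
  rw [Ideal.span_le]
  rintro _ ⟨⟨a, b⟩, rfl⟩
  rw [SetLike.mem_coe, RingHom.mem_ker]
  apply MvPolynomial.funext
  intro x
  rw [map_zero]
  change MvPolynomial.eval x (pairingMap K r m q _) = 0
  have hx : x = ptP K (Matrix.of fun i k => x (Sum.inl (i, k))) (Matrix.of fun k j => x (Sum.inr (k, j))) := by
    funext p
    rcases p with p | p <;> rfl
  rw [hx, eval_pairingMap]
  simp only
  rw [RingHom.map_det, RingHom.mapMatrix_apply, ← Matrix.submatrix_map, genMatrix_map_eval,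
    Matrix.submatrix_mul _ _ a id b Function.bijective_id]
  exact det_mul_eq_zero K _ _

theorem exists_factor (M0 : Matrix (Fin (m + q)) (Fin q) K) (hM0 : ZeroOutside (shapeT m q (r + 1)) M0)
    (X0 : Matrix (Fin m) (Fin q) K) (g0 : Matrix (Fin q) (Fin q) K) (hg0 : g0.det ≠ 0)
    (hdec : stack X0 * g0 = M0) :
    ∃ (U0 : Matrix (Fin m) (Fin r) K) (W0 : Matrix (Fin r) (Fin q) K), X0 = U0 * W0 := by
  have hinv : stack X0 = M0 * g0⁻¹ := by
    rw [← hdec, Matrix.mul_assoc, Matrix.mul_nonsing_inv _ (IsUnit.mk0 _ hg0), Matrix.mul_one]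
  refine ⟨Matrix.of fun i k => if h : k.val < q then M0 (Fin.castAdd q i) ⟨k.val, h⟩ else 0,
    Matrix.of fun k c => if h : k.val < q then g0⁻¹ ⟨k.val, h⟩ c else 0, ?_⟩
  apply Matrix.ext
  intro i c
  have h1 : X0 i c = stack X0 (Fin.castAdd q i) c := by
    rw [stack_apply_lt _ _ _ (by rw [Fin.val_castAdd]; exact i.isLt)]
    rfl
  rw [h1, hinv, Matrix.mul_apply, Matrix.mul_apply]
  set F : ℕ → K := fun k => if h : k < q then M0 (Fin.castAdd q i) ⟨k, h⟩ * g0⁻¹ ⟨k, h⟩ c else 0 with hF
  have hL : ∑ t : Fin q, M0 (Fin.castAdd q i) t * g0⁻¹ t c = ∑ t : Fin q, F t.val := by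
    apply Finset.sum_congr rfl
    intro t _
    rw [hF]
    simp only
    rw [dif_pos t.isLt]
  have hR : ∑ k : Fin r, (Matrix.of (fun (i : Fin m) (k : Fin r) =>
        if h : k.val < q then M0 (Fin.castAdd q i) ⟨k.val, h⟩ else 0)) i k *
      (Matrix.of (fun (k : Fin r) (c : Fin q) => if h : k.val < q then g0⁻¹ ⟨k.val, h⟩ c else 0)) k c =
      ∑ k : Fin r, F k.val := by
    apply Finset.sum_congr rfl
    intro k _
    rw [hF, Matrix.of_apply, Matrix.of_apply]
    simp only
    by_cases h : k.val < q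
    · rw [dif_pos h, dif_pos h, dif_pos h]
    · rw [dif_neg h, dif_neg h, dif_neg h, zero_mul]
  rw [hL, hR, Fin.sum_univ_eq_sum_range F q, Fin.sum_univ_eq_sum_range F r]
  have hz1 : ∀ k, q ≤ k → F k = 0 := by
    intro k hk
    rw [hF]
    simp only
    rw [dif_neg (by omega)]
  have hz2 : ∀ k, r ≤ k → F k = 0 := by
    intro k hk
    rw [hF]
    simp only
    by_cases h : k < q
    · rw [dif_pos h]
      have : M0 (Fin.castAdd q i) ⟨k, h⟩ = 0 := by
        apply hM0
        rw [shapeT_lo, Fin.val_castAdd]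
        simp only
        rw [if_neg (by omega)]
        have := i.isLt
        omega
      rw [this, zero_mul]
    · rw [dif_neg h]
  rw [Finset.sum_subset (Finset.range_subset_range.2 (le_max_left q r)) (by
      intro k _ hk
      rw [Finset.mem_range] at hk
      exact hz1 k (by omega)),
    Finset.sum_subset (Finset.range_subset_range.2 (le_max_right q r)) (by
      intro k _ hk
      rw [Finset.mem_range] at hk
      exact hz2 k (by omega))]

theorem ker_le_minorIdeal [Infinite K] (hm : 0 < m) (hq : 0 < q) :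
    RingHom.ker (pairingMap K r m q).toRingHom ≤ CAlgX.minorIdeal (genMatrix K m q) (r + 1) := by
  classical
  intro f hf
  set I := CAlgX.minorIdeal (genMatrix K m q) (r + 1) with hI
  have hspan := span_bitMon K hm (r + 1) (n := q)
  have hfmem : Ideal.Quotient.mk I f ∈ Submodule.span K
      (Set.range fun c : StdBit m q (r + 1) => Ideal.Quotient.mk I (bitMon K c)) := by
    rw [hspan]
    trivial
  obtain ⟨l, hl⟩ := Finsupp.mem_span_range_iff_exists_finsupp.1 hfmem
  set h := ∑ c ∈ l.support, l c • bitMon K c with hh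
  have hfh : f - h ∈ I := by
    rw [← Ideal.Quotient.eq, ← hl, hh, map_sum, Finsupp.sum]
    apply Finset.sum_congr rfl
    intro c _
    exact (map_smul (Ideal.Quotient.mkₐ K I) (l c) (bitMon K c)).symm
  have hker : h ∈ RingHom.ker (pairingMap K r m q).toRingHom := by
    have h1 : f - h ∈ RingHom.ker (pairingMap K r m q).toRingHom := minorIdeal_le_ker K hfh
    have h2 := Ideal.sub_mem _ hf h1
    rwa [sub_sub_cancel] at h2
  have hzero := coeff_eq_zero_of_eval_eq_zero K hq r l.support l (by
    intro M0 X0 g0 h1 h2 h3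
    obtain ⟨U0, W0, rfl⟩ := exists_factor K M0 h1 X0 g0 h2 h3
    rw [← eval_pairingMap]
    rw [RingHom.mem_ker] at hker
    change pairingMap K r m q h = 0 at hker
    rw [hker, map_zero])
  have hh0 : h = 0 := Finset.sum_eq_zero (fun c hc => by rw [hzero c hc, zero_smul])
  rw [hh0, sub_zero] at hfh
  exact hfh

theorem ker_le_of_isEmpty [IsEmpty (Fin m × Fin q)] :
    RingHom.ker (pairingMap K r m q).toRingHom ≤ CAlgX.minorIdeal (genMatrix K m q) (r + 1) := by
  intro f hf
  rw [RingHom.mem_ker] at hf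
  change pairingMap K r m q f = 0 at hf
  rw [MvPolynomial.eq_C_of_isEmpty f] at hf ⊢
  rw [← MvPolynomial.algebraMap_eq, AlgHom.commutes, MvPolynomial.algebraMap_eq, C_eq_zero] at hf
  rw [hf, map_zero]
  exact Ideal.zero_mem _

theorem ker_eq_minorIdeal [Infinite K] (m q r : ℕ) :
    RingHom.ker (pairingMap K r m q).toRingHom = CAlgX.minorIdeal (genMatrix K m q) (r + 1) := by
  apply le_antisymm _ (minorIdeal_le_ker K)
  rcases Nat.eq_zero_or_pos m with hm | hm
  · subst hm
    have : IsEmpty (Fin 0 × Fin q) := inferInstance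
    exact ker_le_of_isEmpty K
  rcases Nat.eq_zero_or_pos q with hq | hq
  · subst hq
    have : IsEmpty (Fin m × Fin 0) := inferInstance
    exact ker_le_of_isEmpty K
  exact ker_le_minorIdeal K hm hq

end Groth.Agent.Lib.Helper99.Sft
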