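import Mathlib
import Groth.Agent.Lib.Helper99.SftA
import Groth.Agent.Lib.Helper99.FFTB

/-!
# First fundamental theorem for `GL_n` on pairs of matrices: invariance of the products, and an invariant times
a power of the leading minor of the product is a polynomial in the product
-/

set_option autoImplicit false
universe u

namespace Groth.Agent.Lib.Helper99.Gl
open W4bk4grassmannian MvPolynomial
open Groth.Agent.Lib.Helper99.SMT Groth.Agent.Lib.Helper99.Bit Groth.Agent.Lib.Helper99.Sft
open Groth.Agent.Lib.Helper99.FFT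

variable (K : Type u) [Field K] {m q n : ℕ}

lemma ptP_surj (x : (Fin m × Fin n) ⊕ (Fin n × Fin q) → K) :
    x = ptP K (Matrix.of fun i k => x (Sum.inl (i, k))) (Matrix.of fun k j => x (Sum.inr (k, j))) := by
  funext p
  rcases p with p | p <;> rfl

lemma eq_of_eval_ptP_eq [Infinite K] (f g : PairRing K n m q)
    (h : ∀ (U0 : Matrix (Fin m) (Fin n) K) (W0 : Matrix (Fin n) (Fin q) K),
      MvPolynomial.eval (ptP K U0 W0) f = MvPolynomial.eval (ptP K U0 W0) g) : f = g := by
  apply MvPolynomial.funext
  intro x
  rw [ptP_surj K x]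
  exact h _ _

lemma eval_glTranslate (A : GL (Fin n) K) (U0 : Matrix (Fin m) (Fin n) K) (W0 : Matrix (Fin n) (Fin q) K)
    (f : PairRing K n m q) :
    MvPolynomial.eval (ptP K U0 W0) (glTranslate K n m q A f) =
      MvPolynomial.eval (ptP K (U0 * ((A⁻¹ : GL (Fin n) K) : Matrix (Fin n) (Fin n) K))
        ((A : Matrix (Fin n) (Fin n) K) * W0)) f := by
  have : (MvPolynomial.aeval (ptP K U0 W0) : PairRing K n m q →ₐ[K] K).comp (glTranslate K n m q A) =
      MvPolynomial.aeval (ptP K (U0 * ((A⁻¹ : GL (Fin n) K) : Matrix (Fin n) (Fin n) K))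
        ((A : Matrix (Fin n) (Fin n) K) * W0)) := by
    apply MvPolynomial.algHom_ext
    intro p
    rw [AlgHom.comp_apply]
    unfold glTranslate
    rw [aeval_X, aeval_X]
    rcases p with p | p
    · rw [Sum.elim_inl, map_sum]
      unfold ptP
      rw [Sum.elim_inl, Matrix.mul_apply]
      apply Finset.sum_congr rfl
      intro k _
      rw [map_mul, aeval_X, aeval_C]
      rfl
    · rw [Sum.elim_inr, map_sum]
      unfold ptP
      rw [Sum.elim_inr, Matrix.mul_apply]
      apply Finset.sum_congr rfl
      intro k _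
      rw [map_mul, aeval_X, aeval_C]
      rfl
  have h2 := congrArg (fun φ => φ f) this
  simp only [AlgHom.comp_apply] at h2
  exact h2

/-- polynomials in the entries of the product are invariant -/
theorem glTranslate_pairingMap [Infinite K] (A : GL (Fin n) K) (P : MvPolynomial (Fin m × Fin q) K) :
    glTranslate K n m q A (pairingMap K n m q P) = pairingMap K n m q P := by
  apply eq_of_eval_ptP_eq
  intro U0 W0
  rw [eval_glTranslate, eval_pairingMap, eval_pairingMap]
  congr 2
  rw [Matrix.mul_assoc, ← Matrix.mul_assoc _ _ W0, ← Matrix.GeneralLinearGroup.coe_mul, inv_mul_cancel,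
    Matrix.GeneralLinearGroup.coe_one, Matrix.one_mul]

end Groth.Agent.Lib.Helper99.Gl
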