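import Mathlib
import Groth.Agent.Lib.Helper99.GlA

/-!
# First fundamental theorem for `GL_n` on pairs of matrices: an invariant times a power of the leading minor of the
product is a polynomial in the product
-/

set_option autoImplicit false
universe u

namespace Groth.Agent.Lib.Helper99.Gl
open W4bk4grassmannian MvPolynomial
open Groth.Agent.Lib.Helper99.SMT Groth.Agent.Lib.Helper99.Bit Groth.Agent.Lib.Helper99.Sft
open Groth.Agent.Lib.Helper99.FFT

variable (K : Type u) [Field K] {m q r : ℕ} (hm : r + 1 ≤ m) (hq : r + 1 ≤ q)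

/-- the leading minor of size `r + 1` of the generic matrix -/
noncomputable def deltaY : MvPolynomial (Fin m × Fin q) K :=
  ((genMatrix K m q).submatrix (Fin.castLE hm) (Fin.castLE hq)).det

/-- the coordinates of the normal form of a pair, multiplied by the leading minor -/
noncomputable def EY : (Fin m × Fin (r + 1)) ⊕ (Fin (r + 1) × Fin q) → MvPolynomial (Fin m × Fin q) K :=
  Sum.elim
    (fun p => ((genMatrix K m q).submatrix id (Fin.castLE hq) *
      ((genMatrix K m q).submatrix (Fin.castLE hm) (Fin.castLE hq)).adjugate) p.1 p.2)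
    (fun p => deltaY K hm hq * (genMatrix K m q) (Fin.castLE hm p.1) p.2)

lemma eval_deltaY (Z0 : Matrix (Fin m) (Fin q) K) :
    MvPolynomial.eval (ptM K Z0) (deltaY K hm hq) = (Z0.submatrix (Fin.castLE hm) (Fin.castLE hq)).det := by
  unfold deltaY
  rw [RingHom.map_det, RingHom.mapMatrix_apply, ← Matrix.submatrix_map, genMatrix_map_eval]

lemma eval_EY_inl (Z0 : Matrix (Fin m) (Fin q) K) (p : Fin m × Fin (r + 1)) :
    MvPolynomial.eval (ptM K Z0) (EY K hm hq (Sum.inl p)) =
      (Z0.submatrix id (Fin.castLE hq) * (Z0.submatrix (Fin.castLE hm) (Fin.castLE hq)).adjugate) p.1 p.2 := by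
  unfold EY
  have hadj : ∀ B : Matrix (Fin (r + 1)) (Fin (r + 1)) (MvPolynomial (Fin m × Fin q) K),
      B.adjugate.map (MvPolynomial.eval (ptM K Z0)) = (B.map (MvPolynomial.eval (ptM K Z0))).adjugate := by
    intro B
    rw [← RingHom.mapMatrix_apply, RingHom.map_adjugate, RingHom.mapMatrix_apply]
  rw [Sum.elim_inl, ← Matrix.map_apply (f := MvPolynomial.eval (ptM K Z0)), Matrix.map_mul, hadj,
    ← Matrix.submatrix_map, ← Matrix.submatrix_map, genMatrix_map_eval]

lemma eval_EY_inr (Z0 : Matrix (Fin m) (Fin q) K) (p : Fin (r + 1) × Fin q) :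
    MvPolynomial.eval (ptM K Z0) (EY K hm hq (Sum.inr p)) =
      (Z0.submatrix (Fin.castLE hm) (Fin.castLE hq)).det * Z0 (Fin.castLE hm p.1) p.2 := by
  unfold EY
  rw [Sum.elim_inr, map_mul, eval_deltaY]
  congr 1
  unfold genMatrix
  rw [Matrix.of_apply, eval_X]
  rfl

/-- the normal form of a pair with invertible leading blocks -/
lemma normal_form (U0 : Matrix (Fin m) (Fin (r + 1)) K) (W0 : Matrix (Fin (r + 1)) (Fin q) K)
    (hd : ((U0 * W0).submatrix (Fin.castLE hm) (Fin.castLE hq)).det ≠ 0) :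
    ∃ A : GL (Fin (r + 1)) K,
      (fun p => (((U0 * W0).submatrix (Fin.castLE hm) (Fin.castLE hq)).det)⁻¹ *
        MvPolynomial.eval (ptM K (U0 * W0)) (EY K hm hq p)) =
      ptP K (U0 * ((A⁻¹ : GL (Fin (r + 1)) K) : Matrix (Fin (r + 1)) (Fin (r + 1)) K))
        ((A : Matrix (Fin (r + 1)) (Fin (r + 1)) K) * W0) := by
  set Z0 := U0 * W0 with hZ0
  set A0 := U0.submatrix (Fin.castLE hm) id with hA0
  set WL := W0.submatrix id (Fin.castLE hq) with hWL
  have hZD : Z0.submatrix (Fin.castLE hm) (Fin.castLE hq) = A0 * WL :=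
    Matrix.submatrix_mul U0 W0 (Fin.castLE hm) id (Fin.castLE hq) Function.bijective_id
  have hZU : Z0.submatrix id (Fin.castLE hq) = U0 * WL := by
    have := Matrix.submatrix_mul U0 W0 id id (Fin.castLE hq) Function.bijective_id
    rw [Matrix.submatrix_id_id] at this
    exact this
  rw [hZD] at hd ⊢
  rw [Matrix.det_mul] at hd
  have hdA : A0.det ≠ 0 := left_ne_zero_of_mul hd
  have hdW : WL.det ≠ 0 := right_ne_zero_of_mul hd
  refine ⟨Matrix.GeneralLinearGroup.mkOfDetNeZero A0 hdA, ?_⟩
  have hcoe : ((Matrix.GeneralLinearGroup.mkOfDetNeZero A0 hdA : GL (Fin (r + 1)) K) :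
      Matrix (Fin (r + 1)) (Fin (r + 1)) K) = A0 := rfl
  rw [Matrix.coe_units_inv, hcoe]
  funext p
  rcases p with p | p
  · rw [eval_EY_inl, hZD, hZU]
    unfold ptP
    rw [Sum.elim_inl]
    have h1 : (A0 * WL)⁻¹ = ((A0 * WL).det)⁻¹ • (A0 * WL).adjugate := by
      rw [Matrix.inv_def, Ring.inverse_eq_inv']
    have h2 : U0 * WL * (A0 * WL)⁻¹ = U0 * A0⁻¹ := by
      rw [Matrix.mul_inv_rev, Matrix.mul_assoc, ← Matrix.mul_assoc WL, Matrix.mul_nonsing_inv _ (IsUnit.mk0 _ hdW),
        Matrix.one_mul]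
    rw [← h2, h1, Matrix.mul_smul, Matrix.smul_apply, smul_eq_mul]
  · rw [eval_EY_inr, hZD]
    unfold ptP
    rw [Sum.elim_inr, ← mul_assoc, inv_mul_cancel₀ (by rw [Matrix.det_mul]; exact hd), one_mul, hZ0,
      Matrix.mul_apply, Matrix.mul_apply]
    rfl

/-- Key step: an invariant times a power of the leading minor of the product is a polynomial in the product. -/
theorem exists_pow_mul_mem [Infinite K] (f : PairRing K (r + 1) m q)
    (hf : ∀ A : GL (Fin (r + 1)) K, glTranslate K (r + 1) m q A f = f) :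
    ∃ N : ℕ, pairingMap K (r + 1) m q (deltaY K hm hq) ^ N * f ∈ (pairingMap K (r + 1) m q).range := by
  set δ := pairingMap K (r + 1) m q (deltaY K hm hq) with hδ
  set N := f.totalDegree with hN
  set E : (Fin m × Fin (r + 1)) ⊕ (Fin (r + 1) × Fin q) → PairRing K (r + 1) m q :=
    fun p => pairingMap K (r + 1) m q (EY K hm hq p) with hE
  have hF : hom f N δ E ∈ (pairingMap K (r + 1) m q).range :=
    ⟨hom f N (deltaY K hm hq) (EY K hm hq), map_hom (pairingMap K (r + 1) m q) f N _ _⟩
  refine ⟨N + 1, ?_⟩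
  have key : δ ^ (N + 1) * f = δ * hom f N δ E := by
    apply eq_of_eval_ptP_eq
    intro U0 W0
    rw [map_mul, map_mul, map_pow]
    have h1 : MvPolynomial.eval (ptP K U0 W0) δ =
        ((U0 * W0).submatrix (Fin.castLE hm) (Fin.castLE hq)).det := by
      rw [hδ, eval_pairingMap, eval_deltaY]
    rw [h1]
    by_cases hd : ((U0 * W0).submatrix (Fin.castLE hm) (Fin.castLE hq)).det = 0
    · rw [hd, zero_pow (Nat.succ_ne_zero N), zero_mul, zero_mul]
    · have h2 : MvPolynomial.eval (ptP K U0 W0) (hom f N δ E) =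
          hom f N (((U0 * W0).submatrix (Fin.castLE hm) (Fin.castLE hq)).det)
            (fun p => MvPolynomial.eval (ptM K (U0 * W0)) (EY K hm hq p)) := by
        have : MvPolynomial.eval (ptP K U0 W0) (hom f N δ E) =
            hom f N (MvPolynomial.eval (ptP K U0 W0) δ) (fun p => MvPolynomial.eval (ptP K U0 W0) (E p)) :=
          map_hom (MvPolynomial.aeval (ptP K U0 W0) : PairRing K (r + 1) m q →ₐ[K] K) f N δ E
        rw [this, h1]
        congr 1
        funext p
        rw [hE]
        simp only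
        rw [eval_pairingMap]
      obtain ⟨A, hA⟩ := normal_form K hm hq U0 W0 hd
      rw [h2, hom_field f N le_rfl _ hd, hA, ← eval_glTranslate, hf A, pow_succ]
      ring
  rw [key]
  exact Subalgebra.mul_mem _ ⟨_, rfl⟩ hF

end Groth.Agent.Lib.Helper99.Gl
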