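import Mathlib
import Groth.Agent.Lib.Helper99.FFTB
import Groth.Agent.Lib.Helper99.SMTDivisor

/-!
# First fundamental theorem for `SL_d`: divisibility by the bottom minor, and the theorem
-/

set_option autoImplicit false
universe u

namespace Groth.Agent.Lib.Helper99.FFT
open W4bk4grassmannian MvPolynomial
open Groth.Agent.Lib.Helper99.SMT

variable {d n : ℕ}

/-- the smallest index `(0, 1, …, d - 1)` -/
def bottom (hdn : d ≤ n) : Idx d n := ⟨Fin.castLE hdn, Fin.strictMono_castLE hdn⟩

lemma bottom_val (hdn : d ≤ n) (t : Fin d) : ((bottom hdn).1 t).val = t.val := rfl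

/-- the shape of the opposite Schubert divisor: all indices except the bottom one -/
def shapeNB (d n : ℕ) : Shape d where
  lo := fun t => if t.val + 1 = d then d else t.val
  hi := fun _ => n
  lo_mono := by
    intro s t hst
    have h1 : s.val ≤ t.val := hst
    have h2 := t.isLt
    simp only
    split_ifs <;> omega
  hi_mono := monotone_const

lemma not_mem_shapeNB_bottom (hd : 0 < d) (hdn : d ≤ n) : ¬ (shapeNB d n).mem (bottom hdn) := by
  intro h
  have := (h ⟨d - 1, by omega⟩).1
  unfold shapeNB at this
  simp only at this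
  rw [if_pos (by omega), bottom_val] at this
  simp only at this
  omega

lemma mem_shapeNB_of_ne (hdn : d ≤ n) (θ : Idx d n) (hθ : θ ≠ bottom hdn) : (shapeNB d n).mem θ := by
  intro t
  have hge := idx_val_ge θ t
  have hlt := (θ.1 t).isLt
  unfold shapeNB
  simp only
  refine ⟨?_, by omega⟩
  split_ifs with ht
  · by_contra hcon
    apply hθ
    apply Subtype.ext
    funext s
    apply Fin.ext
    rw [bottom_val]
    have h1 := idx_val_ge θ s
    -- θ s + (t - s) ≤ θ t
    have key : ∀ k : ℕ, ∀ s : Fin d, s.val + k = t.val → (θ.1 s).val + k ≤ (θ.1 t).val := by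
      intro k
      induction k with
      | zero =>
        intro s hs
        have : s = t := Fin.ext (by omega)
        rw [this]; omega
      | succ k ih =>
        intro s hs
        have hs1 : s.val + 1 < d := by have := t.isLt; omega
        have h2 := ih ⟨s.val + 1, hs1⟩ (by simp only; omega)
        have h3 : θ.1 s < θ.1 ⟨s.val + 1, hs1⟩ := θ.2 (by rw [Fin.lt_def]; simp)
        have h4 : (θ.1 s).val < (θ.1 ⟨s.val + 1, hs1⟩).val := h3
        omega
    have hs := s.isLt
    have := key (t.val - s.val) s (by omega)
    omega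
  · exact hge

variable (K : Type u) [Field K]

/-- evaluation of matrix polynomials at the generic matrix of a shape -/
noncomputable def evM (S : Shape d) : MatRing K d n →ₐ[K] GenRing K d n :=
  MvPolynomial.aeval fun p : Fin n × Fin d => genMat K S p.1 p.2

lemma evM_minor (S : Shape d) (a : Fin d → Fin n) :
    evM K S (minor K d n a) = ((genMat (n := n) K S).submatrix a id).det := by
  rw [minor_eq, AlgHom.map_det]
  congr 1
  ext i t
  rw [AlgHom.mapMatrix_apply, Matrix.map_apply, Matrix.submatrix_apply, Matrix.submatrix_apply]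
  unfold gen evM
  rw [Matrix.of_apply, aeval_X]

lemma evM_pluckerMap (S : Shape d) (f : PlRing K d n) : evM K S (pluckerMap K d n f) = ev K S f := by
  have : (evM K S).comp (pluckerMap K d n) = ev (n := n) K S := by
    apply MvPolynomial.algHom_ext
    intro θ
    rw [AlgHom.comp_apply]
    unfold pluckerMap
    rw [aeval_X, evM_minor, ev_X]
  have h2 := congrArg (fun φ => φ f) this
  simp only [AlgHom.comp_apply] at h2
  exact h2

lemma minor_bottom_ne_zero (hdn : d ≤ n) : minor K d n (bottom hdn).1 ≠ 0 := by
  intro h0
  have := eval_minor K (Matrix.of fun (i : Fin n) (t : Fin d) => if i.val = t.val then (1 : K) else 0)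
    (bottom hdn).1
  rw [h0, map_zero] at this
  have h1 : (Matrix.of fun (i : Fin n) (t : Fin d) => if i.val = t.val then (1 : K) else 0).submatrix
      (bottom hdn).1 id = 1 := by
    ext s t
    rw [Matrix.submatrix_apply, Matrix.of_apply, Matrix.one_apply, bottom_val]
    simp only [id]
    by_cases hst : s = t
    · rw [if_pos (by rw [hst]), if_pos hst]
    · rw [if_neg (fun h => hst (Fin.ext h)), if_neg hst]
  rw [h1, Matrix.det_one] at this
  exact zero_ne_one this

/-- divisibility by the bottom minor inside the algebra of minors -/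
theorem mem_range_of_mul_mem [Infinite K] (hd : 0 < d) (hdn : d ≤ n) (h : MatRing K d n)
    (hh : minor K d n (bottom hdn).1 * h ∈ (pluckerMap K d n).range) :
    h ∈ (pluckerMap K d n).range := by
  obtain ⟨P, hP'⟩ := hh
  have hP : pluckerMap K d n P = minor K d n (bottom hdn).1 * h := hP'
  clear hP'
  set J : Ideal (PlRing K d n) := vanishing K d n ⊔ Ideal.span {X (bottom hdn)} with hJ
  have hJtop : plIdealTop (d := d) (n := n) K ≤ J := le_sup_of_le_left (plIdealTop_le_vanishing K)
  have hXJ : X (bottom hdn) ∈ J := Ideal.mem_sup_right (Ideal.subset_span rfl)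
  have hspan := std_span K J hJtop (fun m c => ∀ k, (shapeNB d n).mem (c k)) (by
    intro m c _ hc
    push Not at hc
    obtain ⟨k, hk⟩ := hc
    have hck : c k = bottom hdn := by
      by_contra hne
      exact hk (mem_shapeNB_of_ne hdn _ hne)
    apply chainMon_mem_of_factor K J c k
    rw [hck]
    exact hXJ) P
  obtain ⟨g, hg, j, hj, hsum⟩ := Submodule.mem_sup.1 hspan
  have hj' : j ∈ J := hj
  rw [hJ] at hj'
  obtain ⟨v, hv, w, hw, hvw⟩ := Submodule.mem_sup.1 hj'
  obtain ⟨G, hG⟩ := Ideal.mem_span_singleton'.1 hw
  have hPeq : pluckerMap K d n P = pluckerMap K d n g + pluckerMap K d n G * minor K d n (bottom hdn).1 := by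
    rw [← hsum, ← hvw, ← hG, map_add, map_add, map_mul, pluckerMap_eq_zero_of_mem_vanishing K v hv, zero_add]
    congr 2
    unfold pluckerMap
    rw [aeval_X]
  have hδ0 : evM K (shapeNB d n) (minor K d n (bottom hdn).1) = 0 := by
    rw [evM_minor]
    exact det_submatrix_eq_zero_of_not_mem (shapeNB d n) _ (zeroOutside_genMat K _) (bottom hdn)
      (not_mem_shapeNB_bottom hd hdn)
  have hev : ev K (shapeNB d n) g = 0 := by
    have h1 := congrArg (evM K (shapeNB d n)) (hPeq.symm.trans hP)
    rw [map_add, map_mul, map_mul, hδ0, mul_zero, zero_mul, add_zero, evM_pluckerMap] at h1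
    exact h1
  have hg0 : g = 0 := eq_zero_of_mem_span_of_ev_eq_zero K MonomialOrder.lex diagLeading_lex hd (shapeNB d n) g hg hev
  rw [hg0, map_zero, zero_add] at hPeq
  have : minor K d n (bottom hdn).1 * h = minor K d n (bottom hdn).1 * pluckerMap K d n G := by
    rw [← hP, hPeq, mul_comm]
  have := mul_left_cancel₀ (minor_bottom_ne_zero K hdn) this
  rw [this]
  exact ⟨G, rfl⟩

lemma rightTranslate_minor [Infinite K] (g : Matrix.SpecialLinearGroup (Fin d) K) (a : Fin d → Fin n) :
    rightTranslate K d n g (minor K d n a) = minor K d n a := by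
  apply eq_of_eval_pt_eq
  intro A
  rw [eval_rightTranslate, eval_minor, eval_minor]
  have : (A * (g : Matrix (Fin d) (Fin d) K)).submatrix a id =
      A.submatrix a id * (g : Matrix (Fin d) (Fin d) K) := by
    ext s t
    rw [Matrix.submatrix_apply, Matrix.mul_apply, Matrix.mul_apply]
    rfl
  rw [this, Matrix.det_mul, g.2, mul_one]

/-- First fundamental theorem of invariant theory for `SL_d` acting on `n × d` matrices by right multiplication. -/
theorem fft_sl [Infinite K] (hd : 0 < d) (hdn : d ≤ n) (f : MatRing K d n) :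
    (∀ g : Matrix.SpecialLinearGroup (Fin d) K, rightTranslate K d n g f = f) ↔
      f ∈ Algebra.adjoin K (Set.range fun θ : Idx d n => minor K d n θ.1) := by
  rw [adjoin_eq_range]
  constructor
  · intro hf
    obtain ⟨N, hN⟩ := exists_pow_mul_mem K hd (bottom hdn).1 f hf
    induction N with
    | zero => rwa [pow_zero, one_mul] at hN
    | succ N ih =>
      apply ih
      apply mem_range_of_mul_mem K hd hdn
      rw [← mul_assoc, ← pow_succ']
      exact hN
  · intro hf g
    rw [← adjoin_eq_range] at hf
    have hle : Algebra.adjoin K (Set.range fun θ : Idx d n => minor K d n θ.1) ≤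
        AlgHom.equalizer (rightTranslate K d n g) (AlgHom.id K _) := by
      apply Algebra.adjoin_le
      rintro _ ⟨θ, rfl⟩
      exact rightTranslate_minor K g θ.1
    exact hle hf

end Groth.Agent.Lib.Helper99.FFT
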