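import Mathlib
import Groth.Agent.Lib.Helper99.BitI
import Groth.Agent.Lib.Helper99.FFTC

/-!
# The two components of the divisor of the leading minor in a determinantal variety, as shapes
-/

set_option autoImplicit false
universe u

namespace Groth.Agent.Lib.Helper99.Gl
open W4bk4grassmannian MvPolynomial
open Groth.Agent.Lib.Helper99.SMT Groth.Agent.Lib.Helper99.Bit Groth.Agent.Lib.Helper99.FFT

variable {m q r : ℕ}

/-- the shape of the matrices whose leading rows are dependent -/
def shapeA (m q r : ℕ) (hm : r + 1 ≤ m) : Shape q where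
  lo := fun i => if i.val < r then 0 else if i.val = r then r + 1 else m + (i.val - (r + 1))
  hi := fun _ => m + q
  lo_mono := by
    intro i i' hii'
    have hv : i.val ≤ i'.val := hii'
    simp only
    split_ifs <;> omega
  hi_mono := monotone_const

/-- the shape of the matrices whose leading columns are dependent -/
def shapeB (m q r : ℕ) : Shape q where
  lo := fun i => if i.val < r + 1 then 0 else if i.val + 1 = q then m + (q - (r + 1)) else m + (i.val - (r + 1))
  hi := fun _ => m + q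
  lo_mono := by
    intro i i' hii'
    have hv : i.val ≤ i'.val := hii'
    have h1 := i.isLt
    have h2 := i'.isLt
    simp only
    split_ifs <;> omega
  hi_mono := monotone_const

lemma shapeA_lo (hm : r + 1 ≤ m) (i : Fin q) : (shapeA m q r hm).lo i =
    if i.val < r then 0 else if i.val = r then r + 1 else m + (i.val - (r + 1)) := rfl

lemma shapeA_hi (hm : r + 1 ≤ m) (i : Fin q) : (shapeA m q r hm).hi i = m + q := rfl

lemma shapeB_lo (i : Fin q) : (shapeB m q r).lo i =
    if i.val < r + 1 then 0 else if i.val + 1 = q then m + (q - (r + 1)) else m + (i.val - (r + 1)) := rfl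

lemma shapeB_hi (i : Fin q) : (shapeB m q r).hi i = m + q := rfl

lemma mem_shapeA_thetaMax (hm : r + 1 ≤ m) : (shapeA m q r hm).mem (thetaMax m q) := by
  intro i
  rw [shapeA_lo, shapeA_hi, thetaMax_val]
  have := i.isLt
  constructor
  · split_ifs <;> omega
  · omega

lemma mem_shapeB_thetaMax : (shapeB m q r).mem (thetaMax m q) := by
  intro i
  rw [shapeB_lo, shapeB_hi, thetaMax_val]
  have := i.isLt
  constructor
  · split_ifs <;> omega
  · omega

lemma zeroOutside_shapeT_of_shapeA (hm : r + 1 ≤ m) {R : Type*} [Zero R] (M0 : Matrix (Fin (m + q)) (Fin q) R)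
    (h : ZeroOutside (shapeA m q r hm) M0) : ZeroOutside (shapeT m q (r + 1 + 1)) M0 := by
  intro i t hit
  apply h
  intro hcon
  apply hit
  rw [shapeA_lo, shapeA_hi] at hcon
  rw [shapeT_lo, shapeT_hi]
  refine ⟨?_, hcon.2⟩
  have h1 := hcon.1
  split_ifs at h1 ⊢ <;> omega

lemma zeroOutside_shapeT_of_shapeB {R : Type*} [Zero R] (M0 : Matrix (Fin (m + q)) (Fin q) R)
    (h : ZeroOutside (shapeB m q r) M0) : ZeroOutside (shapeT m q (r + 1 + 1)) M0 := by
  intro i t hit
  apply h
  intro hcon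
  apply hit
  rw [shapeB_lo, shapeB_hi] at hcon
  rw [shapeT_lo, shapeT_hi]
  refine ⟨?_, hcon.2⟩
  have h1 := hcon.1
  have h2 := t.isLt
  split_ifs at h1 ⊢ <;> omega

lemma mem_shapeA_iff (hm : r + 1 ≤ m) (hr : r < q) (θ : Idx q (m + q)) :
    (shapeA m q r hm).mem θ ↔ (shapeT m q (r + 1 + 1)).mem θ ∧ r + 1 ≤ (θ.1 ⟨r, hr⟩).val := by
  constructor
  · intro h
    refine ⟨?_, ?_⟩
    · intro i
      have h1 := h i
      rw [shapeA_lo, shapeA_hi] at h1
      rw [shapeT_lo, shapeT_hi]
      refine ⟨?_, h1.2⟩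
      have h2 := h1.1
      split_ifs at h2 ⊢ <;> omega
    · have h1 := (h ⟨r, hr⟩).1
      rw [shapeA_lo] at h1
      simp only [lt_irrefl, ↓reduceIte] at h1
      exact h1
  · rintro ⟨h, h0⟩ i
    have h1 := h i
    rw [shapeT_lo, shapeT_hi] at h1
    rw [shapeA_lo, shapeA_hi]
    refine ⟨?_, h1.2⟩
    have h2 := h1.1
    by_cases hi : i.val = r
    · have : i = ⟨r, hr⟩ := Fin.ext hi
      rw [this]
      simp only [lt_irrefl, ↓reduceIte]
      exact h0
    · split_ifs at h2 ⊢ <;> omega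

lemma mem_shapeB_iff (hq : r + 2 ≤ q) (θ : Idx q (m + q)) :
    (shapeB m q r).mem θ ↔
      (shapeT m q (r + 1 + 1)).mem θ ∧ m + (q - (r + 1)) ≤ (θ.1 ⟨q - 1, by omega⟩).val := by
  constructor
  · intro h
    refine ⟨?_, ?_⟩
    · intro i
      have h1 := h i
      rw [shapeB_lo, shapeB_hi] at h1
      rw [shapeT_lo, shapeT_hi]
      refine ⟨?_, h1.2⟩
      have h2 := h1.1
      have h3 := i.isLt
      split_ifs at h2 ⊢ <;> omega
    · have h1 := (h ⟨q - 1, by omega⟩).1
      rw [shapeB_lo] at h1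
      simp only at h1
      rw [if_neg (by omega), if_pos (by omega)] at h1
      exact h1
  · rintro ⟨h, h0⟩ i
    have h1 := h i
    rw [shapeT_lo, shapeT_hi] at h1
    rw [shapeB_lo, shapeB_hi]
    refine ⟨?_, h1.2⟩
    have h2 := h1.1
    by_cases hi : i.val + 1 = q
    · have : i = ⟨q - 1, by omega⟩ := Fin.ext (by simp only; omega)
      rw [this]
      simp only
      rw [if_neg (by omega), if_pos (by omega)]
      exact h0
    · split_ifs at h2 ⊢ <;> omega

/-- shapes with constant upper bound are upper sets -/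
lemma mem_of_le (S : Shape q) (hS : ∀ i, S.hi i = m + q) (θ θ' : Idx q (m + q)) (hle : θ ≤ θ')
    (h : S.mem θ) : S.mem θ' := by
  intro i
  have h1 := (h i).1
  have h2 : (θ.1 i).val ≤ (θ'.1 i).val := hle i
  have h3 := (θ'.1 i).isLt
  rw [hS]
  constructor <;> omega

/-- an index of the big shape lying in none of the two shapes is the smallest one -/
lemma val_eq_of_not_mem (hm : r + 1 ≤ m) (hq : r + 2 ≤ q) (θ : Idx q (m + q))
    (hT : (shapeT m q (r + 1 + 1)).mem θ) (hA : ¬ (shapeA m q r hm).mem θ) (hB : ¬ (shapeB m q r).mem θ)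
    (i : Fin q) : (θ.1 i).val = if i.val < r + 1 then i.val else m + (i.val - (r + 1)) := by
  rw [mem_shapeA_iff hm (by omega)] at hA
  rw [mem_shapeB_iff hq] at hB
  have hA' : (θ.1 ⟨r, by omega⟩).val ≤ r := by
    by_contra hcon
    exact hA ⟨hT, by omega⟩
  have hB' : (θ.1 ⟨q - 1, by omega⟩).val < m + (q - (r + 1)) := by
    by_contra hcon
    exact hB ⟨hT, by omega⟩
  have hin := i.isLt
  split_ifs with hi
  · have h1 := gap_le θ (r - i.val) i ⟨r, by omega⟩ (by simp only; omega)
    have h2 := idx_val_ge θ i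
    omega
  · have h1 := gap_le θ (q - 1 - i.val) i ⟨q - 1, by omega⟩ (by simp only; omega)
    have h2 := (hT i).1
    rw [shapeT_lo] at h2
    rw [if_neg (by omega)] at h2
    omega

lemma eq_of_not_mem (hm : r + 1 ≤ m) (hq : r + 2 ≤ q) (θ θ' : Idx q (m + q))
    (hT : (shapeT m q (r + 1 + 1)).mem θ) (hA : ¬ (shapeA m q r hm).mem θ) (hB : ¬ (shapeB m q r).mem θ)
    (hT' : (shapeT m q (r + 1 + 1)).mem θ') (hA' : ¬ (shapeA m q r hm).mem θ')
    (hB' : ¬ (shapeB m q r).mem θ') : θ = θ' := by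
  apply Subtype.ext
  funext i
  apply Fin.ext
  rw [val_eq_of_not_mem hm hq θ hT hA hB i, val_eq_of_not_mem hm hq θ' hT' hA' hB' i]

/-- the index of the leading minor -/
def deltaIdx (hm : r + 1 ≤ m) (hq : r + 1 ≤ q) : MinorIdx m q := ⟨r, bottom hm, bottom hq⟩

lemma mem_shapeT_deltaIdx (hm : r + 1 ≤ m) (hq : r + 1 ≤ q) :
    (shapeT m q (r + 1 + 1)).mem (toIdx (deltaIdx hm hq)) := by
  rw [mem_shapeT_toIdx]
  unfold sz deltaIdx
  simp

lemma not_mem_shapeA_deltaIdx (hm : r + 1 ≤ m) (hq : r + 1 ≤ q) :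
    ¬ (shapeA m q r hm).mem (toIdx (deltaIdx hm hq)) := by
  rw [mem_shapeA_iff hm (by omega)]
  rintro ⟨_, h⟩
  rw [toIdx_val_lt _ _ (by unfold sz deltaIdx; simp)] at h
  unfold deltaIdx at h
  simp only at h
  rw [bottom_val] at h
  simp only at h
  omega

lemma not_mem_shapeB_deltaIdx (hm : r + 1 ≤ m) (hq : r + 2 ≤ q) :
    ¬ (shapeB m q r).mem (toIdx (deltaIdx hm (Nat.le_of_succ_le hq))) := by
  classical
  rw [mem_shapeB_iff hq]
  rintro ⟨_, h⟩
  set M := deltaIdx hm (Nat.le_of_succ_le hq) with hM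
  have hsz : sz M = r + 1 := rfl
  rw [toIdx_val_ge M _ (by rw [hsz]; simp only; omega)] at h
  -- the smallest complementary column is at least `r + 1`
  have hmem := sortFin_mem (Finset.univ.image M.2.2.1)ᶜ (q - sz M) (by
    rw [Finset.card_compl, card_image_idx, Fintype.card_fin]) ⟨q - 1 - (q - 1), by rw [hsz]; omega⟩
  rw [Finset.mem_compl] at hmem
  have hge : r + 1 ≤ ((colCompl M).1 ⟨q - 1 - (q - 1), by rw [hsz]; omega⟩).val := by
    by_contra hcon
    push Not at hcon
    apply hmem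
    rw [Finset.mem_image]
    refine ⟨⟨((colCompl M).1 ⟨q - 1 - (q - 1), by rw [hsz]; omega⟩).val, hcon⟩, Finset.mem_univ _, ?_⟩
    apply Fin.ext
    rfl
  simp only at h
  omega

/-- a minor of size at most `r + 1` lying in none of the two shapes is the leading minor -/
lemma eq_deltaIdx_of_not_mem (hm : r + 1 ≤ m) (hq : r + 2 ≤ q) (M : MinorIdx m q) (hsz : sz M ≤ r + 1)
    (hA : ¬ (shapeA m q r hm).mem (toIdx M)) (hB : ¬ (shapeB m q r).mem (toIdx M)) :
    M = deltaIdx hm (Nat.le_of_succ_le hq) := by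
  apply toIdx_injective
  apply eq_of_not_mem hm hq _ _ _ hA hB (mem_shapeT_deltaIdx hm _) (not_mem_shapeA_deltaIdx hm _)
    (not_mem_shapeB_deltaIdx hm hq)
  rw [mem_shapeT_toIdx]
  exact hsz

/-- a standard bitableau with minors of size at most `r + 1` avoiding the leading minor lies entirely in one of the
two shapes -/
theorem mem_shapeA_or_shapeB (hm : r + 1 ≤ m) (hq : r + 2 ≤ q) (c : StdBit m q (r + 1 + 1))
    (hc : ∀ i, c.2.1 i ≠ deltaIdx hm (Nat.le_of_succ_le hq)) :
    (∀ i, (shapeA m q r hm).mem (toIdx (c.2.1 i))) ∨ (∀ i, (shapeB m q r).mem (toIdx (c.2.1 i))) := by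
  by_cases hA : ∀ i, (shapeA m q r hm).mem (toIdx (c.2.1 i))
  · exact Or.inl hA
  · right
    push Not at hA
    obtain ⟨k, hk⟩ := hA
    have hszc : ∀ j, sz (c.2.1 j) ≤ r + 1 := fun j => c.2.2.1 j
    have hT : ∀ j, (shapeT m q (r + 1 + 1)).mem (toIdx (c.2.1 j)) := fun j =>
      (mem_shapeT_toIdx _ _).2 (hszc j)
    have hBk : (shapeB m q r).mem (toIdx (c.2.1 k)) := by
      by_contra hcon
      exact hc k (eq_deltaIdx_of_not_mem hm hq _ (hszc k) hk hcon)
    have hkr : ((toIdx (c.2.1 k)).1 ⟨r, by omega⟩).val ≤ r := by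
      by_contra hcon
      apply hk
      rw [mem_shapeA_iff hm (by omega)]
      exact ⟨hT k, by omega⟩
    intro i
    rcases lt_trichotomy i k with hik | hik | hik
    · have hge : MinorGE (c.2.1 i) (c.2.1 k) := c.2.2.2 i k hik
      rw [← toIdx_le_iff] at hge
      exact mem_of_le _ (fun _ => rfl) _ _ hge hBk
    · rw [hik]; exact hBk
    · have hge : MinorGE (c.2.1 k) (c.2.1 i) := c.2.2.2 k i hik
      rw [← toIdx_le_iff] at hge
      have h1 : ((toIdx (c.2.1 i)).1 ⟨r, by omega⟩).val ≤ ((toIdx (c.2.1 k)).1 ⟨r, by omega⟩).val := hge _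
      by_contra hcon
      apply hc i
      apply eq_deltaIdx_of_not_mem hm hq _ (hszc i) _ hcon
      rw [mem_shapeA_iff hm (by omega)]
      rintro ⟨_, h2⟩
      omega

end Groth.Agent.Lib.Helper99.Gl
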