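import Mathlib
import Groth.Agent.Lib.Helper99.GlB
import Groth.Agent.Lib.Helper99.GlC

/-!
# Divisibility by the leading minor inside the algebra of the entries of the product
-/

set_option autoImplicit false
universe u

namespace Groth.Agent.Lib.Helper99.Gl
open W4bk4grassmannian MvPolynomial
open Groth.Agent.Lib.Helper99.SMT Groth.Agent.Lib.Helper99.Bit Groth.Agent.Lib.Helper99.Sft
open Groth.Agent.Lib.Helper99.FFT Groth.Agent.Lib.Helper99.Normal

variable (K : Type u) [Field K] {m q r : ℕ}

/-- a minor whose index lies outside a shape vanishes at the top parts of the matrices of the shape -/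
lemma eval_minorOf_eq_zero (S : Shape q) (M0 : Matrix (Fin (m + q)) (Fin q) K) (hM0 : ZeroOutside S M0)
    (X0 : Matrix (Fin m) (Fin q) K) (g0 : Matrix (Fin q) (Fin q) K) (hg0 : g0.det ≠ 0)
    (hdec : stack X0 * g0 = M0) (M : MinorIdx m q) (hM : ¬ S.mem (toIdx M)) :
    MvPolynomial.eval (ptM K X0) (minorOf K M) = 0 := by
  have h1 := det_stack_toIdx M X0
  have h2 : ((stack X0).submatrix (toIdx M).1 id).det * g0.det = 0 := by
    have : (stack X0).submatrix (toIdx M).1 id * g0 = M0.submatrix (toIdx M).1 id := by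
      rw [← hdec]
      apply Matrix.ext
      intro i j
      rw [Matrix.submatrix_apply, Matrix.mul_apply, Matrix.mul_apply]
      rfl
    rw [← Matrix.det_mul, this]
    exact det_submatrix_eq_zero_of_not_mem S M0 hM0 _ hM
  have h3 : ((stack X0).submatrix (toIdx M).1 id).det = 0 := by
    rcases mul_eq_zero.1 h2 with h | h
    · exact h
    · exact absurd h hg0
  rw [h3] at h1
  have h4 := intCast_units_mul_self K (eps M)
  have h5 : (X0.submatrix M.2.1.1 M.2.2.1).det = 0 := by
    rcases mul_eq_zero.1 h1.symm with h | h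
    · rw [h, zero_mul] at h4
      exact absurd h4 zero_ne_one
    · exact h
  unfold minorOf
  rw [RingHom.map_det, RingHom.mapMatrix_apply, ← Matrix.submatrix_map, genMatrix_map_eval]
  exact h5

lemma minorOf_deltaIdx (hm : r + 1 ≤ m) (hq : r + 1 ≤ q) : minorOf K (deltaIdx hm hq) = deltaY K hm hq := rfl

lemma pairingMap_deltaY_ne_zero (hm : r + 1 ≤ m) (hq : r + 1 ≤ q) :
    pairingMap K (r + 1) m q (deltaY K hm hq) ≠ 0 := by
  intro h0
  have h1 := eval_pairingMap K (Matrix.of fun (i : Fin m) (k : Fin (r + 1)) => if i.val = k.val then (1 : K) else 0)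
    (Matrix.of fun (k : Fin (r + 1)) (j : Fin q) => if k.val = j.val then (1 : K) else 0) (deltaY K hm hq)
  rw [h0, map_zero, eval_deltaY, Matrix.submatrix_mul _ _ (Fin.castLE hm) id (Fin.castLE hq) Function.bijective_id] at h1
  have hU : (Matrix.of fun (i : Fin m) (k : Fin (r + 1)) => if i.val = k.val then (1 : K) else 0).submatrix
      (Fin.castLE hm) id = 1 := by
    apply Matrix.ext
    intro s t
    rw [Matrix.submatrix_apply, Matrix.of_apply, Matrix.one_apply]
    simp only [id, Fin.val_castLE]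
    by_cases hst : s = t
    · rw [if_pos (by rw [hst]), if_pos hst]
    · rw [if_neg (fun h => hst (Fin.ext h)), if_neg hst]
  have hW : (Matrix.of fun (k : Fin (r + 1)) (j : Fin q) => if k.val = j.val then (1 : K) else 0).submatrix
      id (Fin.castLE hq) = 1 := by
    apply Matrix.ext
    intro s t
    rw [Matrix.submatrix_apply, Matrix.of_apply, Matrix.one_apply]
    simp only [id, Fin.val_castLE]
    by_cases hst : s = t
    · rw [if_pos (by rw [hst]), if_pos hst]
    · rw [if_neg (fun h => hst (Fin.ext h)), if_neg hst]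
  rw [hU, hW, Matrix.one_mul, Matrix.det_one] at h1
  exact zero_ne_one h1

/-- divisibility by the leading minor inside the algebra of the entries of the product -/
theorem mem_range_of_mul_mem [Infinite K] (hm : r + 2 ≤ m) (hq : r + 2 ≤ q) (h : PairRing K (r + 1) m q)
    (hh : pairingMap K (r + 1) m q (deltaY K (Nat.le_of_succ_le hm) (Nat.le_of_succ_le hq)) * h ∈
      (pairingMap K (r + 1) m q).range) :
    h ∈ (pairingMap K (r + 1) m q).range := by
  classical
  have hm1 : r + 1 ≤ m := Nat.le_of_succ_le hm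
  have hq1 : r + 1 ≤ q := Nat.le_of_succ_le hq
  set δY := deltaY K hm1 hq1 with hδY
  set δ := pairingMap K (r + 1) m q δY with hδ
  obtain ⟨P, hP'⟩ := hh
  have hP : pairingMap K (r + 1) m q P = δ * h := hP'
  clear hP'
  set I := CAlgX.minorIdeal (genMatrix K m q) (r + 1 + 1) with hI
  have hker : RingHom.ker (pairingMap K (r + 1) m q).toRingHom = I := ker_eq_minorIdeal K m q (r + 1)
  have hspan := span_bitMon K (show 0 < m by omega) (r + 1 + 1) (n := q)
  have hPmem : Ideal.Quotient.mk I P ∈ Submodule.span K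
      (Set.range fun c : StdBit m q (r + 1 + 1) => Ideal.Quotient.mk I (bitMon K c)) := by
    rw [hspan]
    trivial
  obtain ⟨l, hl⟩ := Finsupp.mem_span_range_iff_exists_finsupp.1 hPmem
  have hPl : P - ∑ c ∈ l.support, l c • bitMon K c ∈ I := by
    rw [← Ideal.Quotient.eq, ← hl, map_sum, Finsupp.sum]
    apply Finset.sum_congr rfl
    intro c _
    exact (map_smul (Ideal.Quotient.mkₐ K I) (l c) (bitMon K c)).symm
  have hPl' : pairingMap K (r + 1) m q P = pairingMap K (r + 1) m q (∑ c ∈ l.support, l c • bitMon K c) := by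
    rw [← hker, RingHom.mem_ker] at hPl
    have : pairingMap K (r + 1) m q (P - ∑ c ∈ l.support, l c • bitMon K c) = 0 := hPl
    rw [map_sub, sub_eq_zero] at this
    exact this
  -- split the bitableaux according to whether they contain the leading minor
  set fsA := l.support.filter (fun c => ∃ i, c.2.1 i = deltaIdx hm1 hq1) with hfsA
  set fsN := l.support.filter (fun c => ¬ ∃ i, c.2.1 i = deltaIdx hm1 hq1) with hfsN
  have hsplit : ∑ c ∈ l.support, l c • bitMon K c =
      ∑ c ∈ fsA, l c • bitMon K c + ∑ c ∈ fsN, l c • bitMon K c :=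
    (Finset.sum_filter_add_sum_filter_not _ _ _).symm
  have hA : ∃ G, ∑ c ∈ fsA, l c • bitMon K c = δY * G := by
    apply Finset.sum_induction _ (fun x => ∃ G, x = δY * G)
    · rintro a b ⟨Ga, rfl⟩ ⟨Gb, rfl⟩
      exact ⟨Ga + Gb, by ring⟩
    · exact ⟨0, by ring⟩
    · intro c hc
      rw [hfsA, Finset.mem_filter] at hc
      obtain ⟨i, hi⟩ := hc.2
      refine ⟨l c • ∏ j ∈ Finset.univ.erase i, minorOf K (c.2.1 j), ?_⟩
      unfold bitMon
      rw [← Finset.mul_prod_erase _ _ (Finset.mem_univ i), hi, minorOf_deltaIdx, mul_smul_comm]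
  obtain ⟨G, hG⟩ := hA
  set PN := ∑ c ∈ fsN, l c • bitMon K c with hPN
  have hPNeq : pairingMap K (r + 1) m q PN = δ * (h - pairingMap K (r + 1) m q G) := by
    have h1 : pairingMap K (r + 1) m q P = δ * pairingMap K (r + 1) m q G + pairingMap K (r + 1) m q PN := by
      rw [hPl', hsplit, map_add, hG, map_mul]
    rw [hP] at h1
    rw [mul_sub, h1]
    ring
  -- the remaining combination vanishes at the matrices of the two shapes
  have hvan : ∀ (S : Shape q), ¬ S.mem (toIdx (deltaIdx hm1 hq1)) →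
      (∀ M0 : Matrix (Fin (m + q)) (Fin q) K, ZeroOutside S M0 → ZeroOutside (shapeT m q (r + 1 + 1)) M0) →
      ∀ (M0 : Matrix (Fin (m + q)) (Fin q) K) (X0 : Matrix (Fin m) (Fin q) K)
      (g0 : Matrix (Fin q) (Fin q) K), ZeroOutside S M0 → g0.det ≠ 0 →
      stack X0 * g0 = M0 → MvPolynomial.eval (ptM K X0) PN = 0 := by
    intro S hS hST M0 X0 g0 h1 h2 h3
    have hδ0 : MvPolynomial.eval (ptM K X0) δY = 0 := by
      rw [hδY, ← minorOf_deltaIdx]
      exact eval_minorOf_eq_zero K S M0 h1 X0 g0 h2 h3 _ hS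
    obtain ⟨U0, W0, rfl⟩ := exists_factor K M0 (hST M0 h1) X0 g0 h2 h3
    rw [← eval_pairingMap, hPNeq, map_mul, hδ, eval_pairingMap, hδ0, zero_mul]
  have hzA := coeff_eq_zero_of_eval_eq_zero' K (show 0 < q by omega) (shapeA m q r hm1)
    (mem_shapeA_thetaMax hm1) (r + 1 + 1) fsN l
    (hvan _ (not_mem_shapeA_deltaIdx hm1 hq1) (zeroOutside_shapeT_of_shapeA hm1))
  have hzB := coeff_eq_zero_of_eval_eq_zero' K (show 0 < q by omega) (shapeB m q r)
    mem_shapeB_thetaMax (r + 1 + 1) fsN l
    (hvan _ (not_mem_shapeB_deltaIdx hm1 hq) zeroOutside_shapeT_of_shapeB)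
  have hPN0 : PN = 0 := by
    rw [hPN]
    apply Finset.sum_eq_zero
    intro c hc
    have hc' := hc
    rw [hfsN, Finset.mem_filter] at hc'
    have hne : ∀ i, c.2.1 i ≠ deltaIdx hm1 (Nat.le_of_succ_le hq) := by
      intro i hi
      exact hc'.2 ⟨i, hi⟩
    rcases mem_shapeA_or_shapeB hm1 hq c hne with hcA | hcB
    · rw [hzA c hc hcA, zero_smul]
    · rw [hzB c hc hcB, zero_smul]
  rw [hPN0, map_zero] at hPNeq
  have h2 : h - pairingMap K (r + 1) m q G = 0 := by
    rcases mul_eq_zero.1 hPNeq.symm with h3 | h3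
    · exact absurd h3 (pairingMap_deltaY_ne_zero K hm1 hq1)
    · exact h3
  rw [sub_eq_zero] at h2
  rw [h2]
  exact ⟨G, rfl⟩

end Groth.Agent.Lib.Helper99.Gl
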