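import Mathlib
import Groth.Agent.Lib.Helper99.GlD

/-!
# First fundamental theorem for `GL_n` on pairs of matrices
-/

set_option autoImplicit false
universe u

namespace Groth.Agent.Lib.Helper99.Gl
open W4bk4grassmannian MvPolynomial
open Groth.Agent.Lib.Helper99.SMT Groth.Agent.Lib.Helper99.Bit Groth.Agent.Lib.Helper99.Sft
open Groth.Agent.Lib.Helper99.FFT

variable (K : Type u) [Field K]

/-- the main case: both matrices have more than `r + 1` rows resp. columns -/
theorem fft_gl_main [Infinite K] {m q r : ℕ} (hm : r + 2 ≤ m) (hq : r + 2 ≤ q) (f : PairRing K (r + 1) m q)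
    (hf : ∀ A : GL (Fin (r + 1)) K, glTranslate K (r + 1) m q A f = f) :
    f ∈ (pairingMap K (r + 1) m q).range := by
  obtain ⟨N, hN⟩ := exists_pow_mul_mem K (Nat.le_of_succ_le hm) (Nat.le_of_succ_le hq) f hf
  induction N with
  | zero => rwa [pow_zero, one_mul] at hN
  | succ N ih =>
    apply ih
    apply mem_range_of_mul_mem K hm hq
    rw [← mul_assoc, ← pow_succ']
    exact hN

section Reduction
variable (n m q a b : ℕ)

/-- adding rows and columns of new variables -/
noncomputable def iota : PairRing K n m q →ₐ[K] PairRing K n (m + a) (q + b) :=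
  MvPolynomial.rename (Sum.map (Prod.map (Fin.castAdd a) id) (Prod.map id (Fin.castAdd b)))

/-- setting the new variables to zero -/
noncomputable def rho : PairRing K n (m + a) (q + b) →ₐ[K] PairRing K n m q :=
  MvPolynomial.aeval (Sum.elim
    (fun p : Fin (m + a) × Fin n => if h : p.1.val < m then X (Sum.inl (⟨p.1.val, h⟩, p.2)) else 0)
    (fun p : Fin n × Fin (q + b) => if h : p.2.val < q then X (Sum.inr (p.1, ⟨p.2.val, h⟩)) else 0))

/-- setting the new entries of the product to zero -/
noncomputable def rhoY : MvPolynomial (Fin (m + a) × Fin (q + b)) K →ₐ[K] MvPolynomial (Fin m × Fin q) K :=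
  MvPolynomial.aeval (fun p : Fin (m + a) × Fin (q + b) =>
    if h : p.1.val < m ∧ p.2.val < q then X (⟨p.1.val, h.1⟩, ⟨p.2.val, h.2⟩) else 0)

lemma rho_iota (f : PairRing K n m q) : rho K n m q a b (iota K n m q a b f) = f := by
  have : (rho K n m q a b).comp (iota K n m q a b) = AlgHom.id K _ := by
    apply MvPolynomial.algHom_ext
    intro p
    rw [AlgHom.comp_apply, AlgHom.id_apply]
    unfold iota rho
    rw [rename_X, aeval_X]
    rcases p with p | p
    · rw [Sum.map_inl, Sum.elim_inl]
      simp only [Prod.map_fst, Prod.map_snd, id, Fin.val_castAdd]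
      rw [dif_pos p.1.isLt]
    · rw [Sum.map_inr, Sum.elim_inr]
      simp only [Prod.map_fst, Prod.map_snd, id, Fin.val_castAdd]
      rw [dif_pos p.2.isLt]
  exact congrArg (fun φ => φ f) this

lemma glTranslate_iota (A : GL (Fin n) K) (f : PairRing K n m q) :
    glTranslate K n (m + a) (q + b) A (iota K n m q a b f) = iota K n m q a b (glTranslate K n m q A f) := by
  have : (glTranslate K n (m + a) (q + b) A).comp (iota K n m q a b) =
      (iota K n m q a b).comp (glTranslate K n m q A) := by
    apply MvPolynomial.algHom_ext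
    intro p
    rw [AlgHom.comp_apply, AlgHom.comp_apply]
    unfold iota glTranslate
    rw [rename_X, aeval_X, aeval_X]
    rcases p with p | p
    · rw [Sum.map_inl, Sum.elim_inl, Sum.elim_inl, map_sum]
      apply Finset.sum_congr rfl
      intro k _
      rw [map_mul, rename_X, rename_C]
      rfl
    · rw [Sum.map_inr, Sum.elim_inr, Sum.elim_inr, map_sum]
      apply Finset.sum_congr rfl
      intro k _
      rw [map_mul, rename_X, rename_C]
      rfl
  exact congrArg (fun φ => φ f) this

lemma rho_pairingMap (P : MvPolynomial (Fin (m + a) × Fin (q + b)) K) :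
    rho K n m q a b (pairingMap K n (m + a) (q + b) P) = pairingMap K n m q (rhoY K m q a b P) := by
  have : (rho K n m q a b).comp (pairingMap K n (m + a) (q + b)) =
      (pairingMap K n m q).comp (rhoY K m q a b) := by
    apply MvPolynomial.algHom_ext
    intro p
    rw [AlgHom.comp_apply, AlgHom.comp_apply]
    unfold rhoY
    rw [aeval_X]
    unfold pairingMap rho
    rw [aeval_X, map_sum]
    by_cases h1 : p.1.val < m
    · by_cases h2 : p.2.val < q
      · rw [dif_pos ⟨h1, h2⟩, aeval_X]
        apply Finset.sum_congr rfl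
        intro k _
        rw [map_mul, aeval_X, aeval_X, Sum.elim_inl, Sum.elim_inr]
        simp only
        rw [dif_pos h1, dif_pos h2]
      · rw [dif_neg (fun h => h2 h.2), map_zero]
        apply Finset.sum_eq_zero
        intro k _
        rw [map_mul, aeval_X, aeval_X, Sum.elim_inl, Sum.elim_inr]
        simp only
        rw [dif_neg h2, mul_zero]
    · rw [dif_neg (fun h => h1 h.1), map_zero]
      apply Finset.sum_eq_zero
      intro k _
      rw [map_mul, aeval_X, aeval_X, Sum.elim_inl, Sum.elim_inr]
      simp only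
      rw [dif_neg h1, zero_mul]
  exact congrArg (fun φ => φ P) this

end Reduction

/-- First fundamental theorem of invariant theory for `GL_n` acting on pairs of matrices. -/
theorem fft_gl [Infinite K] (m n q : ℕ) (f : PairRing K n m q) :
    (∀ A : GL (Fin n) K, glTranslate K n m q A f = f) ↔ f ∈ (pairingMap K n m q).range := by
  constructor
  · intro hf
    rcases Nat.eq_zero_or_pos n with hn | hn
    · subst hn
      have : IsEmpty ((Fin m × Fin 0) ⊕ (Fin 0 × Fin q)) := inferInstance
      rw [MvPolynomial.eq_C_of_isEmpty f]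
      refine ⟨C (f.coeff 0), ?_⟩
      rw [← MvPolynomial.algebraMap_eq, ← MvPolynomial.algebraMap_eq]
      exact AlgHom.commutes _ _
    · obtain ⟨r, rfl⟩ : ∃ r, n = r + 1 := ⟨n - 1, by omega⟩
      have hinv : ∀ A : GL (Fin (r + 1)) K, glTranslate K (r + 1) (m + (r + 2)) (q + (r + 2)) A
          (iota K (r + 1) m q (r + 2) (r + 2) f) = iota K (r + 1) m q (r + 2) (r + 2) f := by
        intro A
        rw [glTranslate_iota, hf A]
      obtain ⟨P, hP⟩ := fft_gl_main K (by omega) (by omega) _ hinv
      refine ⟨rhoY K m q (r + 2) (r + 2) P, ?_⟩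
      have hP' : pairingMap K (r + 1) (m + (r + 2)) (q + (r + 2)) P = iota K (r + 1) m q (r + 2) (r + 2) f := hP
      change pairingMap K (r + 1) m q (rhoY K m q (r + 2) (r + 2) P) = f
      rw [← rho_pairingMap, hP', rho_iota]
  · rintro ⟨P, rfl⟩ A
    exact glTranslate_pairingMap K A P

end Groth.Agent.Lib.Helper99.Gl
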