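import Mathlib
import Groth.Agent.Lib.Helper99.GlE

/-!
# Determinantal rings are normal domains (through the fundamental theorems for `GL`)
-/

set_option autoImplicit false
universe u

namespace Groth.Agent.Lib.Helper99.Det
open W4bk4grassmannian MvPolynomial
open Groth.Agent.Lib.Helper99.Gl Groth.Agent.Lib.Helper99.Sft

/-- a subring of an integrally closed domain which is saturated with respect to division is integrally closed -/
theorem isIntegrallyClosed_of_saturated {P : Type*} [CommRing P] [IsDomain P] [IsIntegrallyClosed P]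
    (B : Subring P) (hsat : ∀ p : P, ∀ b ∈ B, b ≠ 0 → p * b ∈ B → p ∈ B) : IsIntegrallyClosed B := by
  rw [isIntegrallyClosed_iff (FractionRing B)]
  intro x hx
  set g : B →+* FractionRing P := (algebraMap P (FractionRing P)).comp B.subtype with hg'
  have hg : Function.Injective g :=
    (IsFractionRing.injective P (FractionRing P)).comp Subtype.val_injective
  set φ : FractionRing B →+* FractionRing P := IsFractionRing.lift hg with hφ
  have hcomp : (algebraMap P (FractionRing P)).comp B.subtype = φ.comp (algebraMap B (FractionRing B)) := by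
    ext b
    rw [RingHom.comp_apply, RingHom.comp_apply, hφ, IsFractionRing.lift_algebraMap]
    rfl
  have hint : IsIntegral P (φ x) := IsIntegral.map_of_comp_eq B.subtype φ hcomp hx
  obtain ⟨p, hp⟩ := IsIntegrallyClosed.algebraMap_eq_of_integral hint
  obtain ⟨b1, b2, hb2, rfl⟩ := IsFractionRing.div_surjective B x
  have hb2' : b2 ≠ 0 := nonZeroDivisors.ne_zero hb2
  have hb2P : (b2 : P) ≠ 0 := fun h => hb2' (Subtype.ext h)
  have hφb : ∀ b : B, φ (algebraMap B (FractionRing B) b) = algebraMap P (FractionRing P) (b : P) := by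
    intro b
    rw [hφ, IsFractionRing.lift_algebraMap]
    rfl
  rw [map_div₀, hφb, hφb] at hp
  have hne : algebraMap P (FractionRing P) (b2 : P) ≠ 0 := by
    intro h
    exact hb2P ((IsFractionRing.injective P (FractionRing P)) (by rw [h, map_zero]))
  rw [eq_div_iff hne, ← map_mul] at hp
  have hpb : p * (b2 : P) = (b1 : P) := IsFractionRing.injective P (FractionRing P) hp
  have hpB : p ∈ B := hsat p b2 b2.2 hb2P (by rw [hpb]; exact b1.2)
  refine ⟨⟨p, hpB⟩, ?_⟩
  have hne' : algebraMap B (FractionRing B) b2 ≠ 0 := by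
    intro h
    exact hb2' ((IsFractionRing.injective B (FractionRing B)) (by rw [h, map_zero]))
  rw [eq_div_iff hne', ← map_mul]
  congr 1
  exact Subtype.ext hpb

variable (K : Type u) [Field K] [Infinite K]

/-- the determinantal ideal is the kernel of the comorphism of the product map -/
lemma minorIdeal_eq_ker (m n t : ℕ) (ht : 1 ≤ t) :
    CAlgX.minorIdeal (genMatrix K m n) t = RingHom.ker (pairingMap K (t - 1) m n).toRingHom := by
  rw [ker_eq_minorIdeal K m n (t - 1), Nat.sub_add_cancel ht]

theorem isPrime_minorIdeal (m n t : ℕ) (ht : 1 ≤ t) : (CAlgX.minorIdeal (genMatrix K m n) t).IsPrime := by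
  rw [minorIdeal_eq_ker K m n t ht]
  exact RingHom.ker_isPrime _

theorem isIntegrallyClosed_range (m n r : ℕ) :
    IsIntegrallyClosed (pairingMap K r m n).toRingHom.range := by
  apply isIntegrallyClosed_of_saturated
  intro p b hb hb0 hpb
  obtain ⟨Pb, rfl⟩ := hb
  obtain ⟨Ppb, hPpb⟩ := hpb
  have hinv : ∀ A : GL (Fin r) K, glTranslate K r m n A p = p := by
    intro A
    have h1 : glTranslate K r m n A (p * (pairingMap K r m n).toRingHom Pb) =
        p * (pairingMap K r m n).toRingHom Pb := by
      rw [← hPpb]
      exact glTranslate_pairingMap K A Ppb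
    rw [map_mul] at h1
    have h2 : glTranslate K r m n A ((pairingMap K r m n).toRingHom Pb) = (pairingMap K r m n).toRingHom Pb :=
      glTranslate_pairingMap K A Pb
    rw [h2] at h1
    exact mul_right_cancel₀ hb0 h1
  obtain ⟨Q, hQ⟩ := (fft_gl K m r n p).1 hinv
  exact ⟨Q, hQ⟩

theorem isIntegrallyClosed_quotient_minorIdeal (m n t : ℕ) (ht : 1 ≤ t) :
    IsIntegrallyClosed (MvPolynomial (Fin m × Fin n) K ⧸ CAlgX.minorIdeal (genMatrix K m n) t) := by
  have h1 := isIntegrallyClosed_range K m n (t - 1)
  have e1 := RingHom.quotientKerEquivRange (pairingMap K (t - 1) m n).toRingHom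
  have e2 := Ideal.quotEquivOfEq (minorIdeal_eq_ker K m n t ht)
  exact IsIntegrallyClosed.of_equiv (e2.trans e1).symm

end Groth.Agent.Lib.Helper99.Det
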