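import Mathlib

/-!
# A normality criterion

A domain `R` with a nonzero element `y` such that `(y)` is a radical ideal and `R[1/y]` is integrally closed is
integrally closed.
-/

set_option autoImplicit false

namespace Groth.Agent.Lib.Helper99.Normal

open Polynomial

/-- a root `r` of a monic polynomial whose lower coefficients are scaled by `s`: `s ∣ r ^ m` -/
lemma dvd_pow_of_eval_scaleRoots_eq_zero {R : Type*} [CommRing R] (p : R[X]) (hp : p.Monic) (s r : R)
    (h : (scaleRoots p s).eval r = 0) : s ∣ r ^ p.natDegree := by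
  rw [eval_eq_sum_range, natDegree_scaleRoots, Finset.sum_range_succ, coeff_scaleRoots_natDegree,
    hp.leadingCoeff, one_mul] at h
  have h2 : r ^ p.natDegree = -∑ i ∈ Finset.range p.natDegree, (scaleRoots p s).coeff i * r ^ i := by
    rw [eq_neg_iff_add_eq_zero, add_comm]
    exact h
  rw [h2, dvd_neg]
  apply Finset.dvd_sum
  intro i hi
  rw [Finset.mem_range] at hi
  rw [coeff_scaleRoots]
  apply Dvd.dvd.mul_right
  apply Dvd.dvd.mul_left
  exact dvd_pow_self s (by omega)

theorem isIntegrallyClosed_of_away {R : Type*} [CommRing R] [IsDomain R] (y : R) (hy : y ≠ 0)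
    (hrad : (Ideal.span {y}).IsRadical) (Ry : Type*) [CommRing Ry] [Algebra R Ry]
    [IsLocalization.Away y Ry] [hic : IsIntegrallyClosed Ry] : IsIntegrallyClosed R := by
  classical
  let F := FractionRing R
  have hle : Submonoid.powers y ≤ nonZeroDivisors R :=
    powers_le_nonZeroDivisors_of_noZeroDivisors hy
  let _ : Algebra Ry F :=
    IsLocalization.localizationAlgebraOfSubmonoidLe Ry F (Submonoid.powers y) (nonZeroDivisors R) hle
  have : IsScalarTower R Ry F :=
    IsLocalization.localization_isScalarTower_of_submonoid_le Ry F _ _ hle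
  have : IsFractionRing Ry F :=
    IsFractionRing.isFractionRing_of_isDomain_of_isLocalization (Submonoid.powers y) Ry F
  rw [isIntegrallyClosed_iff F]
  intro z hz
  have hz' : IsIntegral Ry z := hz.tower_top
  obtain ⟨w, hw⟩ := (isIntegrallyClosed_iff F).1 hic hz'
  -- a denominator
  have hex : ∃ k : ℕ, ∃ r : R, z * algebraMap R F (y ^ k) = algebraMap R F r := by
    obtain ⟨⟨r, ⟨_, k, rfl⟩⟩, hrk⟩ := IsLocalization.surj (Submonoid.powers y) w
    refine ⟨k, r, ?_⟩
    simp only at hrk
    rw [← hw, IsScalarTower.algebraMap_apply R Ry F, IsScalarTower.algebraMap_apply R Ry F, ← map_mul, hrk]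
  set k := Nat.find hex with hk
  obtain ⟨r, hr⟩ := Nat.find_spec hex
  rw [← hk] at hr
  by_cases hk0 : k = 0
  · rw [hk0, pow_zero, map_one, mul_one] at hr
    exact ⟨r, hr.symm⟩
  · exfalso
    -- the integral equation
    obtain ⟨p, hp, hpz⟩ := hz
    have hinj : Function.Injective (algebraMap R F) := IsFractionRing.injective R F
    have hdeg : 0 < p.natDegree := by
      by_contra hcon
      have h0 : p.natDegree = 0 := by omega
      have : p = 1 := by
        rw [Polynomial.eq_C_of_natDegree_eq_zero h0]
        have := hp.leadingCoeff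
        rw [Polynomial.leadingCoeff, h0] at this
        rw [this, map_one]
      rw [this, Polynomial.eval₂_one] at hpz
      exact one_ne_zero hpz
    have h1 := scaleRoots_eval₂_eq_zero (algebraMap R F) (s := y ^ k) hpz
    rw [mul_comm, hr, Polynomial.eval₂_at_apply] at h1
    have h2 : (scaleRoots p (y ^ k)).eval r = 0 := hinj (by rw [h1, map_zero])
    have h3 := dvd_pow_of_eval_scaleRoots_eq_zero p hp (y ^ k) r h2
    have h4 : y ∣ r ^ p.natDegree := (dvd_pow_self y hk0).trans h3
    have h5 : r ∈ Ideal.span {y} := hrad ⟨p.natDegree, Ideal.mem_span_singleton.2 h4⟩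
    obtain ⟨r', hr'⟩ := Ideal.mem_span_singleton.1 h5
    -- a smaller denominator
    have hk1 : k - 1 < k := by omega
    apply Nat.find_min hex hk1
    refine ⟨r', ?_⟩
    have hyF : algebraMap R F y ≠ 0 := by
      intro h0
      exact hy (hinj (by rw [h0, map_zero]))
    apply mul_right_cancel₀ hyF
    rw [mul_assoc, ← map_mul, ← pow_succ, ← map_mul, mul_comm r' y, ← hr', ← hr]
    congr 3
    omega

end Groth.Agent.Lib.Helper99.Normal
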