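import Mathlib
import Groth.Agent.Lib.Helper99.NormalC

/-!
# The open cell of a Schubert variety: `R[1/p_τ]` is a localised polynomial ring
-/

set_option autoImplicit false
universe u

namespace Groth.Agent.Lib.Helper99.Normal
open W4bk4grassmannian MvPolynomial
open Groth.Agent.Lib.Helper99.SMT

variable (K : Type u) [Field K] [Infinite K] {d n : ℕ} (τ : Idx d n) (hd : 0 < d)

/-- the coordinate ring of the Schubert cone -/
abbrev SR (τ : Idx d n) : Type u := PlRing K d n ⧸ schubertVanishing K d n τ

/-- the class of the top Plücker coordinate -/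
noncomputable def yS : SR K τ := Ideal.Quotient.mk _ (X τ)

/-- evaluation at the normal form, on the Schubert cone -/
noncomputable def psi' : SR K τ →ₐ[K] QRing K τ :=
  Ideal.Quotient.liftₐ (schubertVanishing K d n τ) (evN K (NN K τ ⟨0, hd⟩))
    (fun f hf => evN_eq_zero_of_mem_schubertVanishing K τ _ (zeroOutside_NN K τ _) f hf)

lemma psi'_mk (f : PlRing K d n) :
    psi' K τ hd (Ideal.Quotient.mk _ f) = evN K (NN K τ ⟨0, hd⟩) f := rfl

lemma psi'_yS : psi' K τ hd (yS K τ) = X none := by
  unfold yS
  rw [psi'_mk, evN_X, NN_submatrix, det_Dg]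

lemma psi'_coord (i : Fin d) (j : Fin n) :
    psi' K τ hd (Ideal.Quotient.mk _ (coord K d n (Function.update τ.1 i j))) = X none * N0 K τ j i := by
  rw [psi'_mk, evN_coord, det_NN_update]

/-- the localisation of the cell ring -/
abbrev Qt : Type u := Localization.Away (X none : QRing K τ)

/-- the localisation of the Schubert cone at the top coordinate -/
abbrev Ry : Type u := Localization.Away (yS K τ)

/-- `R[1/y] → Q[1/t]` -/
noncomputable def psi : Ry K τ →+* Qt K τ :=
  IsLocalization.Away.lift (yS K τ) (g := (algebraMap (QRing K τ) (Qt K τ)).comp (psi' K τ hd).toRingHom) (by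
    change IsUnit (algebraMap (QRing K τ) (Qt K τ) (psi' K τ hd (yS K τ)))
    rw [psi'_yS]
    exact IsLocalization.Away.algebraMap_isUnit _)

lemma psi_algebraMap (r : SR K τ) :
    psi K τ hd (algebraMap (SR K τ) (Ry K τ) r) = algebraMap (QRing K τ) (Qt K τ) (psi' K τ hd r) := by
  unfold psi
  rw [IsLocalization.Away.lift_eq]
  rfl

/-- the inverse of `y` -/
noncomputable def yinv : Ry K τ := IsLocalization.Away.invSelf (yS K τ)

lemma y_mul_yinv : algebraMap (SR K τ) (Ry K τ) (yS K τ) * yinv K τ = 1 :=
  IsLocalization.Away.mul_invSelf _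

/-- the images of the variables -/
noncomputable def phiVar : Option (Cell τ) → Ry K τ
  | none => algebraMap (SR K τ) (Ry K τ) (yS K τ)
  | some p => algebraMap (SR K τ) (Ry K τ)
      (Ideal.Quotient.mk _ (coord K d n (Function.update τ.1 p.1.2 p.1.1))) * yinv K τ

/-- `Q → R[1/y]` -/
noncomputable def phi' : QRing K τ →+* Ry K τ :=
  MvPolynomial.eval₂Hom ((algebraMap (SR K τ) (Ry K τ)).comp (algebraMap K (SR K τ))) (phiVar K τ)

lemma phi'_C (a : K) : phi' K τ (C a) = algebraMap (SR K τ) (Ry K τ) (algebraMap K (SR K τ) a) := by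
  unfold phi'
  rw [MvPolynomial.coe_eval₂Hom, eval₂_C]
  rfl

lemma phi'_X (o : Option (Cell τ)) : phi' K τ (X o) = phiVar K τ o := by
  unfold phi'
  rw [MvPolynomial.coe_eval₂Hom, eval₂_X]

/-- `Q[1/t] → R[1/y]` -/
noncomputable def phi : Qt K τ →+* Ry K τ :=
  IsLocalization.Away.lift (X none : QRing K τ) (g := phi' K τ) (by
    rw [phi'_X]
    exact IsLocalization.Away.algebraMap_isUnit _)

lemma phi_algebraMap (q : QRing K τ) :
    phi K τ (algebraMap (QRing K τ) (Qt K τ) q) = phi' K τ q := by
  unfold phi
  rw [IsLocalization.Away.lift_eq]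

lemma psi_yinv : algebraMap (QRing K τ) (Qt K τ) (X none) * psi K τ hd (yinv K τ) = 1 := by
  have h := congrArg (psi K τ hd) (y_mul_yinv K τ)
  rw [map_mul, map_one, psi_algebraMap, psi'_yS] at h
  exact h

theorem psi_comp_phi : (psi K τ hd).comp (phi K τ) = RingHom.id _ := by
  apply IsLocalization.ringHom_ext (Submonoid.powers (X none : QRing K τ))
  apply MvPolynomial.ringHom_ext
  · intro a
    simp only [RingHom.comp_apply, RingHom.id_apply]
    rw [phi_algebraMap, phi'_C, psi_algebraMap, AlgHom.commutes]
    rfl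
  · intro o
    simp only [RingHom.comp_apply, RingHom.id_apply]
    rw [phi_algebraMap, phi'_X]
    cases o with
    | none =>
      change psi K τ hd (algebraMap (SR K τ) (Ry K τ) (yS K τ)) = _
      rw [psi_algebraMap, psi'_yS]
    | some p =>
      change psi K τ hd (algebraMap (SR K τ) (Ry K τ)
        (Ideal.Quotient.mk _ (coord K d n (Function.update τ.1 p.1.2 p.1.1))) * yinv K τ) = _
      rw [map_mul, psi_algebraMap, psi'_coord, N0_cell, map_mul]
      calc algebraMap (QRing K τ) (Qt K τ) (X none) * algebraMap (QRing K τ) (Qt K τ) (X (some p)) *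
            psi K τ hd (yinv K τ)
          = algebraMap (QRing K τ) (Qt K τ) (X (some p)) *
            (algebraMap (QRing K τ) (Qt K τ) (X none) * psi K τ hd (yinv K τ)) := by ring
        _ = _ := by rw [psi_yinv, mul_one]

include hd in
lemma phi_injective : Function.Injective (phi K τ) := by
  intro a b hab
  have h := congrArg (psi K τ hd) hab
  have h1 : ∀ q, psi K τ hd (phi K τ q) = q := fun q => by
    have := congrArg (fun f => f q) (psi_comp_phi K τ hd)
    simpa using this
  rw [h1, h1] at h
  exact h

end Groth.Agent.Lib.Helper99.Normal
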