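import Mathlib
import Groth.Agent.Lib.Helper99.NormalD

/-!
# The open cell of a Schubert variety: `R[1/p_τ]` is integrally closed
-/

set_option autoImplicit false
universe u

namespace Groth.Agent.Lib.Helper99.Normal
open W4bk4grassmannian MvPolynomial
open Groth.Agent.Lib.Helper99.SMT

variable (K : Type u) [Field K] [Infinite K] {d n : ℕ} (τ : Idx d n)

/-- the entries of the Cramer matrix come from the cell ring -/
lemma algebraMap_Cmat (j : Fin n) (i : Fin d) :
    algebraMap (SR K τ) (Ry K τ) (Ideal.Quotient.mk _ (Cmat K τ j i)) =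
      phi K τ (algebraMap (QRing K τ) (Qt K τ) (X none * N0 K τ j i)) := by
  rw [phi_algebraMap, map_mul, phi'_X]
  change _ = algebraMap (SR K τ) (Ry K τ) (yS K τ) * _
  unfold Cmat
  rw [Matrix.of_apply]
  by_cases hj : j ∈ Set.range τ.1
  · obtain ⟨k, rfl⟩ := hj
    rw [N0_tau]
    by_cases hki : k = i
    · subst hki
      rw [if_pos rfl, map_one, mul_one, coord_update_self]
      rfl
    · rw [if_neg hki, map_zero, mul_zero, coord_update_of_mem K τ i k hki, map_zero, map_zero]
  · have hne : j ≠ τ.1 i := fun h => hj ⟨i, h.symm⟩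
    rcases lt_or_gt_of_ne hne with hlt | hgt
    · have := N0_cell K τ ⟨(j, i), ⟨hj, hlt⟩⟩
      simp only at this
      rw [this, phi'_X]
      change _ = _ * (algebraMap (SR K τ) (Ry K τ)
        (Ideal.Quotient.mk _ (coord K d n (Function.update τ.1 i j))) * yinv K τ)
      rw [mul_comm, mul_assoc, mul_comm (yinv K τ), y_mul_yinv, mul_one]
    · rw [N0_of_gt K τ j i hgt, map_zero, mul_zero,
        Ideal.Quotient.eq_zero_iff_mem.2 (coord_update_mem_of_gt K τ i j hgt), map_zero]

lemma phi_tinv : phi K τ (IsLocalization.Away.invSelf (X none : QRing K τ)) = yinv K τ := by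
  have h1 : phi K τ (algebraMap (QRing K τ) (Qt K τ) (X none)) *
      phi K τ (IsLocalization.Away.invSelf (X none : QRing K τ)) = 1 := by
    rw [← map_mul, IsLocalization.Away.mul_invSelf, map_one]
  rw [phi_algebraMap, phi'_X] at h1
  change algebraMap (SR K τ) (Ry K τ) (yS K τ) * _ = 1 at h1
  have h2 := y_mul_yinv K τ
  calc phi K τ (IsLocalization.Away.invSelf (X none : QRing K τ))
      = (yinv K τ * algebraMap (SR K τ) (Ry K τ) (yS K τ)) *
          phi K τ (IsLocalization.Away.invSelf (X none : QRing K τ)) := by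
        rw [mul_comm (yinv K τ), h2, one_mul]
    _ = yinv K τ := by rw [mul_assoc, h1, mul_one]

lemma algebraMap_X_mem (a : Idx d n) :
    algebraMap (SR K τ) (Ry K τ) (Ideal.Quotient.mk _ (X a)) ∈ (phi K τ).range := by
  have h1 : Ideal.Quotient.mk (schubertVanishing K d n τ) (X a * X τ ^ (d - 1)) =
      Ideal.Quotient.mk _ (((Cmat K τ).submatrix a.1 id).det) :=
    Ideal.Quotient.eq.2 (vanishing_le_schubertVanishing K τ (cramer_identity K τ a))
  set Mq : Matrix (Fin d) (Fin d) (QRing K τ) :=
    Matrix.of fun s t => X none * N0 K τ (a.1 s) t with hMq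
  have h2 : algebraMap (SR K τ) (Ry K τ) (Ideal.Quotient.mk _ (((Cmat K τ).submatrix a.1 id).det)) =
      phi K τ (algebraMap (QRing K τ) (Qt K τ) Mq.det) := by
    rw [RingHom.map_det, RingHom.map_det, RingHom.map_det, RingHom.map_det]
    congr 1
    apply Matrix.ext
    intro s t
    simp only [RingHom.mapMatrix_apply, Matrix.map_apply, Matrix.submatrix_apply, id]
    rw [algebraMap_Cmat, hMq, Matrix.of_apply]
  have h3 : algebraMap (SR K τ) (Ry K τ) (Ideal.Quotient.mk _ (X a)) =
      algebraMap (SR K τ) (Ry K τ) (Ideal.Quotient.mk _ (X a * X τ ^ (d - 1))) * yinv K τ ^ (d - 1) := by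
    rw [map_mul, map_mul, map_pow, map_pow, mul_assoc, ← mul_pow]
    change _ = _ * (algebraMap (SR K τ) (Ry K τ) (yS K τ) * yinv K τ) ^ (d - 1)
    rw [y_mul_yinv, one_pow, mul_one]
  rw [h3, h1, h2, ← phi_tinv, ← map_pow, ← map_mul]
  exact ⟨_, rfl⟩

lemma algebraMap_mem (r : SR K τ) : algebraMap (SR K τ) (Ry K τ) r ∈ (phi K τ).range := by
  obtain ⟨f, rfl⟩ := Ideal.Quotient.mk_surjective r
  induction f using MvPolynomial.induction_on with
  | C a =>
    refine ⟨algebraMap (QRing K τ) (Qt K τ) (C a), ?_⟩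
    rw [phi_algebraMap, phi'_C]
    rfl
  | add f g hf hg =>
    rw [map_add, map_add]
    exact Subring.add_mem _ hf hg
  | mul_X f a hf =>
    rw [map_mul, map_mul]
    exact Subring.mul_mem _ hf (algebraMap_X_mem K τ a)

theorem phi_surjective : Function.Surjective (phi K τ) := by
  intro z
  obtain ⟨k, r, hr⟩ := IsLocalization.Away.surj (yS K τ) z
  have hz : z = algebraMap (SR K τ) (Ry K τ) r * yinv K τ ^ k := by
    rw [← hr, mul_assoc, ← mul_pow, y_mul_yinv, one_pow, mul_one]
  have hmem : z ∈ (phi K τ).range := by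
    rw [hz]
    apply Subring.mul_mem _ (algebraMap_mem K τ r)
    apply Subring.pow_mem
    exact ⟨_, phi_tinv K τ⟩
  exact hmem

/-- the open cell of the Schubert cone is a localised polynomial ring -/
noncomputable def cellEquiv (hd : 0 < d) : Qt K τ ≃+* Ry K τ :=
  RingEquiv.ofBijective (phi K τ) ⟨phi_injective K τ hd, phi_surjective K τ⟩

theorem isIntegrallyClosed_Ry (hd : 0 < d) : IsIntegrallyClosed (Ry K τ) := by
  have h1 : IsIntegrallyClosed (Qt K τ) :=
    isIntegrallyClosed_of_isLocalization (Qt K τ) (Submonoid.powers (X none : QRing K τ))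
      (powers_le_nonZeroDivisors_of_noZeroDivisors (X_ne_zero _))
  exact IsIntegrallyClosed.of_equiv (cellEquiv K τ hd)

end Groth.Agent.Lib.Helper99.Normal
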