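import Mathlib
import Groth.Agent.Lib.Helper99.NormalE
import Groth.Agent.Lib.Helper99.NormalA

/-!
# Schubert cones are normal domains
-/

set_option autoImplicit false
universe u

namespace Groth.Agent.Lib.Helper99.Normal
open W4bk4grassmannian MvPolynomial
open Groth.Agent.Lib.Helper99.SMT

variable (K : Type u) [Field K] [Infinite K] {d n : ℕ} (τ : Idx d n)

/-- the Schubert ideal is the kernel of the evaluation at the generic matrix of its shape -/
theorem schubertVanishing_eq_ker (hd : 0 < d) :
    schubertVanishing K d n τ = RingHom.ker (ev K (shapeLe τ) : PlRing K d n →ₐ[K] _).toRingHom := by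
  apply le_antisymm
  · intro f hf
    exact ev_eq_zero_of_mem_schubertVanishing K τ (shapeLe τ) (fun t => le_rfl) f hf
  · intro f hf
    have hf' : ev K (shapeLe τ) f = 0 := hf
    have hspan := std_span K (schubertVanishing K d n τ) (plIdealTop_le_schubertVanishing K τ)
      (fun _ c => ∀ k, (shapeLe τ).mem (c k)) (by
        intro m c _ hP
        push Not at hP
        obtain ⟨k, hk⟩ := hP
        apply chainMon_mem_of_factor K _ c k
        apply X_mem_schubertVanishing
        intro hle
        exact hk ((mem_shapeLe τ (c k)).2 hle)) f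
    obtain ⟨g, hg, h, hh, rfl⟩ := Submodule.mem_sup.1 hspan
    have hh' : h ∈ schubertVanishing K d n τ := hh
    have hevh : ev K (shapeLe τ) h = 0 :=
      ev_eq_zero_of_mem_schubertVanishing K τ (shapeLe τ) (fun t => le_rfl) h hh'
    rw [map_add, hevh, add_zero] at hf'
    have hg0 := eq_zero_of_mem_span_of_ev_eq_zero K MonomialOrder.lex diagLeading_lex hd (shapeLe τ) g hg hf'
    rw [hg0, zero_add]
    exact hh'

theorem isPrime_schubertVanishing (hd : 0 < d) : (schubertVanishing K d n τ).IsPrime := by
  rw [schubertVanishing_eq_ker K τ hd]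
  exact RingHom.ker_isPrime _

theorem isRadical_schubertVanishing (φ : Idx d n) : (schubertVanishing K d n φ).IsRadical := by
  intro f hf
  obtain ⟨m, hm⟩ := hf
  rw [mem_schubertVanishing_iff] at hm ⊢
  intro A hA
  have := hm A hA
  rw [map_pow] at this
  exact pow_eq_zero_iff (by
    intro h0
    rw [h0, pow_zero] at this
    exact one_ne_zero this) |>.1 this

lemma X_notMem_schubertVanishing (hd : 0 < d) : X τ ∉ schubertVanishing K d n τ := by
  intro h
  have h0 := ev_eq_zero_of_mem_schubertVanishing K τ (shapeLe τ) (fun t => le_rfl) _ h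
  have h1 := (ev_X_monic K MonomialOrder.lex diagLeading_lex hd (shapeLe τ) τ
    ((mem_shapeLe τ τ).2 le_rfl)).1
  exact h1.ne_zero h0

lemma yS_ne_zero (hd : 0 < d) : yS K τ ≠ 0 := by
  intro h
  exact X_notMem_schubertVanishing K τ hd (Ideal.Quotient.eq_zero_iff_mem.1 h)

/-- the ideal of the boundary of the Schubert variety is radical -/
theorem isRadical_sup (hd : 0 < d) :
    (schubertVanishing K d n τ ⊔ Ideal.span {X τ}).IsRadical := by
  classical
  set I' := schubertVanishing K d n τ ⊔ Ideal.span {X τ} with hI'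
  have hJI : schubertVanishing K d n τ ≤ I' := le_sup_left
  have hXI : X τ ∈ I' := Ideal.mem_sup_right (Ideal.subset_span rfl)
  by_cases hex : ∃ φ0 : Idx d n, φ0 < τ
  · obtain ⟨φ0, hφ0⟩ := hex
    set J'' : Ideal (PlRing K d n) := ⨅ φ : Idx d n, ⨅ (_ : φ < τ), schubertVanishing K d n φ with hJ''
    have hIJ : I' ≤ J'' := by
      rw [hJ'']
      apply le_iInf
      intro φ
      apply le_iInf
      intro hφ
      apply sup_le
      · exact schubertVanishing_anti K hφ.le
      · rw [Ideal.span_le, Set.singleton_subset_iff]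
        exact X_mem_schubertVanishing K φ τ (not_le_of_gt hφ)
    have hJrad : J''.IsRadical := by
      intro f hf
      obtain ⟨m, hm⟩ := hf
      rw [hJ''] at hm ⊢
      simp only [Ideal.mem_iInf] at hm ⊢
      intro φ hφ
      exact isRadical_schubertVanishing K φ ⟨m, hm φ hφ⟩
    intro f hf
    obtain ⟨m, hm⟩ := hf
    have hspan := std_span K I' ((plIdealTop_le_schubertVanishing K τ).trans hJI)
      (fun _ c => ∀ k, c k ≤ τ ∧ c k ≠ τ) (by
        intro m' c _ hP
        push Not at hP
        obtain ⟨k, hk⟩ := hP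
        apply chainMon_mem_of_factor K _ c k
        by_cases hle : c k ≤ τ
        · rw [hk hle]; exact hXI
        · exact hJI (X_mem_schubertVanishing K τ (c k) hle)) f
    obtain ⟨g, hg, h, hh, rfl⟩ := Submodule.mem_sup.1 hspan
    have hh' : h ∈ I' := hh
    have hgm : g ^ m ∈ J'' := by
      have h1 : (g + h) ^ m - g ^ m ∈ I' := by
        have hdvd : h ∣ (g + h) ^ m - g ^ m := by
          have := sub_dvd_pow_sub_pow (g + h) g m
          rwa [add_sub_cancel_left] at this
        obtain ⟨q, hq⟩ := hdvd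
        rw [hq]
        exact Ideal.mul_mem_right _ _ hh'
      have h2 : g ^ m = (g + h) ^ m - ((g + h) ^ m - g ^ m) := by ring
      rw [h2]
      exact Ideal.sub_mem _ (hIJ hm) (hIJ h1)
    have hgJ : g ∈ J'' := hJrad ⟨m, hgm⟩
    have hg0 := eq_zero_of_mem_span_of_mem K hd J'' (fun _ c => ∀ k, c k ≤ τ ∧ c k ≠ τ) (by
      intro m' c hc hQ
      by_cases hm' : m' = 0
      · subst hm'
        refine ⟨shapeLe φ0, fun k => k.elim0, ?_⟩
        intro f hf
        apply ev_eq_zero_of_mem_schubertVanishing K φ0 (shapeLe φ0) (fun t => le_rfl)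
        rw [hJ''] at hf
        simp only [Ideal.mem_iInf] at hf
        exact hf φ0 hφ0
      · have h0 : 0 < m' := Nat.pos_of_ne_zero hm'
        have hlt : c ⟨0, h0⟩ < τ := lt_of_le_of_ne (hQ ⟨0, h0⟩).1 (hQ ⟨0, h0⟩).2
        refine ⟨shapeLe (c ⟨0, h0⟩), ?_, ?_⟩
        · intro k
          rw [mem_shapeLe]
          exact hc (Fin.mk_le_of_le_val (Nat.zero_le _))
        · intro f hf
          apply ev_eq_zero_of_mem_schubertVanishing K (c ⟨0, h0⟩) (shapeLe (c ⟨0, h0⟩)) (fun t => le_rfl)
          rw [hJ''] at hf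
          simp only [Ideal.mem_iInf] at hf
          exact hf _ hlt) g hg hgJ
    rw [hg0, zero_add]
    exact hh'
  · -- `τ` is the least index
    push Not at hex
    have hzero : ∀ h ∈ I', evalMinors K d n 0 h = 0 := by
      intro h hh
      obtain ⟨a, ha, b, hb, rfl⟩ := Submodule.mem_sup.1 hh
      have hdet : ∀ φ : Idx d n, ((0 : Matrix (Fin n) (Fin d) K).submatrix φ.1 id).det = 0 := by
        intro φ
        have : (0 : Matrix (Fin n) (Fin d) K).submatrix φ.1 id = 0 := rfl
        rw [this]
        have : Nonempty (Fin d) := ⟨⟨0, hd⟩⟩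
        exact Matrix.det_zero
      rw [map_add]
      have h1 : evalMinors K d n 0 a = 0 := by
        rw [mem_schubertVanishing_iff] at ha
        exact ha 0 (fun φ _ => hdet φ)
      obtain ⟨q, rfl⟩ := Ideal.mem_span_singleton'.1 hb
      rw [h1, zero_add, map_mul]
      unfold evalMinors
      rw [aeval_X, hdet, mul_zero]
    intro f hf
    obtain ⟨m, hm⟩ := hf
    have hspan := std_span K I' ((plIdealTop_le_schubertVanishing K τ).trans hJI)
      (fun m' _ => m' = 0) (by
        intro m' c _ hP
        have h0 : 0 < m' := Nat.pos_of_ne_zero hP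
        apply chainMon_mem_of_factor K _ c ⟨0, h0⟩
        by_cases hle : c ⟨0, h0⟩ ≤ τ
        · have : c ⟨0, h0⟩ = τ := by
            by_contra hne
            exact hex _ (lt_of_le_of_ne hle hne)
          rw [this]; exact hXI
        · exact hJI (X_mem_schubertVanishing K τ _ hle)) f
    obtain ⟨g, hg, h, hh, rfl⟩ := Submodule.mem_sup.1 hspan
    have hh' : h ∈ I' := hh
    have hg1 : g ∈ Submodule.span K {(1 : PlRing K d n)} := by
      refine Submodule.span_mono ?_ hg
      rintro _ ⟨m', c, -, hm', rfl⟩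
      subst hm'
      unfold chainMon
      simp
    obtain ⟨a, rfl⟩ := Submodule.mem_span_singleton.1 hg1
    have h1 := hzero _ hm
    rw [map_pow, map_add, hzero h hh', add_zero, map_smul, map_one, smul_eq_mul, mul_one] at h1
    have ha : a = 0 := by
      by_contra hne
      exact pow_ne_zero m hne h1
    rw [ha, zero_smul, zero_add]
    exact hh'

theorem isRadical_span_yS (hd : 0 < d) : (Ideal.span {yS K τ}).IsRadical := by
  intro x hx
  obtain ⟨m, hm⟩ := hx
  obtain ⟨f, rfl⟩ := Ideal.Quotient.mk_surjective x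
  obtain ⟨q', hq'⟩ := Ideal.mem_span_singleton'.1 hm
  obtain ⟨q, rfl⟩ := Ideal.Quotient.mk_surjective q'
  unfold yS at hq'
  rw [← map_pow, ← map_mul, Ideal.Quotient.eq] at hq'
  have hfm : f ^ m ∈ schubertVanishing K d n τ ⊔ Ideal.span {X τ} := by
    have : f ^ m = (f ^ m - q * X τ) + q * X τ := by ring
    rw [this]
    apply Ideal.add_mem
    · apply Ideal.mem_sup_left
      have := neg_mem hq'
      rwa [neg_sub] at this
    · exact Ideal.mem_sup_right (Ideal.mul_mem_left _ _ (Ideal.subset_span rfl))
  have hf := isRadical_sup K τ hd ⟨m, hfm⟩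
  obtain ⟨a, ha, b, hb, rfl⟩ := Submodule.mem_sup.1 hf
  obtain ⟨c, rfl⟩ := Ideal.mem_span_singleton'.1 hb
  rw [map_add, Ideal.Quotient.eq_zero_iff_mem.2 ha, zero_add, map_mul]
  exact Ideal.mul_mem_left _ _ (Ideal.subset_span rfl)

/-- Schubert cones are normal domains -/
theorem schubert_normal (hd : 0 < d) :
    IsDomain (PlRing K d n ⧸ schubertVanishing K d n τ) ∧
      IsIntegrallyClosed (PlRing K d n ⧸ schubertVanishing K d n τ) := by
  have := isPrime_schubertVanishing K τ hd
  have : IsDomain (PlRing K d n ⧸ schubertVanishing K d n τ) := Ideal.Quotient.isDomain _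
  refine ⟨inferInstance, ?_⟩
  have := isIntegrallyClosed_Ry K τ hd
  exact isIntegrallyClosed_of_away (yS K τ) (yS_ne_zero K τ hd) (isRadical_span_yS K τ hd) (Ry K τ)

end Groth.Agent.Lib.Helper99.Normal
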