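import Mathlib
import Groth.Agent.Lib.Helper99.NormalF

/-!
# Factoriality of Schubert cones: the boundary ideal and its primality
-/

set_option autoImplicit false
universe u

namespace Groth.Agent.Lib.Helper99.Normal
open W4bk4grassmannian MvPolynomial
open Groth.Agent.Lib.Helper99.SMT

variable (K : Type u) [Field K] [Infinite K] {d n : ℕ} (τ : Idx d n)

/-- the boundary ideal of a Schubert variety of positive dimension is the intersection of the ideals of its
divisors -/
theorem sup_eq_iInf_divisors (hd : 0 < d) (hτ : ∃ φ : Idx d n, φ < τ) :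
    schubertVanishing K d n τ ⊔ Ideal.span {X τ} = ⨅ φ ∈ divisors τ, schubertVanishing K d n φ := by
  classical
  have hle : schubertVanishing K d n τ ⊔ Ideal.span {MvPolynomial.X τ} ≤
      ⨅ φ ∈ divisors τ, schubertVanishing K d n φ := by
    apply le_iInf
    intro φ
    apply le_iInf
    intro hφ
    apply sup_le
    · exact schubertVanishing_anti K hφ.1.le
    · rw [Ideal.span_le, Set.singleton_subset_iff]
      exact X_mem_schubertVanishing K φ τ (not_le_of_gt hφ.1)
  apply le_antisymm hle
  intro f hf
  have hspan := std_span K (schubertVanishing K d n τ ⊔ Ideal.span {MvPolynomial.X τ})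
    (le_sup_of_le_left (plIdealTop_le_schubertVanishing K τ))
    (fun _ c => ∀ k, c k < τ)
    (by
      intro m' c _ hP
      push Not at hP
      obtain ⟨k, hk⟩ := hP
      apply chainMon_mem_of_factor K _ c k
      by_cases h1 : c k ≤ τ
      · have h2 : c k = τ := by
          by_contra hne
          exact hk (lt_of_le_of_ne h1 hne)
        rw [h2]
        exact Ideal.mem_sup_right (Ideal.subset_span rfl)
      · exact Ideal.mem_sup_left (X_mem_schubertVanishing K τ (c k) h1)) f
  obtain ⟨g, hg, h, hh, rfl⟩ := Submodule.mem_sup.1 hspan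
  have hh' : h ∈ schubertVanishing K d n τ ⊔ Ideal.span {MvPolynomial.X τ} := hh
  have hgJ : g ∈ ⨅ φ ∈ divisors τ, schubertVanishing K d n φ := by
    have := Ideal.sub_mem _ hf (hle hh')
    rwa [add_sub_cancel_right] at this
  have hg0 := eq_zero_of_mem_span_of_mem K hd (⨅ φ ∈ divisors τ, schubertVanishing K d n φ)
    (fun _ c => ∀ k, c k < τ)
    (by
      intro m' c hc hQ
      have hexφ : ∃ φ ∈ divisors τ, ∀ k, c k ≤ φ := by
        rcases Nat.eq_zero_or_pos m' with hm | hm
        · subst hm
          obtain ⟨θ, hθ⟩ := hτ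
          obtain ⟨φ, hφ, -⟩ := exists_divisor_ge θ τ hθ
          exact ⟨φ, hφ, fun k => k.elim0⟩
        · obtain ⟨φ, hφ, hφ'⟩ := exists_divisor_ge (c ⟨0, hm⟩) τ (hQ ⟨0, hm⟩)
          exact ⟨φ, hφ, fun k => le_trans (hc (Fin.le_def.2 (Nat.zero_le k.val))) hφ'⟩
      obtain ⟨φ, hφ, hφ'⟩ := hexφ
      refine ⟨shapeLe φ, fun k => (mem_shapeLe φ (c k)).2 (hφ' k), ?_⟩
      intro f hf
      apply ev_eq_zero_of_mem_schubertVanishing K φ (shapeLe φ) (fun t => le_rfl) f
      have := (Ideal.mem_iInf.1 hf) φ
      exact (Ideal.mem_iInf.1 this) hφ) g hg hgJ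
  rw [hg0, zero_add]
  exact hh'

/-- for the least index the boundary ideal is the irrelevant ideal -/
theorem sup_eq_ker_of_bottom (hd : 0 < d) (hτ : ¬ ∃ φ : Idx d n, φ < τ) :
    schubertVanishing K d n τ ⊔ Ideal.span {X τ} =
      RingHom.ker (evalMinors K d n 0 : PlRing K d n →ₐ[K] K).toRingHom := by
  classical
  push Not at hτ
  set I' := schubertVanishing K d n τ ⊔ Ideal.span {X τ} with hI'
  have hJI : schubertVanishing K d n τ ≤ I' := le_sup_left
  have hXI : X τ ∈ I' := Ideal.mem_sup_right (Ideal.subset_span rfl)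
  have hzero : ∀ h ∈ I', evalMinors K d n 0 h = 0 := by
    intro h hh
    obtain ⟨a, ha, b, hb, rfl⟩ := Submodule.mem_sup.1 hh
    have hdet : ∀ φ : Idx d n, ((0 : Matrix (Fin n) (Fin d) K).submatrix φ.1 id).det = 0 := by
      intro φ
      have : (0 : Matrix (Fin n) (Fin d) K).submatrix φ.1 id = 0 := rfl
      rw [this]
      have : Nonempty (Fin d) := ⟨⟨0, hd⟩⟩
      exact Matrix.det_zero
    rw [map_add]
    have h1 : evalMinors K d n 0 a = 0 := by
      rw [mem_schubertVanishing_iff] at ha
      exact ha 0 (fun φ _ => hdet φ)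
    obtain ⟨q, rfl⟩ := Ideal.mem_span_singleton'.1 hb
    rw [h1, zero_add, map_mul]
    unfold evalMinors
    rw [aeval_X, hdet, mul_zero]
  apply le_antisymm
  · intro h hh
    exact hzero h hh
  · intro f hf
    have hf' : evalMinors K d n 0 f = 0 := hf
    have hspan := std_span K I' ((plIdealTop_le_schubertVanishing K τ).trans hJI)
      (fun m' _ => m' = 0) (by
        intro m' c _ hP
        have h0 : 0 < m' := Nat.pos_of_ne_zero hP
        apply chainMon_mem_of_factor K _ c ⟨0, h0⟩
        by_cases hle : c ⟨0, h0⟩ ≤ τ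
        · have : c ⟨0, h0⟩ = τ := by
            by_contra hne
            exact hτ _ (lt_of_le_of_ne hle hne)
          rw [this]; exact hXI
        · exact hJI (X_mem_schubertVanishing K τ _ hle)) f
    obtain ⟨g, hg, h, hh, rfl⟩ := Submodule.mem_sup.1 hspan
    have hh' : h ∈ I' := hh
    have hg1 : g ∈ Submodule.span K {(1 : PlRing K d n)} := by
      refine Submodule.span_mono ?_ hg
      rintro _ ⟨m', c, -, hm', rfl⟩
      subst hm'
      unfold chainMon
      simp
    obtain ⟨a, rfl⟩ := Submodule.mem_span_singleton.1 hg1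
    rw [map_add, hzero h hh', add_zero, map_smul, map_one, smul_eq_mul, mul_one] at hf'
    rw [hf', zero_smul, zero_add]
    exact hh'

lemma eq_of_le_of_codeg_eq (φ ψ : Idx d n) (hle : φ ≤ ψ) (hc : codeg φ = codeg ψ) : φ = ψ := by
  unfold codeg at hc
  have h1 : ∀ t ∈ (Finset.univ : Finset (Fin d)), (φ.1 t).val - t.val ≤ (ψ.1 t).val - t.val := by
    intro t _
    have : (φ.1 t).val ≤ (ψ.1 t).val := hle t
    omega
  have h2 := (Finset.sum_eq_sum_iff_of_le h1).1 hc
  apply Subtype.ext
  funext t
  apply Fin.ext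
  have h3 := h2 t (Finset.mem_univ t)
  have h4 := idx_val_ge φ t
  have h5 := idx_val_ge ψ t
  omega

/-- the boundary ideal is prime exactly when there is at most one divisor -/
theorem isPrime_sup_iff (hd : 0 < d) :
    (schubertVanishing K d n τ ⊔ Ideal.span {X τ}).IsPrime ↔ (divisors τ).Subsingleton := by
  classical
  by_cases hτ : ∃ φ : Idx d n, φ < τ
  · rw [sup_eq_iInf_divisors K τ hd hτ]
    constructor
    · intro hprime φ1 h1 φ2 h2
      by_contra hne
      have hmem : X φ1 * X φ2 ∈ ⨅ φ ∈ divisors τ, schubertVanishing K d n φ := by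
        simp only [Ideal.mem_iInf]
        intro φ hφ
        by_cases hle1 : φ1 ≤ φ
        · have e1 : φ1 = φ := eq_of_le_of_codeg_eq φ1 φ hle1 (by have := h1.2; have := hφ.2; omega)
          apply Ideal.mul_mem_left
          apply X_mem_schubertVanishing
          intro hle2
          have e2 : φ2 = φ := eq_of_le_of_codeg_eq φ2 φ hle2 (by have := h2.2; have := hφ.2; omega)
          exact hne (e1.trans e2.symm)
        · apply Ideal.mul_mem_right
          exact X_mem_schubertVanishing K φ φ1 hle1
      have hnot : ∀ φ0 ∈ divisors τ, X φ0 ∉ ⨅ φ ∈ divisors τ, schubertVanishing K d n φ := by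
        intro φ0 h0 hmem0
        simp only [Ideal.mem_iInf] at hmem0
        exact X_notMem_schubertVanishing K φ0 hd (hmem0 φ0 h0)
      rcases hprime.mem_or_mem hmem with h | h
      · exact hnot φ1 h1 h
      · exact hnot φ2 h2 h
    · intro hsub
      obtain ⟨θ, hθ⟩ := hτ
      obtain ⟨φ0, hφ0, -⟩ := exists_divisor_ge θ τ hθ
      have : (⨅ φ ∈ divisors τ, schubertVanishing K d n φ) = schubertVanishing K d n φ0 := by
        apply le_antisymm
        · exact iInf₂_le φ0 hφ0
        · apply le_iInf₂
          intro φ hφ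
          rw [hsub hφ hφ0]
      rw [this]
      exact isPrime_schubertVanishing K φ0 hd
  · rw [sup_eq_ker_of_bottom K τ hd hτ]
    constructor
    · intro _ φ1 h1
      exact absurd ⟨φ1, h1.1⟩ hτ
    · intro _
      exact RingHom.ker_isPrime _

/-- the top coordinate is a prime element exactly when the boundary ideal is prime -/
theorem prime_yS_iff (hd : 0 < d) :
    Prime (yS K τ) ↔ (schubertVanishing K d n τ ⊔ Ideal.span {X τ}).IsPrime := by
  rw [← Ideal.span_singleton_prime (yS_ne_zero K τ hd)]
  have hmap : Ideal.span {yS K τ} =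
      (schubertVanishing K d n τ ⊔ Ideal.span {X τ}).map (Ideal.Quotient.mk (schubertVanishing K d n τ)) := by
    rw [Ideal.map_sup, Ideal.map_quotient_self, bot_sup_eq, Ideal.map_span, Set.image_singleton]
    rfl
  have hsurj : Function.Surjective (Ideal.Quotient.mk (schubertVanishing K d n τ)) :=
    Ideal.Quotient.mk_surjective
  rw [hmap]
  constructor
  · intro hp
    have h1 := Ideal.comap_map_of_surjective (Ideal.Quotient.mk (schubertVanishing K d n τ)) hsurj
      (schubertVanishing K d n τ ⊔ Ideal.span {X τ})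
    have h2 : Ideal.comap (Ideal.Quotient.mk (schubertVanishing K d n τ)) ⊥ = schubertVanishing K d n τ := by
      rw [← RingHom.ker_eq_comap_bot, Ideal.mk_ker]
    rw [h2, sup_eq_left.2 le_sup_left] at h1
    rw [← h1]
    exact Ideal.comap_isPrime _ _
  · intro hp
    apply Ideal.map_isPrime_of_surjective hsurj
    rw [Ideal.mk_ker]
    exact le_sup_left

end Groth.Agent.Lib.Helper99.Normal
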