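import Mathlib
import Groth.Agent.Lib.Helper99.UfdA
import Groth.Agent.S11278

/-!
# Factoriality of Schubert cones: factorial iff the top coordinate is prime
-/

set_option autoImplicit false
universe u

namespace Groth.Agent.Lib.Helper99.Normal
open W4bk4grassmannian MvPolynomial
open Groth.Agent.Lib.Helper99.SMT

variable (K : Type u) [Field K] [Infinite K] {d n : ℕ} (τ : Idx d n) (hd : 0 < d)

lemma psi_phi (q : Qt K τ) : psi K τ hd (phi K τ q) = q := by
  have := congrArg (fun f => f q) (psi_comp_phi K τ hd)
  simpa using this

lemma psi_injective : Function.Injective (psi K τ hd) := by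
  intro a b hab
  obtain ⟨qa, rfl⟩ := phi_surjective K τ a
  obtain ⟨qb, rfl⟩ := phi_surjective K τ b
  rw [psi_phi, psi_phi] at hab
  rw [hab]

lemma psi'_injective : Function.Injective (psi' K τ hd) := by
  have := isPrime_schubertVanishing K τ hd
  have : IsDomain (SR K τ) := Ideal.Quotient.isDomain _
  intro a b hab
  have h1 : psi K τ hd (algebraMap (SR K τ) (Ry K τ) a) = psi K τ hd (algebraMap (SR K τ) (Ry K τ) b) := by
    rw [psi_algebraMap, psi_algebraMap, hab]
  have h2 := psi_injective K τ hd h1
  exact IsLocalization.injective (Ry K τ)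
    (powers_le_nonZeroDivisors_of_noZeroDivisors (yS_ne_zero K τ hd)) h2

include hd in
theorem irreducible_yS : Irreducible (yS K τ) := by
  have hX : Irreducible (X none : QRing K τ) := (MvPolynomial.X_prime).irreducible
  constructor
  · intro hu
    have := hu.map (psi' K τ hd)
    rw [psi'_yS] at this
    exact hX.not_isUnit this
  · intro a b hab
    have h1 : psi' K τ hd a * psi' K τ hd b = X none := by
      rw [← map_mul, ← hab, psi'_yS]
    have key : ∀ c : SR K τ, IsUnit (psi' K τ hd c) → IsUnit c := by
      intro c hc
      obtain ⟨r, hr, hcr⟩ := (MvPolynomial.isUnit_iff_eq_C_of_isReduced).1 hc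
      have : c = algebraMap K (SR K τ) r := by
        apply psi'_injective K τ hd
        rw [hcr, AlgHom.commutes]
        rfl
      rw [this]
      exact hr.map _
    rcases hX.isUnit_or_isUnit h1.symm with h | h
    · exact Or.inl (key a h)
    · exact Or.inr (key b h)

include hd in
theorem ufd_iff_prime_yS :
    UniqueFactorizationMonoid (SR K τ) ↔ Prime (yS K τ) := by
  have := isPrime_schubertVanishing K τ hd
  have : IsDomain (SR K τ) := Ideal.Quotient.isDomain _
  constructor
  · intro hufd
    exact UniqueFactorizationMonoid.irreducible_iff_prime.1 (irreducible_yS K τ hd)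
  · intro hp
    apply Groth.Agent.S11278.nagata (yS K τ) hp
    have hQ : UniqueFactorizationMonoid (Qt K τ) := inferInstance
    exact MulEquiv.uniqueFactorizationMonoid (cellEquiv K τ hd).toMulEquiv hQ

end Groth.Agent.Lib.Helper99.Normal
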