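import Mathlib
import Groth.Agent.Lib.Helper99.SMTDivisor

/-!
# Schubert divisors and jumps of an index
-/

set_option autoImplicit false
universe u

namespace Groth.Agent.Lib.Helper99.Normal
open W4bk4grassmannian
open Groth.Agent.Lib.Helper99.SMT

variable {d n : ℕ} (τ : Idx d n)

/-- `t` is a jump of `τ`: the entry `τ_t` can be lowered by one -/
def Jump (t : Fin d) : Prop :=
  0 < (τ.1 t).val ∧ ∀ t' : Fin d, t'.val + 1 = t.val → (τ.1 t').val + 1 < (τ.1 t).val

/-- a divisor is `τ` lowered by one at a jump -/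
def IsLower (φ : Idx d n) (t : Fin d) : Prop :=
  (∀ t' : Fin d, t' ≠ t → φ.1 t' = τ.1 t') ∧ (φ.1 t).val + 1 = (τ.1 t).val

lemma isLower_unique (φ ψ : Idx d n) (t : Fin d) (h1 : IsLower τ φ t) (h2 : IsLower τ ψ t) : φ = ψ := by
  apply Subtype.ext
  funext t'
  by_cases ht : t' = t
  · subst ht
    apply Fin.ext
    have := h1.2
    have := h2.2
    omega
  · rw [h1.1 t' ht, h2.1 t' ht]

lemma exists_divisor_of_jump (t : Fin d) (ht : Jump τ t) : ∃ φ ∈ divisors τ, IsLower τ φ t := by
  classical
  have hlt : (τ.1 t).val - 1 < n := by have := (τ.1 t).isLt; omega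
  set f : Fin d → Fin n := fun t' => if t' = t then ⟨(τ.1 t).val - 1, hlt⟩ else τ.1 t' with hf
  have hfval : ∀ t', (f t').val = if t' = t then (τ.1 t).val - 1 else (τ.1 t').val := by
    intro t'
    rw [hf]
    simp only
    split_ifs <;> rfl
  have hmono : StrictMono f := by
    intro a b hab
    rw [Fin.lt_def, hfval, hfval]
    have hab' : a.val < b.val := hab
    have hτ : (τ.1 a).val < (τ.1 b).val := τ.2 hab
    by_cases ha : a = t
    · have hb : b ≠ t := by rintro rfl; rw [ha] at hab; exact lt_irrefl _ hab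
      rw [if_pos ha, if_neg hb]
      rw [ha] at hτ
      omega
    · rw [if_neg ha]
      by_cases hb : b = t
      · rw [if_pos hb]
        subst hb
        -- a < b = t
        have hb0 : 0 < b.val := by omega
        have h1 := ht.2 ⟨b.val - 1, by have := b.isLt; omega⟩ (by simp only; omega)
        have h2 : (τ.1 a).val ≤ (τ.1 ⟨b.val - 1, by have := b.isLt; omega⟩).val :=
          τ.2.monotone (by rw [Fin.le_def]; simp only; omega)
        omega
      · rw [if_neg hb]
        exact hτ
  set φ : Idx d n := ⟨f, hmono⟩ with hφ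
  have hlower : IsLower τ φ t := by
    constructor
    · intro t' ht'
      apply Fin.ext
      change (f t').val = _
      rw [hfval, if_neg ht']
    · change (f t).val + 1 = _
      rw [hfval, if_pos rfl]
      have := ht.1
      omega
  refine ⟨φ, ⟨?_, ?_⟩, hlower⟩
  · apply lt_of_le_of_ne
    · intro t'
      change f t' ≤ τ.1 t'
      rw [Fin.le_def, hfval]
      split_ifs with h
      · rw [h]; omega
      · exact le_rfl
    · intro h
      have h1 := hlower.2
      rw [h] at h1
      omega
  · unfold codeg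
    rw [← Finset.add_sum_erase Finset.univ _ (Finset.mem_univ t),
      ← Finset.add_sum_erase Finset.univ (fun t' => (τ.1 t').val - t'.val) (Finset.mem_univ t)]
    have h1 : ∑ x ∈ Finset.univ.erase t, ((φ.1 x).val - x.val) =
        ∑ x ∈ Finset.univ.erase t, ((τ.1 x).val - x.val) := by
      apply Finset.sum_congr rfl
      intro x hx
      rw [hlower.1 x (Finset.ne_of_mem_erase hx)]
    rw [h1]
    have h2 := hlower.2
    have h3 := idx_val_ge φ t
    omega

lemma exists_jump_of_divisor (φ : Idx d n) (hφ : φ ∈ divisors τ) : ∃ t, Jump τ t ∧ IsLower τ φ t := by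
  classical
  obtain ⟨hlt, hcodeg⟩ := hφ
  have hle : ∀ t, (φ.1 t).val ≤ (τ.1 t).val := fun t => hlt.le t
  -- the differences sum to one
  have hsum : ∑ t, ((τ.1 t).val - (φ.1 t).val) = 1 := by
    unfold codeg at hcodeg
    have h1 : ∑ t : Fin d, ((τ.1 t).val - t.val) =
        ∑ t : Fin d, ((φ.1 t).val - t.val) + ∑ t : Fin d, ((τ.1 t).val - (φ.1 t).val) := by
      rw [← Finset.sum_add_distrib]
      apply Finset.sum_congr rfl
      intro t _
      have := hle t
      have := idx_val_ge φ t
      omega
    omega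
  have hex : ∃ t, (τ.1 t).val - (φ.1 t).val ≠ 0 := by
    by_contra hcon
    push Not at hcon
    rw [Finset.sum_eq_zero (fun t _ => hcon t)] at hsum
    exact zero_ne_one hsum
  obtain ⟨t, ht⟩ := hex
  rw [← Finset.add_sum_erase Finset.univ _ (Finset.mem_univ t)] at hsum
  have ht1 : (τ.1 t).val - (φ.1 t).val = 1 := by omega
  have hrest : ∑ x ∈ Finset.univ.erase t, ((τ.1 x).val - (φ.1 x).val) = 0 := by omega
  rw [Finset.sum_eq_zero_iff] at hrest
  have hlower : IsLower τ φ t := by
    constructor
    · intro t' ht'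
      apply Fin.ext
      have := hrest t' (Finset.mem_erase.2 ⟨ht', Finset.mem_univ _⟩)
      have := hle t'
      omega
    · have := hle t
      omega
  refine ⟨t, ⟨?_, ?_⟩, hlower⟩
  · omega
  · intro t' ht'
    have hne : t' ≠ t := by
      intro h; rw [h] at ht'; omega
    have h1 : φ.1 t' < φ.1 t := φ.2 (by rw [Fin.lt_def]; omega)
    have h2 : (φ.1 t').val < (φ.1 t).val := h1
    rw [hlower.1 t' hne] at h2
    have := hlower.2
    omega

/-- the shape condition: `τ = (0, 1, …, s - 1, a, a + 1, …)` -/
def IsRun (s : ℕ) : Prop :=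
  (∀ t : Fin d, t.val < s → (τ.1 t).val = t.val) ∧
    ∀ t t' : Fin d, s ≤ t.val → t.val + 1 = t'.val → (τ.1 t).val + 1 = (τ.1 t').val

lemma isRun_of_no_jump (s : ℕ) (h : ∀ t : Fin d, t.val ≠ s → ¬ Jump τ t) : IsRun τ s := by
  constructor
  · have key : ∀ k : ℕ, ∀ t : Fin d, t.val = k → t.val < s → (τ.1 t).val = t.val := by
      intro k
      induction k using Nat.strong_induction_on with
      | _ k ih =>
        intro t htk hts
        have hnj := h t (by omega)
        unfold Jump at hnj
        push Not at hnj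
        have hge := idx_val_ge τ t
        by_cases h0 : 0 < (τ.1 t).val
        · obtain ⟨t', ht', hle⟩ := hnj h0
          have := ih t'.val (by omega) t' rfl (by omega)
          omega
        · omega
    intro t hts
    exact key t.val t rfl hts
  · intro t t' hst htt'
    have hnj := h t' (by omega)
    unfold Jump at hnj
    push Not at hnj
    have hlt : (τ.1 t).val < (τ.1 t').val := τ.2 (by rw [Fin.lt_def]; omega)
    obtain ⟨t'', ht'', hle⟩ := hnj (by omega)
    have : t'' = t := Fin.ext (by omega)
    rw [this] at hle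
    omega

lemma jump_eq_of_isRun (s : ℕ) (h : IsRun τ s) (t : Fin d) (ht : Jump τ t) : t.val = s := by
  by_contra hne
  rcases Nat.lt_or_gt_of_ne hne with hlt | hgt
  · have h1 := h.1 t hlt
    by_cases h0 : t.val = 0
    · have := ht.1
      omega
    · have h2 := ht.2 ⟨t.val - 1, by have := t.isLt; omega⟩ (by simp only; omega)
      have h3 := h.1 ⟨t.val - 1, by have := t.isLt; omega⟩ (by simp only; omega)
      simp only at h3
      omega
  · have h2 := ht.2 ⟨t.val - 1, by have := t.isLt; omega⟩ (by simp only; omega)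
    have h3 := h.2 ⟨t.val - 1, by have := t.isLt; omega⟩ t (by simp only; omega) (by simp only; omega)
    omega

theorem subsingleton_divisors_iff :
    (divisors τ).Subsingleton ↔ ∃ s : ℕ, IsRun τ s := by
  classical
  constructor
  · intro hsub
    have hJ : ∀ t1 t2 : Fin d, Jump τ t1 → Jump τ t2 → t1 = t2 := by
      intro t1 t2 h1 h2
      obtain ⟨φ1, hφ1, hl1⟩ := exists_divisor_of_jump τ t1 h1
      obtain ⟨φ2, hφ2, hl2⟩ := exists_divisor_of_jump τ t2 h2
      have := hsub hφ1 hφ2
      by_contra hne
      have e1 := hl1.2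
      have e2 := hl2.1 t1 hne
      rw [this, e2] at e1
      omega
    by_cases hex : ∃ t0, Jump τ t0
    · obtain ⟨t0, ht0⟩ := hex
      refine ⟨t0.val, isRun_of_no_jump τ t0.val ?_⟩
      intro t hne hj
      exact hne (congrArg Fin.val (hJ t t0 hj ht0))
    · push Not at hex
      exact ⟨0, isRun_of_no_jump τ 0 (fun t _ => hex t)⟩
  · rintro ⟨s, hs⟩ φ1 h1 φ2 h2
    obtain ⟨t1, hj1, hl1⟩ := exists_jump_of_divisor τ φ1 h1
    obtain ⟨t2, hj2, hl2⟩ := exists_jump_of_divisor τ φ2 h2
    have e1 := jump_eq_of_isRun τ s hs t1 hj1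
    have e2 := jump_eq_of_isRun τ s hs t2 hj2
    have : t1 = t2 := Fin.ext (by omega)
    subst this
    exact isLower_unique τ φ1 φ2 t1 hl1 hl2

end Groth.Agent.Lib.Helper99.Normal
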