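import Mathlib
import Groth.Agent.Lib.Helper99.UfdB
import Groth.Agent.Lib.Helper99.UfdC
import Groth.Agent.Lib.Helper73.DimFT.Catenary

/-!
# The dimension of Schubert cones
-/

set_option autoImplicit false
universe u

namespace Groth.Agent.Lib.Helper99.Normal
open W4bk4grassmannian MvPolynomial
open Groth.Agent.Lib.Helper99.SMT

section General

theorem coheight_subtype_of_isUpperSet {α : Type*} [Preorder α] {s : Set α} (hs : IsUpperSet s)
    (a : s) : Order.coheight a = Order.coheight (a : α) :=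
  Order.coheight_eq_of_strictMono Subtype.val (Subtype.strictMono_coe _)
    (fun a b hab => ⟨⟨b, hs hab.le a.2⟩, hab, rfl⟩) a

lemma isUpperSet_zeroLocus {S : Type*} [CommRing S] (I : Ideal S) :
    IsUpperSet (PrimeSpectrum.zeroLocus (R := S) I) := by
  intro p q hpq hp
  rw [PrimeSpectrum.mem_zeroLocus] at hp ⊢
  exact hp.trans hpq

/-- the dimension of a finite intersection of ideals is bounded by the dimensions of the pieces -/
theorem ringKrullDim_quotient_iInf_le {S : Type*} [CommRing S] {ι : Type*} [Finite ι] (D : Set ι)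
    (J : ι → Ideal S) (c : WithBot ℕ∞) (h : ∀ i ∈ D, ringKrullDim (S ⧸ J i) ≤ c) :
    ringKrullDim (S ⧸ ⨅ i ∈ D, J i) ≤ c := by
  classical
  rw [ringKrullDim_quotient, Order.krullDim_eq_iSup_coheight]
  apply iSup_le
  rintro ⟨a, ha⟩
  rw [coheight_subtype_of_isUpperSet (isUpperSet_zeroLocus _)]
  simp only
  rw [PrimeSpectrum.mem_zeroLocus, SetLike.coe_subset_coe] at ha
  have hD : D.Finite := Set.toFinite D
  have hinf : hD.toFinset.inf J ≤ a.asIdeal := by
    refine le_trans ?_ ha
    apply le_iInf₂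
    intro i hi
    exact Finset.inf_le ((Set.Finite.mem_toFinset hD).2 hi)
  obtain ⟨i, hi, hle⟩ := (Ideal.IsPrime.inf_le' a.2).1 hinf
  rw [Set.Finite.mem_toFinset] at hi
  have hmem : a ∈ PrimeSpectrum.zeroLocus (R := S) (J i) := by
    rw [PrimeSpectrum.mem_zeroLocus, SetLike.coe_subset_coe]
    exact hle
  have h1 := Order.coheight_le_krullDim (⟨a, hmem⟩ : PrimeSpectrum.zeroLocus (R := S) (J i))
  rw [coheight_subtype_of_isUpperSet (isUpperSet_zeroLocus _), ← ringKrullDim_quotient] at h1
  exact h1.trans (h i hi)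

end General

variable (K : Type u) [Field K] [Infinite K] {d n : ℕ}

lemma codeg_mono {φ τ : Idx d n} (h : φ ≤ τ) : codeg φ ≤ codeg τ := by
  unfold codeg
  apply Finset.sum_le_sum
  intro t _
  have : (φ.1 t).val ≤ (τ.1 t).val := h t
  omega

lemma codeg_lt_of_lt {φ τ : Idx d n} (h : φ < τ) : codeg φ < codeg τ := by
  apply lt_of_le_of_ne (codeg_mono h.le)
  intro heq
  exact h.ne (eq_of_le_of_codeg_eq φ τ h.le heq)

/-- a positive-dimensional index has a jump -/
lemma exists_jump_of_codeg_pos (τ : Idx d n) (h : 0 < codeg τ) : ∃ t, Jump τ t := by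
  classical
  have hex : ∃ t : Fin d, t.val < (τ.1 t).val := by
    by_contra hcon
    push Not at hcon
    have : codeg τ = 0 := by
      unfold codeg
      apply Finset.sum_eq_zero
      intro t _
      have := hcon t
      omega
    omega
  -- the least such position
  have hex' : ∃ k : ℕ, ∃ t : Fin d, t.val = k ∧ t.val < (τ.1 t).val := by
    obtain ⟨t, ht⟩ := hex
    exact ⟨t.val, t, rfl, ht⟩
  obtain ⟨t, htk, ht⟩ := Nat.find_spec hex'
  refine ⟨t, by omega, ?_⟩
  intro t' ht'
  have hmin := Nat.find_min hex' (m := t'.val) (by omega)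
  push Not at hmin
  have h1 := hmin t' rfl
  have h2 := idx_val_ge τ t'
  omega

instance (τ : Idx d n) : Algebra.FiniteType K (SR K τ) :=
  Algebra.FiniteType.of_surjective (Ideal.Quotient.mkₐ K (schubertVanishing K d n τ))
    (Ideal.Quotient.mkₐ_surjective K _)

/-- the hyperplane section of the Schubert cone by the top coordinate -/
noncomputable def sectionEquiv (τ : Idx d n) :
    (SR K τ ⧸ Ideal.span {yS K τ}) ≃+* (PlRing K d n ⧸ (schubertVanishing K d n τ ⊔ Ideal.span {X τ})) := by
  have h : Ideal.span {yS K τ} =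
      (Ideal.span {X τ}).map (Ideal.Quotient.mk (schubertVanishing K d n τ)) := by
    rw [Ideal.map_span, Set.image_singleton]
    rfl
  exact (Ideal.quotEquivOfEq h).trans
    (DoubleQuot.quotQuotEquivQuotSup (schubertVanishing K d n τ) (Ideal.span {X τ}))

theorem ringKrullDim_SR (hd : 0 < d) :
    ∀ (c : ℕ) (τ : Idx d n), codeg τ = c → ringKrullDim (SR K τ) = ((c + 1 : ℕ) : WithBot ℕ∞) := by
  intro c
  induction c with
  | zero =>
    intro τ hτ
    have := isPrime_schubertVanishing K τ hd
    have : IsDomain (SR K τ) := Ideal.Quotient.isDomain _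
    have h1 := Groth.Agent.Lib.Helper73.ringKrullDim_quotient_span_singleton_add_one K (yS K τ)
      (yS_ne_zero K τ hd) (irreducible_yS K τ hd).not_isUnit
    rw [← h1, ringKrullDim_eq_of_ringEquiv (sectionEquiv K τ)]
    have hno : ¬ ∃ φ : Idx d n, φ < τ := by
      rintro ⟨φ, hφ⟩
      have := codeg_lt_of_lt hφ
      omega
    rw [ringKrullDim_eq_of_ringEquiv (Ideal.quotEquivOfEq (sup_eq_ker_of_bottom K τ hd hno))]
    have hsurj : Function.Surjective (evalMinors K d n 0 : PlRing K d n →ₐ[K] K).toRingHom := by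
      intro a
      exact ⟨C a, by simp [evalMinors]⟩
    rw [ringKrullDim_eq_of_ringEquiv (RingHom.quotientKerEquivOfSurjective hsurj),
      ringKrullDim_eq_zero_of_field]
    rfl
  | succ c ih =>
    intro τ hτ
    have := isPrime_schubertVanishing K τ hd
    have : IsDomain (SR K τ) := Ideal.Quotient.isDomain _
    have h1 := Groth.Agent.Lib.Helper73.ringKrullDim_quotient_span_singleton_add_one K (yS K τ)
      (yS_ne_zero K τ hd) (irreducible_yS K τ hd).not_isUnit
    rw [← h1, ringKrullDim_eq_of_ringEquiv (sectionEquiv K τ)]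
    obtain ⟨t, ht⟩ := exists_jump_of_codeg_pos τ (by omega)
    obtain ⟨φ1, hφ1, -⟩ := exists_divisor_of_jump τ t ht
    have hyes : ∃ φ : Idx d n, φ < τ := ⟨φ1, hφ1.1⟩
    rw [sup_eq_iInf_divisors K τ hd hyes]
    have hdiv : ∀ φ ∈ divisors τ, ringKrullDim (PlRing K d n ⧸ schubertVanishing K d n φ) =
        ((c + 1 : ℕ) : WithBot ℕ∞) := by
      intro φ hφ
      apply ih φ
      have := hφ.2
      omega
    have hle : ringKrullDim (PlRing K d n ⧸ ⨅ φ ∈ divisors τ, schubertVanishing K d n φ) ≤
        ((c + 1 : ℕ) : WithBot ℕ∞) :=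
      ringKrullDim_quotient_iInf_le (divisors τ) (fun φ => schubertVanishing K d n φ) _
        (fun φ hφ => (hdiv φ hφ).le)
    have hge : ((c + 1 : ℕ) : WithBot ℕ∞) ≤
        ringKrullDim (PlRing K d n ⧸ ⨅ φ ∈ divisors τ, schubertVanishing K d n φ) := by
      rw [← hdiv φ1 hφ1]
      exact ringKrullDim_le_of_surjective
        (Ideal.Quotient.factor (iInf₂_le φ1 hφ1)) (Ideal.Quotient.factor_surjective _)
    rw [le_antisymm hle hge]
    rfl

end Groth.Agent.Lib.Helper99.Normal
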