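import Mathlib
import Groth.Agent.Lib.Helper99.DimA
import Groth.Agent.Lib.Helper67.EquiCat

/-!
# Dimension formulas for unions of Schubert cones of the same dimension
-/

set_option autoImplicit false
universe u

namespace Groth.Agent.Lib.Helper99.SchubCM
open W4bk4grassmannian MvPolynomial
open Groth.Agent.Lib.Helper99.SMT Groth.Agent.Lib.Helper99.Normal

section General

/-- heights can only grow along the pullback by a surjection -/
lemma height_le_height_comap {R D : Type*} [CommRing R] [CommRing D] (f : R →+* D)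
    (hf : Function.Surjective f) (Q : Ideal D) [hQ : Q.IsPrime] : Q.height ≤ (Q.comap f).height := by
  have hmono : StrictMono (PrimeSpectrum.comap f) := by
    apply Monotone.strictMono_of_injective
    · intro p p' hpp'
      exact Ideal.comap_mono hpp'
    · exact PrimeSpectrum.comap_injective_of_surjective f hf
  have h := Order.height_le_height_apply_of_strictMono (PrimeSpectrum.comap f) hmono ⟨Q, hQ⟩
  rw [← PrimeSpectrum.height_eq_orderHeight, ← PrimeSpectrum.height_eq_orderHeight] at h
  exact h

/-- the upper bound in the dimension formula of a quotient -/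
lemma height_map_add_le {S : Type*} [CommRing S] (I q : Ideal S) [hq : q.IsPrime] (hIq : I ≤ q) :
    (((q.map (Ideal.Quotient.mk I)).height : ℕ∞) : WithBot ℕ∞) + ringKrullDim (S ⧸ q) ≤ ringKrullDim (S ⧸ I) := by
  have hP : (q.map (Ideal.Quotient.mk I)).IsPrime := Ideal.isPrime_map_quotientMk_of_isPrime hIq
  have h := Groth.Agent.Lib.Helper67.EquiCat.height_add_ringKrullDim_quotient_le (q.map (Ideal.Quotient.mk I))
  rw [ringKrullDim_eq_of_ringEquiv (DoubleQuot.quotQuotEquivQuotOfLE hIq)] at h
  exact h

/-- the dimension formula in a quotient which is a domain of finite type over a field -/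
lemma height_map_add_eq (k : Type*) [Field k] {S : Type*} [CommRing S] [Algebra k S] [Algebra.FiniteType k S]
    (J q : Ideal S) [hJ : J.IsPrime] [hq : q.IsPrime] (hJq : J ≤ q) :
    (((q.map (Ideal.Quotient.mk J)).height : ℕ∞) : WithBot ℕ∞) + ringKrullDim (S ⧸ q) = ringKrullDim (S ⧸ J) := by
  have hP : (q.map (Ideal.Quotient.mk J)).IsPrime := Ideal.isPrime_map_quotientMk_of_isPrime hJq
  have : IsDomain (S ⧸ J) := Ideal.Quotient.isDomain J
  have : Algebra.FiniteType k (S ⧸ J) :=
    Algebra.FiniteType.of_surjective (Ideal.Quotient.mkₐ k J) (Ideal.Quotient.mkₐ_surjective k _)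
  have h := Groth.Agent.Lib.Helper73.height_add_ringKrullDim_quotient k (q.map (Ideal.Quotient.mk J))
  rw [ringKrullDim_eq_of_ringEquiv (DoubleQuot.quotQuotEquivQuotOfLE hJq)] at h
  exact h

/-- the lower bound in the dimension formula of a quotient through a prime component -/
lemma le_height_map_add (k : Type*) [Field k] {S : Type*} [CommRing S] [Algebra k S] [Algebra.FiniteType k S]
    (I J q : Ideal S) [hJ : J.IsPrime] [hq : q.IsPrime] (hIJ : I ≤ J) (hJq : J ≤ q) :
    ringKrullDim (S ⧸ J) ≤
      (((q.map (Ideal.Quotient.mk I)).height : ℕ∞) : WithBot ℕ∞) + ringKrullDim (S ⧸ q) := by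
  rw [← height_map_add_eq k J q hJq]
  have hQ : (q.map (Ideal.Quotient.mk J)).IsPrime := Ideal.isPrime_map_quotientMk_of_isPrime hJq
  have h1 := height_le_height_comap (Ideal.Quotient.factor hIJ) (Ideal.Quotient.factor_surjective hIJ)
    (q.map (Ideal.Quotient.mk J))
  have h2 : (q.map (Ideal.Quotient.mk J)).comap (Ideal.Quotient.factor hIJ) = q.map (Ideal.Quotient.mk I) := by
    ext x
    obtain ⟨s, rfl⟩ := Ideal.Quotient.mk_surjective x
    rw [Ideal.mem_comap, Ideal.Quotient.factor_mk, Ideal.mem_quotient_iff_mem hJq,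
      Ideal.mem_quotient_iff_mem (hIJ.trans hJq)]
  rw [h2] at h1
  gcongr
  exact WithBot.coe_le_coe.2 h1

end General

variable (K : Type u) [Field K] [Infinite K] {d n : ℕ}

/-- the dimension formula for a union of Schubert cones of the same dimension -/
theorem dim_formula_iInf (hd : 0 < d) (T : Finset (Idx d n)) (e : ℕ) (hT : ∀ φ ∈ T, codeg φ + 1 = e)
    (q : Ideal (PlRing K d n)) (hq : q.IsPrime) (hle : ⨅ φ ∈ T, schubertVanishing K d n φ ≤ q) :
    (((q.map (Ideal.Quotient.mk (⨅ φ ∈ T, schubertVanishing K d n φ))).height : ℕ∞) : WithBot ℕ∞) +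
      ringKrullDim (PlRing K d n ⧸ q) = (e : WithBot ℕ∞) := by
  apply le_antisymm
  · refine (height_map_add_le _ q hle).trans ?_
    have h := ringKrullDim_quotient_iInf_le (S := PlRing K d n) (T : Set (Idx d n))
      (fun φ => schubertVanishing K d n φ) (e : WithBot ℕ∞) (by
        intro φ hφ
        have := ringKrullDim_SR K hd (codeg φ) φ rfl
        unfold SR at this
        rw [this, hT φ hφ])
    exact h
  · rw [← Finset.inf_eq_iInf, Ideal.IsPrime.inf_le' hq] at hle
    obtain ⟨φ, hφ, hφq⟩ := hle
    have hprime := isPrime_schubertVanishing K φ hd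
    have h1 := le_height_map_add K (⨅ φ ∈ T, schubertVanishing K d n φ) (schubertVanishing K d n φ) q
      (by
        apply iInf_le_of_le φ
        exact iInf_le _ hφ) hφq
    have h2 := ringKrullDim_SR K hd (codeg φ) φ rfl
    unfold SR at h2
    rw [h2, hT φ hφ] at h1
    exact h1

end Groth.Agent.Lib.Helper99.SchubCM
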