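import Mathlib
import Groth.Agent.Lib.Helper99.SchubCMA

/-!
# Sums and intersections of Schubert ideals
-/

set_option autoImplicit false
universe u

namespace Groth.Agent.Lib.Helper99.SchubCM
open W4bk4grassmannian MvPolynomial
open Groth.Agent.Lib.Helper99.SMT Groth.Agent.Lib.Helper99.Normal

variable {d n : ℕ}

lemma inf_le_l (φ ψ : Idx d n) : W4bk4grassmannian.inf φ ψ ≤ φ := fun t => min_le_left _ _

lemma inf_le_r (φ ψ : Idx d n) : W4bk4grassmannian.inf φ ψ ≤ ψ := fun t => min_le_right _ _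

lemma le_inf' (θ φ ψ : Idx d n) (h1 : θ ≤ φ) (h2 : θ ≤ ψ) : θ ≤ W4bk4grassmannian.inf φ ψ :=
  fun t => le_min (h1 t) (h2 t)

lemma inf_apply (φ ψ : Idx d n) (t : Fin d) : (W4bk4grassmannian.inf φ ψ).1 t = min (φ.1 t) (ψ.1 t) := rfl

/-- lowering an index at one place drops the codegree by one -/
lemma codeg_add_one_of_isLower (τ φ : Idx d n) (b : Fin d) (h : IsLower τ φ b) : codeg φ + 1 = codeg τ := by
  classical
  unfold codeg
  rw [← Finset.add_sum_erase Finset.univ (fun t => (φ.1 t).val - t.val) (Finset.mem_univ b),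
    ← Finset.add_sum_erase Finset.univ (fun t => (τ.1 t).val - t.val) (Finset.mem_univ b)]
  have h1 : ∑ t ∈ Finset.univ.erase b, ((φ.1 t).val - t.val) = ∑ t ∈ Finset.univ.erase b, ((τ.1 t).val - t.val) := by
    apply Finset.sum_congr rfl
    intro t ht
    rw [h.1 t (Finset.ne_of_mem_erase ht)]
  have h2 := h.2
  have h3 := idx_val_ge φ b
  rw [h1]
  omega

/-- the meet of two distinct divisors is a divisor of each of them -/
theorem inf_mem_divisors (τ φ ψ : Idx d n) (hφ : φ ∈ divisors τ) (hψ : ψ ∈ divisors τ) (hne : φ ≠ ψ) :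
    W4bk4grassmannian.inf φ ψ ∈ divisors φ := by
  obtain ⟨a, -, hla⟩ := exists_jump_of_divisor τ φ hφ
  obtain ⟨b, -, hlb⟩ := exists_jump_of_divisor τ ψ hψ
  have hab : a ≠ b := by
    intro h
    subst h
    exact hne (isLower_unique τ φ ψ a hla hlb)
  have hlow : IsLower φ (W4bk4grassmannian.inf φ ψ) b := by
    constructor
    · intro t ht
      rw [inf_apply]
      by_cases hta : t = a
      · subst hta
        rw [hlb.1 t ht]
        apply min_eq_left
        rw [Fin.le_def]
        have := hla.2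
        omega
      · rw [hla.1 t hta, hlb.1 t ht, min_self]
    · rw [inf_apply, hla.1 b (Ne.symm hab)]
      have h1 : ψ.1 b ≤ τ.1 b := by
        rw [Fin.le_def]
        have := hlb.2
        omega
      rw [min_eq_right h1]
      exact hlb.2
  refine ⟨lt_of_le_of_ne (inf_le_l φ ψ) ?_, codeg_add_one_of_isLower φ _ b hlow⟩
  intro h
  have := hlow.2
  rw [h] at this
  omega

variable (K : Type u) [Field K] [Infinite K]

/-- the sum of a Schubert ideal and an intersection of Schubert ideals -/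
theorem sup_iInf_eq (hd : 0 < d) (φ : Idx d n) (T : Finset (Idx d n)) (hT : T.Nonempty) :
    schubertVanishing K d n φ ⊔ ⨅ ψ ∈ T, schubertVanishing K d n ψ =
      ⨅ ψ ∈ T, schubertVanishing K d n (W4bk4grassmannian.inf φ ψ) := by
  classical
  set I' := schubertVanishing K d n φ ⊔ ⨅ ψ ∈ T, schubertVanishing K d n ψ with hI'
  have hle : I' ≤ ⨅ ψ ∈ T, schubertVanishing K d n (W4bk4grassmannian.inf φ ψ) := by
    apply le_iInf
    intro ψ
    apply le_iInf
    intro hψ
    apply sup_le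
    · exact schubertVanishing_anti K (inf_le_l φ ψ)
    · exact (iInf_le_of_le ψ (iInf_le _ hψ)).trans (schubertVanishing_anti K (inf_le_r φ ψ))
  apply le_antisymm hle
  intro f hf
  have hspan := std_span K I' (le_sup_of_le_left (plIdealTop_le_schubertVanishing K φ))
    (fun _ c => ∀ k, c k ≤ φ ∧ ∃ ψ ∈ T, c k ≤ ψ)
    (by
      intro m' c _ hP
      push Not at hP
      obtain ⟨k, hk⟩ := hP
      apply chainMon_mem_of_factor K _ c k
      by_cases h1 : c k ≤ φ
      · have h2 : ∀ ψ ∈ T, ¬ c k ≤ ψ := hk h1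
        apply Ideal.mem_sup_right
        rw [Ideal.mem_iInf]
        intro ψ
        rw [Ideal.mem_iInf]
        intro hψ
        exact X_mem_schubertVanishing K ψ (c k) (h2 ψ hψ)
      · exact Ideal.mem_sup_left (X_mem_schubertVanishing K φ (c k) h1)) f
  obtain ⟨g, hg, h, hh, rfl⟩ := Submodule.mem_sup.1 hspan
  have hh' : h ∈ I' := hh
  have hgJ : g ∈ ⨅ ψ ∈ T, schubertVanishing K d n (W4bk4grassmannian.inf φ ψ) := by
    have := Ideal.sub_mem _ hf (hle hh')
    rwa [add_sub_cancel_right] at this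
  have hg0 := eq_zero_of_mem_span_of_mem K hd (⨅ ψ ∈ T, schubertVanishing K d n (W4bk4grassmannian.inf φ ψ))
    (fun _ c => ∀ k, c k ≤ φ ∧ ∃ ψ ∈ T, c k ≤ ψ)
    (by
      intro m' c hc hQ
      have hexψ : ∃ ψ ∈ T, ∀ k, c k ≤ W4bk4grassmannian.inf φ ψ := by
        rcases Nat.eq_zero_or_pos m' with hm | hm
        · subst hm
          obtain ⟨ψ, hψ⟩ := hT
          exact ⟨ψ, hψ, fun k => k.elim0⟩
        · obtain ⟨h1, ψ, hψ, h2⟩ := hQ ⟨0, hm⟩
          refine ⟨ψ, hψ, fun k => ?_⟩
          have hk : c k ≤ c ⟨0, hm⟩ := hc (Fin.le_def.2 (Nat.zero_le k.val))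
          exact le_inf' _ _ _ (hk.trans h1) (hk.trans h2)
      obtain ⟨ψ, hψ, hψ'⟩ := hexψ
      refine ⟨shapeLe (W4bk4grassmannian.inf φ ψ), fun k => (mem_shapeLe _ (c k)).2 (hψ' k), ?_⟩
      intro f hf
      apply ev_eq_zero_of_mem_schubertVanishing K (W4bk4grassmannian.inf φ ψ)
        (shapeLe (W4bk4grassmannian.inf φ ψ)) (fun t => le_rfl) f
      have := (Ideal.mem_iInf.1 hf) ψ
      exact (Ideal.mem_iInf.1 this) hψ) g hg hgJ
  rw [hg0, zero_add]
  exact hh'

end Groth.Agent.Lib.Helper99.SchubCM
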