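import Mathlib
import Groth.Agent.Lib.Helper99.SchubCMB
import Groth.Agent.Lib.Helper99.CMGlueC

/-!
# Schubert cones and the cones over unions of Schubert divisors are Cohen–Macaulay
-/

set_option autoImplicit false
universe u

namespace Groth.Agent.Lib.Helper99.SchubCM
open W4bk4grassmannian MvPolynomial LocCoh
open Groth.Agent.Lib.Helper99.SMT Groth.Agent.Lib.Helper99.Normal Groth.Agent.Lib.Helper99.CM
open Groth.Agent.Lib.Helper56

section General
variable {S : Type u} [CommRing S] [IsNoetherianRing S]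

/-- the zero ring is Cohen–Macaulay -/
lemma isCM_of_subsingleton (R : Type u) [CommRing R] [Subsingleton R] : IsCohenMacaulayRing R := by
  refine { isCohenMacaulayLocalRing_localization := fun p hp => ?_ }
  exfalso
  exact hp.ne_top (Subsingleton.elim _ _)

/-- gluing lemma with the sum and the intersection given by names -/
theorem cm_glue' (I J L M : Ideal S) (hL : I ⊔ J = L) (hM : I ⊓ J = M) (e : ℕ) (he : 1 ≤ e)
    (hI : IsCohenMacaulayRing (S ⧸ I)) (hJ : IsCohenMacaulayRing (S ⧸ J))
    (hIJ : IsCohenMacaulayRing (S ⧸ L))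
    (HI : ∀ q : Ideal S, q.IsPrime → I ≤ q →
      (((q.map (Ideal.Quotient.mk I)).height : ℕ∞) : WithBot ℕ∞) + ringKrullDim (S ⧸ q) = (e : WithBot ℕ∞))
    (HJ : ∀ q : Ideal S, q.IsPrime → J ≤ q →
      (((q.map (Ideal.Quotient.mk J)).height : ℕ∞) : WithBot ℕ∞) + ringKrullDim (S ⧸ q) = (e : WithBot ℕ∞))
    (HIJ : ∀ q : Ideal S, q.IsPrime → L ≤ q →
      (((q.map (Ideal.Quotient.mk L)).height : ℕ∞) : WithBot ℕ∞) + ringKrullDim (S ⧸ q) =
        ((e - 1 : ℕ) : WithBot ℕ∞))
    (Hle : ∀ q : Ideal S, q.IsPrime → M ≤ q →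
      (((q.map (Ideal.Quotient.mk M)).height : ℕ∞) : WithBot ℕ∞) + ringKrullDim (S ⧸ q) ≤
        (e : WithBot ℕ∞)) :
    IsCohenMacaulayRing (S ⧸ M) := by
  subst hL
  subst hM
  exact cm_glue I J e he hI hJ hIJ HI HJ HIJ Hle

/-- lifting lemma with the hypersurface section given by a name -/
theorem cm_lift' (I L : Ideal S) (x : S) (hL : I ⊔ Ideal.span {x} = L) (hx : ∀ a : S, x * a ∈ I → a ∈ I)
    (e : ℕ) (he : 1 ≤ e)
    (hCM : IsCohenMacaulayRing (S ⧸ L))
    (H : ∀ q : Ideal S, q.IsPrime → L ≤ q →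
      (((q.map (Ideal.Quotient.mk L)).height : ℕ∞) : WithBot ℕ∞) + ringKrullDim (S ⧸ q) =
        ((e - 1 : ℕ) : WithBot ℕ∞))
    (Hle : ∀ q : Ideal S, q.IsPrime → I ≤ q →
      (((q.map (Ideal.Quotient.mk I)).height : ℕ∞) : WithBot ℕ∞) + ringKrullDim (S ⧸ q) ≤ (e : WithBot ℕ∞))
    (hloc : IsCohenMacaulayRing (Localization.Away (Ideal.Quotient.mk I x))) :
    IsCohenMacaulayRing (S ⧸ I) := by
  subst hL
  exact cm_lift I x hx e he hCM H Hle hloc

end General

variable (K : Type u) [Field K] [Infinite K] {d n : ℕ}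

/-- the open cell of a Schubert cone is Cohen–Macaulay -/
theorem isCM_Ry (hd : 0 < d) (τ : Idx d n) : IsCohenMacaulayRing (Ry K τ) := by
  have h0 : IsCohenMacaulayRing K := isCohenMacaulayRing_of_isArtinianRing K
  have hfin : Finite (Cell τ) := by
    unfold Cell
    infer_instance
  have h1 : IsCohenMacaulayRing (QRing K τ) := isCohenMacaulayRing_mvPolynomial (Option (Cell τ)) K h0
  have h2 : IsCohenMacaulayRing (Qt K τ) :=
    isCohenMacaulayRing_of_isLocalization (Submonoid.powers (X none : QRing K τ)) (Qt K τ) h1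
  exact isCohenMacaulayRing_of_ringEquiv (cellEquiv K τ hd) h2

/-- the dimension formula of a single Schubert cone -/
lemma dim_formula_single (hd : 0 < d) (τ : Idx d n) (q : Ideal (PlRing K d n)) (hq : q.IsPrime)
    (hle : schubertVanishing K d n τ ≤ q) :
    (((q.map (Ideal.Quotient.mk (schubertVanishing K d n τ))).height : ℕ∞) : WithBot ℕ∞) +
      ringKrullDim (PlRing K d n ⧸ q) = ((codeg τ + 1 : ℕ) : WithBot ℕ∞) := by
  have hprime := isPrime_schubertVanishing K τ hd
  have h1 := height_map_add_eq K (schubertVanishing K d n τ) q hle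
  have h2 := ringKrullDim_SR K hd (codeg τ) τ rfl
  unfold SR at h2
  rw [h2] at h1
  exact h1

/-- the unions of Schubert divisors of `τ` are Cohen–Macaulay, given the theorem in smaller dimensions -/
theorem isCM_unions (hd : 0 < d) (τ : Idx d n)
    (ih : ∀ φ : Idx d n, codeg φ < codeg τ →
      IsCohenMacaulayRing (PlRing K d n ⧸ schubertVanishing K d n φ) ∧
      ∀ T : Finset (Idx d n), (∀ ψ ∈ T, ψ ∈ divisors φ) →
        IsCohenMacaulayRing (PlRing K d n ⧸ ⨅ ψ ∈ T, schubertVanishing K d n ψ)) :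
    ∀ T : Finset (Idx d n), (∀ ψ ∈ T, ψ ∈ divisors τ) →
      IsCohenMacaulayRing (PlRing K d n ⧸ ⨅ ψ ∈ T, schubertVanishing K d n ψ) := by
  classical
  intro T
  induction T using Finset.induction_on with
  | empty =>
    intro _
    have h : (⨅ ψ ∈ (∅ : Finset (Idx d n)), schubertVanishing K d n ψ) = ⊤ := by simp
    rw [h]
    have : Subsingleton (PlRing K d n ⧸ (⊤ : Ideal (PlRing K d n))) := Ideal.Quotient.subsingleton_iff.2 rfl
    exact isCM_of_subsingleton _
  | insert φ T' hφT' ihT =>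
    intro hT
    have hφ : φ ∈ divisors τ := hT φ (Finset.mem_insert_self _ _)
    have hT' : ∀ ψ ∈ T', ψ ∈ divisors τ := fun ψ hψ => hT ψ (Finset.mem_insert_of_mem hψ)
    have hcφ : codeg φ + 1 = codeg τ := hφ.2
    have hφlt : codeg φ < codeg τ := by omega
    obtain ⟨ihS, ihU⟩ := ih φ hφlt
    rcases T'.eq_empty_or_nonempty with hemp | hne
    · subst hemp
      have h : (⨅ ψ ∈ insert φ (∅ : Finset (Idx d n)), schubertVanishing K d n ψ) =
          schubertVanishing K d n φ := by simp
      rw [h]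
      exact ihS
    · set T'' := T'.image (fun ψ => W4bk4grassmannian.inf φ ψ) with hT''
      have hT''div : ∀ θ ∈ T'', θ ∈ divisors φ := by
        intro θ hθ
        obtain ⟨ψ, hψ, rfl⟩ := Finset.mem_image.1 hθ
        apply inf_mem_divisors τ φ ψ hφ (hT' ψ hψ)
        intro h
        rw [h] at hφT'
        exact hφT' hψ
      have hL : schubertVanishing K d n φ ⊔ ⨅ ψ ∈ T', schubertVanishing K d n ψ =
          ⨅ θ ∈ T'', schubertVanishing K d n θ := by
        rw [sup_iInf_eq K hd φ T' hne, hT'', Finset.iInf_finset_image]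
      have hM : schubertVanishing K d n φ ⊓ ⨅ ψ ∈ T', schubertVanishing K d n ψ =
          ⨅ ψ ∈ insert φ T', schubertVanishing K d n ψ := (Finset.iInf_insert _ _ _).symm
      apply cm_glue' _ _ _ _ hL hM (codeg τ) (by omega) ihS (ihT hT') (ihU T'' hT''div)
      · intro q hq hle
        rw [dim_formula_single K hd φ q hq hle, hcφ]
      · intro q hq hle
        exact dim_formula_iInf K hd T' (codeg τ) (fun ψ hψ => (hT' ψ hψ).2) q hq hle
      · intro q hq hle
        apply dim_formula_iInf K hd T'' (codeg τ - 1) _ q hq hle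
        intro θ hθ
        have := (hT''div θ hθ).2
        omega
      · intro q hq hle
        exact (dim_formula_iInf K hd (insert φ T') (codeg τ) (fun ψ hψ => (hT ψ hψ).2) q hq hle).le

/-- a Schubert cone is Cohen–Macaulay, given the theorem for the unions of its divisors -/
theorem isCM_single (hd : 0 < d) (τ : Idx d n)
    (hU : ∀ T : Finset (Idx d n), (∀ ψ ∈ T, ψ ∈ divisors τ) →
      IsCohenMacaulayRing (PlRing K d n ⧸ ⨅ ψ ∈ T, schubertVanishing K d n ψ)) :
    IsCohenMacaulayRing (PlRing K d n ⧸ schubertVanishing K d n τ) := by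
  classical
  have hprime := isPrime_schubertVanishing K τ hd
  have hx : ∀ a : PlRing K d n, X τ * a ∈ schubertVanishing K d n τ → a ∈ schubertVanishing K d n τ := by
    intro a ha
    rcases hprime.mem_or_mem ha with h | h
    · exact absurd h (X_notMem_schubertVanishing K τ hd)
    · exact h
  have hHle : ∀ q : Ideal (PlRing K d n), q.IsPrime → schubertVanishing K d n τ ≤ q →
      (((q.map (Ideal.Quotient.mk (schubertVanishing K d n τ))).height : ℕ∞) : WithBot ℕ∞) +
        ringKrullDim (PlRing K d n ⧸ q) ≤ ((codeg τ + 1 : ℕ) : WithBot ℕ∞) :=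
    fun q hq hle => (dim_formula_single K hd τ q hq hle).le
  have hloc : IsCohenMacaulayRing
      (Localization.Away (Ideal.Quotient.mk (schubertVanishing K d n τ) (X τ))) := isCM_Ry K hd τ
  by_cases hτ : ∃ φ : Idx d n, φ < τ
  · have hfin : (divisors τ).Finite := Set.toFinite _
    have hL : schubertVanishing K d n τ ⊔ Ideal.span {X τ} =
        ⨅ φ ∈ hfin.toFinset, schubertVanishing K d n φ := by
      rw [sup_eq_iInf_divisors K τ hd hτ]
      simp only [Set.Finite.mem_toFinset]
    have hdiv : ∀ ψ ∈ hfin.toFinset, ψ ∈ divisors τ := fun ψ hψ => (Set.Finite.mem_toFinset hfin).1 hψ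
    apply cm_lift' _ _ _ hL hx (codeg τ + 1) (by omega) (hU _ hdiv) _ hHle hloc
    intro q hq hle
    apply dim_formula_iInf K hd hfin.toFinset (codeg τ + 1 - 1) _ q hq hle
    intro ψ hψ
    have := (hdiv ψ hψ).2
    omega
  · have hc : codeg τ = 0 := by
      by_contra hne
      obtain ⟨t, ht⟩ := exists_jump_of_codeg_pos τ (Nat.pos_of_ne_zero hne)
      obtain ⟨φ, hφ, -⟩ := exists_divisor_of_jump τ t ht
      exact hτ ⟨φ, hφ.1⟩
    have hL := sup_eq_ker_of_bottom K τ hd hτ
    have hsurj : Function.Surjective (evalMinors K d n 0 : PlRing K d n →ₐ[K] K).toRingHom := by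
      intro a
      refine ⟨C a, ?_⟩
      change evalMinors K d n 0 (C a) = a
      rw [← MvPolynomial.algebraMap_eq, AlgHom.commutes]
      rfl
    have hmax : (RingHom.ker (evalMinors K d n 0 : PlRing K d n →ₐ[K] K).toRingHom).IsMaximal :=
      RingHom.ker_isMaximal_of_surjective _ hsurj
    have hK : IsCohenMacaulayRing K := isCohenMacaulayRing_of_isArtinianRing K
    have hCM : IsCohenMacaulayRing
        (PlRing K d n ⧸ RingHom.ker (evalMinors K d n 0 : PlRing K d n →ₐ[K] K).toRingHom) :=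
      isCohenMacaulayRing_of_ringEquiv (RingHom.quotientKerEquivOfSurjective hsurj).symm hK
    apply cm_lift' _ _ _ hL hx (codeg τ + 1) (by omega) hCM _ hHle hloc
    intro q hq hle
    have hqeq : q = RingHom.ker (evalMinors K d n 0 : PlRing K d n →ₐ[K] K).toRingHom :=
      (hmax.eq_of_le hq.ne_top hle).symm
    rw [hqeq, Ideal.map_quotient_self, Ideal.height_bot, hc]
    have : ringKrullDim (PlRing K d n ⧸ RingHom.ker (evalMinors K d n 0 : PlRing K d n →ₐ[K] K).toRingHom) = 0 := by
      rw [ringKrullDim_eq_of_ringEquiv (RingHom.quotientKerEquivOfSurjective hsurj)]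
      exact ringKrullDim_eq_zero_of_field K
    rw [this]
    rfl

/-- Schubert cones and the cones over unions of Schubert divisors are Cohen–Macaulay. -/
theorem cm_main (hd : 0 < d) : ∀ (c : ℕ) (τ : Idx d n), codeg τ = c →
    IsCohenMacaulayRing (PlRing K d n ⧸ schubertVanishing K d n τ) ∧
    ∀ T : Finset (Idx d n), (∀ ψ ∈ T, ψ ∈ divisors τ) →
      IsCohenMacaulayRing (PlRing K d n ⧸ ⨅ ψ ∈ T, schubertVanishing K d n ψ) := by
  intro c
  induction c using Nat.strong_induction_on with
  | _ c ih =>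
    intro τ hτ
    have hU := isCM_unions K hd τ (fun φ hφ => ih (codeg φ) (by omega) φ rfl)
    exact ⟨isCM_single K hd τ hU, hU⟩

end Groth.Agent.Lib.Helper99.SchubCM
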