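import Mathlib
import Groth.Agent.Lib.Helper99.DetA
import Groth.Agent.Lib.Helper99.SchubCMC

/-!
# The reversal symmetry of the Plücker algebra
-/

set_option autoImplicit false
universe u

namespace Groth.Agent.Lib.Helper99.Det
open W4bk4grassmannian MvPolynomial
open Groth.Agent.Lib.Helper99.SMT

variable {d N : ℕ}

/-- reversal of an increasing tuple -/
def rev (θ : Idx d N) : Idx d N :=
  ⟨fun t => Fin.rev (θ.1 (Fin.rev t)), by
    intro t t' htt'
    apply Fin.rev_lt_rev.2
    apply θ.2
    exact Fin.rev_lt_rev.2 htt'⟩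

lemma rev_apply (θ : Idx d N) (t : Fin d) : (rev θ).1 t = Fin.rev (θ.1 (Fin.rev t)) := rfl

lemma rev_rev (θ : Idx d N) : rev (rev θ) = θ := by
  apply Subtype.ext
  funext t
  rw [rev_apply, rev_apply, Fin.rev_rev, Fin.rev_rev]

lemma rev_le_rev_iff (θ θ' : Idx d N) : rev θ ≤ rev θ' ↔ θ' ≤ θ := by
  constructor
  · intro h t
    have := h (Fin.rev t)
    rw [rev_apply, rev_apply, Fin.rev_rev] at this
    exact Fin.rev_le_rev.1 this
  · intro h t
    rw [rev_apply, rev_apply]
    exact Fin.rev_le_rev.2 (h _)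

lemma le_rev_iff (θ θ' : Idx d N) : θ ≤ rev θ' ↔ θ' ≤ rev θ := by
  rw [← rev_le_rev_iff, rev_rev]

lemma rev_val (θ : Idx d N) (t : Fin d) : ((rev θ).1 t).val = N - 1 - (θ.1 ⟨d - 1 - t.val, by have := t.isLt; omega⟩).val := by
  rw [rev_apply, Fin.val_rev]
  have h : Fin.rev t = ⟨d - 1 - t.val, by have := t.isLt; omega⟩ := by
    apply Fin.ext
    rw [Fin.val_rev]
    have := t.isLt
    simp only
    omega
  rw [h]
  have := (θ.1 ⟨d - 1 - t.val, by have := t.isLt; omega⟩).isLt
  omega

variable (K : Type u) [Field K]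

/-- the reversal automorphism of the Plücker algebra -/
noncomputable def sigma : PlRing K d N →ₐ[K] PlRing K d N := MvPolynomial.rename rev

lemma sigma_X (θ : Idx d N) : sigma K (X θ) = X (rev θ) := by
  unfold sigma
  rw [rename_X]

lemma sigma_sigma (f : PlRing K d N) : sigma K (sigma K f) = f := by
  unfold sigma
  rw [rename_rename]
  have : (rev ∘ rev : Idx d N → Idx d N) = id := by
    funext θ
    exact rev_rev θ
  rw [this, rename_id_apply]

/-- reversal of the rows and columns of a matrix -/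
def Mrev (M : Matrix (Fin N) (Fin d) K) : Matrix (Fin N) (Fin d) K := M.submatrix Fin.rev Fin.rev

lemma Mrev_Mrev (M : Matrix (Fin N) (Fin d) K) : Mrev K (Mrev K M) = M := by
  apply Matrix.ext
  intro i j
  unfold Mrev
  rw [Matrix.submatrix_apply, Matrix.submatrix_apply, Fin.rev_rev, Fin.rev_rev]

lemma det_Mrev_submatrix (M : Matrix (Fin N) (Fin d) K) (θ : Idx d N) :
    ((Mrev K M).submatrix θ.1 id).det = (M.submatrix (rev θ).1 id).det := by
  have h : (Mrev K M).submatrix θ.1 id =
      (M.submatrix (rev θ).1 id).submatrix (Fin.revPerm : Fin d ≃ Fin d) (Fin.revPerm : Fin d ≃ Fin d) := by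
    apply Matrix.ext
    intro s j
    unfold Mrev
    rw [Matrix.submatrix_apply, Matrix.submatrix_apply, Matrix.submatrix_apply, Matrix.submatrix_apply, rev_apply]
    simp only [id, Fin.revPerm_apply, Fin.rev_rev]
  rw [h, Matrix.det_submatrix_equiv_self]

lemma evalMinors_Mrev (M : Matrix (Fin N) (Fin d) K) (f : PlRing K d N) :
    evalMinors K d N (Mrev K M) f = evalMinors K d N M (sigma K f) := by
  have h : (evalMinors K d N (Mrev K M)) = (evalMinors K d N M).comp (sigma K) := by
    apply MvPolynomial.algHom_ext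
    intro θ
    rw [AlgHom.comp_apply, sigma_X]
    unfold evalMinors
    rw [aeval_X, aeval_X, det_Mrev_submatrix]
  rw [h, AlgHom.comp_apply]

end Groth.Agent.Lib.Helper99.Det
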