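import Mathlib
import Groth.Agent.Lib.Helper99.DetB

/-!
# The bridge between determinantal rings and Schubert cones: definitions and the easy inclusion
-/

set_option autoImplicit false
universe u

namespace Groth.Agent.Lib.Helper99.Det
open W4bk4grassmannian MvPolynomial
open Groth.Agent.Lib.Helper99.SMT Groth.Agent.Lib.Helper99.Bit Groth.Agent.Lib.Helper99.Sft
open Groth.Agent.Lib.Helper99.Gl

variable {m n : ℕ}

/-- the smallest index of the shape of the minors of size less than `t` -/
def lam (m n t : ℕ) (htm : t - 1 ≤ m) : Idx n (m + n) :=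
  ⟨fun i => ⟨if i.val < t - 1 then i.val else m + (i.val - (t - 1)), by
      have := i.isLt
      split_ifs <;> omega⟩, by
    intro i i' hii'
    have hv : i.val < i'.val := hii'
    rw [Fin.lt_def]
    simp only
    split_ifs <;> omega⟩

lemma lam_val (t : ℕ) (htm : t - 1 ≤ m) (i : Fin n) :
    ((lam m n t htm).1 i).val = if i.val < t - 1 then i.val else m + (i.val - (t - 1)) := rfl

lemma mem_shapeT_iff (t : ℕ) (htm : t - 1 ≤ m) (θ : Idx n (m + n)) :
    (shapeT m n t).mem θ ↔ lam m n t htm ≤ θ := by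
  rw [idx_le_iff]
  constructor
  · intro h i
    rw [lam_val]
    have h1 := (h i).1
    rw [shapeT_lo] at h1
    have h2 := idx_val_ge θ i
    split_ifs at h1 ⊢ <;> omega
  · intro h i
    have h1 := h i
    rw [lam_val] at h1
    rw [shapeT_lo, shapeT_hi]
    have h2 := (θ.1 i).isLt
    constructor
    · split_ifs at h1 ⊢ <;> omega
    · omega

/-- the index of the Schubert variety mirroring the determinantal variety -/
def tau (m n t : ℕ) (htm : t - 1 ≤ m) : Idx n (m + n) := rev (lam m n t htm)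

/-- the mirror image of the largest index -/
def bot (m n : ℕ) : Idx n (m + n) := rev (thetaMax m n)

lemma le_tau_iff (t : ℕ) (htm : t - 1 ≤ m) (φ : Idx n (m + n)) :
    φ ≤ tau m n t htm ↔ (shapeT m n t).mem (rev φ) := by
  unfold tau
  rw [mem_shapeT_iff t htm, le_rev_iff]

variable (K : Type u) [Field K]

/-- the mirrored dehomogenisation -/
noncomputable def Phi' (m n : ℕ) : PlRing K n (m + n) →ₐ[K] MvPolynomial (Fin m × Fin n) K :=
  (Phi K m n).comp (sigma K)

lemma Phi'_X (θ : Idx n (m + n)) : Phi' K m n (X θ) = Phi K m n (X (rev θ)) := by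
  unfold Phi'
  rw [AlgHom.comp_apply, sigma_X]

lemma Phi'_surjective : Function.Surjective (Phi' K m n) := by
  intro g
  obtain ⟨f, rfl⟩ := Phi_surjective K g
  refine ⟨sigma K f, ?_⟩
  unfold Phi'
  rw [AlgHom.comp_apply, sigma_sigma]

/-- the sign of the largest coordinate -/
noncomputable def epsK (n : ℕ) : K := ((eps0 n : ℤ) : K)

lemma Phi'_X_bot : Phi' K m n (X (bot m n)) = C (epsK K n) := by
  rw [Phi'_X]
  unfold bot
  rw [rev_rev, Phi_X_thetaMax]
  unfold epsK
  rw [map_intCast]

/-- the ideal of the Schubert cone cut by the hyperplane where the smallest coordinate is `±1` -/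
noncomputable def bridgeIdeal (m n t : ℕ) (htm : t - 1 ≤ m) : Ideal (PlRing K n (m + n)) :=
  schubertVanishing K n (m + n) (tau m n t htm) ⊔ Ideal.span {X (bot m n) - C (epsK K n)}

variable [Infinite K]

/-- a polynomial vanishing on the matrices of rank less than `t` lies in the determinantal ideal -/
lemma mem_minorIdeal_of_eval (t : ℕ) (ht : 1 ≤ t) (g : MvPolynomial (Fin m × Fin n) K)
    (h : ∀ (U0 : Matrix (Fin m) (Fin (t - 1)) K) (W0 : Matrix (Fin (t - 1)) (Fin n) K),
      MvPolynomial.eval (ptM K (U0 * W0)) g = 0) :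
    g ∈ CAlgX.minorIdeal (genMatrix K m n) t := by
  rw [minorIdeal_eq_ker K m n t ht, RingHom.mem_ker]
  change pairingMap K (t - 1) m n g = 0
  apply eq_of_eval_ptP_eq
  intro U0 W0
  rw [eval_pairingMap, h, map_zero]

lemma eval_eq_zero_of_mem_minorIdeal' (t : ℕ) (ht : 1 ≤ t) (g : MvPolynomial (Fin m × Fin n) K)
    (hg : g ∈ CAlgX.minorIdeal (genMatrix K m n) t)
    (U0 : Matrix (Fin m) (Fin (t - 1)) K) (W0 : Matrix (Fin (t - 1)) (Fin n) K) :
    MvPolynomial.eval (ptM K (U0 * W0)) g = 0 := by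
  rw [minorIdeal_eq_ker K m n t ht, RingHom.mem_ker] at hg
  have hg' : pairingMap K (t - 1) m n g = 0 := hg
  rw [← eval_pairingMap, hg', map_zero]

/-- the Schubert ideal dehomogenises into the determinantal ideal -/
theorem Phi'_mem_of_mem_schubertVanishing (t : ℕ) (ht : 1 ≤ t) (htm : t - 1 ≤ m)
    (f : PlRing K n (m + n)) (hf : f ∈ schubertVanishing K n (m + n) (tau m n t htm)) :
    Phi' K m n f ∈ CAlgX.minorIdeal (genMatrix K m n) t := by
  apply mem_minorIdeal_of_eval K t ht
  intro U0 W0
  unfold Phi'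
  rw [AlgHom.comp_apply, eval_Phi, ← evalMinors_Mrev]
  apply (mem_schubertVanishing_iff K _ f).1 hf
  intro φ hφ
  rw [det_Mrev_submatrix]
  have hnot : ¬ (shapeT m n t).mem (rev φ) := by
    rw [← le_tau_iff t htm]
    exact hφ
  have h1 := Phi_X_mem K t (rev φ) hnot
  have h2 := eval_eq_zero_of_mem_minorIdeal' K t ht _ h1 U0 W0
  rw [eval_Phi] at h2
  unfold evalMinors at h2
  rw [aeval_X] at h2
  exact h2

theorem bridgeIdeal_le (t : ℕ) (ht : 1 ≤ t) (htm : t - 1 ≤ m) :
    bridgeIdeal K m n t htm ≤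
      Ideal.comap (Phi' K m n).toRingHom (CAlgX.minorIdeal (genMatrix K m n) t) := by
  unfold bridgeIdeal
  apply sup_le
  · intro f hf
    rw [Ideal.mem_comap]
    exact Phi'_mem_of_mem_schubertVanishing K t ht htm f hf
  · rw [Ideal.span_le, Set.singleton_subset_iff, SetLike.mem_coe, Ideal.mem_comap]
    change Phi' K m n (X (bot m n) - C (epsK K n)) ∈ _
    rw [map_sub, Phi'_X_bot]
    have : Phi' K m n (C (epsK K n)) = C (epsK K n) := by
      rw [← MvPolynomial.algebraMap_eq, AlgHom.commutes, MvPolynomial.algebraMap_eq]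
    rw [this, sub_self]
    exact Ideal.zero_mem _

end Groth.Agent.Lib.Helper99.Det
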