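import Mathlib
import Groth.Agent.Lib.Helper99.DetC

/-!
# The bridge between determinantal rings and Schubert cones: the kernel of the mirrored dehomogenisation
-/

set_option autoImplicit false
universe u

namespace Groth.Agent.Lib.Helper99.Det
open W4bk4grassmannian MvPolynomial
open Groth.Agent.Lib.Helper99.SMT Groth.Agent.Lib.Helper99.Bit Groth.Agent.Lib.Helper99.Sft
open Groth.Agent.Lib.Helper99.Gl

variable {m n : ℕ} (K : Type u) [Field K]

/-- the monomial of the Plücker algebra attached to a standard bitableau (mirrored) -/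
noncomputable def monoS {t : ℕ} (c : StdBit m n t) : PlRing K n (m + n) :=
  Finset.univ.prod fun i => X (rev (toIdx (c.2.1 i)))

/-- the sign of a bitableau -/
noncomputable def sgn {t : ℕ} (c : StdBit m n t) : ℤˣ := Finset.univ.prod fun i => eps (c.2.1 i)

lemma Phi'_monoS {t : ℕ} (c : StdBit m n t) :
    Phi' K m n (monoS K c) = ((sgn c : ℤ) : MvPolynomial (Fin m × Fin n) K) * bitMon K c := by
  unfold monoS
  rw [map_prod]
  have h : ∀ i, Phi' K m n (X (rev (toIdx (c.2.1 i)))) =
      ((eps (c.2.1 i) : ℤ) : MvPolynomial (Fin m × Fin n) K) * minorOf K (c.2.1 i) := by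
    intro i
    rw [Phi'_X, rev_rev, Phi_X_toIdx]
  simp_rw [h]
  rw [Finset.prod_mul_distrib]
  unfold sgn bitMon
  rw [Units.coe_prod, Int.cast_prod]

/-- removing the copies of the smallest coordinate from a standard monomial of the Schubert variety -/
theorem exists_stdBit_of_chain (hm : 0 < m) (t : ℕ) (htm : t - 1 ≤ m) {q : ℕ} (c : Fin q → Idx n (m + n))
    (hc : Antitone c) (hle : ∀ k, c k ≤ tau m n t htm) :
    ∃ (u : K) (c' : StdBit m n t),
      chainMon K c - u • monoS K c' ∈ Ideal.span {X (bot m n) - C (epsK K n)} := by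
  classical
  set F := Finset.univ.filter (fun k => c k ≠ bot m n) with hF
  set e := F.orderEmbOfFin rfl with he
  have hmemF : ∀ i : Fin F.card, c (e i) ≠ bot m n := by
    intro i
    have := Finset.orderEmbOfFin_mem F rfl i
    exact (Finset.mem_filter.1 this).2
  have hne : ∀ i : Fin F.card, rev (c (e (Fin.rev i))) ≠ thetaMax m n := by
    intro i h
    apply hmemF (Fin.rev i)
    unfold bot
    rw [← h, rev_rev]
  set Mf : Fin F.card → MinorIdx m n := fun i => Classical.choose (exists_toIdx_eq hm _ (hne i)) with hMf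
  have hMspec : ∀ i, toIdx (Mf i) = rev (c (e (Fin.rev i))) := fun i =>
    Classical.choose_spec (exists_toIdx_eq hm _ (hne i))
  have hsize : ∀ i, (Mf i).1 + 1 ≤ t - 1 := by
    intro i
    have h1 : (shapeT m n t).mem (toIdx (Mf i)) := by
      rw [hMspec]
      exact (le_tau_iff t htm _).1 (hle _)
    exact (mem_shapeT_toIdx t (Mf i)).1 h1
  have horder : ∀ i j, i < j → MinorGE (Mf i) (Mf j) := by
    intro i j hij
    rw [← toIdx_le_iff, hMspec, hMspec, rev_le_rev_iff]
    apply hc
    apply e.monotone
    exact Fin.rev_le_rev.2 hij.le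
  set c' : StdBit m n t := ⟨F.card, Mf, hsize, horder⟩ with hc'
  have hmono : monoS K c' = ∏ k ∈ F, X (c k) := by
    unfold monoS
    have h1 : ∀ i : Fin F.card, (X (rev (toIdx (c'.2.1 i))) : PlRing K n (m + n)) = X (c (e (Fin.rev i))) := by
      intro i
      have : toIdx (c'.2.1 i) = rev (c (e (Fin.rev i))) := hMspec i
      rw [this, rev_rev]
    have h1' : ∏ i : Fin c'.1, (X (rev (toIdx (c'.2.1 i))) : PlRing K n (m + n)) =
        ∏ i : Fin F.card, X (c (e (Fin.rev i))) := Finset.prod_congr rfl (fun i _ => h1 i)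
    rw [h1']
    have h2 : ∏ i : Fin F.card, (X (c (e (Fin.rev i))) : PlRing K n (m + n)) =
        ∏ i : Fin F.card, X (c (e i)) :=
      Fintype.prod_equiv Fin.revPerm _ _ (fun i => rfl)
    rw [h2]
    have h3 := Finset.prod_map (Finset.univ : Finset (Fin F.card)) e.toEmbedding
      (fun k => (X (c k) : PlRing K n (m + n)))
    rw [Finset.map_orderEmbOfFin_univ] at h3
    rw [h3]
    rfl
  set a := (Finset.univ.filter (fun k => ¬ c k ≠ bot m n)).card with ha
  have hsplit : chainMon K c = (∏ k ∈ F, X (c k)) * X (bot m n) ^ a := by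
    unfold chainMon
    rw [← Finset.prod_filter_mul_prod_filter_not Finset.univ (fun k => c k ≠ bot m n)]
    congr 1
    rw [ha, ← Finset.prod_const]
    apply Finset.prod_congr rfl
    intro k hk
    rw [Finset.mem_filter, not_not] at hk
    rw [hk.2]
  refine ⟨epsK K n ^ a, c', ?_⟩
  rw [hsplit, hmono]
  have h4 : (∏ k ∈ F, (X (c k) : PlRing K n (m + n))) * X (bot m n) ^ a -
      (epsK K n ^ a) • ∏ k ∈ F, (X (c k) : PlRing K n (m + n)) =
      (∏ k ∈ F, (X (c k) : PlRing K n (m + n))) * (X (bot m n) ^ a - (C (epsK K n)) ^ a) := by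
    rw [MvPolynomial.smul_eq_C_mul, map_pow]
    ring
  rw [h4]
  apply Ideal.mul_mem_left
  obtain ⟨w, hw⟩ := sub_dvd_pow_sub_pow (X (bot m n) : PlRing K n (m + n)) (C (epsK K n)) a
  rw [hw]
  exact Ideal.mul_mem_right _ _ (Ideal.subset_span rfl)

variable [Infinite K]

/-- the kernel of the mirrored dehomogenisation modulo the determinantal ideal -/
theorem comap_le_bridgeIdeal (hm : 0 < m) (hn : 0 < n) (t : ℕ) (ht : 1 ≤ t) (htm : t - 1 ≤ m) :
    Ideal.comap (Phi' K m n).toRingHom (CAlgX.minorIdeal (genMatrix K m n) t) ≤ bridgeIdeal K m n t htm := by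
  classical
  intro f hf
  rw [Ideal.mem_comap] at hf
  have hf' : Phi' K m n f ∈ CAlgX.minorIdeal (genMatrix K m n) t := hf
  set τ := tau m n t htm with hτ
  set 𝔟 : Ideal (PlRing K n (m + n)) := Ideal.span {X (bot m n) - C (epsK K n)} with h𝔟
  have hspan := std_span K (schubertVanishing K n (m + n) τ) (plIdealTop_le_schubertVanishing K τ)
    (fun _ c => ∀ k, c k ≤ τ)
    (by
      intro m' c _ hP
      push Not at hP
      obtain ⟨k, hk⟩ := hP
      exact chainMon_mem_of_factor K _ c k (X_mem_schubertVanishing K τ (c k) hk)) f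
  -- every element of the span is a combination of mirrored bitableaux modulo the hyperplane
  have hQall : ∀ g ∈ Submodule.span K {g | ∃ (m' : ℕ) (c : Fin m' → Idx n (m + n)), Antitone c ∧
      (∀ k, c k ≤ τ) ∧ g = chainMon K c},
      ∃ l : StdBit m n t →₀ K, g - Finsupp.linearCombination K (monoS K) l ∈ 𝔟 := by
    intro g hg
    induction hg using Submodule.span_induction with
    | mem x hx =>
      obtain ⟨q, c, hc, hle, rfl⟩ := hx
      obtain ⟨u, c', hu⟩ := exists_stdBit_of_chain K hm t htm c hc hle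
      refine ⟨Finsupp.single c' u, ?_⟩
      rw [Finsupp.linearCombination_single]
      exact hu
    | zero =>
      refine ⟨0, ?_⟩
      rw [map_zero, sub_zero]
      exact Ideal.zero_mem _
    | add x y _ _ hx hy =>
      obtain ⟨lx, hlx⟩ := hx
      obtain ⟨ly, hly⟩ := hy
      refine ⟨lx + ly, ?_⟩
      rw [map_add]
      have : x + y - (Finsupp.linearCombination K (monoS K) lx + Finsupp.linearCombination K (monoS K) ly) =
          (x - Finsupp.linearCombination K (monoS K) lx) + (y - Finsupp.linearCombination K (monoS K) ly) := by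
        ring
      rw [this]
      exact Ideal.add_mem _ hlx hly
    | smul a x _ hx =>
      obtain ⟨lx, hlx⟩ := hx
      refine ⟨a • lx, ?_⟩
      rw [map_smul, ← smul_sub, MvPolynomial.smul_eq_C_mul]
      exact Ideal.mul_mem_left _ _ hlx
  obtain ⟨g, hg, h, hh, rfl⟩ := Submodule.mem_sup.1 hspan
  have hh' : h ∈ schubertVanishing K n (m + n) τ := hh
  obtain ⟨l, hl⟩ := hQall g hg
  set D := Finsupp.linearCombination K (monoS K) l with hD
  have hmem : g + h - D ∈ bridgeIdeal K m n t htm := by
    have : g + h - D = (g - D) + h := by ring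
    rw [this]
    unfold bridgeIdeal
    exact Ideal.add_mem _ (Ideal.mem_sup_right hl) (Ideal.mem_sup_left hh')
  have hPhiD : Phi' K m n D ∈ CAlgX.minorIdeal (genMatrix K m n) t := by
    have h1 : Phi' K m n (g + h - D) ∈ CAlgX.minorIdeal (genMatrix K m n) t :=
      bridgeIdeal_le K t ht htm hmem
    have h2 := Ideal.sub_mem _ hf' h1
    rw [← map_sub] at h2
    have : g + h - (g + h - D) = D := by ring
    rwa [this] at h2
  -- linear independence of the standard bitableaux
  have hli := linearIndependent_bitMon K (m := m) hn t ht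
  rw [linearIndependent_iff'] at hli
  have hsum : ∑ c ∈ l.support, (l c * ((sgn c : ℤ) : K)) •
      Ideal.Quotient.mk (CAlgX.minorIdeal (genMatrix K m n) t) (bitMon K c) = 0 := by
    rw [← Ideal.Quotient.eq_zero_iff_mem, hD, Finsupp.linearCombination_apply, Finsupp.sum, map_sum, map_sum] at hPhiD
    rw [← hPhiD]
    apply Finset.sum_congr rfl
    intro c _
    rw [map_smul, Phi'_monoS, mul_smul]
    have h1 : Ideal.Quotient.mk (CAlgX.minorIdeal (genMatrix K m n) t)
        (l c • (((sgn c : ℤ) : MvPolynomial (Fin m × Fin n) K) * bitMon K c)) =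
        l c • Ideal.Quotient.mk (CAlgX.minorIdeal (genMatrix K m n) t)
          (((sgn c : ℤ) : MvPolynomial (Fin m × Fin n) K) * bitMon K c) :=
      map_smul (Ideal.Quotient.mkₐ K _) (l c) _
    rw [h1]
    congr 1
    have h2 : (((sgn c : ℤ) : MvPolynomial (Fin m × Fin n) K) * bitMon K c) =
        ((sgn c : ℤ) : K) • bitMon K c := by
      rw [MvPolynomial.smul_eq_C_mul, map_intCast]
    rw [h2]
    exact (map_smul (Ideal.Quotient.mkₐ K _) _ _).symm
  have hzero := hli l.support (fun c => l c * ((sgn c : ℤ) : K)) hsum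
  have hl0 : l = 0 := by
    ext c
    rw [Finsupp.zero_apply]
    by_contra hne
    have hc : c ∈ l.support := Finsupp.mem_support_iff.2 hne
    have h1 := hzero c hc
    rcases mul_eq_zero.1 h1 with h2 | h2
    · exact hne h2
    · have := intCast_units_mul_self K (sgn c)
      rw [h2, zero_mul] at this
      exact zero_ne_one this
  rw [hD, hl0, map_zero, sub_zero] at hmem
  exact hmem

/-- the bridge: the determinantal ideal pulls back to the ideal of the mirrored Schubert cone cut by a hyperplane -/
theorem comap_eq_bridgeIdeal (hm : 0 < m) (hn : 0 < n) (t : ℕ) (ht : 1 ≤ t) (htm : t - 1 ≤ m) :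
    Ideal.comap (Phi' K m n).toRingHom (CAlgX.minorIdeal (genMatrix K m n) t) = bridgeIdeal K m n t htm :=
  le_antisymm (comap_le_bridgeIdeal K hm hn t ht htm) (bridgeIdeal_le K t ht htm)

end Groth.Agent.Lib.Helper99.Det
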