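import Mathlib
import Groth.Agent.Lib.Helper99.DetD
import Groth.Agent.Lib.Helper99.CMGlueD

/-!
# Determinantal rings are normal Cohen–Macaulay domains of the expected dimension
-/

set_option autoImplicit false
universe u

namespace Groth.Agent.Lib.Helper99.Det
open W4bk4grassmannian MvPolynomial LocCoh
open Groth.Agent.Lib.Helper99.SMT Groth.Agent.Lib.Helper99.Bit Groth.Agent.Lib.Helper99.Sft
open Groth.Agent.Lib.Helper99.Gl Groth.Agent.Lib.Helper99.Normal Groth.Agent.Lib.Helper99.CM
open Groth.Agent.Lib.Helper99.SchubCM Groth.Agent.Lib.Helper56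

variable {m n : ℕ}

/-- the codegree of the mirrored index: the dimension of the determinantal variety -/
lemma codeg_tau (t : ℕ) (ht : 1 ≤ t) (htm : t - 1 ≤ m) (htn : t ≤ n) :
    codeg (tau m n t htm) = (t - 1) * (m + n - t + 1) := by
  classical
  unfold codeg
  have h1 : ∀ j : Fin n, ((tau m n t htm).1 j).val - j.val =
      (fun i : Fin n => if i.val < t - 1 then m else t - 1) (Fin.revPerm j) := by
    intro j
    unfold tau
    rw [rev_val, lam_val]
    have hj := j.isLt
    simp only [Fin.revPerm_apply, Fin.val_rev]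
    split_ifs <;> omega
  rw [Finset.sum_congr rfl (fun j _ => h1 j),
    Fintype.sum_equiv Fin.revPerm _ (fun i : Fin n => if i.val < t - 1 then m else t - 1) (fun j => rfl),
    Fin.sum_univ_eq_sum_range (fun i => if i < t - 1 then m else t - 1) n]
  have h2 : Finset.range n = Finset.range (t - 1) ∪ Finset.Ico (t - 1) n := by
    ext i
    simp only [Finset.mem_range, Finset.mem_union, Finset.mem_Ico]
    omega
  have h3 : Disjoint (Finset.range (t - 1)) (Finset.Ico (t - 1) n) := by
    rw [Finset.disjoint_left]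
    intro i hi hi'
    simp only [Finset.mem_range, Finset.mem_Ico] at hi hi'
    omega
  rw [h2, Finset.sum_union h3]
  have h4 : ∑ i ∈ Finset.range (t - 1), (if i < t - 1 then m else t - 1) = (t - 1) * m := by
    rw [Finset.sum_congr rfl (fun i hi => if_pos (Finset.mem_range.1 hi)), Finset.sum_const, Finset.card_range,
      smul_eq_mul]
  have h5 : ∑ i ∈ Finset.Ico (t - 1) n, (if i < t - 1 then m else t - 1) = (n - (t - 1)) * (t - 1) := by
    rw [Finset.sum_congr rfl (fun i hi => if_neg (by have := (Finset.mem_Ico.1 hi).1; omega)), Finset.sum_const,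
      Nat.card_Ico, smul_eq_mul]
  rw [h4, h5]
  have h6 : m + n - t + 1 = m + (n - (t - 1)) := by omega
  rw [h6]
  ring

variable (K : Type u) [Field K] [Infinite K]

/-- the defining element of the hyperplane does not lie in the Schubert ideal -/
lemma sub_notMem_schubertVanishing (hn : 0 < n) (τ : Idx n (m + n)) :
    X (bot m n) - C (epsK K n) ∉ schubertVanishing K n (m + n) τ := by
  intro h
  rw [mem_schubertVanishing_iff] at h
  have hdet : ∀ φ : Idx n (m + n), ((0 : Matrix (Fin (m + n)) (Fin n) K).submatrix φ.1 id).det = 0 := by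
    intro φ
    have : Nonempty (Fin n) := ⟨⟨0, hn⟩⟩
    have h0 : (0 : Matrix (Fin (m + n)) (Fin n) K).submatrix φ.1 id = 0 := rfl
    rw [h0, Matrix.det_zero]
  have h1 := h 0 (fun φ _ => hdet φ)
  rw [map_sub] at h1
  unfold evalMinors at h1
  rw [aeval_X, aeval_C, hdet, zero_sub, neg_eq_zero] at h1
  have h2 : algebraMap K K (epsK K n) = epsK K n := rfl
  rw [h2] at h1
  have h3 := intCast_units_mul_self K (eps0 n)
  unfold epsK at h1
  rw [h1, zero_mul] at h3
  exact zero_ne_one h3

/-- the determinantal ring as a hyperplane section of the mirrored Schubert cone -/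
noncomputable def bridgeEquiv (hm : 0 < m) (hn : 0 < n) (t : ℕ) (ht : 1 ≤ t) (htm : t - 1 ≤ m) :
    (PlRing K n (m + n) ⧸ bridgeIdeal K m n t htm) ≃+*
      (MvPolynomial (Fin m × Fin n) K ⧸ CAlgX.minorIdeal (genMatrix K m n) t) := by
  set f : PlRing K n (m + n) →+* (MvPolynomial (Fin m × Fin n) K ⧸ CAlgX.minorIdeal (genMatrix K m n) t) :=
    (Ideal.Quotient.mk (CAlgX.minorIdeal (genMatrix K m n) t)).comp (Phi' K m n).toRingHom with hf
  have hsurj : Function.Surjective f :=
    Ideal.Quotient.mk_surjective.comp (Phi'_surjective K)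
  have hker : bridgeIdeal K m n t htm = RingHom.ker f := by
    rw [hf, ← RingHom.comap_ker, Ideal.mk_ker, comap_eq_bridgeIdeal K hm hn t ht htm]
  exact (Ideal.quotEquivOfEq hker).trans (RingHom.quotientKerEquivOfSurjective hsurj)

theorem ringKrullDim_bridge (hm : 0 < m) (hn : 0 < n) (t : ℕ) (ht : 1 ≤ t) (htm : t - 1 ≤ m) :
    ringKrullDim (PlRing K n (m + n) ⧸ bridgeIdeal K m n t htm) =
      ((codeg (tau m n t htm) : ℕ) : WithBot ℕ∞) := by
  set τ := tau m n t htm with hτ
  have hprime := isPrime_schubertVanishing K τ hn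
  have : IsDomain (SR K τ) := Ideal.Quotient.isDomain _
  set xbar : SR K τ := Ideal.Quotient.mk _ (X (bot m n) - C (epsK K n)) with hxbar
  have hx0 : xbar ≠ 0 := by
    intro h
    exact sub_notMem_schubertVanishing K hn τ (Ideal.Quotient.eq_zero_iff_mem.1 h)
  have hmap : (Ideal.span {X (bot m n) - C (epsK K n)}).map (Ideal.Quotient.mk (schubertVanishing K n (m + n) τ)) =
      Ideal.span {xbar} := by
    rw [Ideal.map_span, Set.image_singleton]
  have e1 : (SR K τ ⧸ Ideal.span {xbar}) ≃+* (PlRing K n (m + n) ⧸ bridgeIdeal K m n t htm) :=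
    (Ideal.quotEquivOfEq hmap.symm).trans (DoubleQuot.quotQuotEquivQuotSup _ _)
  have hnt : Nontrivial (PlRing K n (m + n) ⧸ bridgeIdeal K m n t htm) := by
    have hp := isPrime_minorIdeal K m n t ht
    have : Nontrivial (MvPolynomial (Fin m × Fin n) K ⧸ CAlgX.minorIdeal (genMatrix K m n) t) :=
      Ideal.Quotient.nontrivial_iff.2 hp.ne_top
    exact (bridgeEquiv K hm hn t ht htm).toEquiv.nontrivial
  have hxu : ¬ IsUnit xbar := by
    intro hu
    have h1 : Ideal.span {xbar} = ⊤ := Ideal.span_singleton_eq_top.2 hu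
    have h2 : Subsingleton (SR K τ ⧸ Ideal.span {xbar}) := Ideal.Quotient.subsingleton_iff.2 h1
    have h3 : Subsingleton (PlRing K n (m + n) ⧸ bridgeIdeal K m n t htm) := e1.symm.toEquiv.subsingleton
    exact not_subsingleton _ h3
  have h1 := Groth.Agent.Lib.Helper73.ringKrullDim_quotient_span_singleton_add_one K xbar hx0 hxu
  rw [ringKrullDim_SR K hn (codeg τ) τ rfl, ringKrullDim_eq_of_ringEquiv e1, Nat.cast_add, Nat.cast_one] at h1
  exact Groth.Agent.Lib.Helper67.withBot_enat_add_one_cancel h1

/-- Determinantal rings are normal Cohen–Macaulay domains of dimension `(t - 1)(m + n - t + 1)`. -/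
theorem det_main (hm : 0 < m) (hn : 0 < n) (t : ℕ) (ht : 1 ≤ t) (htm : t ≤ m) (htn : t ≤ n) :
    IsDomain (MvPolynomial (Fin m × Fin n) K ⧸ CAlgX.minorIdeal (genMatrix K m n) t) ∧
      IsIntegrallyClosed (MvPolynomial (Fin m × Fin n) K ⧸ CAlgX.minorIdeal (genMatrix K m n) t) ∧
      LocCoh.IsCohenMacaulayRing (MvPolynomial (Fin m × Fin n) K ⧸ CAlgX.minorIdeal (genMatrix K m n) t) ∧
      ringKrullDim (MvPolynomial (Fin m × Fin n) K ⧸ CAlgX.minorIdeal (genMatrix K m n) t) =
        (((t - 1) * (m + n - t + 1) : ℕ) : WithBot ℕ∞) := by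
  have htm' : t - 1 ≤ m := by omega
  have htn' : t - 1 ≤ n := by omega
  have hp := isPrime_minorIdeal K m n t ht
  refine ⟨Ideal.Quotient.isDomain _, isIntegrallyClosed_quotient_minorIdeal K m n t ht, ?_, ?_⟩
  · set τ := tau m n t htm' with hτ
    have hprime := isPrime_schubertVanishing K τ hn
    have hCM : IsCohenMacaulayRing (PlRing K n (m + n) ⧸ bridgeIdeal K m n t htm') := by
      unfold bridgeIdeal
      apply cm_quot _ _ _ (codeg τ) (cm_main K hn (codeg τ) τ rfl).1
      · intro q hq hle
        exact dim_formula_single K hn τ q hq hle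
      · intro q hq hle
        have h1 := height_map_add_le (schubertVanishing K n (m + n) τ ⊔ Ideal.span {X (bot m n) - C (epsK K n)}) q hle
        have h2 := ringKrullDim_bridge K hm hn t ht htm'
        unfold bridgeIdeal at h2
        rw [h2] at h1
        exact h1
      · intro a ha
        rcases hprime.mem_or_mem ha with h | h
        · exact absurd h (sub_notMem_schubertVanishing K hn τ)
        · exact h
    exact isCohenMacaulayRing_of_ringEquiv (bridgeEquiv K hm hn t ht htm') hCM
  · rw [← ringKrullDim_eq_of_ringEquiv (bridgeEquiv K hm hn t ht htm'), ringKrullDim_bridge K hm hn t ht htm',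
      codeg_tau t ht htm' htn]

end Groth.Agent.Lib.Helper99.Det
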