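import Mathlib
import Groth.Agent.Lib.Helper99.DetE
import Groth.Agent.Lib.Helper99.BaseChangeDim

/-!
# Dimension of generic determinantal rings over arbitrary fields
-/

set_option autoImplicit false
universe u

namespace Groth.Agent.Lib.Helper99.Det
open W4bk4grassmannian MvPolynomial

/-- minors of the generic matrix are compatible with base change -/
lemma minorIdeal_map (k K : Type u) [Field k] [Field K] [Algebra k K] (n m t : ℕ) :
    (CAlgX.minorIdeal (genMatrix k n m) t).map (MvPolynomial.map (algebraMap k K)) =
      CAlgX.minorIdeal (genMatrix K n m) t := by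
  unfold CAlgX.minorIdeal
  rw [Ideal.map_span, ← Set.range_comp]
  congr 2
  funext fg
  simp only [Function.comp_apply]
  rw [RingHom.map_det]
  congr 1
  ext i j
  simp [genMatrix]

/-- no minors of size exceeding the number of rows -/
lemma minorIdeal_eq_bot_of_lt_left {R : Type u} [CommRing R] {n m : ℕ} (A : Matrix (Fin n) (Fin m) R) (t : ℕ)
    (h : n < t) : CAlgX.minorIdeal A t = ⊥ := by
  unfold CAlgX.minorIdeal
  rw [Ideal.span_eq_bot]
  rintro _ ⟨fg, rfl⟩
  have hni : ¬ Function.Injective fg.1 := by
    intro hinj
    have := Fintype.card_le_of_injective _ hinj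
    simp only [Fintype.card_fin] at this
    omega
  rw [Function.Injective] at hni
  push Not at hni
  obtain ⟨a, b, hab, hne⟩ := hni
  exact Matrix.det_zero_of_row_eq hne (by ext j; simp [Matrix.submatrix_apply, hab])

/-- no minors of size exceeding the number of columns -/
lemma minorIdeal_eq_bot_of_lt_right {R : Type u} [CommRing R] {n m : ℕ} (A : Matrix (Fin n) (Fin m) R) (t : ℕ)
    (h : m < t) : CAlgX.minorIdeal A t = ⊥ := by
  unfold CAlgX.minorIdeal
  rw [Ideal.span_eq_bot]
  rintro _ ⟨fg, rfl⟩
  have hni : ¬ Function.Injective fg.2 := by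
    intro hinj
    have := Fintype.card_le_of_injective _ hinj
    simp only [Fintype.card_fin] at this
    omega
  rw [Function.Injective] at hni
  push Not at hni
  obtain ⟨a, b, hab, hne⟩ := hni
  exact Matrix.det_zero_of_column_eq hne (by intro i; simp [Matrix.submatrix_apply, hab])

/-- the dimension of the generic determinantal ring over an arbitrary field -/
theorem ringKrullDim_det (k : Type u) [Field k] (n m r : ℕ) (hr : r ≤ min n m) :
    ringKrullDim (MvPolynomial (Fin n × Fin m) k ⧸ CAlgX.minorIdeal (genMatrix k n m) (r + 1)) =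
      ((r * (m + n - r) : ℕ) : WithBot ℕ∞) := by
  have hrn : r ≤ n := le_trans hr (min_le_left _ _)
  have hrm : r ≤ m := le_trans hr (min_le_right _ _)
  by_cases hlt : r + 1 ≤ n ∧ r + 1 ≤ m
  · obtain ⟨h1, h2⟩ := hlt
    have hK : Infinite (AlgebraicClosure k) := IsAlgClosed.instInfinite
    have h3 := (det_main (AlgebraicClosure k) (m := n) (n := m) (by omega) (by omega) (r + 1) (by omega) h1 h2).2.2.2
    rw [← minorIdeal_map k (AlgebraicClosure k) n m (r + 1), BC.ringKrullDim_quotient_map] at h3
    rw [h3]
    have : n + m - (r + 1) + 1 = m + n - r := by omega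
    rw [Nat.add_sub_cancel, this]
  · have hbot : CAlgX.minorIdeal (genMatrix k n m) (r + 1) = ⊥ := by
      by_cases h1 : r + 1 ≤ n
      · exact minorIdeal_eq_bot_of_lt_right _ _ (by omega)
      · exact minorIdeal_eq_bot_of_lt_left _ _ (by omega)
    rw [hbot, ringKrullDim_eq_of_ringEquiv (RingEquiv.quotientBot _),
      MvPolynomial.ringKrullDim_of_isNoetherianRing, ringKrullDim_eq_zero_of_field, zero_add]
    simp only [Nat.card_eq_fintype_card, Fintype.card_prod, Fintype.card_fin]
    have hcase : r = n ∨ r = m := by omega
    have hnat : n * m = r * (m + n - r) := by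
      rcases hcase with h | h
      · subst h
        have : m + r - r = m := by omega
        rw [this]
      · subst h
        have : r + n - r = n := by omega
        rw [this, mul_comm]
    rw [hnat]

end Groth.Agent.Lib.Helper99.Det
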