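import Mathlib
import Groth.Agent.Lib.Helper59.ExtPowBC

/-!
# Exterior powers of finite projective modules: ranks; rank-one modules (helper99)

* `rankAtStalk_extPow`: `rank ⋀^j P = choose (rank P) j` for `P` finite projective.
* `smul_eq_smul_of_rank_one`: for a finite projective module `Y` of rank one,
  `f y • y' = f y' • y` for all linear forms `f`.
* `lsmul_bijective_of_rank_one`: `B → End_B(Y)` is bijective for `Y` finite projective of rank one.
-/

set_option autoImplicit false

namespace Groth.Agent.Lib.Helper99.DetPr

open Module TensorProduct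

variable {B : Type*} [CommRing B]

section rank

variable (P : Type*) [AddCommGroup P] [Module B P]

instance projective_extPow [Module.Projective B P] (j : ℕ) : Module.Projective B (⋀[B]^j P) := by
  obtain ⟨s, hs⟩ := Module.projective_def'.mp (inferInstance : Module.Projective B P)
  exact Projective.of_split (exteriorPower.map j s)
    (exteriorPower.map j (Finsupp.linearCombination B id))
    (by rw [← exteriorPower.map_comp, hs, exteriorPower.map_id])

theorem rankAtStalk_extPow [Module.Finite B P] [Module.Projective B P] (j : ℕ)
    (p : PrimeSpectrum B) :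
    rankAtStalk (⋀[B]^j P) p = (rankAtStalk P p).choose j := by
  rw [rankAtStalk_eq, rankAtStalk_eq]
  let eT := LinearEquiv.ofBijective
    (Groth.Agent.Lib.Helper59.ExtPowBC.T B p.asIdeal.ResidueField P j)
    (Groth.Agent.Lib.Helper59.ExtPowBC.T_bijective B p.asIdeal.ResidueField P j)
  exact eT.finrank_eq.trans (exteriorPower.finrank_eq p.asIdeal.ResidueField j)

end rank

section rankOne

variable (Y : Type*) [AddCommGroup Y] [Module B Y] [Module.Finite B Y] [Module.Projective B Y]

theorem subsingleton_extPow_two (h : ∀ p, rankAtStalk (R := B) Y p = 1) :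
    Subsingleton (⋀[B]^2 Y) := by
  rw [← rankAtStalk_eq_zero_iff_subsingleton (R := B)]
  funext p
  rw [rankAtStalk_extPow, h p]
  rfl

variable {Y}

/-- in a rank one projective module, `f y • y' = f y' • y` -/
theorem smul_eq_smul_of_rank_one (h : ∀ p, rankAtStalk (R := B) Y p = 1) (f : Y →ₗ[B] B)
    (y y' : Y) : f y • y' = f y' • y := by
  haveI := subsingleton_extPow_two Y h
  have hmem : ExteriorAlgebra.ι B y * ExteriorAlgebra.ι B y' ∈ ⋀[B]^2 Y := by
    change _ ∈ (LinearMap.range (ExteriorAlgebra.ι B)) ^ 2
    rw [pow_two]
    exact Submodule.mul_mem_mul ⟨y, rfl⟩ ⟨y', rfl⟩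
  have hzero : ExteriorAlgebra.ι B y * ExteriorAlgebra.ι B y' = 0 := by
    have : (⟨_, hmem⟩ : ⋀[B]^2 Y) = 0 := Subsingleton.elim _ _
    exact congrArg Subtype.val this
  have h1 := CliffordAlgebra.contractLeft_ι_mul (Q := (0 : QuadraticForm B Y)) (d := f) y
    (ExteriorAlgebra.ι B y')
  have hzero' : CliffordAlgebra.ι (0 : QuadraticForm B Y) y * ExteriorAlgebra.ι B y' = 0 := hzero
  rw [hzero', map_zero, CliffordAlgebra.contractLeft_ι] at h1
  have h2 : ExteriorAlgebra.ι B (f y • y' - f y' • y) = 0 := by
    rw [map_sub, map_smul, map_smul, h1]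
    rw [Algebra.algebraMap_eq_smul_one, mul_smul_comm, mul_one]
  have h3 := (ExteriorAlgebra.ι_eq_zero_iff _).mp h2
  exact sub_eq_zero.mp h3

/-- the trace ideal of a rank one projective module is the unit ideal -/
theorem exists_contractLeft_eq_one (h : ∀ p, rankAtStalk (R := B) Y p = 1) :
    ∃ t : Module.Dual B Y ⊗[B] Y, contractLeft B Y t = 1 := by
  by_contra hcon
  push Not at hcon
  have hne : (LinearMap.range (contractLeft B Y) : Ideal B) ≠ ⊤ := by
    intro htop
    have : (1 : B) ∈ LinearMap.range (contractLeft B Y) := by rw [htop]; trivial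
    obtain ⟨t, ht⟩ := this
    exact hcon t ht
  obtain ⟨m, hm, hle⟩ := Ideal.exists_le_maximal _ hne
  obtain ⟨s, hs⟩ := Module.projective_def'.mp (inferInstance : Module.Projective B Y)
  have hY : ∀ y : Y, y ∈ m • (⊤ : Submodule B Y) := by
    intro y
    have h1 : y = Finsupp.linearCombination B id (s y) := (LinearMap.congr_fun hs y).symm
    rw [h1, Finsupp.linearCombination_apply]
    refine Submodule.sum_mem _ fun z _ => ?_
    apply Submodule.smul_mem_smul _ Submodule.mem_top
    apply hle
    refine ⟨(Finsupp.lapply z ∘ₗ s) ⊗ₜ y, ?_⟩
    simp [contractLeft_apply]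
  -- the fibre at `m` vanishes
  have hrank := h ⟨m, hm.isPrime⟩
  rw [rankAtStalk_eq] at hrank
  have hsub : Subsingleton (m.Fiber Y) := by
    refine ⟨fun a b => ?_⟩
    have hz : ∀ c : m.Fiber Y, c = 0 := by
      intro c
      induction c using TensorProduct.induction_on with
      | zero => rfl
      | add a b ha hb => rw [ha, hb, add_zero]
      | tmul k y =>
        have hy := hY y
        refine Submodule.smul_induction_on hy ?_ ?_
        · intro r hr n _
          rw [TensorProduct.tmul_smul, TensorProduct.smul_tmul', Algebra.smul_def]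
          have : algebraMap B m.ResidueField r = 0 := by
            rw [Ideal.algebraMap_residueField_eq_zero]
            exact hr
          rw [this, zero_mul, TensorProduct.zero_tmul]
        · intro x y hx hy
          rw [TensorProduct.tmul_add, hx, hy, add_zero]
    rw [hz a, hz b]
  rw [Module.finrank_zero_of_subsingleton] at hrank
  exact zero_ne_one hrank

/-- `B → End_B(Y)` is bijective for a finite projective module of rank one -/
theorem lsmul_bijective_of_rank_one (h : ∀ p, rankAtStalk (R := B) Y p = 1) :
    Function.Bijective (LinearMap.lsmul B Y) := by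
  obtain ⟨t, ht⟩ := exists_contractLeft_eq_one h
  constructor
  · rw [injective_iff_map_eq_zero]
    intro a ha
    have h1 : ∀ u : Module.Dual B Y ⊗[B] Y, a • contractLeft B Y u = 0 := by
      intro u
      induction u using TensorProduct.induction_on with
      | zero => simp
      | add x y hx hy => rw [map_add, smul_add, hx, hy, add_zero]
      | tmul f y =>
        rw [contractLeft_apply, smul_eq_mul, ← smul_eq_mul, ← map_smul]
        have : a • y = 0 := LinearMap.congr_fun ha y
        rw [this, map_zero]
    have := h1 t
    rwa [ht, smul_eq_mul, mul_one] at this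
  · intro φ
    have key : ∀ u : Module.Dual B Y ⊗[B] Y, ∀ y : Y,
        φ (contractLeft B Y u • y) =
          contractLeft B Y (TensorProduct.map LinearMap.id φ u) • y := by
      intro u y
      induction u using TensorProduct.induction_on with
      | zero => simp
      | add a b ha hb => rw [map_add, add_smul, map_add, ha, hb, map_add, map_add, add_smul]
      | tmul f y₀ =>
        rw [TensorProduct.map_tmul, contractLeft_apply, contractLeft_apply, LinearMap.id_apply]
        rw [smul_eq_smul_of_rank_one h f y₀ y, map_smul, smul_eq_smul_of_rank_one h f y (φ y₀)]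
    refine ⟨contractLeft B Y (TensorProduct.map LinearMap.id φ t), ?_⟩
    ext y
    have := key t y
    rw [ht, one_smul] at this
    rw [LinearMap.lsmul_apply, this]

end rankOne

end Groth.Agent.Lib.Helper99.DetPr
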