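import Mathlib
import Groth.Agent.Lib.Helper59.ExtPowBC
import Groth.Agent.Lib.Helper99.DetPrA

/-!
# Top exterior power of `B × Q` and of `Bʳ × Q` for `Q` finite projective of constant rank (helper99)
-/

set_option autoImplicit false

namespace Groth.Agent.Lib.Helper99.DetPr

open Module TensorProduct

variable {B : Type*} [CommRing B]

section mapMem

variable {M N : Type*} [AddCommGroup M] [Module B M] [AddCommGroup N] [Module B N]

lemma map_mem (f : M →ₗ[B] N) (k : ℕ) {x : ExteriorAlgebra B M} (hx : x ∈ ⋀[B]^k M) :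
    ExteriorAlgebra.map f x ∈ ⋀[B]^k N := by
  rw [← ExteriorAlgebra.ιMulti_span_fixedDegree] at hx
  refine Submodule.span_induction ?_ ?_ ?_ ?_ hx
  · rintro _ ⟨m, rfl⟩
    rw [ExteriorAlgebra.map_apply_ιMulti]
    exact ExteriorAlgebra.ιMulti_range B k ⟨_, rfl⟩
  · rw [map_zero]; exact zero_mem _
  · intro a b _ _ ha hb
    rw [map_add]; exact add_mem ha hb
  · intro r a _ ha
    rw [map_smul]; exact Submodule.smul_mem _ _ ha

lemma ι_mul_mem (v : M) (k : ℕ) {y : ExteriorAlgebra B M} (hy : y ∈ ⋀[B]^k M) :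
    ExteriorAlgebra.ι B v * y ∈ ⋀[B]^(k + 1) M := by
  change _ ∈ (LinearMap.range (ExteriorAlgebra.ι B)) ^ (k + 1)
  rw [pow_succ']
  exact Submodule.mul_mem_mul ⟨v, rfl⟩ hy

end mapMem

section core

variable (Q : Type*) [AddCommGroup Q] [Module B Q]

/-- `x ↦ ι(1,0) * Λ(inr) x` -/
noncomputable def psi : ExteriorAlgebra B Q →ₗ[B] ExteriorAlgebra B (B × Q) :=
  (LinearMap.mulLeft B (ExteriorAlgebra.ι B ((1 : B), (0 : Q)))) ∘ₗ
    (ExteriorAlgebra.map (LinearMap.inr B B Q)).toLinearMap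

/-- `y ↦ Λ(snd) (fst ⌋ y)` -/
noncomputable def phi : ExteriorAlgebra B (B × Q) →ₗ[B] ExteriorAlgebra B Q :=
  (ExteriorAlgebra.map (LinearMap.snd B B Q)).toLinearMap ∘ₗ
    CliffordAlgebra.contractLeft (Q := (0 : QuadraticForm B (B × Q))) (LinearMap.fst B B Q)

lemma contract_map_inr (x : ExteriorAlgebra B Q) :
    CliffordAlgebra.contractLeft (Q := (0 : QuadraticForm B (B × Q))) (LinearMap.fst B B Q)
      (ExteriorAlgebra.map (LinearMap.inr B B Q) x) = 0 := by
  induction x using CliffordAlgebra.left_induction with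
  | algebraMap r =>
    rw [AlgHom.commutes]
    exact CliffordAlgebra.contractLeft_algebraMap _ _ r
  | add x y hx hy => rw [map_add, map_add, hx, hy, add_zero]
  | ι_mul x q hx =>
    rw [map_mul]
    have h1 : ExteriorAlgebra.map (LinearMap.inr B B Q) (CliffordAlgebra.ι 0 q) =
        CliffordAlgebra.ι (0 : QuadraticForm B (B × Q)) ((0 : B), q) :=
      ExteriorAlgebra.map_apply_ι _ q
    rw [h1, CliffordAlgebra.contractLeft_ι_mul, hx, mul_zero, sub_zero]
    simp

lemma phi_psi (x : ExteriorAlgebra B Q) : phi Q (psi Q x) = x := by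
  unfold phi psi
  simp only [LinearMap.coe_comp, Function.comp_apply, LinearMap.mulLeft_apply,
    AlgHom.toLinearMap_apply]
  have h1 := CliffordAlgebra.contractLeft_ι_mul (Q := (0 : QuadraticForm B (B × Q)))
    (d := LinearMap.fst B B Q) ((1 : B), (0 : Q)) (ExteriorAlgebra.map (LinearMap.inr B B Q) x)
  change CliffordAlgebra.contractLeft (LinearMap.fst B B Q)
    (ExteriorAlgebra.ι B ((1 : B), (0 : Q)) * ExteriorAlgebra.map (LinearMap.inr B B Q) x) = _ at h1
  rw [h1, contract_map_inr, mul_zero, sub_zero]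
  simp only [LinearMap.fst_apply, one_smul]
  have h2 := ExteriorAlgebra.map_comp_map (LinearMap.inr B B Q) (LinearMap.snd B B Q)
  have h3 : (LinearMap.snd B B Q) ∘ₗ (LinearMap.inr B B Q) = LinearMap.id := by
    ext; simp
  rw [h3, ExteriorAlgebra.map_id] at h2
  exact DFunLike.congr_fun h2 x

lemma psi_mem (k : ℕ) {x : ExteriorAlgebra B Q} (hx : x ∈ ⋀[B]^k Q) :
    psi Q x ∈ ⋀[B]^(k + 1) (B × Q) :=
  ι_mul_mem _ k (map_mem _ k hx)

/-- the degree `k` part of `phi` on `⋀^(k+1)` -/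
noncomputable def phiK (k : ℕ) : ⋀[B]^(k + 1) (B × Q) →ₗ[B] ⋀[B]^k Q :=
  Groth.Agent.Lib.Helper59.ExtPowBC.proj B Q k ∘ₗ phi Q ∘ₗ (⋀[B]^(k + 1) (B × Q)).subtype

lemma phiK_surjective (k : ℕ) : Function.Surjective (phiK (B := B) Q k) := by
  intro x
  have hmem : psi (B := B) Q (x : ExteriorAlgebra B Q) ∈ ⋀[B]^(k + 1) (B × Q) :=
    psi_mem (B := B) Q k x.2
  refine ⟨⟨psi (B := B) Q (x : ExteriorAlgebra B Q), hmem⟩, ?_⟩
  unfold phiK
  simp only [LinearMap.coe_comp, Function.comp_apply, Submodule.subtype_apply]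
  rw [phi_psi]
  exact Groth.Agent.Lib.Helper59.ExtPowBC.proj_coe B Q k x

variable [Module.Finite B Q] [Module.Projective B Q]

/-- **core lemma** -/
theorem nonempty_extPow_prod_equiv (k : ℕ) (hk : ∀ p, rankAtStalk (R := B) Q p = k) :
    Nonempty (⋀[B]^(k + 1) (B × Q) ≃ₗ[B] ⋀[B]^k Q) := by
  refine ⟨LinearEquiv.ofBijective (phiK (B := B) Q k) ?_⟩
  apply bijective_of_surjective_of_rankAtStalk_eq (phiK_surjective (B := B) Q k)
  intro m hm
  have : Nontrivial B := ⟨⟨0, 1, fun h => hm.ne_top ((Ideal.eq_top_iff_one m).mpr (h ▸ m.zero_mem))⟩⟩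
  rw [rankAtStalk_extPow, rankAtStalk_extPow, rankAtStalk_prod, hk]
  simp only [Pi.add_apply, rankAtStalk_self, Pi.one_apply]
  rw [hk, Nat.choose_self, add_comm, Nat.choose_self]

end core

end Groth.Agent.Lib.Helper99.DetPr
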