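import Mathlib
import Groth.Agent.Lib.Helper59.ExtPowBC
import Groth.Agent.Lib.Helper99.DetPrB

/-!
# Top exterior power along a split exact sequence `0 → Bʳ → E → Q → 0` (helper99)

`⋀^n E ≃ ⋀^(n - r) Q` for `E` finite projective of constant rank `n`.
-/

set_option autoImplicit false

namespace Groth.Agent.Lib.Helper99.DetPr

open Module TensorProduct

universe u

variable {B : Type u} [CommRing B]

/-- exterior power of a linear equivalence -/
noncomputable def extPowCongr {N N' : Type*} [AddCommGroup N] [Module B N] [AddCommGroup N']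
    [Module B N'] (p : ℕ) (e : N ≃ₗ[B] N') : ⋀[B]^p N ≃ₗ[B] ⋀[B]^p N' :=
  LinearEquiv.ofBijective (exteriorPower.map p e.toLinearMap)
    (Groth.Agent.Lib.Helper59.ExtPowBC.map_equiv_bijective p e)

theorem nonempty_extPow_pi_prod_equiv (r : ℕ) :
    ∀ (Q : Type u) [AddCommGroup Q] [Module B Q] [Module.Finite B Q] [Module.Projective B Q]
      (k n : ℕ), (∀ p, rankAtStalk (R := B) Q p = k) → n = k + r →
      Nonempty (⋀[B]^n ((Fin r → B) × Q) ≃ₗ[B] ⋀[B]^k Q) := by
  induction r with
  | zero =>
    intro Q _ _ _ _ k n hk hn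
    have hn' : n = k := by omega
    subst hn'
    exact ⟨extPowCongr n LinearEquiv.uniqueProd⟩
  | succ r ih =>
    intro Q _ _ _ _ k n hk hn
    let e1 : ((Fin (r + 1) → B) × Q) ≃ₗ[B] ((B × (Fin r → B)) × Q) :=
      LinearEquiv.prodCongr (Fin.consLinearEquiv B (fun _ : Fin (r + 1) => B)).symm
        (LinearEquiv.refl B Q)
    let e2 : ((B × (Fin r → B)) × Q) ≃ₗ[B] (((Fin r → B) × B) × Q) :=
      LinearEquiv.prodCongr (LinearEquiv.prodComm B B (Fin r → B)) (LinearEquiv.refl B Q)
    let e3 : (((Fin r → B) × B) × Q) ≃ₗ[B] ((Fin r → B) × (B × Q)) :=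
      LinearEquiv.prodAssoc B _ _ _
    have hk' : ∀ p, rankAtStalk (R := B) (B × Q) p = k + 1 := by
      intro p
      have : Nontrivial B := p.nontrivial
      rw [rankAtStalk_prod]
      simp only [Pi.add_apply, rankAtStalk_self, Pi.one_apply]
      rw [hk, add_comm]
    obtain ⟨f1⟩ := ih (B × Q) (k + 1) n hk' (by omega)
    obtain ⟨f2⟩ := nonempty_extPow_prod_equiv Q k hk
    exact ⟨(extPowCongr n (e1.trans (e2.trans e3))).trans (f1.trans f2)⟩

section split

variable {E Q : Type u} [AddCommGroup E] [Module B E] [AddCommGroup Q] [Module B Q]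
  [Module.Finite B E] [Module.Projective B E]
  {r : ℕ} {g : E →ₗ[B] Q} {s : Q →ₗ[B] E} {c : Fin r → E}

theorem finite_of_split (hgs : g ∘ₗ s = LinearMap.id) : Module.Finite B Q := by
  refine Module.Finite.of_surjective g ?_
  intro q
  exact ⟨s q, LinearMap.congr_fun hgs q⟩

theorem projective_of_split (hgs : g ∘ₗ s = LinearMap.id) : Module.Projective B Q :=
  Projective.of_split s g hgs

theorem rankAtStalk_of_split (hc : LinearIndependent B c) (hgs : g ∘ₗ s = LinearMap.id)
    (hker : LinearMap.ker g = Submodule.span B (Set.range c)) (n : ℕ)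
    (hn : ∀ p, rankAtStalk (R := B) E p = n) (p : PrimeSpectrum B) :
    rankAtStalk (R := B) Q p = n - r := by
  haveI : Module.Finite B Q := finite_of_split hgs
  haveI : Module.Projective B Q := projective_of_split hgs
  have : Nontrivial B := p.nontrivial
  have hexact : Function.Exact (Finsupp.linearCombination B c) g := by
    rw [LinearMap.exact_iff, hker, Finsupp.range_linearCombination]
  obtain ⟨e, -⟩ := hexact.splitSurjectiveEquiv hc ⟨s, hgs⟩
  have h1 := rankAtStalk_eq_of_equiv (M := E) (N := (Fin r →₀ B) × Q) e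
  rw [rankAtStalk_prod] at h1
  have h2 := congr_fun h1 p
  rw [hn p] at h2
  simp only [rankAtStalk_eq_finrank_of_free, Pi.add_apply, Pi.natCast_apply, Nat.cast_id,
    Module.finrank_finsupp_self, Fintype.card_fin] at h2
  omega

theorem nonempty_extPow_equiv_of_split (hc : LinearIndependent B c)
    (hgs : g ∘ₗ s = LinearMap.id)
    (hker : LinearMap.ker g = Submodule.span B (Set.range c)) (n : ℕ)
    (hn : ∀ p, rankAtStalk (R := B) E p = n) (hrn : r ≤ n) :
    Nonempty (⋀[B]^n E ≃ₗ[B] ⋀[B]^(n - r) Q) := by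
  haveI : Module.Finite B Q := finite_of_split hgs
  haveI : Module.Projective B Q := projective_of_split hgs
  have hexact : Function.Exact (Finsupp.linearCombination B c) g := by
    rw [LinearMap.exact_iff, hker, Finsupp.range_linearCombination]
  obtain ⟨e, -⟩ := hexact.splitSurjectiveEquiv hc ⟨s, hgs⟩
  let e' : E ≃ₗ[B] (Fin r → B) × Q :=
    e.trans (LinearEquiv.prodCongr (Finsupp.linearEquivFunOnFinite B B (Fin r))
      (LinearEquiv.refl B Q))
  obtain ⟨f⟩ := nonempty_extPow_pi_prod_equiv (B := B) r Q (n - r) n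
    (rankAtStalk_of_split hc hgs hker n hn) (by omega)
  exact ⟨(extPowCongr n e').trans f⟩

end split

end Groth.Agent.Lib.Helper99.DetPr
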