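import Mathlib
import Groth.Agent.Lib.Helper86.ExtReg
import Groth.Agent.Lib.Helper99.DetPrA

/-!
# `Ext^p(Y/(xs)Y, Y) ≃ A/(xs)` for `Y` finite projective of rank one (helper99)
-/

set_option autoImplicit false

namespace Groth.Agent.Lib.Helper99.DetPr

open Module TensorProduct CategoryTheory Abelian

universe u

section flat

variable {A : Type*} [CommRing A] (Y : Type*) [AddCommGroup Y] [Module A Y] [Module.Flat A Y]

theorem isSMulRegular_tensor {N : Type*} [AddCommGroup N] [Module A N] {x : A}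
    (hx : IsSMulRegular N x) : IsSMulRegular (N ⊗[A] Y) x := by
  have h1 : Function.Injective (LinearMap.lsmul A N x) := hx
  have h2 := Module.Flat.rTensor_preserves_injective_linearMap (M := Y) (LinearMap.lsmul A N x) h1
  have h3 : (LinearMap.lsmul A N x).rTensor Y = LinearMap.lsmul A (N ⊗[A] Y) x := by
    ext n y
    simp [TensorProduct.smul_tmul']
  rw [h3] at h2
  exact h2

theorem isWeaklyRegular_tensor (xs : List A) :
    ∀ (N : Type*) [AddCommGroup N] [Module A N],
      RingTheory.Sequence.IsWeaklyRegular N xs →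
      RingTheory.Sequence.IsWeaklyRegular (N ⊗[A] Y) xs := by
  induction xs with
  | nil =>
    intro N _ _ _
    exact RingTheory.Sequence.IsWeaklyRegular.nil A _
  | cons x xs ih =>
    intro N _ _ h
    rw [RingTheory.Sequence.isWeaklyRegular_cons_iff] at h ⊢
    refine ⟨isSMulRegular_tensor Y h.1, ?_⟩
    have := ih (QuotSMulTop x N) h.2
    exact ((QuotSMulTop.quotSMulTopTensorEquivQuotSMulTop x Y N).isWeaklyRegular_congr xs).mp this

theorem isWeaklyRegular_of_flat {xs : List A} (h : RingTheory.Sequence.IsWeaklyRegular A xs) :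
    RingTheory.Sequence.IsWeaklyRegular Y xs :=
  ((TensorProduct.lid A Y).isWeaklyRegular_congr xs).mp (isWeaklyRegular_tensor Y xs A h)

end flat

section ext

open Groth.Agent.Lib.Helper86.ExtReg

variable {A : Type u} [CommRing A] (Y : Type u) [AddCommGroup Y] [Module A Y]
  [Module.Finite A Y] [Module.Projective A Y]

theorem nonempty_ext_equiv (h1 : ∀ p, rankAtStalk (R := A) Y p = 1) {xs : List A}
    (hreg : RingTheory.Sequence.IsWeaklyRegular A xs) :
    Nonempty (Ext (ModuleCat.of A (Y ⧸ Ideal.ofList xs • (⊤ : Submodule A Y))) (ModuleCat.of A Y)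
      xs.length ≃ₗ[A] (A ⧸ Ideal.ofList xs)) := by
  have hproj : ∀ i, 0 < i → Subsingleton (Ext (ModuleCat.of A Y) (ModuleCat.of A Y) i) := by
    intro i hi
    obtain ⟨j, rfl⟩ : ∃ j, i = j + 1 := ⟨i - 1, by omega⟩
    exact Ext.subsingleton_of_projective _ _ j
  obtain ⟨-, h2⟩ := ext_quot_ofList (ModuleCat.of A Y) xs (ModuleCat.of A Y) 0
    (isWeaklyRegular_of_flat Y hreg) hproj
  obtain ⟨φ⟩ := h2 xs.length (zero_add _).symm
  have hI : Ideal.ofList xs • (⊤ : Submodule A A) = Ideal.ofList xs := by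
    rw [smul_eq_mul, Ideal.mul_top]
  let e0 : Ext (ModuleCat.of A Y) (ModuleCat.of A Y) 0 ≃ₗ[A] A :=
    Ext.linearEquiv₀ ≪≫ₗ ModuleCat.homLinearEquiv (S := A) ≪≫ₗ
      (LinearEquiv.ofBijective (LinearMap.lsmul A Y) (lsmul_bijective_of_rank_one h1)).symm
  exact ⟨φ ≪≫ₗ quotSMulTopCongr (Ideal.ofList xs) e0 ≪≫ₗ Submodule.quotEquivOfEq _ _ hI⟩

end ext

end Groth.Agent.Lib.Helper99.DetPr
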