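import Mathlib

/-!
# Determinant of a split exact sequence, part A

Alternating-map preliminaries: fixing the last `r` arguments of an alternating map on
`Fin k ⊕ Fin r`, vanishing when an argument lies in the span of the fixed ones, and extension
of a linearly independent family over a field.
-/

set_option autoImplicit false
universe u v

namespace Groth.Agent.Lib.Helper99.DetSF

open Module

section FixRight

variable {B : Type*} [CommRing B] {E : Type*} [AddCommGroup E] [Module B E]
  {N : Type*} [AddCommGroup N] [Module B N] {k r : ℕ}

/-- fix the last `r` arguments of an alternating map -/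
noncomputable def fixRight (D : E [⋀^(Fin k ⊕ Fin r)]→ₗ[B] N) (c : Fin r → E) :
    E [⋀^Fin k]→ₗ[B] N where
  toFun u := D (Sum.elim u c)
  map_update_add' := by
    intro _ u i x y
    simp only [← Sum.update_elim_inl]
    exact D.map_update_add _ _ _ _
  map_update_smul' := by
    intro _ u i a x
    simp only [← Sum.update_elim_inl]
    exact D.map_update_smul _ _ _ _
  map_eq_zero_of_eq' := by
    intro u i j h hij
    exact D.map_eq_zero_of_eq _ (i := Sum.inl i) (j := Sum.inl j) (by simpa using h)
      (by simpa using hij)

@[simp] lemma fixRight_apply (D : E [⋀^(Fin k ⊕ Fin r)]→ₗ[B] N) (c : Fin r → E) (u : Fin k → E) :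
    fixRight D c u = D (Sum.elim u c) := rfl

/-- the value vanishes if some free argument lies in the span of the fixed ones -/
theorem fixRight_eq_zero_of_mem_span (D : E [⋀^(Fin k ⊕ Fin r)]→ₗ[B] N) (c : Fin r → E)
    (u : Fin k → E) (j : Fin k) (hj : u j ∈ Submodule.span B (Set.range c)) :
    fixRight D c u = 0 := by
  classical
  have key : ∀ x ∈ Submodule.span B (Set.range c), fixRight D c (Function.update u j x) = 0 := by
    intro x hx
    induction hx using Submodule.span_induction with
    | mem x hx =>
      obtain ⟨i, rfl⟩ := hx
      rw [fixRight_apply]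
      apply D.map_eq_zero_of_eq _ (i := Sum.inl j) (j := Sum.inr i)
      · simp
      · simp
    | zero => exact (fixRight D c).map_update_zero _ _
    | add x y _ _ hx hy => rw [(fixRight D c).map_update_add, hx, hy, add_zero]
    | smul a x _ hx => rw [(fixRight D c).map_update_smul, hx, smul_zero]
  have := key (u j) hj
  rwa [Function.update_eq_self] at this

/-- an alternating map vanishing when an argument is in `S` is constant on cosets of `S` -/
theorem alternating_congr_of_sub_mem {ι : Type*} [Fintype ι] (f : E [⋀^ι]→ₗ[B] N)
    (S : Submodule B E)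
    (hf : ∀ (u : ι → E) (j : ι), u j ∈ S → f u = 0) (u u' : ι → E)
    (h : ∀ j, u j - u' j ∈ S) : f u = f u' := by
  classical
  have hu : u = u' + (u - u') := by
    funext j; simp
  rw [hu]
  have := f.toMultilinearMap.map_add_univ u' (u - u')
  rw [AlternatingMap.coe_multilinearMap] at this
  rw [this, Finset.sum_eq_single Finset.univ]
  · simp
  · intro s _ hs
    obtain ⟨j, hj⟩ : ∃ j, j ∉ s := by
      by_contra hcon
      push_neg at hcon
      exact hs (Finset.eq_univ_iff_forall.mpr hcon)
    apply hf _ j
    rw [Finset.piecewise_eq_of_notMem _ _ _ hj]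
    exact h j
  · intro h; exact absurd (Finset.mem_univ _) h

theorem fixRight_congr (D : E [⋀^(Fin k ⊕ Fin r)]→ₗ[B] N) (c : Fin r → E)
    (u u' : Fin k → E) (h : ∀ j, u j - u' j ∈ Submodule.span B (Set.range c)) :
    D (Sum.elim u c) = D (Sum.elim u' c) :=
  alternating_congr_of_sub_mem (fixRight D c) _
    (fun u j hj => fixRight_eq_zero_of_mem_span D c u j hj) u u' h

end FixRight

section Extend

theorem sumExtend_inl {K V ι : Type*} [DivisionRing K] [AddCommGroup V] [Module K V] {v : ι → V}
    (hs : LinearIndependent K v) (i : ι) : Basis.sumExtend hs (Sum.inl i) = v i := by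
  unfold Basis.sumExtend
  simp only [Basis.reindex_apply, Basis.coe_extend]
  rfl

/-- extend a linearly independent family by `k` vectors, when the dimension is `k + r` -/
theorem exists_extend {K V : Type*} [Field K] [AddCommGroup V] [Module K V] [Module.Finite K V]
    {k r : ℕ} (hV : Module.finrank K V = k + r) (c : Fin r → V) (hc : LinearIndependent K c) :
    ∃ w : Fin k → V, LinearIndependent K (Sum.elim w c) := by
  classical
  let bb := Basis.sumExtend hc
  haveI : Finite (Fin r ⊕ (Basis.sumExtendIndex hc)) := Module.Finite.finite_basis bb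
  haveI : Finite (Basis.sumExtendIndex hc) := Finite.sum_right (Fin r)
  have hcard : Nat.card (Basis.sumExtendIndex hc) = k := by
    have h1 := Module.finrank_eq_nat_card_basis bb
    rw [Nat.card_sum, hV, Nat.card_fin] at h1
    omega
  let e : (Basis.sumExtendIndex hc) ≃ Fin k := Finite.equivFinOfCardEq hcard
  let σ : Fin k ⊕ Fin r → Fin r ⊕ (Basis.sumExtendIndex hc) :=
    Sum.elim (fun j => Sum.inr (e.symm j)) Sum.inl
  have hσ : Function.Injective σ := by
    rintro (a | a) (a' | a') h <;> simp [σ] at h ⊢ <;> exact h
  refine ⟨fun j => bb (Sum.inr (e.symm j)), ?_⟩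
  have : Sum.elim (fun j => bb (Sum.inr (e.symm j))) c = bb ∘ σ := by
    funext x
    rcases x with j | i
    · rfl
    · simp [σ, bb, sumExtend_inl]
  rw [this]
  exact bb.linearIndependent.comp σ hσ

end Extend

end Groth.Agent.Lib.Helper99.DetSF
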