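import Mathlib
import Groth.Agent.Lib.Helper99.DetSFA

/-!
# Determinant of a split exact sequence, part B

The map `φ : ⋀^k Q → B`, `q ↦ det (s q_1, …, s q_k, c_1, …, c_r)` and its surjectivity.
-/

set_option autoImplicit false
universe u v

namespace Groth.Agent.Lib.Helper99.DetSF

open Module

section ResidueDet

variable {B : Type*} [CommRing B] {E : Type*} [AddCommGroup E] [Module B E]

/-- if the coordinate vectors of `v` are linearly independent modulo a maximal ideal `m`, then
`det v ∉ m` -/
theorem det_notMem_of_linearIndependent {ι : Type*} [Fintype ι] [DecidableEq ι]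
    (b : Basis ι B E) (m : Ideal B) [hm : m.IsMaximal] (v : ι → E)
    (h : LinearIndependent (B ⧸ m)
      (fun j : ι => fun i : ι => Ideal.Quotient.mk m (b.repr (v j) i))) :
    b.det v ∉ m := by
  letI := Ideal.Quotient.field m
  intro hmem
  let A : Matrix ι ι (B ⧸ m) := Matrix.of (fun j i => Ideal.Quotient.mk m (b.repr (v j) i))
  have hA : IsUnit A := by
    rw [← Matrix.linearIndependent_rows_iff_isUnit]
    exact h
  have hdet : IsUnit A.det := (Matrix.isUnit_iff_isUnit_det A).mp hA
  have h1 : Ideal.Quotient.mk m (b.det v) = A.det := by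
    rw [Basis.det_apply, RingHom.map_det, ← Matrix.det_transpose]
    congr 1
  rw [← Ideal.Quotient.eq_zero_iff_mem, h1] at hmem
  rw [hmem] at hdet
  exact not_isUnit_zero hdet

end ResidueDet

section Phi

variable {B : Type*} [CommRing B] {E Q : Type*} [AddCommGroup E] [Module B E]
  [AddCommGroup Q] [Module B Q] {k r : ℕ}
  (b : Basis (Fin k ⊕ Fin r) B E) (g : E →ₗ[B] Q) (s : Q →ₗ[B] E)
  (c : Fin r → E)

/-- the map `⋀^k Q → B`, `q ↦ det (s q, c)` -/
noncomputable def phi : ⋀[B]^k Q →ₗ[B] B :=
  exteriorPower.alternatingMapLinearEquiv ((fixRight b.det c).compLinearMap s)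

lemma phi_ιMulti (q : Fin k → Q) :
    phi b s c (exteriorPower.ιMulti B k q) = b.det (Sum.elim (s ∘ q) c) := by
  rw [phi, exteriorPower.alternatingMapLinearEquiv_apply_ιMulti]
  rfl

variable {g s c}

lemma phi_ιMulti_comp (hgs : g ∘ₗ s = LinearMap.id)
    (hker : LinearMap.ker g = Submodule.span B (Set.range c)) (u : Fin k → E) :
    phi b s c (exteriorPower.ιMulti B k (g ∘ u)) = b.det (Sum.elim u c) := by
  rw [phi_ιMulti]
  apply fixRight_congr
  intro j
  rw [← hker, LinearMap.mem_ker, map_sub]
  have := LinearMap.congr_fun hgs (g (u j))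
  simp only [LinearMap.comp_apply, LinearMap.id_apply] at this
  simp only [Function.comp_apply]
  rw [this, sub_self]

/-- the retraction `E → (Fin r →₀ B)` onto the coordinates along `c` -/
noncomputable def retr (hc : LinearIndependent B c) (hgs : g ∘ₗ s = LinearMap.id)
    (hker : LinearMap.ker g = Submodule.span B (Set.range c)) : E →ₗ[B] (Fin r →₀ B) :=
  hc.repr ∘ₗ (LinearMap.codRestrict (Submodule.span B (Set.range c)) (LinearMap.id - s ∘ₗ g)
    (by
      intro x
      rw [← hker, LinearMap.mem_ker]
      have := LinearMap.congr_fun hgs (g x)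
      simp only [LinearMap.comp_apply, LinearMap.id_apply] at this
      simp [this]))

lemma retr_c (hc : LinearIndependent B c) (hgs : g ∘ₗ s = LinearMap.id)
    (hker : LinearMap.ker g = Submodule.span B (Set.range c)) (i : Fin r) :
    retr hc hgs hker (c i) = Finsupp.single i 1 := by
  have hci : g (c i) = 0 := by
    rw [← LinearMap.mem_ker, hker]
    exact Submodule.subset_span ⟨i, rfl⟩
  rw [retr, LinearMap.comp_apply]
  apply hc.repr_eq_single
  simp [hci]

/-- the reductions of the `c i` modulo a maximal ideal are linearly independent -/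
theorem linearIndependent_residue (hc : LinearIndependent B c) (hgs : g ∘ₗ s = LinearMap.id)
    (hker : LinearMap.ker g = Submodule.span B (Set.range c))
    (m : Ideal B) [hm : m.IsMaximal] :
    LinearIndependent (B ⧸ m)
      (fun i : Fin r => fun l : Fin k ⊕ Fin r => Ideal.Quotient.mk m (b.repr (c i) l)) := by
  classical
  rw [Fintype.linearIndependent_iff]
  intro a' ha' i0
  choose a ha using fun i => Ideal.Quotient.mk_surjective (I := m) (a' i)
  set x : E := ∑ i, a i • c i with hx
  have hxl : ∀ l, b.repr x l ∈ m := by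
    intro l
    rw [← Ideal.Quotient.eq_zero_iff_mem]
    have := congr_fun ha' l
    simp only [Finset.sum_apply, Pi.smul_apply, smul_eq_mul, Pi.zero_apply] at this
    rw [← this, hx, map_sum, Finsupp.coe_finset_sum, Finset.sum_apply, map_sum]
    refine Finset.sum_congr rfl fun i _ => ?_
    rw [map_smul, Finsupp.smul_apply, smul_eq_mul, map_mul, ha i]
  have h1 : retr hc hgs hker x i0 = a i0 := by
    rw [hx, map_sum, Finsupp.coe_finset_sum, Finset.sum_apply, Finset.sum_eq_single i0]
    · rw [map_smul, retr_c, Finsupp.smul_apply, Finsupp.single_eq_same, smul_eq_mul, mul_one]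
    · intro i _ hi
      rw [map_smul, retr_c, Finsupp.smul_apply, Finsupp.single_apply, if_neg hi, smul_zero]
    · intro h; exact absurd (Finset.mem_univ _) h
  have h2 : retr hc hgs hker x i0 ∈ m := by
    have h3 : retr hc hgs hker x = ∑ l, b.repr x l • retr hc hgs hker (b l) := by
      conv_lhs => rw [← b.sum_repr x]
      simp only [map_sum, map_smul]
    rw [h3, Finsupp.coe_finset_sum, Finset.sum_apply]
    refine Ideal.sum_mem _ fun l _ => ?_
    rw [Finsupp.smul_apply, smul_eq_mul]
    exact Ideal.mul_mem_right _ _ (hxl l)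
  rw [h1] at h2
  rw [← ha i0, Ideal.Quotient.eq_zero_iff_mem]
  exact h2

/-- `φ` is surjective. -/
theorem phi_surjective (hc : LinearIndependent B c) (hgs : g ∘ₗ s = LinearMap.id)
    (hker : LinearMap.ker g = Submodule.span B (Set.range c)) :
    Function.Surjective (phi b s c) := by
  classical
  rw [← LinearMap.range_eq_top]
  by_contra hne
  obtain ⟨m, hm, hle⟩ := Ideal.exists_le_maximal (LinearMap.range (phi b s c)) hne
  letI := Ideal.Quotient.field m
  have hall : ∀ u : Fin k → E, b.det (Sum.elim u c) ∈ m := by
    intro u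
    apply hle
    rw [← phi_ιMulti_comp b hgs hker u]
    exact LinearMap.mem_range_self _ _
  have hli := linearIndependent_residue b hc hgs hker m
  have hV : Module.finrank (B ⧸ m) (Fin k ⊕ Fin r → B ⧸ m) = k + r := by
    rw [Module.finrank_fintype_fun_eq_card]
    simp
  obtain ⟨w', hw'⟩ := exists_extend hV _ hli
  choose wl hwl using fun j l => Ideal.Quotient.mk_surjective (I := m) (w' j l)
  let w : Fin k → E := fun j => b.equivFun.symm (wl j)
  have hw : ∀ j l, b.repr (w j) l = wl j l := by
    intro j l
    have := b.equivFun.apply_symm_apply (wl j)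
    rw [Basis.equivFun_apply] at this
    exact congr_fun this l
  have hfam : (fun j : Fin k ⊕ Fin r => fun l : Fin k ⊕ Fin r =>
      Ideal.Quotient.mk m (b.repr (Sum.elim w c j) l)) =
      Sum.elim w' (fun i l => Ideal.Quotient.mk m (b.repr (c i) l)) := by
    funext j
    rcases j with j | i
    · funext l
      simp only [Sum.elim_inl]
      rw [hw, hwl]
    · rfl
  refine det_notMem_of_linearIndependent b m (Sum.elim w c) ?_ (hall w)
  rw [hfam]
  exact hw'

end Phi

end Groth.Agent.Lib.Helper99.DetSF
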