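import Mathlib
import Groth.Agent.Lib.Helper99.DetSFB
import Groth.Agent.Lib.Helper59.ExtPowBC

/-!
# Determinant of a split exact sequence, part C

If `0 → B^r → E → Q → 0` is split exact with `E` free on `Fin k ⊕ Fin r`, then `⋀^k Q ≃ B`.
-/

set_option autoImplicit false
universe u v

namespace Groth.Agent.Lib.Helper99.DetSF

open Module TensorProduct

section Rank

variable {B : Type*} [CommRing B] {E Q : Type*} [AddCommGroup E] [Module B E]
  [AddCommGroup Q] [Module B Q] {k r : ℕ}
  (b : Basis (Fin k ⊕ Fin r) B E) {g : E →ₗ[B] Q} {s : Q →ₗ[B] E} {c : Fin r → E}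

include b in
theorem finite_Q (hgs : g ∘ₗ s = LinearMap.id) : Module.Finite B Q := by
  haveI : Module.Finite B E := Module.Finite.of_basis b
  refine Module.Finite.of_surjective g ?_
  intro q
  exact ⟨s q, LinearMap.congr_fun hgs q⟩

include b in
theorem projective_Q (hgs : g ∘ₗ s = LinearMap.id) : Module.Projective B Q := by
  haveI : Module.Free B E := Module.Free.of_basis b
  exact Projective.of_split s g hgs

include b in
theorem projective_extPow (hgs : g ∘ₗ s = LinearMap.id) (n : ℕ) :
    Module.Projective B (⋀[B]^n Q) := by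
  haveI : Module.Free B E := Module.Free.of_basis b
  exact Projective.of_split (exteriorPower.map n s) (exteriorPower.map n g)
    (by rw [← exteriorPower.map_comp, hgs, exteriorPower.map_id])

include b in
theorem rankAtStalk_Q (hc : LinearIndependent B c) (hgs : g ∘ₗ s = LinearMap.id)
    (hker : LinearMap.ker g = Submodule.span B (Set.range c)) (p : PrimeSpectrum B) :
    rankAtStalk Q p = k := by
  haveI : Module.Free B E := Module.Free.of_basis b
  haveI : Module.Finite B E := Module.Finite.of_basis b
  haveI : Module.Finite B Q := finite_Q b hgs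
  haveI : Module.Projective B Q := projective_Q b hgs
  haveI : Nontrivial B := p.nontrivial
  have hexact : Function.Exact (Finsupp.linearCombination B c) g := by
    rw [LinearMap.exact_iff, hker, Finsupp.range_linearCombination]
  obtain ⟨e, -⟩ := hexact.splitSurjectiveEquiv hc ⟨s, hgs⟩
  have h1 := rankAtStalk_eq_of_equiv (M := E) (N := (Fin r →₀ B) × Q) e
  rw [rankAtStalk_prod] at h1
  have h2 := congr_fun h1 p
  simp only [rankAtStalk_eq_finrank_of_free, Pi.add_apply, Pi.natCast_apply, Nat.cast_id,
    Module.finrank_eq_card_basis b, Fintype.card_sum, Fintype.card_fin,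
    Module.finrank_finsupp_self] at h2
  omega

include b in
theorem rankAtStalk_extPow (hc : LinearIndependent B c) (hgs : g ∘ₗ s = LinearMap.id)
    (hker : LinearMap.ker g = Submodule.span B (Set.range c)) (p : PrimeSpectrum B) :
    rankAtStalk (⋀[B]^k Q) p = 1 := by
  haveI : Module.Finite B Q := finite_Q b hgs
  haveI : Module.Projective B Q := projective_Q b hgs
  haveI : Module.Projective B (⋀[B]^k Q) := projective_extPow b hgs k
  rw [rankAtStalk_eq]
  let eT := LinearEquiv.ofBijective
    (Groth.Agent.Lib.Helper59.ExtPowBC.T B p.asIdeal.ResidueField Q k)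
    (Groth.Agent.Lib.Helper59.ExtPowBC.T_bijective B p.asIdeal.ResidueField Q k)
  rw [eT.finrank_eq, exteriorPower.finrank_eq p.asIdeal.ResidueField k]
  have := rankAtStalk_eq (M := Q) p
  rw [rankAtStalk_Q b hc hgs hker p] at this
  rw [← this, Nat.choose_self]

end Rank

section Main

variable {B : Type*} [CommRing B] {E Q : Type*} [AddCommGroup E] [Module B E]
  [AddCommGroup Q] [Module B Q] {k r : ℕ}
  (b : Basis (Fin k ⊕ Fin r) B E) {g : E →ₗ[B] Q} {s : Q →ₗ[B] E} {c : Fin r → E}

theorem phi_injective (hc : LinearIndependent B c) (hgs : g ∘ₗ s = LinearMap.id)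
    (hker : LinearMap.ker g = Submodule.span B (Set.range c)) :
    Function.Injective (phi b s c) := by
  have hsurj := phi_surjective b hc hgs hker
  haveI : Module.Finite B Q := finite_Q b hgs
  haveI : Module.Projective B Q := projective_Q b hgs
  haveI : Module.Projective B (⋀[B]^k Q) := projective_extPow b hgs k
  obtain ⟨σ, hσ⟩ := projective_lifting_property (phi b s c) LinearMap.id hsurj
  have hexact := LinearMap.exact_subtype_ker_map (phi b s c)
  obtain ⟨e, -⟩ := hexact.splitSurjectiveEquiv (Submodule.injective_subtype _) ⟨σ, hσ⟩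
  haveI : Module.Projective B (LinearMap.ker (phi b s c) × B) := Projective.of_equiv e
  haveI : Module.Projective B (LinearMap.ker (phi b s c)) :=
    Projective.of_split (LinearMap.inl B _ B) (LinearMap.fst B _ B) (by ext; simp)
  haveI : Module.Finite B (LinearMap.ker (phi b s c)) := by
    refine Module.Finite.of_surjective (LinearMap.fst B _ B ∘ₗ e.toLinearMap) ?_
    intro x
    exact ⟨e.symm (x, 0), by simp⟩
  have h1 := rankAtStalk_eq_of_equiv (M := ⋀[B]^k Q)
    (N := LinearMap.ker (phi b s c) × B) e
  rw [rankAtStalk_prod] at h1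
  have h0 : rankAtStalk (R := B) (LinearMap.ker (phi b s c)) = 0 := by
    funext p
    haveI : Nontrivial B := p.nontrivial
    have h2 := congr_fun h1 p
    rw [rankAtStalk_extPow b hc hgs hker p] at h2
    simp only [Pi.add_apply, rankAtStalk_self, Pi.one_apply] at h2
    simp only [Pi.zero_apply]
    omega
  have hsub := rankAtStalk_eq_zero_iff_subsingleton.mp h0
  rw [← LinearMap.ker_eq_bot]
  exact Submodule.eq_bot_of_subsingleton

include b in
/-- **Key lemma.** If `E` is free on `Fin k ⊕ Fin r`, `g : E → Q` has a section, and the kernel of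
`g` is free on `c : Fin r → E`, then `⋀^k Q ≃ B`. -/
theorem nonempty_extPow_equiv (hc : LinearIndependent B c) (hgs : g ∘ₗ s = LinearMap.id)
    (hker : LinearMap.ker g = Submodule.span B (Set.range c)) :
    Nonempty (⋀[B]^k Q ≃ₗ[B] B) :=
  ⟨LinearEquiv.ofBijective (phi b s c)
    ⟨phi_injective b hc hgs hker, phi_surjective b hc hgs hker⟩⟩

end Main

end Groth.Agent.Lib.Helper99.DetSF
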