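import Mathlib
import Groth.Agent.Lib.Helper99.DetSFC
import Groth.Agent.Lib.Helper94.SyntG

/-!
# Determinant of a split exact sequence, part D

Application to the conormal sequence of a smooth quotient `B = P ⧸ (F_1, …, F_r)` of a formally
smooth algebra `P` with free differentials.
-/

set_option autoImplicit false
universe u

namespace Groth.Agent.Lib.Helper99.DetSF

open Module TensorProduct KaehlerDifferential

/-- the top exterior power of a free module of rank `n` is free of rank one -/
theorem extPow_top_equiv {R : Type*} [CommRing R] {M : Type*} [AddCommGroup M] [Module R M]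
    {n : ℕ} (b : Basis (Fin n) R M) : Nonempty (⋀[R]^n M ≃ₗ[R] R) := by
  refine nonempty_extPow_equiv (k := n) (r := 0) (E := M) (Q := M) (g := LinearMap.id)
    (s := LinearMap.id) (c := fun i => i.elim0)
    (b.reindex (Equiv.sumEmpty (Fin n) (Fin 0)).symm) ?_ ?_ ?_
  · exact linearIndependent_empty_type
  · rfl
  · rw [LinearMap.ker_id]
    have : Set.range (fun i : Fin 0 => (i.elim0 : M)) = ∅ := Set.range_eq_empty _
    rw [this, Submodule.span_empty]

section Conormal

variable (A : Type u) [CommRing A] {P : Type u} [CommRing P] [Algebra A P] {r : ℕ}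
  (F : Fin r → P)

local notation "II" => Ideal.span (Set.range F)
local notation "BB" => P ⧸ Ideal.span (Set.range F)

/-- the family `1 ⊗ dF_i` -/
noncomputable def cfam : Fin r → BB ⊗[P] Ω[P⁄A] :=
  fun i => (1 : BB) ⊗ₜ[P] D A P (F i)

lemma one_tmul_D_sum (a : Fin r → P) :
    (1 : BB) ⊗ₜ[P] D A P (∑ i, a i * F i) =
      ∑ i, (Ideal.Quotient.mk II (a i)) • cfam A F i := by
  rw [map_sum, TensorProduct.tmul_sum]
  refine Finset.sum_congr rfl fun i _ => ?_
  rw [Derivation.leibniz, TensorProduct.tmul_add, TensorProduct.tmul_smul,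
    ← TensorProduct.smul_tmul]
  have h0 : F i • (1 : BB) = 0 := by
    rw [Algebra.smul_def, mul_one]
    exact Ideal.Quotient.eq_zero_iff_mem.mpr (Ideal.subset_span (Set.mem_range_self i))
  rw [h0, TensorProduct.zero_tmul, add_zero]
  rw [← algebraMap_smul (BB) (a i)]
  rfl

lemma ker_mapBaseChange_eq :
    LinearMap.ker (KaehlerDifferential.mapBaseChange A P BB) =
      Submodule.span BB (Set.range (cfam A F)) := by
  have hsurj : Function.Surjective (algebraMap P BB) := Ideal.Quotient.mk_surjective
  apply le_antisymm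
  · intro x hx
    have hex := KaehlerDifferential.exact_kerCotangentToTensor_mapBaseChange A P BB hsurj
    obtain ⟨y, rfl⟩ := (hex x).mp hx
    obtain ⟨⟨z, hz⟩, rfl⟩ := Ideal.toCotangent_surjective _ y
    rw [KaehlerDifferential.kerCotangentToTensor_toCotangent]
    have hz' : z ∈ II := by
      have : RingHom.ker (algebraMap P BB) = II := Ideal.mk_ker
      rwa [this] at hz
    obtain ⟨a, rfl⟩ := (Ideal.mem_span_range_iff_exists_fun).mp hz'
    simp only
    rw [one_tmul_D_sum]
    exact Submodule.sum_mem _ fun i _ =>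
      Submodule.smul_mem _ _ (Submodule.subset_span ⟨i, rfl⟩)
  · rw [Submodule.span_le]
    rintro _ ⟨i, rfl⟩
    simp only [cfam, SetLike.mem_coe, LinearMap.mem_ker, mapBaseChange_tmul, map_D, one_smul]
    have : algebraMap P BB (F i) = 0 :=
      Ideal.Quotient.eq_zero_iff_mem.mpr (Ideal.subset_span (Set.mem_range_self i))
    rw [this, map_zero]

theorem linearIndependent_cfam [Algebra.FormallySmooth A P] [Algebra.FormallySmooth A BB]
    (hreg : RingTheory.Sequence.IsWeaklyRegular P (List.ofFn F)) :
    LinearIndependent BB (cfam A F) := by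
  have hsurj : Function.Surjective (algebraMap P BB) := Ideal.Quotient.mk_surjective
  have hinj : Function.Injective (KaehlerDifferential.kerCotangentToTensor A P BB) :=
    (Algebra.FormallySmooth.kerCotangentToTensor_injective_iff hsurj).mpr inferInstance
  rw [Fintype.linearIndependent_iff]
  intro gg hg i
  choose a ha using fun j => Ideal.Quotient.mk_surjective (I := II) (gg j)
  have hy : ∑ j, a j * F j ∈ II :=
    Ideal.sum_mem _ fun j _ => Ideal.mul_mem_left _ _ (Ideal.subset_span (Set.mem_range_self j))
  have hker : RingHom.ker (algebraMap P BB) = II := Ideal.mk_ker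
  have hy' : ∑ j, a j * F j ∈ RingHom.ker (algebraMap P BB) := by rw [hker]; exact hy
  have h1 : KaehlerDifferential.kerCotangentToTensor A P BB
      (Ideal.toCotangent _ ⟨∑ j, a j * F j, hy'⟩) = 0 := by
    rw [KaehlerDifferential.kerCotangentToTensor_toCotangent]
    simp only
    rw [one_tmul_D_sum, ← hg]
    refine Finset.sum_congr rfl fun j _ => ?_
    rw [ha j]
  have h2 := hinj (h1.trans (map_zero _).symm)
  rw [Ideal.toCotangent_eq_zero] at h2
  have h3 : ∑ j, a j * F j ∈ II ^ 2 := by
    rw [← hker]
    exact h2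
  rw [← ha i, Ideal.Quotient.eq_zero_iff_mem]
  exact Groth.Agent.Lib.Helper94.SyntG.mem_of_sum_mem_sq F hreg a h3 i

/-- the conormal module of a regular sequence is free on the classes of the `F_i` -/
theorem nonempty_basis_cotangent
    (hreg : RingTheory.Sequence.IsWeaklyRegular P (List.ofFn F)) :
    Nonempty (Basis (Fin r) BB (II).Cotangent) := by
  have hspan := Groth.Agent.Lib.Helper94.SyntG.span_toCotangent F
  have hli : LinearIndependent BB (fun i : Fin r => (II).toCotangent
        ⟨F i, Ideal.subset_span (Set.mem_range_self i)⟩) := by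
    rw [Fintype.linearIndependent_iff]
    intro g hg i
    have hsurj := Ideal.Quotient.mk_surjective (I := II)
    choose a ha using fun j => hsurj (g j)
    have hy : ∑ j, a j * F j ∈ II :=
      Ideal.sum_mem _ fun j _ => Ideal.mul_mem_left _ _ (Ideal.subset_span (Set.mem_range_self j))
    have h1 : (II).toCotangent ⟨∑ j, a j * F j, hy⟩ = 0 := by
      rw [← hg]
      have h1 : (⟨∑ i, a i * F i, hy⟩ : II) =
          ∑ i, a i • (⟨F i, Ideal.subset_span (Set.mem_range_self i)⟩ : II) := by
        apply Subtype.ext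
        simp
      rw [h1, map_sum]
      refine Finset.sum_congr rfl fun j _ => ?_
      rw [map_smul, ← ha j]
      rfl
    rw [Ideal.toCotangent_eq_zero] at h1
    rw [← ha i, Ideal.Quotient.eq_zero_iff_mem]
    exact Groth.Agent.Lib.Helper94.SyntG.mem_of_sum_mem_sq F hreg a h1 i
  exact ⟨Basis.mk hli hspan.ge⟩

/-- **Main application.** If `Ω[P⁄A]` is free on `Fin n`, `r ≤ n`, `F` is a regular sequence and
`B = P ⧸ (F)` is formally smooth over `A`, then `⋀^(n-r) Ω[B⁄A] ≃ B`. -/
theorem nonempty_extPow_kaehler_equiv [Algebra.FormallySmooth A P] [Algebra.FormallySmooth A BB]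
    {n : ℕ} (hrn : r ≤ n) (bΩ : Basis (Fin n) P Ω[P⁄A])
    (hreg : RingTheory.Sequence.IsWeaklyRegular P (List.ofFn F)) :
    Nonempty (⋀[BB]^(n - r) Ω[BB⁄A] ≃ₗ[BB] BB) := by
  have hsurj : Function.Surjective (algebraMap P BB) := Ideal.Quotient.mk_surjective
  have hgsurj := KaehlerDifferential.mapBaseChange_surjective A P BB hsurj
  obtain ⟨s, hs⟩ := Module.projective_lifting_property
    (KaehlerDifferential.mapBaseChange A P BB) LinearMap.id hgsurj
  have hnr : n - r + r = n := Nat.sub_add_cancel hrn
  let e : Fin n ≃ Fin (n - r) ⊕ Fin r := (finCongr hnr.symm).trans finSumFinEquiv.symm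
  let b : Basis (Fin (n - r) ⊕ Fin r) BB (BB ⊗[P] Ω[P⁄A]) := (bΩ.baseChange BB).reindex e
  exact nonempty_extPow_equiv b (linearIndependent_cfam A F hreg) hs (ker_mapBaseChange_eq A F)

end Conormal

end Groth.Agent.Lib.Helper99.DetSF
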