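import Mathlib
import Groth.Agent.Lib.Helper59.ExtPowBC
import Groth.Agent.Lib.Helper99.DetSFD
import Groth.Agent.Lib.Helper99.DetPrC
import Groth.Agent.Lib.Helper99.DetPrD

/-!
# Top differential forms of a smooth quotient by a regular sequence (helper99)
-/

set_option autoImplicit false

namespace Groth.Agent.Lib.Helper99.DetPr

open Module TensorProduct CategoryTheory Abelian KaehlerDifferential

universe u

section Conormal

variable (k : Type u) [CommRing k] {A : Type u} [CommRing A] [Algebra k A] {r : ℕ}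
  (F : Fin r → A)

local notation "BB" => A ⧸ Ideal.span (Set.range F)

theorem nonempty_extPow_conormal [Algebra.FormallySmooth k A] [Module.Finite A Ω[A⁄k]]
    [Algebra.FormallySmooth k BB] {n : ℕ}
    (hn : ∀ q, rankAtStalk (R := A) (Ω[A⁄k]) q = n) (hrn : r ≤ n)
    (hreg : RingTheory.Sequence.IsWeaklyRegular A (List.ofFn F)) :
    Nonempty (⋀[BB]^n (BB ⊗[A] Ω[A⁄k]) ≃ₗ[BB] ⋀[BB]^(n - r) Ω[BB⁄k]) := by
  have hsurj : Function.Surjective (algebraMap A BB) := Ideal.Quotient.mk_surjective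
  have hgsurj := KaehlerDifferential.mapBaseChange_surjective k A BB hsurj
  obtain ⟨s, hs⟩ := Module.projective_lifting_property
    (KaehlerDifferential.mapBaseChange k A BB) LinearMap.id hgsurj
  have hn' : ∀ p : PrimeSpectrum BB, rankAtStalk (R := BB) (BB ⊗[A] Ω[A⁄k]) p = n := by
    intro p
    rw [rankAtStalk_baseChange]
    exact hn _
  exact nonempty_extPow_equiv_of_split
    (Groth.Agent.Lib.Helper99.DetSF.linearIndependent_cfam k F hreg) hs
    (Groth.Agent.Lib.Helper99.DetSF.ker_mapBaseChange_eq k F) n hn' hrn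

end Conormal

section General

variable (k : Type u) [CommRing k] {A : Type u} [CommRing A] [Algebra k A]

theorem nonempty_top_equiv [Algebra.FormallySmooth k A] [Module.Finite A Ω[A⁄k]]
    (I : Ideal A) [Algebra.FormallySmooth k (A ⧸ I)] {r : ℕ} (F : Fin r → A)
    (hI : I = Ideal.span (Set.range F)) {n : ℕ}
    (hn : ∀ q, rankAtStalk (R := A) (Ω[A⁄k]) q = n) (hrn : r ≤ n)
    (hreg : RingTheory.Sequence.IsWeaklyRegular A (List.ofFn F)) :
    Nonempty (↥((⋀[A ⧸ I]^(n - r) (Ω[(A ⧸ I)⁄k])).restrictScalars A) ≃ₗ[A]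
      (↥(⋀[A]^n (Ω[A⁄k])) ⧸ I • (⊤ : Submodule A ↥(⋀[A]^n (Ω[A⁄k]))))) := by
  subst hI
  obtain ⟨f⟩ := nonempty_extPow_conormal k F hn hrn hreg
  let T' := LinearEquiv.ofBijective
    (Groth.Agent.Lib.Helper59.ExtPowBC.T A (A ⧸ Ideal.span (Set.range F)) (Ω[A⁄k]) n)
    (Groth.Agent.Lib.Helper59.ExtPowBC.T_bijective A (A ⧸ Ideal.span (Set.range F)) (Ω[A⁄k]) n)
  let e := f.symm ≪≫ₗ T'.symm
  exact ⟨(Submodule.restrictScalarsEquiv A (A ⧸ Ideal.span (Set.range F)) _ _).restrictScalars A ≪≫ₗ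
    e.restrictScalars A ≪≫ₗ
    TensorProduct.quotTensorEquivQuotSMul _ (Ideal.span (Set.range F))⟩

end General

end Groth.Agent.Lib.Helper99.DetPr
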