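import Mathlib
import Groth.Agent.Lib.Helper91.CauchyBinet

/-!
# Matrix identities for the determinantal chart (helper99)
-/

set_option autoImplicit false
universe u

namespace Groth.Agent.Lib.Helper99.DetSm

open Matrix

variable {R : Type u} [CommRing R]

/-- The determinant of a product of an `e × r` and an `r × e` matrix vanishes when `r < e`. -/
theorem det_mul_eq_zero_of_lt {e r : ℕ} (h : r < e) (A : Matrix (Fin e) (Fin r) R)
    (N : Matrix (Fin r) (Fin e) R) : (A * N).det = 0 := by
  rw [Groth.Agent.Lib.Helper91.det_mul_expand]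
  refine Finset.sum_eq_zero fun f _ => ?_
  have hf : ¬ Function.Injective f := by
    intro hinj
    have := Fintype.card_le_of_injective f hinj
    simp at this
    omega
  rw [Groth.Agent.Lib.Helper91.det_submatrix_eq_zero_of_not_injective e r A f hf, mul_zero]

/-- All `(r+1)`-minors of a product through `r` vanish. -/
theorem det_submatrix_mul_eq_zero {n m r : ℕ} (U : Matrix (Fin n) (Fin r) R)
    (W : Matrix (Fin r) (Fin m) R) (a : Fin (r + 1) → Fin n) (b : Fin (r + 1) → Fin m) :
    ((U * W).submatrix a b).det = 0 := by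
  rw [Matrix.submatrix_mul U W a id b Function.bijective_id]
  exact det_mul_eq_zero_of_lt (Nat.lt_succ_self r) _ _

/-- The chart matrix restricts to `A` on the chosen rows and columns. -/
theorem chart_submatrix {n m r : ℕ} (Z : Matrix (Fin n) (Fin m) R) (f : Fin r → Fin n)
    (g : Fin r → Fin m) (Ainv : Matrix (Fin r) (Fin r) R)
    (h1 : Z.submatrix f g * Ainv = 1) :
    ((Z.submatrix id g * Ainv * Z.submatrix f id).submatrix f g) = Z.submatrix f g := by
  rw [Matrix.submatrix_mul _ _ f id g Function.bijective_id,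
    Matrix.submatrix_mul _ _ f id id Function.bijective_id]
  have e1 : (Z.submatrix id g).submatrix f id = Z.submatrix f g := by
    ext i j; rfl
  have e2 : (Z.submatrix f id).submatrix id g = Z.submatrix f g := by
    ext i j; rfl
  have e3 : Ainv.submatrix id id = Ainv := by
    ext i j; rfl
  rw [e1, e2, e3, h1, Matrix.one_mul]

/-- **Schur complement identity**: if all `(r+1)`-minors of `Z` vanish and the `r × r` submatrix `A`
is invertible, then `Z = Z_{•,g} A⁻¹ Z_{f,•}`. -/
theorem eq_chart_of_minors_eq_zero {n m r : ℕ} (Z : Matrix (Fin n) (Fin m) R) (f : Fin r → Fin n)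
    (g : Fin r → Fin m) (Ainv : Matrix (Fin r) (Fin r) R)
    (h1 : Z.submatrix f g * Ainv = 1) (h2 : Ainv * Z.submatrix f g = 1)
    (hZ : ∀ (a : Fin (r + 1) → Fin n) (b : Fin (r + 1) → Fin m), (Z.submatrix a b).det = 0)
    (i : Fin n) (j : Fin m) :
    Z i j = (Z.submatrix id g * Ainv * Z.submatrix f id) i j := by
  classical
  let A : Matrix (Fin r) (Fin r) R := Z.submatrix f g
  letI : Invertible A := ⟨Ainv, h2, h1⟩
  let bcol : Matrix (Fin r) (Fin 1) R := fun s _ => Z (f s) j
  let crow : Matrix (Fin 1) (Fin r) R := fun _ t => Z i (g t)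
  let d : Matrix (Fin 1) (Fin 1) R := fun _ _ => Z i j
  let a' : Fin r ⊕ Fin 1 → Fin n := Sum.elim f (fun _ => i)
  let b' : Fin r ⊕ Fin 1 → Fin m := Sum.elim g (fun _ => j)
  have hblock : Matrix.fromBlocks A bcol crow d = Z.submatrix a' b' := by
    ext s t
    rcases s with s | s <;> rcases t with t | t <;> rfl
  have hdet0 : (Matrix.fromBlocks A bcol crow d).det = 0 := by
    rw [hblock]
    have := hZ (a' ∘ finSumFinEquiv.symm) (b' ∘ finSumFinEquiv.symm)
    have h3 : Z.submatrix (a' ∘ finSumFinEquiv.symm) (b' ∘ finSumFinEquiv.symm) =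
        (Z.submatrix a' b').submatrix finSumFinEquiv.symm finSumFinEquiv.symm := by
      ext s t; rfl
    rw [h3, Matrix.det_submatrix_equiv_self] at this
    exact this
  rw [Matrix.det_fromBlocks₁₁] at hdet0
  have hunit : IsUnit A.det := (Matrix.isUnit_iff_isUnit_det A).mp (isUnit_of_invertible A)
  have h4 : (d - crow * ⅟A * bcol).det = 0 := by
    rcases hunit with ⟨u, hu⟩
    rw [← hu] at hdet0
    exact (Units.mul_right_eq_zero u).mp hdet0
  rw [Matrix.det_unique] at h4
  have h5 : (d - crow * ⅟A * bcol) default default = Z i j - (crow * ⅟A * bcol) 0 0 := rfl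
  rw [h5, sub_eq_zero] at h4
  rw [h4]
  have h6 : ⅟A = Ainv := rfl
  rw [h6]
  simp only [Matrix.mul_apply, Matrix.submatrix_apply, id_eq]
  rfl

end Groth.Agent.Lib.Helper99.DetSm
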