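import Groth.Agent.Lib.Helper99.DetSmA
import Groth.Prelude.Def_CAlgX

/-!
# The rank-exactly-`r` locus of the generic determinantal variety is smooth (helper99)
-/

set_option autoImplicit false
universe u

namespace Groth.Agent.Lib.Helper99.DetSm

open Matrix MvPolynomial

variable (k : Type u) [Field k] (n m r : ℕ)

/-- the generic matrix -/
noncomputable abbrev Xm : Matrix (Fin n) (Fin m) (MvPolynomial (Fin n × Fin m) k) :=
  Matrix.of fun (i : Fin n) (j : Fin m) => (MvPolynomial.X (i, j) : MvPolynomial (Fin n × Fin m) k)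

/-- the determinantal ideal -/
noncomputable abbrev Idet : Ideal (MvPolynomial (Fin n × Fin m) k) := CAlgX.minorIdeal (Xm k n m) (r + 1)

variable {k n m r}

theorem formallySmooth_away (f : Fin r → Fin n) (g : Fin r → Fin m) :
    Algebra.FormallySmooth k
      (Localization.Away ((Ideal.Quotient.mkₐ k (Idet k n m r)) ((Xm k n m).submatrix f g).det)) := by
  classical
  set R₀ := MvPolynomial (Fin n × Fin m) k
  set I := Idet k n m r
  set δ : R₀ := ((Xm k n m).submatrix f g).det with hδ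
  set δb := (Ideal.Quotient.mkₐ k I) δ with hδb
  let Rδ := Localization.Away δ
  let Bδ := Localization.Away δb
  let alg : R₀ →+* Rδ := algebraMap R₀ Rδ
  let Z' : Matrix (Fin n) (Fin m) Rδ := (Xm k n m).map alg
  let A' : Matrix (Fin r) (Fin r) Rδ := Z'.submatrix f g
  have hdetA : A'.det = alg δ := (RingHom.map_det alg ((Xm k n m).submatrix f g)).symm
  have hunitA : IsUnit A'.det := by
    rw [hdetA]
    exact IsLocalization.Away.algebraMap_isUnit δ
  have h1 : A' * A'⁻¹ = 1 := Matrix.mul_nonsing_inv A' hunitA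
  have h2 : A'⁻¹ * A' = 1 := Matrix.nonsing_inv_mul A' hunitA
  let Y : Matrix (Fin n) (Fin m) Rδ := Z'.submatrix id g * A'⁻¹ * Z'.submatrix f id
  let ρ : R₀ →ₐ[k] Rδ := MvPolynomial.aeval (fun p : Fin n × Fin m => Y p.1 p.2)
  have hρX : ∀ (a : Fin (r + 1) → Fin n) (b : Fin (r + 1) → Fin m),
      ρ ((Xm k n m).submatrix a b).det = (Y.submatrix a b).det := by
    intro a b
    rw [AlgHom.map_det]
    congr 1
    ext i j
    change ρ (X (a i, b j)) = Y (a i) (b j)
    exact MvPolynomial.aeval_X _ _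
  have hρX' : ρ δ = (Y.submatrix f g).det := by
    change ρ ((Xm k n m).submatrix f g).det = _
    rw [AlgHom.map_det]
    congr 1
    ext i j
    change ρ (X (f i, g j)) = Y (f i) (g j)
    exact MvPolynomial.aeval_X _ _
  have hkill : ∀ x ∈ I, ρ x = 0 := by
    intro x hx
    have hle : I ≤ RingHom.ker ρ.toRingHom := by
      change CAlgX.minorIdeal (Xm k n m) (r + 1) ≤ _
      unfold CAlgX.minorIdeal
      rw [Ideal.span_le]
      rintro _ ⟨⟨a, b⟩, rfl⟩
      change ρ _ = 0
      rw [hρX]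
      exact det_submatrix_mul_eq_zero _ _ a b
    exact hle hx
  let ρB : (R₀ ⧸ I) →ₐ[k] Rδ := Ideal.Quotient.liftₐ I ρ hkill
  have hρBunit : IsUnit (ρB δb) := by
    have : ρB δb = ρ δ := rfl
    rw [this, hρX', chart_submatrix Z' f g A'⁻¹ h1]
    exact hunitA
  let ρbar : Bδ →ₐ[k] Rδ := IsLocalization.Away.liftAlgHom δb (f := ρB) hρBunit
  let π : Rδ →ₐ[k] Bδ := IsLocalization.Away.mapₐ Rδ Bδ (Ideal.Quotient.mkₐ k I) δ
  have hπalg : ∀ x : R₀, π (alg x) = algebraMap (R₀ ⧸ I) Bδ (Ideal.Quotient.mk I x) := by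
    intro x
    rw [show π (alg x) = IsLocalization.Away.map Rδ Bδ (Ideal.Quotient.mkₐ k I).toRingHom δ
      (algebraMap R₀ Rδ x) from rfl, IsLocalization.Away.map, IsLocalization.map_eq]
    rfl
  -- the key identity
  have hcomp : ∀ x : R₀, π (ρ x) = algebraMap (R₀ ⧸ I) Bδ (Ideal.Quotient.mk I x) := by
    let φ1 : R₀ →ₐ[k] Bδ := π.comp ρ
    let φ2 : R₀ →ₐ[k] Bδ := (IsScalarTower.toAlgHom k (R₀ ⧸ I) Bδ).comp (Ideal.Quotient.mkₐ k I)
    suffices h : φ1 = φ2 from fun x => congrArg (fun φ : R₀ →ₐ[k] Bδ => φ x) h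
    refine MvPolynomial.algHom_ext fun p => ?_
    obtain ⟨i, j⟩ := p
    change π (ρ (X (i, j))) = algebraMap (R₀ ⧸ I) Bδ (Ideal.Quotient.mk I (X (i, j)))
    have hρij : ρ (X (i, j)) = Y i j := MvPolynomial.aeval_X _ _
    rw [hρij]
    -- matrices over `Bδ`
    let cmp : R₀ →+* Bδ := (algebraMap (R₀ ⧸ I) Bδ).comp (Ideal.Quotient.mk I)
    let Zb : Matrix (Fin n) (Fin m) Bδ := (Xm k n m).map cmp
    have hZ'π : Z'.map π = Zb := by
      ext a b
      exact hπalg _
    have hYπ : π (Y i j) = (Zb.submatrix id g * (A'⁻¹).map π * Zb.submatrix f id) i j := by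
      have : Y.map π = Zb.submatrix id g * (A'⁻¹).map π * Zb.submatrix f id := by
        change (Z'.submatrix id g * A'⁻¹ * Z'.submatrix f id).map π = _
        rw [Matrix.map_mul, Matrix.map_mul, ← Matrix.submatrix_map, ← Matrix.submatrix_map, hZ'π]
      exact congrFun (congrFun this i) j
    rw [hYπ]
    have hA1 : Zb.submatrix f g * (A'⁻¹).map π = 1 := by
      have : Zb.submatrix f g = A'.map π := by
        rw [← hZ'π]; rfl
      rw [this, ← Matrix.map_mul, h1, Matrix.map_one _ (map_zero π) (map_one π)]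
    have hA2 : (A'⁻¹).map π * Zb.submatrix f g = 1 := by
      have : Zb.submatrix f g = A'.map π := by
        rw [← hZ'π]; rfl
      rw [this, ← Matrix.map_mul, h2, Matrix.map_one _ (map_zero π) (map_one π)]
    have hminors : ∀ (a : Fin (r + 1) → Fin n) (b : Fin (r + 1) → Fin m),
        (Zb.submatrix a b).det = 0 := by
      intro a b
      have h3 : (Zb.submatrix a b).det = cmp ((Xm k n m).submatrix a b).det := by
        rw [RingHom.map_det]
        rfl
      rw [h3]
      have hmem : ((Xm k n m).submatrix a b).det ∈ I :=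
        Ideal.subset_span ⟨(a, b), rfl⟩
      change algebraMap (R₀ ⧸ I) Bδ (Ideal.Quotient.mk I _) = 0
      rw [Ideal.Quotient.eq_zero_iff_mem.mpr hmem, map_zero]
    exact (eq_chart_of_minors_eq_zero Zb f g ((A'⁻¹).map π) hA1 hA2 hminors i j).symm
  -- now the splitting
  have hπρ : ∀ y : Bδ, π (ρbar y) = y := by
    have hring : (π.toRingHom.comp ρbar.toRingHom) = RingHom.id Bδ := by
      refine IsLocalization.ringHom_ext (Submonoid.powers δb) ?_
      refine RingHom.ext fun b => ?_
      obtain ⟨x, rfl⟩ := Ideal.Quotient.mk_surjective b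
      change π (ρbar (algebraMap (R₀ ⧸ I) Bδ (Ideal.Quotient.mk I x))) = _
      have : ρbar (algebraMap (R₀ ⧸ I) Bδ (Ideal.Quotient.mk I x)) = ρ x := by
        change IsLocalization.Away.lift δb hρBunit _ = _
        rw [IsLocalization.Away.lift_eq]
        rfl
      rw [this, hcomp]
      rfl
    intro y
    exact congrArg (fun φ : Bδ →+* Bδ => φ y) hring
  refine Algebra.FormallySmooth.of_split π
    ((Ideal.Quotient.mkₐ k (RingHom.ker π.toRingHom ^ 2)).comp ρbar) ?_
  refine AlgHom.ext fun y => ?_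
  change π.kerSquareLift (Ideal.Quotient.mk _ (ρbar y)) = y
  rw [AlgHom.kerSquareLift_mk]
  exact hπρ y

end Groth.Agent.Lib.Helper99.DetSm
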