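import Groth.Agent.Lib.Helper99.DetSmB

/-!
# Module-valued derivative of a determinant; conormal criterion (helper99)
-/

set_option autoImplicit false
universe u v w

namespace Groth.Agent.Lib.Helper99.DetSm

open Matrix Finset

section DerDet

variable {k : Type u} {A : Type v} {M : Type w} [CommRing k] [CommRing A] [Algebra k A]
  [AddCommGroup M] [Module k M] [Module A M] [IsScalarTower k A M]

theorem derivation_prod_module {α : Type*} [DecidableEq α] (d : Derivation k A M) (s : Finset α)
    (a : α → A) : d (∏ i ∈ s, a i) = ∑ i ∈ s, (∏ j ∈ s.erase i, a j) • d (a i) := by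
  induction s using Finset.induction_on with
  | empty => simp
  | insert x s hx ih =>
    rw [prod_insert hx, Derivation.leibniz, ih, sum_insert hx, erase_insert hx, smul_sum, add_comm]
    congr 1
    refine sum_congr rfl fun i hi => ?_
    have hix : x ≠ i := fun h => hx (h ▸ hi)
    rw [erase_insert_of_ne hix, prod_insert (fun h => hx (mem_of_mem_erase h)), mul_smul]

variable {ι : Type*} [Fintype ι] [DecidableEq ι]

/-- Derivative of a determinant with values in a module, in terms of the adjugate. -/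
theorem derivation_det_module (d : Derivation k A M) (N : Matrix ι ι A) :
    d N.det = ∑ i, ∑ j, N.adjugate j i • d (N i j) := by
  have hdet : ∀ N' : Matrix ι ι A,
      N'.det = ∑ σ : Equiv.Perm ι, Equiv.Perm.sign σ • ∏ i, N' i (σ i) := by
    intro N'
    rw [← det_transpose, det_apply]
    simp only [transpose_apply]
  have hadj : ∀ i j, N.adjugate j i =
      ∑ σ : Equiv.Perm ι, if σ i = j then Equiv.Perm.sign σ • ∏ l ∈ univ.erase i, N l (σ l) else 0 := by
    intro i j
    rw [adjugate_apply, hdet]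
    refine sum_congr rfl fun σ _ => ?_
    rw [← mul_prod_erase univ _ (mem_univ i), updateRow_self]
    have hprod : ∏ l ∈ univ.erase i, (N.updateRow i (Pi.single j 1)) l (σ l) =
        ∏ l ∈ univ.erase i, N l (σ l) :=
      prod_congr rfl fun l hl => by rw [updateRow_ne (ne_of_mem_erase hl)]
    rw [hprod]
    by_cases h : σ i = j
    · rw [if_pos h, h, Pi.single_eq_same, one_mul]
    · rw [if_neg h, Pi.single_eq_of_ne h, zero_mul, smul_zero]
  rw [hdet, map_sum]
  have hL : ∀ σ : Equiv.Perm ι, d (Equiv.Perm.sign σ • ∏ i, N i (σ i)) =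
      ∑ i, (Equiv.Perm.sign σ • ∏ l ∈ univ.erase i, N l (σ l)) • d (N i (σ i)) := by
    intro σ
    rw [Units.smul_def, map_zsmul, derivation_prod_module, smul_sum]
    refine sum_congr rfl fun i _ => ?_
    rw [Units.smul_def, smul_assoc]
  rw [sum_congr rfl fun σ _ => hL σ, sum_comm]
  refine sum_congr rfl fun i _ => ?_
  have hR : ∀ j, N.adjugate j i • d (N i j) =
      ∑ σ : Equiv.Perm ι, if σ i = j then
        (Equiv.Perm.sign σ • ∏ l ∈ univ.erase i, N l (σ l)) • d (N i (σ i)) else 0 := by
    intro j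
    rw [hadj, sum_smul]
    refine sum_congr rfl fun σ _ => ?_
    by_cases h : σ i = j
    · rw [if_pos h, if_pos h, h]
    · rw [if_neg h, if_neg h, zero_smul]
  rw [sum_congr rfl fun j _ => hR j, sum_comm]
  refine sum_congr rfl fun σ _ => ?_
  rw [sum_ite_eq univ (σ i), if_pos (mem_univ _)]

end DerDet

section Conormal

open TensorProduct KaehlerDifferential

variable (k : Type u) [Field k] (n m r : ℕ)

theorem nonzero_minor (hr : r < min n m) : ∃ Δ ∈ Idet k n m r, Δ ≠ 0 := by
  have h1 : r + 1 ≤ n := by omega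
  have h2 : r + 1 ≤ m := by omega
  refine ⟨((Xm k n m).submatrix (Fin.castLE h1) (Fin.castLE h2)).det,
    Ideal.subset_span ⟨(_, _), rfl⟩, ?_⟩
  intro h0
  have h3 := congrArg
    (MvPolynomial.eval (fun p : Fin n × Fin m => if p.1.val = p.2.val then (1 : k) else 0)) h0
  rw [map_zero, RingHom.map_det] at h3
  have hid : (MvPolynomial.eval (fun p : Fin n × Fin m =>
      if p.1.val = p.2.val then (1 : k) else 0)).mapMatrix
        ((Xm k n m).submatrix (Fin.castLE h1) (Fin.castLE h2)) = 1 := by
    ext i j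
    simp [Xm, Matrix.one_apply, Fin.ext_iff]
  rw [hid, det_one] at h3
  exact one_ne_zero h3

theorem adjugate_mem_minorIdeal (a : Fin (r + 1) → Fin n) (b : Fin (r + 1) → Fin m)
    (i j : Fin (r + 1)) :
    ((Xm k n m).submatrix a b).adjugate i j ∈ CAlgX.minorIdeal (Xm k n m) r := by
  rw [Matrix.adjugate_fin_succ_eq_det_submatrix]
  refine Ideal.mul_mem_left _ _ ?_
  exact Ideal.subset_span ⟨(a ∘ j.succAbove, b ∘ i.succAbove), rfl⟩

theorem false_of_smooth_of_le (hr : r < min n m)
    (P : PrimeSpectrum (MvPolynomial (Fin n × Fin m) k ⧸ Idet k n m r))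
    (hP : P ∈ Algebra.smoothLocus k (MvPolynomial (Fin n × Fin m) k ⧸ Idet k n m r))
    (hle : (CAlgX.minorIdeal (Xm k n m) r).map (Ideal.Quotient.mk (Idet k n m r)) ≤ P.asIdeal) :
    False := by
  classical
  let R₀ := MvPolynomial (Fin n × Fin m) k
  let I : Ideal R₀ := Idet k n m r
  let B := R₀ ⧸ I
  let P' : Ideal R₀ := P.asIdeal.comap (Ideal.Quotient.mk I)
  haveI : P'.IsPrime := Ideal.comap_isPrime _ _
  have hIr : CAlgX.minorIdeal (Xm k n m) r ≤ P' := Ideal.map_le_iff_le_comap.mp hle
  have hIP : I ≤ P' := by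
    intro x hx
    change Ideal.Quotient.mk I x ∈ P.asIdeal
    rw [Ideal.Quotient.eq_zero_iff_mem.mpr hx]
    exact P.asIdeal.zero_mem
  let R₁ := Localization.AtPrime P'
  let alg : R₀ →+* R₁ := algebraMap R₀ R₁
  let J : Ideal R₁ := I.map alg
  let S' := R₁ ⧸ J
  -- `S'` is the localization of `B` at `P`
  have hM : Algebra.algebraMapSubmonoid B P'.primeCompl = P.asIdeal.primeCompl := by
    ext y
    constructor
    · rintro ⟨x, hx, rfl⟩
      exact hx
    · intro hy
      obtain ⟨x, rfl⟩ := Ideal.Quotient.mk_surjective y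
      exact ⟨x, hy, rfl⟩
  haveI hloc : IsLocalization P.asIdeal.primeCompl S' :=
    hM ▸ (inferInstance : IsLocalization (Algebra.algebraMapSubmonoid B P'.primeCompl) S')
  let e : Localization.AtPrime P.asIdeal ≃ₐ[B] S' :=
    IsLocalization.algEquiv P.asIdeal.primeCompl (Localization.AtPrime P.asIdeal) S'
  haveI : Algebra.FormallySmooth k (Localization.AtPrime P.asIdeal) := hP
  haveI : IsScalarTower k B S' := IsScalarTower.of_algebraMap_eq (fun x => rfl)
  haveI : Algebra.FormallySmooth k S' := Algebra.FormallySmooth.of_equiv (e.restrictScalars k)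
  have hsurj : Function.Surjective (algebraMap R₁ S') := Ideal.Quotient.mk_surjective
  obtain ⟨l, hl⟩ := (Algebra.FormallySmooth.iff_split_injection (R := k) (P := R₁) (A := S')
    hsurj).mp inferInstance
  let K : Ideal R₁ := RingHom.ker (algebraMap R₁ S')
  have hK : K = J := Ideal.mk_ker
  let mm : Ideal R₁ := IsLocalRing.maximalIdeal R₁
  let mT : Submodule R₁ (S' ⊗[R₁] Ω[R₁⁄k]) := mm • ⊤
  -- the key membership
  have key : ∀ x ∈ K, (1 : S') ⊗ₜ[R₁] D k R₁ x ∈ mT := by
    let K₀ : Ideal R₁ :=
      { carrier := {x | x ∈ K ∧ (1 : S') ⊗ₜ[R₁] D k R₁ x ∈ mT}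
        zero_mem' := ⟨K.zero_mem, by rw [map_zero, tmul_zero]; exact mT.zero_mem⟩
        add_mem' := fun {a b} ha hb => ⟨K.add_mem ha.1 hb.1, by
          rw [map_add, tmul_add]; exact mT.add_mem ha.2 hb.2⟩
        smul_mem' := fun c x hx => ⟨K.mul_mem_left c hx.1, by
          rw [smul_eq_mul, Derivation.leibniz, tmul_add, tmul_smul, tmul_smul]
          refine mT.add_mem (mT.smul_mem c hx.2) ?_
          rw [TensorProduct.smul_tmul']
          have hx0 : x • (1 : S') = 0 := by
            rw [← Algebra.algebraMap_eq_smul_one]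
            exact hx.1
          rw [hx0, zero_tmul]
          exact mT.zero_mem⟩ }
    have hKK₀ : K ≤ K₀ := by
      rw [hK]
      change Ideal.map alg (CAlgX.minorIdeal (Xm k n m) (r + 1)) ≤ K₀
      unfold CAlgX.minorIdeal
      rw [Ideal.map_span, Ideal.span_le]
      rintro _ ⟨_, ⟨⟨a, b⟩, rfl⟩, rfl⟩
      refine ⟨?_, ?_⟩
      · rw [hK]
        exact Ideal.mem_map_of_mem _ (Ideal.subset_span ⟨(a, b), rfl⟩)
      · change (1 : S') ⊗ₜ[R₁] D k R₁ (alg ((Xm k n m).submatrix a b).det) ∈ mT
        rw [RingHom.map_det, derivation_det_module, tmul_sum]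
        refine Submodule.sum_mem _ fun i _ => ?_
        rw [tmul_sum]
        refine Submodule.sum_mem _ fun j _ => ?_
        rw [tmul_smul]
        refine Submodule.smul_mem_smul ?_ Submodule.mem_top
        rw [← RingHom.map_adjugate]
        change alg (((Xm k n m).submatrix a b).adjugate j i) ∈ mm
        rw [IsLocalization.AtPrime.to_map_mem_maximal_iff R₁ P']
        exact hIr (adjugate_mem_minorIdeal k n m r a b j i)
    intro x hx
    exact (hKK₀ hx).2
  -- Nakayama for the cotangent module
  have hcot : (⊤ : Submodule R₁ K.Cotangent) ≤ mm • ⊤ := by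
    intro z _
    obtain ⟨x, rfl⟩ := Ideal.toCotangent_surjective _ z
    have h1 : l (kerCotangentToTensor k R₁ S' (K.toCotangent x)) = K.toCotangent x := by
      simpa using LinearMap.congr_fun hl (K.toCotangent x)
    rw [← h1, kerCotangentToTensor_toCotangent]
    have h2 : l ((1 : S') ⊗ₜ[R₁] D k R₁ x.1) ∈ Submodule.map l mT :=
      Submodule.mem_map_of_mem (key x.1 x.2)
    rw [Submodule.map_smul''] at h2
    exact Submodule.smul_mono le_rfl le_top h2
  haveI : Module.Finite R₁ K.Cotangent :=
    Module.Finite.of_surjective K.toCotangent K.toCotangent_surjective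
  have htop : (⊤ : Submodule R₁ K.Cotangent) = ⊥ :=
    Submodule.eq_bot_of_le_smul_of_le_jacobson_bot mm ⊤ Module.Finite.fg_top hcot
      (IsLocalRing.maximalIdeal_le_jacobson ⊥)
  haveI : Subsingleton K.Cotangent := by
    refine ⟨fun a b => ?_⟩
    have ha : a ∈ (⊤ : Submodule R₁ K.Cotangent) := Submodule.mem_top
    have hb : b ∈ (⊤ : Submodule R₁ K.Cotangent) := Submodule.mem_top
    rw [htop, Submodule.mem_bot] at ha hb
    rw [ha, hb]
  have hidem : IsIdempotentElem K := (Ideal.cotangent_subsingleton_iff K).mp inferInstance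
  have hKm : K ≤ mm := by
    have hcm : mm.comap alg = P' := IsLocalization.AtPrime.under_maximalIdeal R₁ P'
    rw [hK, Ideal.map_le_iff_le_comap, hcm]
    exact hIP
  have hKbot : K = ⊥ := by
    refine Submodule.eq_bot_of_le_smul_of_le_jacobson_bot K K (IsNoetherian.noetherian K) ?_
      (hKm.trans (IsLocalRing.maximalIdeal_le_jacobson ⊥))
    rw [smul_eq_mul, hidem.eq]
  obtain ⟨Δ, hΔI, hΔ0⟩ := nonzero_minor k n m r hr
  have hΔJ : alg Δ ∈ K := by
    rw [hK]
    exact Ideal.mem_map_of_mem _ hΔI
  rw [hKbot, Ideal.mem_bot] at hΔJ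
  have hinj : Function.Injective alg :=
    IsLocalization.injective R₁ P'.primeCompl_le_nonZeroDivisors
  exact hΔ0 (hinj (by rw [hΔJ, map_zero]))

end Conormal

end Groth.Agent.Lib.Helper99.DetSm
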