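import Mathlib

/-!
# Characteristic polynomials: localisation and short exact sequences
-/

namespace Groth.Agent.Lib.Helper99.FFR

open Module Polynomial

universe u

section loc

variable {A : Type u} [CommRing A] (S : Submonoid A) {M : Type u} [AddCommGroup M] [Module A M]

instance free_localizedModule [Module.Free A M] :
    Module.Free (Localization S) (LocalizedModule S M) :=
  Module.free_of_isLocalizedModule S (LocalizedModule.mkLinearMap S M)

/-- The characteristic polynomial commutes with localisation. -/
theorem charpoly_localizedModule_map [Module.Free A M] [Module.Finite A M] (φ : M →ₗ[A] M) :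
    (LocalizedModule.map S φ).charpoly = φ.charpoly.map (algebraMap A (Localization S)) := by
  classical
  let b := Module.Free.chooseBasis A M
  let b' := b.ofIsLocalizedModule (Localization S) S (LocalizedModule.mkLinearMap S M)
  rw [← LinearMap.charpoly_toMatrix φ b, ← LinearMap.charpoly_toMatrix (LocalizedModule.map S φ) b',
    ← Matrix.charpoly_map]
  congr 1
  ext i j
  rw [LinearMap.toMatrix_apply, Matrix.map_apply, LinearMap.toMatrix_apply,
    Module.Basis.ofIsLocalizedModule_apply, LocalizedModule.mkLinearMap_apply,
    LocalizedModule.map_mk, ← LocalizedModule.mkLinearMap_apply,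
    Module.Basis.ofIsLocalizedModule_repr_apply]

end loc

section exact

variable {B : Type u} [CommRing B] {K N M : Type u} [AddCommGroup K] [Module B K]
  [AddCommGroup N] [Module B N] [AddCommGroup M] [Module B M]
  [Module.Free B K] [Module.Finite B K] [Module.Free B N] [Module.Finite B N]
  [Module.Free B M] [Module.Finite B M]

/-- Multiplicativity of the characteristic polynomial in short exact sequences of finite free
modules. -/
theorem charpoly_of_exact (ι : K →ₗ[B] N) (π : N →ₗ[B] M) (hι : Function.Injective ι)
    (hπ : Function.Surjective π) (hex : Function.Exact ι π)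
    (φK : K →ₗ[B] K) (ψ : N →ₗ[B] N) (φ : M →ₗ[B] M)
    (h1 : ψ ∘ₗ ι = ι ∘ₗ φK) (h2 : π ∘ₗ ψ = φ ∘ₗ π) :
    ψ.charpoly = φK.charpoly * φ.charpoly := by
  classical
  obtain ⟨s, hs⟩ := Module.projective_lifting_property π LinearMap.id hπ
  have hs' : ∀ m, π (s m) = m := fun m => LinearMap.congr_fun hs m
  have hπι : ∀ k, π (ι k) = 0 := fun k => hex.apply_apply_eq_zero k
  let c : K × M →ₗ[B] N := ι.coprod s
  have hc : ∀ k m, c (k, m) = ι k + s m := fun k m => by simp [c]
  have hcb : Function.Bijective c := by
    constructor
    · rw [injective_iff_map_eq_zero]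
      rintro ⟨k, m⟩ hkm
      rw [hc] at hkm
      have hm : m = 0 := by
        have := congrArg π hkm
        rwa [map_add, hπι, hs', zero_add, map_zero] at this
      subst hm
      rw [map_zero, add_zero] at hkm
      have hk : k = 0 := hι (by rw [hkm, map_zero])
      rw [hk]; rfl
    · intro x
      have hx : x - s (π x) ∈ LinearMap.ker π := by
        rw [LinearMap.mem_ker, map_sub, hs', sub_self]
      obtain ⟨k, hk⟩ := (hex (x - s (π x))).1 hx
      exact ⟨(k, π x), by rw [hc, hk]; abel⟩
  let e : (K × M) ≃ₗ[B] N := LinearEquiv.ofBijective c hcb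
  have he : ∀ k m, e (k, m) = ι k + s m := hc
  have hsymm2 : ∀ x, (e.symm x).2 = π x := by
    intro x
    obtain ⟨⟨k, m⟩, rfl⟩ := e.surjective x
    rw [e.symm_apply_apply, he, map_add, hπι, hs', zero_add]
  have hsymm1 : ∀ k, e.symm (ι k) = (k, 0) := by
    intro k
    rw [e.symm_apply_eq, he, map_zero, add_zero]
  let bK := Module.Free.chooseBasis B K
  let bM := Module.Free.chooseBasis B M
  let bN := (bK.prod bM).map e
  have hrepr : ∀ x, bN.repr x = (bK.prod bM).repr (e.symm x) := fun x => rfl
  rw [← LinearMap.charpoly_toMatrix ψ bN, ← LinearMap.charpoly_toMatrix φK bK,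
    ← LinearMap.charpoly_toMatrix φ bM]
  rw [← Matrix.fromBlocks_toBlocks (LinearMap.toMatrix bN bN ψ)]
  have h21 : (LinearMap.toMatrix bN bN ψ).toBlocks₂₁ = 0 := by
    ext l i
    rw [Matrix.toBlocks₂₁, Matrix.of_apply, LinearMap.toMatrix_apply, hrepr,
      Module.Basis.prod_repr_inr, hsymm2]
    have hb : bN (Sum.inl i) = ι (bK i) := by
      simp only [bN, Module.Basis.map_apply, Module.Basis.prod_apply_inl_fst,
        Module.Basis.prod_apply]
      simp [he]
    have : π (ψ (ι (bK i))) = 0 := by
      have := LinearMap.congr_fun h2 (ι (bK i))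
      simp only [LinearMap.coe_comp, Function.comp_apply] at this
      rw [this, hπι, map_zero]
    rw [hb, this]
    simp
  have h11 : (LinearMap.toMatrix bN bN ψ).toBlocks₁₁ = LinearMap.toMatrix bK bK φK := by
    ext l i
    rw [Matrix.toBlocks₁₁, Matrix.of_apply, LinearMap.toMatrix_apply, hrepr,
      Module.Basis.prod_repr_inl, LinearMap.toMatrix_apply]
    have hb : bN (Sum.inl i) = ι (bK i) := by
      simp only [bN, Module.Basis.map_apply, Module.Basis.prod_apply]
      simp [he]
    have : ψ (ι (bK i)) = ι (φK (bK i)) := LinearMap.congr_fun h1 (bK i)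
    rw [hb, this, hsymm1]
  have h22 : (LinearMap.toMatrix bN bN ψ).toBlocks₂₂ = LinearMap.toMatrix bM bM φ := by
    ext l j
    rw [Matrix.toBlocks₂₂, Matrix.of_apply, LinearMap.toMatrix_apply, hrepr,
      Module.Basis.prod_repr_inr, hsymm2, LinearMap.toMatrix_apply]
    have hb : bN (Sum.inr j) = s (bM j) := by
      simp only [bN, Module.Basis.map_apply, Module.Basis.prod_apply]
      simp [he]
    have : π (ψ (s (bM j))) = φ (bM j) := by
      have := LinearMap.congr_fun h2 (s (bM j))
      simp only [LinearMap.coe_comp, Function.comp_apply] at this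
      rw [this, hs']
    rw [hb, this]
  rw [h21, h11, h22, Matrix.charpoly_fromBlocks_zero₂₁]

end exact

end Groth.Agent.Lib.Helper99.FFR
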