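import Groth.Agent.Lib.Helper99.FFRA
import Groth.Agent.Lib.Helper99.BEH
import Groth.Prelude.Def_W4c1famcyclesFFR

/-!
# Modules with a finite free resolution: freeness at the associated primes
-/

namespace Groth.Agent.Lib.Helper99.FFR

open Module Polynomial
open Groth.Agent.Lib.Helper99.BE

universe u

section loc

variable {A : Type u} [CommRing A] (S : Submonoid A)
  {M N P : Type u} [AddCommGroup M] [Module A M] [AddCommGroup N] [Module A N]
  [AddCommGroup P] [Module A P]

theorem map_comp (g : M →ₗ[A] N) (h : N →ₗ[A] P) :
    LocalizedModule.map S (h ∘ₗ g) = LocalizedModule.map S h ∘ₗ LocalizedModule.map S g := by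
  ext x
  induction x using LocalizedModule.induction_on with
  | h m s => simp [LocalizedModule.map_mk]

theorem exact_loc (f : N →ₗ[A] M) :
    Function.Exact (LocalizedModule.map S (LinearMap.ker f).subtype) (LocalizedModule.map S f) :=
  LocalizedModule.map_exact S _ _ (LinearMap.exact_subtype_ker_map f)

theorem inj_loc (f : N →ₗ[A] M) :
    Function.Injective (LocalizedModule.map S (LinearMap.ker f).subtype) :=
  LocalizedModule.map_injective S _ (Submodule.injective_subtype _)

end loc

theorem finite_of_res {A : Type u} [CommRing A] : ∀ (n : ℕ) (M : Type u) [AddCommGroup M]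
    [Module A M], FamCyc.HasFiniteFreeResolutionLE A n M → Module.Finite A M := by
  intro n
  cases n with
  | zero =>
    intro M _ _ h
    rw [FamCyc.HasFiniteFreeResolutionLE] at h
    exact h.2
  | succ n =>
    intro M _ _ h
    rw [FamCyc.HasFiniteFreeResolutionLE] at h
    obtain ⟨k, f, hf, -⟩ := h
    exact Module.Finite.of_surjective f hf

/-- A module with a finite free resolution is free at every associated prime of the ring. -/
theorem free_of_isAssociatedPrime {A : Type u} [CommRing A] [IsNoetherianRing A] (p : Ideal A)
    [p.IsPrime] (hp : IsAssociatedPrime p A) : ∀ (n : ℕ) (M : Type u) [AddCommGroup M]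
    [Module A M], FamCyc.HasFiniteFreeResolutionLE A n M →
      Module.Free (Localization.AtPrime p) (LocalizedModule p.primeCompl M) := by
  intro n
  induction n with
  | zero =>
    intro M _ _ h
    rw [FamCyc.HasFiniteFreeResolutionLE] at h
    haveI := h.1
    exact free_localizedModule p.primeCompl
  | succ n ih =>
    intro M _ _ h
    haveI hfinM := finite_of_res (n + 1) M h
    rw [FamCyc.HasFiniteFreeResolutionLE] at h
    obtain ⟨k, f, hf, hK⟩ := h
    haveI hKfree := ih (LinearMap.ker f) hK
    haveI hKfin : Module.Finite A (LinearMap.ker f) := finite_of_res n _ hK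
    have hS := depthZero_of_isAssociatedPrime p hp
    obtain ⟨l, hl⟩ := split_of_depthZero hS
      (N := LocalizedModule p.primeCompl (LinearMap.ker f))
      (F := LocalizedModule p.primeCompl (Fin k → A))
      (LocalizedModule.map p.primeCompl (LinearMap.ker f).subtype) (inj_loc p.primeCompl f)
    have htfae := Function.Exact.split_tfae (R := Localization p.primeCompl)
      (M := LocalizedModule p.primeCompl (LinearMap.ker f))
      (N := LocalizedModule p.primeCompl (Fin k → A)) (P := LocalizedModule p.primeCompl M)
      (f := LocalizedModule.map p.primeCompl (LinearMap.ker f).subtype)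
      (g := LocalizedModule.map p.primeCompl f) (exact_loc p.primeCompl f)
      (inj_loc p.primeCompl f) (LocalizedModule.map_surjective p.primeCompl f hf)
    have h10 : (∃ l, l ∘ₗ LocalizedModule.map p.primeCompl (LinearMap.ker f).subtype =
        LinearMap.id) → ∃ σ, LocalizedModule.map p.primeCompl f ∘ₗ σ = LinearMap.id :=
      (htfae.out 1 0).1
    obtain ⟨σ, hσ⟩ := h10 ⟨l, hl⟩
    haveI : Module.Projective (Localization.AtPrime p) (LocalizedModule p.primeCompl M) :=
      Module.Projective.of_split σ (LocalizedModule.map p.primeCompl f) hσ
    exact Module.free_of_flat_of_isLocalRing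

end Groth.Agent.Lib.Helper99.FFR
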