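import Groth.Agent.Lib.Helper99.FFRB

/-!
# The determinant of an endomorphism of a module with a finite free resolution
-/

namespace Groth.Agent.Lib.Helper99.FFR

open Module Polynomial
open Groth.Agent.Lib.Helper99.BE

universe u

/-- For an endomorphism `φ` of a module with a finite free resolution there are monic
polynomials `P, Q` with `P = Q · charpoly(φ_p)` at every prime `p` where `M_p` is free. -/
theorem exists_polys {A : Type u} [CommRing A] : ∀ (n : ℕ) (M : Type u) [AddCommGroup M]
    [Module A M], FamCyc.HasFiniteFreeResolutionLE A n M → ∀ φ : M →ₗ[A] M,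
    ∃ P Q : A[X], P.Monic ∧ Q.Monic ∧ ∀ (p : Ideal A) [p.IsPrime]
      [Module.Free (Localization.AtPrime p) (LocalizedModule p.primeCompl M)]
      [Module.Finite (Localization.AtPrime p) (LocalizedModule p.primeCompl M)],
      P.map (algebraMap A (Localization.AtPrime p)) =
        Q.map (algebraMap A (Localization.AtPrime p)) *
          (LocalizedModule.map p.primeCompl φ).charpoly := by
  intro n
  induction n with
  | zero =>
    intro M _ _ h φ
    rw [FamCyc.HasFiniteFreeResolutionLE] at h
    haveI := h.1
    haveI := h.2
    refine ⟨φ.charpoly, 1, LinearMap.charpoly_monic φ, monic_one, ?_⟩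
    intro p _ _ _
    rw [Polynomial.map_one, one_mul]
    exact (charpoly_localizedModule_map p.primeCompl φ).symm
  | succ n ih =>
    intro M _ _ h φ
    haveI hfinM := finite_of_res (n + 1) M h
    rw [FamCyc.HasFiniteFreeResolutionLE] at h
    obtain ⟨k, f, hf, hK⟩ := h
    haveI hKfin : Module.Finite A (LinearMap.ker f) := finite_of_res n _ hK
    obtain ⟨ψ, hψ⟩ := Module.projective_lifting_property f (φ ∘ₗ f) hf
    have hψK : ∀ x ∈ LinearMap.ker f, ψ x ∈ LinearMap.ker f := by
      intro x hx
      rw [LinearMap.mem_ker] at hx ⊢
      have := LinearMap.congr_fun hψ x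
      simp only [LinearMap.coe_comp, Function.comp_apply] at this
      rw [this, hx, map_zero]
    obtain ⟨PK, QK, hPK, hQK, hprop⟩ := ih (LinearMap.ker f) hK (ψ.restrict hψK)
    refine ⟨ψ.charpoly * QK, PK, (LinearMap.charpoly_monic ψ).mul hQK, hPK, ?_⟩
    intro p _ hfree hfin
    -- the localised exact sequence
    have hex := exact_loc p.primeCompl f
    have hinj := inj_loc p.primeCompl f
    have hsurj := LocalizedModule.map_surjective p.primeCompl f hf
    have htfae := Function.Exact.split_tfae (R := Localization p.primeCompl)
      (M := LocalizedModule p.primeCompl (LinearMap.ker f))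
      (N := LocalizedModule p.primeCompl (Fin k → A)) (P := LocalizedModule p.primeCompl M)
      (f := LocalizedModule.map p.primeCompl (LinearMap.ker f).subtype)
      (g := LocalizedModule.map p.primeCompl f) hex hinj hsurj
    have h01 : (∃ σ, LocalizedModule.map p.primeCompl f ∘ₗ σ = LinearMap.id) →
        ∃ l, l ∘ₗ LocalizedModule.map p.primeCompl (LinearMap.ker f).subtype = LinearMap.id :=
      (htfae.out 0 1).1
    obtain ⟨l, hl⟩ := h01
      (Module.projective_lifting_property (LocalizedModule.map p.primeCompl f) LinearMap.id hsurj)
    haveI : Module.Projective (Localization.AtPrime p)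
        (LocalizedModule p.primeCompl (LinearMap.ker f)) :=
      Module.Projective.of_split (LocalizedModule.map p.primeCompl (LinearMap.ker f).subtype) l hl
    haveI : Module.Free (Localization.AtPrime p)
        (LocalizedModule p.primeCompl (LinearMap.ker f)) :=
      Module.free_of_flat_of_isLocalRing (R := Localization.AtPrime p)
        (P := LocalizedModule p.primeCompl (LinearMap.ker f))
    have hK' := hprop p
    have h1 : LocalizedModule.map p.primeCompl ψ ∘ₗ
        LocalizedModule.map p.primeCompl (LinearMap.ker f).subtype =
        LocalizedModule.map p.primeCompl (LinearMap.ker f).subtype ∘ₗ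
          LocalizedModule.map p.primeCompl (ψ.restrict hψK) := by
      rw [← map_comp, ← map_comp]
      rfl
    have h2 : LocalizedModule.map p.primeCompl f ∘ₗ LocalizedModule.map p.primeCompl ψ =
        LocalizedModule.map p.primeCompl φ ∘ₗ LocalizedModule.map p.primeCompl f := by
      rw [← map_comp, ← map_comp, hψ]
    have hmult := charpoly_of_exact (B := Localization p.primeCompl)
      (K := LocalizedModule p.primeCompl (LinearMap.ker f))
      (N := LocalizedModule p.primeCompl (Fin k → A)) (M := LocalizedModule p.primeCompl M)
      (LocalizedModule.map p.primeCompl (LinearMap.ker f).subtype)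
      (LocalizedModule.map p.primeCompl f) hinj hsurj hex
      (LocalizedModule.map p.primeCompl (ψ.restrict hψK))
      (LocalizedModule.map p.primeCompl ψ) (LocalizedModule.map p.primeCompl φ) h1 h2
    rw [Polynomial.map_mul, ← charpoly_localizedModule_map p.primeCompl ψ, hmult, hK']
    ring

/-- The determinant of an endomorphism of a module with a finite free resolution. -/
theorem exists_unique_det (A : Type u) [CommRing A] [IsNoetherianRing A]
    (M : Type u) [AddCommGroup M] [Module A M] (n : ℕ)
    (hM : FamCyc.HasFiniteFreeResolutionLE A n M) (φ : M →ₗ[A] M) :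
    ∃! a : A, ∀ (p : Ideal A) [p.IsPrime],
      Module.Free (Localization.AtPrime p) (LocalizedModule p.primeCompl M) →
        algebraMap A (Localization.AtPrime p) a =
          LinearMap.det (LocalizedModule.map p.primeCompl φ) := by
  haveI hfinM := finite_of_res n M hM
  obtain ⟨P, Q, hP, hQ, hprop⟩ := exists_polys n M hM φ
  refine ⟨(-1) ^ (P.natDegree - Q.natDegree) * (P /ₘ Q).coeff 0, ?_, ?_⟩
  · intro p _ hfree
    haveI := hfree
    have h := hprop p
    set c := (LocalizedModule.map p.primeCompl φ).charpoly with hc
    have hcm : c.Monic := LinearMap.charpoly_monic _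
    have hQm : (Q.map (algebraMap A (Localization.AtPrime p))).Monic := hQ.map _
    have hC : (P /ₘ Q).map (algebraMap A (Localization.AtPrime p)) = c := by
      rw [Polynomial.map_divByMonic _ hQ, h, Polynomial.mul_divByMonic_cancel_left _ hQm]
    have hdeg : P.natDegree = Q.natDegree + c.natDegree := by
      rw [← hP.natDegree_map (algebraMap A (Localization.AtPrime p)), h, hQm.natDegree_mul hcm,
        hQ.natDegree_map]
    have hr : P.natDegree - Q.natDegree =
        Module.finrank (Localization.AtPrime p) (LocalizedModule p.primeCompl M) := by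
      rw [hdeg, Nat.add_sub_cancel_left, hc, LinearMap.charpoly_natDegree]
    rw [LinearMap.det_eq_sign_charpoly_coeff, ← hc, ← hC, Polynomial.coeff_map, map_mul, map_pow,
      map_neg, map_one, hr]
  · intro a' ha'
    by_contra hne
    have hx : a' - (-1) ^ (P.natDegree - Q.natDegree) * (P /ₘ Q).coeff 0 ≠ 0 := sub_ne_zero.2 hne
    obtain ⟨p, hp, hle⟩ := exists_le_isAssociatedPrime_of_isNoetherianRing A _ hx
    haveI := hp.isPrime
    have hfree := free_of_isAssociatedPrime p hp n M hM
    haveI := hfree
    -- the first part applied to `p`
    have h := hprop p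
    set c := (LocalizedModule.map p.primeCompl φ).charpoly with hc
    have hcm : c.Monic := LinearMap.charpoly_monic _
    have hQm : (Q.map (algebraMap A (Localization.AtPrime p))).Monic := hQ.map _
    have hC : (P /ₘ Q).map (algebraMap A (Localization.AtPrime p)) = c := by
      rw [Polynomial.map_divByMonic _ hQ, h, Polynomial.mul_divByMonic_cancel_left _ hQm]
    have hdeg : P.natDegree = Q.natDegree + c.natDegree := by
      rw [← hP.natDegree_map (algebraMap A (Localization.AtPrime p)), h, hQm.natDegree_mul hcm,
        hQ.natDegree_map]
    have hr : P.natDegree - Q.natDegree =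
        Module.finrank (Localization.AtPrime p) (LocalizedModule p.primeCompl M) := by
      rw [hdeg, Nat.add_sub_cancel_left, hc, LinearMap.charpoly_natDegree]
    have h1 : algebraMap A (Localization.AtPrime p)
        ((-1) ^ (P.natDegree - Q.natDegree) * (P /ₘ Q).coeff 0) =
        LinearMap.det (LocalizedModule.map p.primeCompl φ) := by
      rw [LinearMap.det_eq_sign_charpoly_coeff, ← hc, ← hC, Polynomial.coeff_map, map_mul,
        map_pow, map_neg, map_one, hr]
    have h2 := ha' p hfree
    have h0 : algebraMap A (Localization.AtPrime p)
        (a' - (-1) ^ (P.natDegree - Q.natDegree) * (P /ₘ Q).coeff 0) = 0 := by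
      rw [map_sub, h1, h2, sub_self]
    obtain ⟨t, ht⟩ := (IsLocalization.map_eq_zero_iff p.primeCompl _ _).1 h0
    have : (t : A) ∈ p := hle (by
      rw [Submodule.mem_colon_singleton, Submodule.mem_bot, smul_eq_mul]; exact ht)
    exact t.2 this

end Groth.Agent.Lib.Helper99.FFR
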