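import Mathlib

/-!
# Flat + locally f.p. ⇒ f.p. (Stacks 00RA-type), part A: elementary lemmas
-/

set_option autoImplicit false
universe u v

namespace Groth.Agent.Lib.Helper99.FlatFP

open TensorProduct

/-- If `R` embeds into the product of finitely many of its local rings, `N` is `R`-flat, and
`x : N` is killed, for each of these primes, by some element outside the prime, then `x = 0`. -/
theorem eq_zero_of_flat {R : Type u} [CommRing R] (s : Finset (PrimeSpectrum R))
    (hs : Function.Injective fun r : R => fun p : s =>
      algebraMap R (Localization.AtPrime p.1.asIdeal) r)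
    {N : Type v} [AddCommGroup N] [Module R N] [Module.Flat R N] (x : N)
    (hx : ∀ p ∈ s, ∃ t : R, t ∉ p.asIdeal ∧ t • x = 0) : x = 0 := by
  classical
  let Q := ∀ p : s, Localization.AtPrime p.1.asIdeal
  let ι : R →ₗ[R] Q := Algebra.linearMap R Q
  have hι : Function.Injective ι := by
    intro a b hab
    apply hs
    funext p
    exact congrFun hab p
  have hinj := Module.Flat.lTensor_preserves_injective_linearMap (M := N) ι hι
  have h1 : x ⊗ₜ[R] (1 : Q) = 0 := by
    have h1' : (1 : Q) = ∑ p : s, Pi.single p 1 := (Finset.univ_sum_single (1 : Q)).symm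
    rw [h1', TensorProduct.tmul_sum]
    refine Finset.sum_eq_zero fun p _ => ?_
    obtain ⟨t, ht, htx⟩ := hx p.1 p.2
    have ht' : t ∈ p.1.asIdeal.primeCompl := ht
    have h2 : (Pi.single p 1 : Q) =
        t • (Pi.single p (IsLocalization.mk' (Localization.AtPrime p.1.asIdeal) (1 : R)
          (⟨t, ht'⟩ : p.1.asIdeal.primeCompl)) : Q) := by
      rw [← Pi.single_smul]
      congr 1
      rw [Algebra.smul_def, IsLocalization.mk'_spec'_mk, map_one]
    rw [h2, TensorProduct.tmul_smul, TensorProduct.smul_tmul', htx, TensorProduct.zero_tmul]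
  have h3 : (ι.lTensor N) (x ⊗ₜ[R] (1 : R)) = (ι.lTensor N) 0 := by
    rw [LinearMap.lTensor_tmul, map_zero]
    show x ⊗ₜ[R] (algebraMap R Q 1) = 0
    rw [map_one]
    exact h1
  have h4 := hinj h3
  have h5 := congrArg (TensorProduct.rid R N) h4
  simpa using h5


section gens

variable {P : Type u} [CommRing P] {F : Type v} [AddCommGroup F] [Module P F]

/-- If the localization of a submodule `K` is finitely generated, then there is a finitely
generated `K' ≤ K` such that every element of `K` is multiplied into `K'` by an element of `T`.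
(Any model of the localization is allowed.) -/
theorem exists_fg_le_of_localized_fg (T : Submonoid P) (K : Submodule P F)
    {P' : Type*} [CommRing P'] [Algebra P P'] [IsLocalization T P']
    {F' : Type*} [AddCommGroup F'] [Module P F'] [Module P' F'] [IsScalarTower P P' F']
    {ι : F →ₗ[P] F'} [IsLocalizedModule T ι]
    (hK : (K.localized' P' T ι).FG) :
    ∃ K' : Submodule P F, K' ≤ K ∧ K'.FG ∧ ∀ k ∈ K, ∃ t ∈ T, t • k ∈ K' := by
  classical
  obtain ⟨G, hG⟩ := hK
  have hmem : ∀ x ∈ G, ∃ m ∈ K, ∃ t : T, IsLocalizedModule.mk' ι m t = x := by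
    intro x hx
    have : x ∈ K.localized' P' T ι := by
      rw [← hG]; exact Submodule.subset_span hx
    exact this
  choose! mf hmf tf htf using hmem
  refine ⟨Submodule.span P (mf '' (G : Set _)), ?_, ?_, ?_⟩
  · rw [Submodule.span_le]
    rintro _ ⟨x, hx, rfl⟩
    exact hmf x hx
  · exact Submodule.fg_span (Set.Finite.image _ G.finite_toSet)
  · intro k hk
    have hle : K.localized' P' T ι ≤
        (Submodule.span P (mf '' (G : Set _))).localized' P' T ι := by
      rw [← hG, Submodule.span_le]
      intro x hx
      exact ⟨mf x, Submodule.subset_span ⟨x, hx, rfl⟩, tf x, htf x hx⟩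
    have hk' : IsLocalizedModule.mk' ι k (1 : T) ∈ K.localized' P' T ι := ⟨k, hk, 1, rfl⟩
    obtain ⟨m, hm, t, hmt⟩ := hle hk'
    rw [IsLocalizedModule.mk'_eq_mk'_iff] at hmt
    obtain ⟨u, hu⟩ := hmt
    refine ⟨u * t, (u * t).2, ?_⟩
    have h : ((u : P) * (t : P)) • k = (u : P) • m := by
      have h := hu
      simp only [Submonoid.smul_def, one_smul] at h
      rw [mul_smul]
      exact h
    show ((u : P) * (t : P)) • k ∈ _
    rw [h]
    exact Submodule.smul_mem _ _ hm

end gens

section bij

variable {P : Type u} [CommRing P] {M' M : Type v} [AddCommGroup M'] [Module P M']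
  [AddCommGroup M] [Module P M]

/-- A surjection whose kernel is `T`-torsion becomes bijective after localizing at `T`. -/
theorem bijective_map_of_ker_torsion (T : Submonoid P) (φ : M' →ₗ[P] M)
    (hφ : Function.Surjective φ) (hker : ∀ x, φ x = 0 → ∃ t ∈ T, t • x = 0) :
    Function.Bijective (LocalizedModule.map T φ) := by
  constructor
  · rw [injective_iff_map_eq_zero]
    intro y
    induction y using LocalizedModule.induction_on with
    | h m t =>
      intro h
      rw [LocalizedModule.map_mk] at h
      rw [← LocalizedModule.zero_mk (1 : T), LocalizedModule.mk_eq] at h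
      obtain ⟨u, hu⟩ := h
      simp only [one_smul, smul_zero] at hu
      have h0 : φ ((u : P) • m) = 0 := by
        rw [map_smul]; exact hu
      obtain ⟨t', ht', ht0⟩ := hker _ h0
      rw [← LocalizedModule.zero_mk (1 : T), LocalizedModule.mk_eq]
      refine ⟨⟨t', ht'⟩ * u, ?_⟩
      simp only [one_smul, smul_zero]
      rw [Submonoid.smul_def, Submonoid.coe_mul, mul_smul]
      exact ht0
  · exact IsLocalizedModule.map_surjective T _ _ φ hφ

end bij

end Groth.Agent.Lib.Helper99.FlatFP
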