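import Groth.Agent.Lib.Helper99.FlatFPB

/-!
# Flat + locally f.p. ⇒ f.p., part C: the algebra version
-/

set_option autoImplicit false
universe u

namespace Groth.Agent.Lib.Helper99.FlatFP

open MvPolynomial

section

variable {R S : Type u} [CommRing R] [CommRing S] [Algebra R S]

attribute [local instance] MvPolynomial.algebraMvPolynomial

/-- If `S_p` is a finitely presented `R_p`-algebra then the kernel of a presentation of `S` is
"finitely generated up to `R ∖ p`". -/
theorem exists_fg_le_ker_algebra (n : ℕ) (π : MvPolynomial (Fin n) R →ₐ[R] S)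
    (hπ : Function.Surjective π) (p : Ideal R) [p.IsPrime]
    (hloc : Algebra.FinitePresentation (Localization.AtPrime p)
      (Localization (Algebra.algebraMapSubmonoid S p.primeCompl))) :
    ∃ J' : Ideal (MvPolynomial (Fin n) R), J' ≤ RingHom.ker π.toRingHom ∧
      J'.FG ∧ ∀ j ∈ RingHom.ker π.toRingHom,
        ∃ c : R, c ∉ p ∧ C c * j ∈ J' := by
  set Rp := Localization.AtPrime p with hRp
  set TS := Algebra.algebraMapSubmonoid S p.primeCompl with hTS
  set Sp := Localization TS with hSp
  set T : Submonoid (MvPolynomial (Fin n) R) := p.primeCompl.map (C (σ := Fin n)) with hTdef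
  have hC : ∀ r : R, π.toRingHom (C r) = algebraMap R S r := fun r => by
    show π (C r) = algebraMap R S r
    rw [← MvPolynomial.algebraMap_eq, π.commutes]
  have hT : Submonoid.map π.toRingHom T = TS := by
    ext x
    simp only [Submonoid.mem_map, hTdef, hTS, Algebra.algebraMapSubmonoid]
    constructor
    · rintro ⟨_, ⟨r, hr, rfl⟩, rfl⟩
      exact ⟨r, hr, (hC r).symm⟩
    · rintro ⟨r, hr, rfl⟩
      exact ⟨C r, ⟨r, hr, rfl⟩, hC r⟩
  haveI : IsLocalization (T.map π.toRingHom) Sp := by
    rw [hT]; infer_instance
  let πp : MvPolynomial (Fin n) Rp →+* Sp :=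
    IsLocalization.map Sp π.toRingHom T.le_comap_map
  have hπp : Function.Surjective πp :=
    IsLocalization.map_surjective_of_surjective T (MvPolynomial (Fin n) Rp) Sp hπ
  have hcomm : ∀ a : Rp, πp (algebraMap Rp (MvPolynomial (Fin n) Rp) a) = algebraMap Rp Sp a := by
    have : (πp.comp (algebraMap Rp (MvPolynomial (Fin n) Rp))) = algebraMap Rp Sp := by
      apply IsLocalization.ringHom_ext p.primeCompl
      ext r
      simp only [RingHom.comp_apply]
      rw [MvPolynomial.algebraMap_eq]
      have h1 : (C (algebraMap R Rp r) : MvPolynomial (Fin n) Rp) =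
          algebraMap (MvPolynomial (Fin n) R) (MvPolynomial (Fin n) Rp) (C r) := by
        rw [MvPolynomial.algebraMap_def, MvPolynomial.map_C]
      rw [h1, IsLocalization.map_eq]
      rw [hC, ← IsScalarTower.algebraMap_apply, ← IsScalarTower.algebraMap_apply]
    intro a
    exact congrArg (fun f => f a) this
  let πa : MvPolynomial (Fin n) Rp →ₐ[Rp] Sp := { πp with commutes' := hcomm }
  have hker := Algebra.FinitePresentation.ker_fG_of_surjective πa hπp
  have hkerπp : RingHom.ker πp =
      (RingHom.ker π.toRingHom).map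
        (algebraMap (MvPolynomial (Fin n) R) (MvPolynomial (Fin n) Rp)) := by
    have := IsLocalization.ker_map (S := MvPolynomial (Fin n) Rp) Sp
      π.toRingHom (M := T) (T := T.map π.toRingHom) rfl
    exact this
  have hK : ((RingHom.ker π.toRingHom).localized'
      (MvPolynomial (Fin n) Rp) T
      (Algebra.linearMap (MvPolynomial (Fin n) R) (MvPolynomial (Fin n) Rp))).FG := by
    rw [Ideal.localized'_eq_map, ← hkerπp]
    exact hker
  obtain ⟨J', hle, hfg, hJ'⟩ := exists_fg_le_of_localized_fg T
    (RingHom.ker π.toRingHom) hK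
  refine ⟨J', hle, hfg, fun j hj => ?_⟩
  obtain ⟨t, ht, htj⟩ := hJ' j hj
  obtain ⟨c, hc, rfl⟩ := ht
  exact ⟨c, hc, htj⟩

end

section alg

variable {R S : Type u} [CommRing R] [CommRing S] [Algebra R S] [Algebra.FiniteType R S]
  [Module.Flat R S]

/-- Algebra version (Stacks 00RA-type): a flat finite type `R`-algebra all of whose
localizations at primes of `R` are finitely presented is finitely presented, provided `R`
embeds into a finite product of its local rings. -/
theorem finitePresentation_algebra_of_flat (s : Finset (PrimeSpectrum R))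
    (hs : Function.Injective fun r : R => fun p : s =>
      algebraMap R (Localization.AtPrime p.1.asIdeal) r)
    (hloc : ∀ (p : Ideal R) [p.IsPrime],
      Algebra.FinitePresentation (Localization.AtPrime p)
        (Localization (Algebra.algebraMapSubmonoid S p.primeCompl))) :
    Algebra.FinitePresentation R S := by
  obtain ⟨n, π, hπ⟩ := Algebra.FiniteType.iff_quotient_mvPolynomial''.1
    (inferInstance : Algebra.FiniteType R S)
  letI : Algebra (MvPolynomial (Fin n) R) S := π.toRingHom.toAlgebra
  haveI : IsScalarTower R (MvPolynomial (Fin n) R) S :=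
    IsScalarTower.of_algebraMap_eq fun x => (π.commutes x).symm
  have hf : Function.Surjective (Algebra.linearMap (MvPolynomial (Fin n) R) S) := hπ
  have hmem : ∀ k : MvPolynomial (Fin n) R,
      k ∈ LinearMap.ker (Algebra.linearMap (MvPolynomial (Fin n) R) S) ↔
        k ∈ RingHom.ker π.toRingHom := fun k => by
    rw [LinearMap.mem_ker, RingHom.mem_ker]; rfl
  have hB : ∀ p' : PrimeSpectrum R, ∃ K' : Submodule (MvPolynomial (Fin n) R)
      (MvPolynomial (Fin n) R),
      K' ≤ LinearMap.ker (Algebra.linearMap (MvPolynomial (Fin n) R) S) ∧ K'.FG ∧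
      ∀ k ∈ LinearMap.ker (Algebra.linearMap (MvPolynomial (Fin n) R) S),
        ∃ c : R, c ∉ p'.asIdeal ∧ algebraMap R (MvPolynomial (Fin n) R) c • k ∈ K' := by
    intro p'
    obtain ⟨J', hle, hfg, hJ'⟩ := exists_fg_le_ker_algebra n π hπ p'.asIdeal (hloc p'.asIdeal)
    refine ⟨J', fun k hk => (hmem k).2 (hle hk), hfg, fun k hk => ?_⟩
    obtain ⟨c, hc, hck⟩ := hJ' k ((hmem k).1 hk)
    exact ⟨c, hc, by rw [MvPolynomial.algebraMap_eq, smul_eq_mul]; exact hck⟩
  haveI : Module.FinitePresentation (MvPolynomial (Fin n) R) S :=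
    finitePresentation_of_flat_aux (R := R) (P := MvPolynomial (Fin n) R) (M := S) s hs
      (Algebra.linearMap (MvPolynomial (Fin n) R) S) hf hB
  have hker := Module.FinitePresentation.fg_ker
    (Algebra.linearMap (MvPolynomial (Fin n) R) S) hf
  refine ⟨n, π, hπ, ?_⟩
  have : RingHom.ker π.toRingHom =
      LinearMap.ker (Algebra.linearMap (MvPolynomial (Fin n) R) S) := by
    ext k; exact (hmem k).symm
  rw [this]
  exact hker

end alg

end Groth.Agent.Lib.Helper99.FlatFP
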