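import Mathlib

/-!
# Flat base change of `torsionBySet` by a finitely generated ideal (helper99)

For a flat `R`-algebra `S`, an `R`-module `N` and a finitely generated ideal `J` of `R`:
`S ⊗[R] N[J] ≃ₗ[S] (S ⊗[R] N)[J S]`.
-/

set_option autoImplicit false
open TensorProduct

namespace Groth.Agent.Lib.Helper99.Frob

universe u

section

variable {R : Type u} [CommRing R] (S : Type u) [CommRing S] [Algebra R S]
variable (N : Type u) [AddCommGroup N] [Module R N]

/-- `m ↦ (a i • m)_i` -/
def mulPi {n : ℕ} (a : Fin n → R) : N →ₗ[R] (Fin n → N) :=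
  LinearMap.pi (fun i => LinearMap.lsmul R N (a i))

@[simp] lemma mulPi_apply {n : ℕ} (a : Fin n → R) (x : N) (i : Fin n) :
    mulPi N a x i = a i • x := rfl

lemma ker_mulPi {n : ℕ} (a : Fin n → R) :
    LinearMap.ker (mulPi N a) =
      Submodule.torsionBySet R N (Ideal.span (Set.range a) : Ideal R) := by
  rw [← Submodule.torsionBySet_eq_torsionBySet_span]
  ext x
  rw [LinearMap.mem_ker, Submodule.mem_torsionBySet_iff]
  constructor
  · rintro h ⟨_, i, rfl⟩
    exact congrFun h i
  · intro h
    funext i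
    exact h ⟨a i, i, rfl⟩

lemma piRight_lTensor_mulPi {n : ℕ} (a : Fin n → R) (t : S ⊗[R] N) (i : Fin n) :
    TensorProduct.piRight R S S (fun _ : Fin n => N)
      (AlgebraTensorModule.lTensor S S (mulPi N a) t) i = algebraMap R S (a i) • t := by
  induction t using TensorProduct.induction_on with
  | zero => simp
  | tmul s x =>
    rw [AlgebraTensorModule.lTensor_tmul, TensorProduct.piRight_apply,
      TensorProduct.piRightHom_tmul]
    show s ⊗ₜ[R] (a i • x) = _
    rw [TensorProduct.tmul_smul, algebraMap_smul]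
  | add x y hx hy =>
    rw [map_add, map_add, Pi.add_apply, hx, hy, smul_add]

lemma ker_lTensor_mulPi {n : ℕ} (a : Fin n → R) :
    LinearMap.ker (AlgebraTensorModule.lTensor S S (mulPi N a)) =
      Submodule.torsionBySet S (S ⊗[R] N)
        ((Ideal.span (Set.range a)).map (algebraMap R S) : Ideal S) := by
  rw [Ideal.map_span, ← Submodule.torsionBySet_eq_torsionBySet_span]
  ext t
  rw [LinearMap.mem_ker, Submodule.mem_torsionBySet_iff]
  constructor
  · rintro h ⟨_, _, ⟨i, rfl⟩, rfl⟩
    rw [← piRight_lTensor_mulPi, h, map_zero, Pi.zero_apply]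
  · intro h
    apply (TensorProduct.piRight R S S (fun _ : Fin n => N)).injective
    rw [map_zero]
    funext i
    rw [piRight_lTensor_mulPi, Pi.zero_apply]
    exact h ⟨algebraMap R S (a i), a i, ⟨i, rfl⟩, rfl⟩

variable [Module.Flat R S]

/-- flat base change of the `J`-torsion, for a finitely generated ideal `J` -/
theorem nonempty_tensor_torsion_equiv (J : Ideal R) (hJ : J.FG) :
    Nonempty (S ⊗[R] ↥(Submodule.torsionBySet R N (J : Set R)) ≃ₗ[S]
      ↥(Submodule.torsionBySet S (S ⊗[R] N) (J.map (algebraMap R S) : Ideal S))) := by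
  obtain ⟨n, a, ha⟩ := Submodule.fg_iff_exists_fin_generating_family.mp hJ
  have ha' : Ideal.span (Set.range a) = J := ha
  subst ha'
  have e1 := LinearMap.tensorKerEquiv S S (mulPi N a)
  rw [ker_lTensor_mulPi] at e1
  have h2 := ker_mulPi N a
  exact ⟨(TensorProduct.AlgebraTensorModule.congr (LinearEquiv.refl S S)
    (LinearEquiv.ofEq _ _ h2.symm)).trans e1⟩

end

end Groth.Agent.Lib.Helper99.Frob
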