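import Groth.Agent.Lib.Helper99.FrobA

/-!
# Flat base change of a module whose `J`-torsion is free over `R ⧸ J` (helper99)
-/

set_option autoImplicit false
open TensorProduct

namespace Groth.Agent.Lib.Helper99.Frob

universe u

/-- a linear equivalence restricts to the torsion submodules -/
noncomputable def torsionCongr {S : Type u} [CommRing S] {A B : Type u} [AddCommGroup A]
    [AddCommGroup B] [Module S A] [Module S B] (θ : A ≃ₗ[S] B) (s : Set S) :
    ↥(Submodule.torsionBySet S A s) ≃ₗ[S] ↥(Submodule.torsionBySet S B s) :=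
  LinearEquiv.ofSubmodules θ _ _ (by
    ext y
    rw [Submodule.mem_map, Submodule.mem_torsionBySet_iff]
    constructor
    · rintro ⟨x, hx, rfl⟩ a
      rw [← map_smul, (Submodule.mem_torsionBySet_iff _ _).mp hx a, map_zero]
    · intro h
      refine ⟨θ.symm y, ?_, θ.apply_symm_apply y⟩
      rw [Submodule.mem_torsionBySet_iff]
      intro a
      rw [← map_smul, h a, map_zero])

variable {R : Type u} [CommRing R] (S : Type u) [CommRing S] [Algebra R S] [Module.Flat R S]
variable (N : Type u) [AddCommGroup N] [Module R N]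

theorem nonempty_torsion_equiv_finsupp (J : Ideal R) (hJ : J.FG) (ι : Type u)
    (e : ↥(Submodule.torsionBySet R N (J : Set R)) ≃ₗ[R] (ι →₀ R ⧸ J))
    (N' : Type u) [AddCommGroup N'] [Module S N'] (θ : S ⊗[R] N ≃ₗ[S] N') :
    Nonempty (↥(Submodule.torsionBySet S N' (J.map (algebraMap R S) : Ideal S)) ≃ₗ[S]
      (ι →₀ S ⧸ J.map (algebraMap R S))) := by
  classical
  obtain ⟨e1⟩ := nonempty_tensor_torsion_equiv S N J hJ
  have e2 := torsionCongr θ (J.map (algebraMap R S) : Ideal S)
  have e3 : S ⊗[R] ↥(Submodule.torsionBySet R N (J : Set R)) ≃ₗ[S] S ⊗[R] (ι →₀ R ⧸ J) :=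
    TensorProduct.AlgebraTensorModule.congr (LinearEquiv.refl S S) e
  have e4 := TensorProduct.finsuppRight R S S (R ⧸ J) ι
  have e5 : S ⊗[R] (R ⧸ J) ≃ₗ[S] S ⧸ J.map (algebraMap R S) :=
    (Algebra.TensorProduct.quotIdealMapEquivTensorQuot S J).symm.toLinearEquiv
  exact ⟨(e2.symm.trans e1.symm).trans (e3.trans (e4.trans (Finsupp.mapRange.linearEquiv e5)))⟩

end Groth.Agent.Lib.Helper99.Frob
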