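import Groth.Agent.Lib.Helper99.FrobB
import Groth.Agent.Lib.Helper52.ExtScalRing

/-!
# The Frobenius step: `M[J]` free over `R ⧸ J` ⇒ `M[J^{[p]}]` free over `R ⧸ J^{[p]}` (helper99)
-/

set_option autoImplicit false
open TensorProduct CategoryTheory

namespace Groth.Agent.Lib.Helper99.Frob

universe u

theorem step_general {R S : Type u} [CommRing R] [CommRing S] (f : R →+* S) (hf : f.Flat)
    (N : Type u) [AddCommGroup N] [Module R N] (N' : Type u) [AddCommGroup N'] [Module S N']
    (h : Nonempty ((ModuleCat.extendScalars f).obj (ModuleCat.of R N) ≅ ModuleCat.of S N'))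
    (J : Ideal R) (hJ : J.FG) (ι : Type u)
    (e : ↥(Submodule.torsionBySet R N (J : Set R)) ≃ₗ[R] (ι →₀ R ⧸ J)) :
    Nonempty (↥(Submodule.torsionBySet S N' (J.map f : Ideal S)) ≃ₗ[S] (ι →₀ S ⧸ J.map f)) := by
  letI := f.toAlgebra
  haveI : Module.Flat R S := hf
  obtain ⟨iso⟩ := h
  have θ : S ⊗[R] N ≃ₗ[S] N' :=
    (Groth.Agent.Lib.Helper52.ExtScalRing.eM S (ModuleCat.of R N)).symm.trans iso.toLinearEquiv
  exact nonempty_torsion_equiv_finsupp S N J hJ ι e N' θ

/-- iterated Frobenius powers of an ideal -/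
noncomputable def frobPow {R : Type u} [CommRing R] (p : ℕ) [Fact p.Prime] [CharP R p]
    (J : Ideal R) : ℕ → Ideal R
  | 0 => J
  | (e + 1) => (frobPow p J e).map (frobenius R p)

theorem iterate {R : Type u} [CommRing R] [IsNoetherianRing R] (p : ℕ) [Fact p.Prime] [CharP R p]
    (hf : (frobenius R p).Flat)
    (M : Type u) [AddCommGroup M] [Module R M]
    (h : Nonempty ((ModuleCat.extendScalars (frobenius R p)).obj (ModuleCat.of R M) ≅
      ModuleCat.of R M))
    (J : Ideal R) (ι : Type u)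
    (e : ↥(Submodule.torsionBySet R M (J : Set R)) ≃ₗ[R] (ι →₀ R ⧸ J)) (n : ℕ) :
    Nonempty (↥(Submodule.torsionBySet R M (frobPow p J n : Ideal R)) ≃ₗ[R]
      (ι →₀ R ⧸ frobPow p J n)) := by
  induction n with
  | zero => exact ⟨e⟩
  | succ n ih =>
    obtain ⟨e'⟩ := ih
    exact step_general (frobenius R p) hf M M h (frobPow p J n) (IsNoetherian.noetherian _) ι e'

end Groth.Agent.Lib.Helper99.Frob
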