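import Groth.Agent.Lib.Helper99.FrobC
import Groth.Agent.Lib.Helper85.GorLCI
import Groth.Agent.Lib.Helper85.GorSocle
import Groth.Agent.Lib.Helper85.RegGor
import Groth.Agent.Lib.Helper76.RegularLocal
import Groth.Agent.Lib.Helper76.RegularLocalGlDim
import Groth.Agent.Lib.Helper67.Depth

/-!
# `R ⧸ 𝔪^{[q]}` is self-injective for a regular local ring `R` of characteristic `p` (helper99)
-/

set_option autoImplicit false
open IsLocalRing RingTheory.Sequence

namespace Groth.Agent.Lib.Helper99.Frob

universe u

section general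

variable {R : Type u} [CommRing R] (p : ℕ) [Fact p.Prime] [CharP R p]

/-- iterated Frobenius images of a list -/
noncomputable def frobList (rs : List R) : ℕ → List R
  | 0 => rs
  | (e + 1) => (frobList rs e).map (frobenius R p)

lemma ofList_frobList (rs : List R) (e : ℕ) :
    Ideal.ofList (frobList p rs e) = frobPow p (Ideal.ofList rs) e := by
  induction e with
  | zero => rfl
  | succ e ih =>
    show Ideal.ofList ((frobList p rs e).map (frobenius R p)) =
      (frobPow p (Ideal.ofList rs) e).map (frobenius R p)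
    rw [← Ideal.map_ofList, ih]

lemma isWeaklyRegular_map_of_flat {S : Type u} [CommRing S] (f : R →+* S) (hf : f.Flat)
    (rs : List R) (h : IsWeaklyRegular R rs) : IsWeaklyRegular S (rs.map f) := by
  letI := f.toAlgebra
  haveI : Module.Flat R S := hf
  exact IsWeaklyRegular.of_flat (S := S) h

lemma isWeaklyRegular_frobList (hf : (frobenius R p).Flat) (rs : List R)
    (h : IsWeaklyRegular R rs) (e : ℕ) : IsWeaklyRegular R (frobList p rs e) := by
  induction e with
  | zero => exact h
  | succ e ih => exact isWeaklyRegular_map_of_flat (frobenius R p) hf _ ih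

lemma frobList_mem (I : Ideal R) (rs : List R) (h : ∀ x ∈ rs, x ∈ I) (e : ℕ) :
    ∀ x ∈ frobList p rs e, x ∈ I := by
  induction e with
  | zero => exact h
  | succ e ih =>
    intro x hx
    obtain ⟨y, hy, rfl⟩ := List.mem_map.mp hx
    rw [frobenius_def]
    exact Ideal.pow_mem_of_mem _ (ih y hy) _ (Fact.out : p.Prime).pos

lemma frobPow_le (I : Ideal R) (e : ℕ) : frobPow p I e ≤ I ^ (p ^ e) := by
  induction e with
  | zero => simp [frobPow]
  | succ e ih =>
    show (frobPow p I e).map (frobenius R p) ≤ _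
    rw [Ideal.map_le_iff_le_comap]
    intro x hx
    rw [Ideal.mem_comap, frobenius_def, pow_succ, pow_mul]
    exact Ideal.pow_mem_pow (ih hx) p

lemma pow_mem_frobPow (I : Ideal R) (e : ℕ) (x : R) (hx : x ∈ I) :
    x ^ (p ^ e) ∈ frobPow p I e := by
  induction e with
  | zero => simpa [frobPow] using hx
  | succ e ih =>
    show _ ∈ (frobPow p I e).map (frobenius R p)
    rw [pow_succ, pow_mul, ← frobenius_def]
    exact Ideal.mem_map_of_mem _ ih

lemma frobPow_le_self (I : Ideal R) (e : ℕ) : frobPow p I e ≤ I :=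
  (frobPow_le p I e).trans (Ideal.pow_le_self (pow_pos (Fact.out : p.Prime).pos e).ne')

lemma exists_frobPow_le_pow (I : Ideal R) (n : ℕ) : ∃ e, frobPow p I e ≤ I ^ n :=
  ⟨n, (frobPow_le p I n).trans
    (Ideal.pow_le_pow_right (Nat.lt_pow_self (Fact.out : p.Prime).one_lt).le)⟩

end general

/-- in a Noetherian local ring whose maximal ideal consists of nilpotents, the maximal ideal
is an associated prime -/
lemma maximalIdeal_mem_associatedPrimes {A : Type u} [CommRing A] [IsLocalRing A]
    [IsNoetherianRing A] (h : ∀ x ∈ maximalIdeal A, IsNilpotent x) :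
    maximalIdeal A ∈ associatedPrimes A A := by
  obtain ⟨P, hP⟩ := associatedPrimes.nonempty A A
  have hPp : P.IsPrime := IsAssociatedPrime.isPrime hP
  have hle : maximalIdeal A ≤ P := fun x hx => by
    obtain ⟨n, hn⟩ := h x hx
    exact hPp.mem_of_pow_mem n (hn ▸ P.zero_mem)
  have : P = maximalIdeal A := ((maximalIdeal.isMaximal A).eq_of_le hPp.ne_top hle).symm
  rwa [this] at hP

variable (p : ℕ) [Fact p.Prime] (R : Type u) [CommRing R] [IsRegularLocalRing R] [CharP R p]

theorem injective_quot_frobPow (hf : (frobenius R p).Flat) (e : ℕ)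
    [IsLocalRing (R ⧸ frobPow p (maximalIdeal R) e)] :
    Module.Injective (R ⧸ frobPow p (maximalIdeal R) e) (R ⧸ frobPow p (maximalIdeal R) e) := by
  set d := (maximalIdeal R).spanFinrank with hd'
  have hd : ringKrullDim R = d := (IsRegularLocalRing.spanFinrank_maximalIdeal (R := R)).symm
  obtain ⟨x, hx⟩ := Groth.Agent.Lib.Helper76.exists_fin_span_range_eq_maximalIdeal R d hd
  have hreg := Groth.Agent.Lib.Helper76.isRegular_of_span_range_eq_maximalIdeal R d hd x hx
  have hof : Ideal.ofList (List.ofFn x) = maximalIdeal R := by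
    rw [← hx]
    unfold Ideal.ofList
    congr 1
    ext r
    simp [List.mem_ofFn]
  have hmem : ∀ y ∈ List.ofFn x, y ∈ maximalIdeal R := fun y hy => by
    rw [← hof]
    exact Ideal.subset_span hy
  haveI := Groth.Agent.Lib.Helper85.FLCrit.isGorensteinLocalRing_of_regular R
  have hJ : frobPow p (maximalIdeal R) e = Ideal.ofList (frobList p (List.ofFn x) e) := by
    rw [ofList_frobList, hof]
  have hgor : LocCoh.IsGorensteinLocalRing (R ⧸ frobPow p (maximalIdeal R) e) :=
    Groth.Agent.Lib.Helper85.GorLCI.gor_of_regularSeq_aux _ R _ (frobList p (List.ofFn x) e) rfl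
      (isWeaklyRegular_frobList p hf _ hreg.toIsWeaklyRegular e)
      (frobList_mem p _ _ hmem e) (Ideal.Quotient.mk _) Ideal.Quotient.mk_surjective
      (by rw [Ideal.mk_ker, hJ])
  have hdepth : LocCoh.depth (R ⧸ frobPow p (maximalIdeal R) e)
      (R ⧸ frobPow p (maximalIdeal R) e) = 0 := by
    rw [Groth.Agent.Lib.Helper67.depth_eq_zero_iff]
    apply maximalIdeal_mem_associatedPrimes
    intro y hy
    obtain ⟨z, rfl⟩ := Ideal.Quotient.mk_surjective y
    have hz : z ∈ maximalIdeal R :=
      (Groth.Agent.Lib.Helper85.GorFlat.mk_mem_maximalIdeal_iff _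
        (frobPow_le_self p (maximalIdeal R) e) z).mp hy
    refine ⟨p ^ e, ?_⟩
    rw [← map_pow, Ideal.Quotient.eq_zero_iff_mem]
    exact pow_mem_frobPow p _ e z hz
  exact Groth.Agent.Lib.Helper85.GorFlat.injective_of_gorenstein_of_depth_zero _ hdepth

end Groth.Agent.Lib.Helper99.Frob
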