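import Mathlib

/-!
# Coordinate derivations attached to a basis `dt_i` of the Kähler differentials (helper99)

`pd b j` is the derivation `∂/∂t_j`; we prove they commute and that `∂_j^p = 0` in characteristic `p`.
-/

set_option autoImplicit false
universe u v w

namespace Groth.Agent.Lib.Helper99.FrobDet

open Finset

section Iter

variable {k : Type u} {R : Type v} [CommRing k] [CommRing R] [Algebra k R]

theorem iterate_mul (D : Derivation k R R) (n : ℕ) (a b : R) :
    D^[n] (a * b) = ∑ m ∈ range (n + 1), n.choose m • (D^[n - m] a * D^[m] b) := by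
  induction n with
  | zero => simp
  | succ n IH =>
    rw [Function.iterate_succ_apply', IH, map_sum]
    have h1 : ∀ m ∈ range (n + 1), D (n.choose m • (D^[n - m] a * D^[m] b)) =
        n.choose m • (D^[n - m + 1] a * D^[m] b) + n.choose m • (D^[n - m] a * D^[m + 1] b) := by
      intro m _
      rw [map_nsmul, Derivation.leibniz, ← smul_add]
      congr 1
      rw [Function.iterate_succ_apply', Function.iterate_succ_apply', smul_eq_mul, smul_eq_mul]
      ring
    rw [sum_congr rfl h1, sum_add_distrib]
    rw [sum_range_succ' (fun m => (n + 1).choose m • (D^[n + 1 - m] a * D^[m] b))]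
    have h2 : ∑ m ∈ range (n + 1), (n + 1).choose (m + 1) • (D^[n + 1 - (m + 1)] a * D^[m + 1] b) =
        ∑ m ∈ range (n + 1), n.choose m • (D^[n - m] a * D^[m + 1] b) +
          ∑ m ∈ range (n + 1), n.choose (m + 1) • (D^[n - m] a * D^[m + 1] b) := by
      rw [← sum_add_distrib]
      refine sum_congr rfl fun m _ => ?_
      rw [Nat.choose_succ_succ, add_smul, Nat.succ_sub_succ]
    rw [h2]
    -- remaining: first sum = second piece + the `m = 0` term
    have h3 : ∑ m ∈ range (n + 1), n.choose m • (D^[n - m + 1] a * D^[m] b) =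
        ∑ m ∈ range (n + 1), n.choose (m + 1) • (D^[n - m] a * D^[m + 1] b) +
          (n + 1).choose 0 • (D^[n + 1 - 0] a * D^[0] b) := by
      rw [sum_range_succ' (fun m => n.choose m • (D^[n - m + 1] a * D^[m] b))]
      rw [sum_range_succ (fun m => n.choose (m + 1) • (D^[n - m] a * D^[m + 1] b))]
      simp only [Nat.choose_succ_self, zero_smul, add_zero, Nat.choose_zero_right, Nat.sub_zero]
      congr 1
      refine sum_congr rfl fun m hm => ?_
      have : m < n := mem_range.mp hm
      have e : n - (m + 1) + 1 = n - m := by omega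
      rw [e]
    rw [h3]
    abel

/-- In characteristic `p`, `D^p` satisfies the Leibniz rule. -/
theorem iterate_char_mul (p : ℕ) [Fact p.Prime] [CharP R p] (D : Derivation k R R) (a b : R) :
    D^[p] (a * b) = a * D^[p] b + b * D^[p] a := by
  rw [iterate_mul, sum_range_succ]
  have hmid : ∑ m ∈ range (p - 1 + 1 - 1), p.choose (m + 1) • (D^[p - (m + 1)] a * D^[m + 1] b) = 0 := by
    refine sum_eq_zero fun m hm => ?_
    have hm' : m + 1 < p := by
      have := mem_range.mp hm
      have := (Fact.out : p.Prime).pos
      omega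
    have hdvd : p ∣ p.choose (m + 1) :=
      (Fact.out : p.Prime).dvd_choose_self (Nat.succ_ne_zero m) hm'
    rw [← Nat.cast_smul_eq_nsmul R, (CharP.cast_eq_zero_iff R p _).mpr hdvd, zero_smul]
  have hp1 : p - 1 + 1 - 1 = p - 1 := by omega
  have hpp : p - 1 + 1 = p := by have := (Fact.out : p.Prime).pos; omega
  have hsplit : ∑ m ∈ range p, p.choose m • (D^[p - m] a * D^[m] b) =
      ∑ m ∈ range (p - 1 + 1 - 1), p.choose (m + 1) • (D^[p - (m + 1)] a * D^[m + 1] b) +
        p.choose 0 • (D^[p - 0] a * D^[0] b) := by
    rw [hp1, show range p = range (p - 1 + 1) by rw [hpp], sum_range_succ']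
  rw [hsplit, hmid]
  simp only [Nat.choose_zero_right, one_smul, Nat.sub_zero, Function.iterate_zero, id_eq, zero_add,
    Nat.choose_self, Nat.sub_self]
  ring

/-- The `p`-th power of a derivation in characteristic `p`, as a derivation. -/
noncomputable def powChar (p : ℕ) [Fact p.Prime] [CharP R p] (D : Derivation k R R) : Derivation k R R :=
  Derivation.mk' ((D : R →ₗ[k] R) ^ p) (by
    intro a b
    have h : ∀ x, ((D : R →ₗ[k] R) ^ p) x = D^[p] x := by
      intro x
      rw [Module.End.pow_apply]
      rfl
    rw [h, h, h, iterate_char_mul p D a b, smul_eq_mul, smul_eq_mul])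

theorem powChar_apply (p : ℕ) [Fact p.Prime] [CharP R p] (D : Derivation k R R) (x : R) :
    powChar p D x = D^[p] x := by
  change ((D : R →ₗ[k] R) ^ p) x = D^[p] x
  rw [Module.End.pow_apply]
  rfl

end Iter

section Coord

variable {k : Type u} {R : Type v} [CommRing k] [CommRing R] [Algebra k R]
variable {ι : Type w}
variable (b : Module.Basis ι R (Ω[R⁄k])) (t : ι → R)

/-- Two derivations agreeing on coordinates `t_i` (with `dt_i` a basis of `Ω`) are equal. -/
theorem der_ext (hb : ∀ i, b i = KaehlerDifferential.D k R (t i)) (D1 D2 : Derivation k R R)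
    (h : ∀ i, D1 (t i) = D2 (t i)) : D1 = D2 := by
  have hl : D1.liftKaehlerDifferential = D2.liftKaehlerDifferential := by
    refine b.ext fun i => ?_
    rw [hb, Derivation.liftKaehlerDifferential_comp_D, Derivation.liftKaehlerDifferential_comp_D, h]
  rw [← Derivation.liftKaehlerDifferential_comp D1, ← Derivation.liftKaehlerDifferential_comp D2, hl]

/-- The coordinate derivation `∂/∂t_j`. -/
noncomputable def pd (j : ι) : Derivation k R R :=
  (b.coord j).compDer (KaehlerDifferential.D k R)

theorem pd_apply (j : ι) (x : R) : pd b j x = b.coord j (KaehlerDifferential.D k R x) := rfl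

theorem pd_coord [DecidableEq ι] (hb : ∀ i, b i = KaehlerDifferential.D k R (t i)) (i j : ι) :
    pd b j (t i) = if i = j then 1 else 0 := by
  rw [pd_apply, ← hb, Module.Basis.coord_apply, Module.Basis.repr_self, Finsupp.single_apply]

theorem pd_pd_coord (hb : ∀ i, b i = KaehlerDifferential.D k R (t i)) (i j l : ι) :
    pd b l (pd b j (t i)) = 0 := by
  classical
  rw [pd_coord b t hb]
  split_ifs
  · exact Derivation.map_one_eq_zero _
  · exact map_zero _

theorem pd_comm (hb : ∀ i, b i = KaehlerDifferential.D k R (t i)) (i j : ι) (x : R) :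
    pd b i (pd b j x) = pd b j (pd b i x) := by
  have h : ⁅pd b i, pd b j⁆ = 0 := by
    refine der_ext b t hb _ _ fun l => ?_
    rw [Derivation.commutator_apply, pd_pd_coord b t hb, pd_pd_coord b t hb, sub_zero]
    rfl
  have := congrArg (fun D : Derivation k R R => D x) h
  simp only [Derivation.commutator_apply] at this
  exact sub_eq_zero.mp this

theorem pd_iterate_char (p : ℕ) [Fact p.Prime] [CharP R p]
    (hb : ∀ i, b i = KaehlerDifferential.D k R (t i)) (j : ι) (x : R) :
    (pd b j)^[p] x = 0 := by
  have h : powChar p (pd b j) = 0 := by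
    refine der_ext b t hb _ _ fun l => ?_
    rw [powChar_apply]
    have hp : p = (p - 2) + 1 + 1 := by have := (Fact.out : p.Prime).two_le; omega
    rw [hp, Function.iterate_succ_apply, Function.iterate_succ_apply, pd_pd_coord b t hb,
      iterate_map_zero]
    rfl
  rw [← powChar_apply, h]
  rfl

end Coord

end Groth.Agent.Lib.Helper99.FrobDet
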