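import Mathlib

/-!
# Derivative of a determinant and the Piola identity (helper99)

For derivations `∂_j` (`j : ι`) of a commutative ring and a square matrix `N` all of whose rows
except possibly `i0` are closed (`∂_j (r l) = ∂_l (r j)`), the cofactor vector of the row `i0`
is divergence free.
-/

set_option autoImplicit false
universe u v w

namespace Groth.Agent.Lib.Helper99.FrobDet

open Finset Matrix

variable {k : Type u} {R : Type v} [CommRing k] [CommRing R] [Algebra k R]

theorem derivation_prod {α : Type*} [DecidableEq α] (D : Derivation k R R) (s : Finset α) (a : α → R) :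
    D (∏ i ∈ s, a i) = ∑ i ∈ s, (∏ j ∈ s.erase i, a j) * D (a i) := by
  induction s using Finset.induction_on with
  | empty => simp
  | insert x s hx ih =>
    rw [prod_insert hx, Derivation.leibniz, ih, sum_insert hx, erase_insert hx, smul_eq_mul,
      smul_eq_mul, mul_sum, add_comm]
    congr 1
    refine sum_congr rfl fun i hi => ?_
    have hix : x ≠ i := fun h => hx (h ▸ hi)
    rw [erase_insert_of_ne hix, prod_insert (fun h => hx (mem_of_mem_erase h)), mul_assoc]

variable {ι : Type w} [Fintype ι] [DecidableEq ι]

/-- Derivative of a determinant: sum over rows. -/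
theorem derivation_det (D : Derivation k R R) (M : Matrix ι ι R) :
    D M.det = ∑ i, (M.updateRow i (fun l => D (M i l))).det := by
  have hdet : ∀ N : Matrix ι ι R, N.det = ∑ σ : Equiv.Perm ι, Equiv.Perm.sign σ • ∏ i, N i (σ i) := by
    intro N
    rw [← det_transpose, det_apply]
    simp only [transpose_apply]
  rw [hdet, map_sum]
  simp_rw [hdet]
  rw [sum_comm]
  refine sum_congr rfl fun σ _ => ?_
  rw [Units.smul_def, map_zsmul, derivation_prod]
  simp_rw [Units.smul_def]
  rw [← smul_sum]
  congr 1
  refine sum_congr rfl fun i _ => ?_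
  rw [← mul_prod_erase univ _ (mem_univ i), updateRow_self, mul_comm]
  congr 1
  refine prod_congr rfl fun j hj => ?_
  rw [updateRow_ne (ne_of_mem_erase hj)]

/-- Expansion of a determinant along an updated row. -/
theorem det_updateRow_eq_sum (M : Matrix ι ι R) (i : ι) (v : ι → R) :
    (M.updateRow i v).det = ∑ l, v l * (M.updateRow i (Pi.single l 1)).det := by
  rw [det_eq_sum_mul_adjugate_row (M.updateRow i v) i]
  refine sum_congr rfl fun l _ => ?_
  rw [adjugate_apply, updateRow_idem, updateRow_self]

omit [DecidableEq ι] in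
/-- A symmetric-times-alternating double sum vanishes. -/
theorem sum_symm_alt (c E : ι → ι → R) (hc : ∀ j l, c j l = c l j) (hE : ∀ j l, E j l = - E l j)
    (hE0 : ∀ j, E j j = 0) : ∑ j, ∑ l, c j l * E j l = 0 := by
  rw [← sum_product' (f := fun j l => c j l * E j l)]
  refine sum_involution (fun a _ => (a.2, a.1)) ?_ ?_ ?_ ?_
  · rintro ⟨j, l⟩ _
    simp only
    rw [hc l j, hE l j]
    ring
  · rintro ⟨j, l⟩ _ hne heq
    simp only [Prod.mk.injEq] at heq
    obtain ⟨rfl, -⟩ := heq
    exact hne (by simp [hE0])
  · intro a _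
    exact mem_univ _
  · rintro ⟨j, l⟩ _
    rfl

variable (pdv : ι → Derivation k R R)

/-- A row is closed if its "curl" vanishes. -/
def ClosedRow (r : ι → R) : Prop := ∀ j l, pdv j (r l) = pdv l (r j)

theorem det_swap_rows (N : Matrix ι ι R) (i0 i : ι) (hi : i ≠ i0) (u v : ι → R) :
    ((N.updateRow i0 u).updateRow i v).det = - ((N.updateRow i0 v).updateRow i u).det := by
  have h : ((N.updateRow i0 u).updateRow i v) =
      ((N.updateRow i0 v).updateRow i u).submatrix (Equiv.swap i0 i) id := by
    ext r c
    rw [submatrix_apply, id]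
    by_cases h1 : r = i
    · subst h1
      rw [updateRow_self, Equiv.swap_apply_right, updateRow_ne hi.symm, updateRow_self]
    · by_cases h2 : r = i0
      · subst h2
        rw [updateRow_ne h1, updateRow_self, Equiv.swap_apply_left, updateRow_self]
      · rw [Equiv.swap_apply_of_ne_of_ne h2 h1, updateRow_ne h1, updateRow_ne h2, updateRow_ne h1,
          updateRow_ne h2]
  rw [h, det_permute, Equiv.Perm.sign_swap hi.symm]
  simp

/-- **Piola identity**: the cofactors along row `i0` form a divergence-free vector when all other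
rows are closed. -/
theorem piola (N : Matrix ι ι R) (i0 : ι) (hN : ∀ i, i ≠ i0 → ClosedRow pdv (N i)) :
    ∑ j, pdv j (N.adjugate j i0) = 0 := by
  have h1 : ∀ j, pdv j (N.adjugate j i0) =
      ∑ i ∈ univ.erase i0, ∑ l, pdv j (N i l) *
        ((N.updateRow i0 (Pi.single j 1)).updateRow i (Pi.single l 1)).det := by
    intro j
    rw [adjugate_apply, derivation_det, ← add_sum_erase univ _ (mem_univ i0)]
    have hz : ((N.updateRow i0 (Pi.single j 1)).updateRow i0
        (fun l => pdv j ((N.updateRow i0 (Pi.single j 1)) i0 l))).det = 0 := by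
      refine det_eq_zero_of_row_eq_zero i0 fun l => ?_
      rw [updateRow_self, updateRow_self]
      by_cases hjl : l = j
      · subst hjl
        rw [Pi.single_eq_same]
        exact Derivation.map_one_eq_zero _
      · rw [Pi.single_eq_of_ne hjl]
        exact map_zero _
    rw [hz, zero_add]
    refine sum_congr rfl fun i hi => ?_
    rw [det_updateRow_eq_sum]
    refine sum_congr rfl fun l _ => ?_
    rw [updateRow_ne (ne_of_mem_erase hi)]
  simp_rw [h1]
  rw [sum_comm]
  refine sum_eq_zero fun i hi => ?_
  have hi' : i ≠ i0 := ne_of_mem_erase hi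
  refine sum_symm_alt (fun j l => pdv j (N i l))
    (fun j l => ((N.updateRow i0 (Pi.single j 1)).updateRow i (Pi.single l 1)).det) ?_ ?_ ?_
  · intro j l
    exact hN i hi' j l
  · intro j l
    exact det_swap_rows N i0 i hi' _ _
  · intro j
    refine det_zero_of_row_eq hi' ?_
    rw [updateRow_self, updateRow_ne hi'.symm, updateRow_self]

/-- A determinant with a gradient row and all other rows closed is a divergence. -/
theorem det_eq_divergence (N : Matrix ι ι R) (i0 : ι) (f : R) (hrow : ∀ j, N i0 j = pdv j f)
    (hN : ∀ i, i ≠ i0 → ClosedRow pdv (N i)) :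
    N.det = ∑ j, pdv j (f * N.adjugate j i0) := by
  rw [det_eq_sum_mul_adjugate_row N i0]
  have h : ∀ j, pdv j (f * N.adjugate j i0) = N i0 j * N.adjugate j i0 + f * pdv j (N.adjugate j i0) := by
    intro j
    rw [Derivation.leibniz, hrow, smul_eq_mul, smul_eq_mul]
    ring
  simp_rw [h]
  rw [sum_add_distrib, ← mul_sum, piola pdv N i0 hN, mul_zero, add_zero]

end Groth.Agent.Lib.Helper99.FrobDet
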