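import Groth.Agent.Lib.Helper99.FrobDetA
import Groth.Agent.Lib.Helper99.FrobDetB

/-!
# The determinant `det(δ_ij t_i^(p-1) + ∂_j f_i)` is nonzero (helper99)

We apply the operator `Λ = ∏_j ∂_j^(p-1)`: it kills every `∂_j g`, and by the Piola identity
`det = ∏ t_i^(p-1) + Σ_j ∂_j g_j`, while `Λ (∏ t_i^(p-1)) = ((p-1)!)^n ≠ 0`.
-/

set_option autoImplicit false
universe u v w

namespace Groth.Agent.Lib.Helper99.FrobDet

open Finset Matrix

section Gen

variable {k : Type u} {R : Type v} [CommRing k] [CommRing R] [Algebra k R]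

theorem iterate_const_mul (D : Derivation k R R) (c : R) (hc : D c = 0) (m : ℕ) (x : R) :
    D^[m] (c * x) = c * D^[m] x := by
  induction m with
  | zero => rfl
  | succ m ih =>
    rw [Function.iterate_succ_apply', ih, Function.iterate_succ_apply', Derivation.leibniz, hc,
      smul_zero, add_zero, smul_eq_mul]

theorem iterate_pow_of_eq_one (D : Derivation k R R) (t : R) (ht : D t = 1) (N m : ℕ) :
    D^[m] (t ^ N) = N.descFactorial m • t ^ (N - m) := by
  induction m with
  | zero => simp
  | succ m ih =>
    rw [Function.iterate_succ_apply', ih, map_nsmul, Derivation.leibniz_pow, ht, smul_eq_mul, mul_one,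
      Nat.descFactorial_succ, mul_smul, Nat.sub_sub]
    rw [smul_comm]

end Gen

section Lam

variable {k : Type u} {R : Type v} [CommRing k] [CommRing R] [Algebra k R]
variable {ι : Type w} [Fintype ι] [DecidableEq ι]
variable (b : Module.Basis ι R (Ω[R⁄k])) (t : ι → R)
variable (hb : ∀ i, b i = KaehlerDifferential.D k R (t i))
variable (p : ℕ)

/-- `∂_j` as an endomorphism. -/
noncomputable def pdE (j : ι) : Module.End k R := ((pd b j : Derivation k R R) : R →ₗ[k] R)

omit [Fintype ι] [DecidableEq ι] in
theorem pdE_apply (j : ι) (x : R) : pdE b j x = pd b j x := rfl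

omit [Fintype ι] [DecidableEq ι] in
theorem pdE_pow_apply (j : ι) (m : ℕ) (x : R) : (pdE b j ^ m) x = (pd b j)^[m] x := by
  rw [Module.End.pow_apply]
  rfl

omit [Fintype ι] [DecidableEq ι] in
include hb in
theorem pdE_commute (i j : ι) : Commute (pdE b i) (pdE b j) :=
  LinearMap.ext fun x => pd_comm b t hb i j x

/-- The operator `∏_{j ∈ s} ∂_j^(p-1)`. -/
noncomputable def Lam (s : Finset ι) : Module.End k R :=
  s.noncommProd (fun j => pdE b j ^ (p - 1))
    (fun i _ j _ _ => (pdE_commute b t hb i j).pow_pow _ _)

omit [Fintype ι] in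
theorem Lam_pd [Fact p.Prime] [CharP R p] (s : Finset ι) (j : ι) (hj : j ∈ s) (x : R) :
    Lam b t hb p s (pd b j x) = 0 := by
  have hpp : p - 1 + 1 = p := by have := (Fact.out : p.Prime).pos; omega
  have key : (pdE b j ^ (p - 1)) (pd b j x) = 0 := by
    rw [pdE_pow_apply, ← Function.iterate_succ_apply, Nat.succ_eq_add_one, hpp,
      pd_iterate_char b t p hb]
  rw [Lam, ← Finset.noncommProd_erase_mul s hj, Module.End.mul_apply, key, map_zero]

omit [Fintype ι] in
include hb in
theorem pd_pow_of_ne (i j : ι) (hij : i ≠ j) (m : ℕ) : pd b j (t i ^ m) = 0 := by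
  rw [Derivation.leibniz_pow, pd_coord b t hb, if_neg hij, smul_zero, smul_zero]

omit [Fintype ι] in
theorem Lam_prod [Fact p.Prime] (s : Finset ι) :
    ∀ c : R, (∀ i ∈ s, pd b i c = 0) →
      Lam b t hb p s (c * ∏ i ∈ s, t i ^ (p - 1)) = ((p - 1).factorial ^ s.card) • c := by
  induction s using Finset.induction_on with
  | empty =>
    intro c _
    simp [Lam]
  | insert a s ha ih =>
    intro c hc
    have hc' : ∀ i ∈ s, pd b i (c * t a ^ (p - 1)) = 0 := by
      intro i hi
      have hia : a ≠ i := fun h => ha (h ▸ hi)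
      rw [Derivation.leibniz, hc i (mem_insert_of_mem hi), pd_pow_of_ne b t hb a i hia, smul_zero,
        smul_zero, add_zero]
    rw [prod_insert ha, ← mul_assoc, Lam, Finset.noncommProd_insert_of_notMem _ _ _ _ ha,
      Module.End.mul_apply]
    have := ih (c * t a ^ (p - 1)) hc'
    rw [Lam] at this
    rw [this, map_nsmul, pdE_pow_apply, iterate_const_mul _ _ (hc a (mem_insert_self a s)),
      iterate_pow_of_eq_one _ _ (by rw [pd_coord b t hb, if_pos rfl]), Nat.descFactorial_self,
      Nat.sub_self, pow_zero, card_insert_of_notMem ha, pow_succ, mul_smul]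
    congr 1
    rw [nsmul_eq_mul, nsmul_eq_mul, mul_one, mul_comm]

end Lam

section Main

variable {k : Type u} {R : Type v} [CommRing k] [CommRing R] [Algebra k R]
variable {ι : Type w} [Fintype ι] [DecidableEq ι]
variable (b : Module.Basis ι R (Ω[R⁄k])) (t : ι → R)
variable (hb : ∀ i, b i = KaehlerDifferential.D k R (t i))
variable (p : ℕ)

omit [Fintype ι] [DecidableEq ι] in
include hb in
theorem closedRow_grad (f : R) : ClosedRow (pd b) (fun j => pd b j f) := by
  intro j l
  exact pd_comm b t hb j l f

omit [Fintype ι] in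
include hb in
theorem closedRow_diag (i : ι) (m : ℕ) :
    ClosedRow (pd b) (fun j => if i = j then t i ^ m else 0) := by
  intro j l
  change pd b j (if i = l then t i ^ m else 0) = pd b l (if i = j then t i ^ m else 0)
  by_cases hil : i = l
  · by_cases hij : i = j
    · rw [← hil, ← hij]
    · rw [if_pos hil, if_neg hij, map_zero, pd_pow_of_ne b t hb i j hij]
  · by_cases hij : i = j
    · rw [if_neg hil, if_pos hij, map_zero, pd_pow_of_ne b t hb i l hil]
    · rw [if_neg hil, if_neg hij, map_zero, map_zero]

theorem Lam_det_piecewise [Fact p.Prime] [CharP R p] (f : ι → R) (S : Finset ι) (hS : S.Nonempty) :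
    Lam b t hb p univ (Matrix.det (Matrix.of (S.piecewise (fun i j => pd b j (f i))
      (fun i j => if i = j then t i ^ (p - 1) else 0)))) = 0 := by
  obtain ⟨i0, hi0⟩ := hS
  set N : Matrix ι ι R := Matrix.of (S.piecewise (fun i j => pd b j (f i))
      (fun i j => if i = j then t i ^ (p - 1) else 0)) with hN
  have hrow : ∀ j, N i0 j = pd b j (f i0) := by
    intro j
    rw [hN, Matrix.of_apply, Finset.piecewise_eq_of_mem _ _ _ hi0]
  have hclosed : ∀ i, i ≠ i0 → ClosedRow (pd b) (N i) := by
    intro i _
    by_cases hi : i ∈ S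
    · have : N i = fun j => pd b j (f i) := by
        ext j
        rw [hN, Matrix.of_apply, Finset.piecewise_eq_of_mem _ _ _ hi]
      rw [this]
      exact closedRow_grad b t hb (f i)
    · have : N i = fun j => if i = j then t i ^ (p - 1) else 0 := by
        ext j
        rw [hN, Matrix.of_apply, Finset.piecewise_eq_of_notMem _ _ _ hi]
      rw [this]
      exact closedRow_diag b t hb i (p - 1)
  rw [det_eq_divergence (pd b) N i0 (f i0) hrow hclosed, map_sum]
  exact sum_eq_zero fun j _ => Lam_pd b t hb p univ j (mem_univ j) _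

include hb in
/-- The main determinant is nonzero. -/
theorem det_ne_zero [Fact p.Prime] [CharP R p] [IsDomain R] (f : ι → R) :
    (Matrix.of fun i j : ι => (if i = j then t i ^ (p - 1) else 0) + pd b j (f i)).det ≠ 0 := by
  intro hdet
  have hexp : (Matrix.of fun i j : ι => (if i = j then t i ^ (p - 1) else 0) + pd b j (f i)).det =
      ∑ S : Finset ι, Matrix.det (Matrix.of (S.piecewise (fun i j => pd b j (f i))
        (fun i j => if i = j then t i ^ (p - 1) else 0))) := by
    have := (Matrix.detRowAlternating (R := R) (n := ι)).toMultilinearMap.map_add_univ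
      (fun i j => pd b j (f i)) (fun i j => if i = j then t i ^ (p - 1) else 0)
    calc _ = Matrix.det (Matrix.of ((fun i j => pd b j (f i)) +
            fun i j => if i = j then t i ^ (p - 1) else 0)) := by
          congr 1
          ext i j
          simp only [Matrix.of_apply, Pi.add_apply]
          exact add_comm _ _
      _ = _ := this
  have h0 : Lam b t hb p univ ((Matrix.of fun i j : ι =>
      (if i = j then t i ^ (p - 1) else 0) + pd b j (f i)).det) = 0 := by
    rw [hdet, map_zero]
  rw [hexp, map_sum, sum_eq_single (∅ : Finset ι)] at h0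
  · have hdiag : (Matrix.of ((∅ : Finset ι).piecewise (fun i j => pd b j (f i))
        (fun i j => if i = j then t i ^ (p - 1) else 0))) =
        Matrix.diagonal (fun i => t i ^ (p - 1)) := by
      ext i j
      simp [Matrix.diagonal_apply]
    rw [hdiag, Matrix.det_diagonal, ← one_mul (∏ i, t i ^ (p - 1)),
      Lam_prod b t hb p univ 1 (fun i _ => Derivation.map_one_eq_zero _), nsmul_one] at h0
    have hfac : ((p - 1).factorial : R) ≠ 0 := by
      intro h
      have hdvd := (CharP.cast_eq_zero_iff R p _).mp h
      have := (Fact.out : p.Prime).dvd_factorial.mp hdvd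
      have := (Fact.out : p.Prime).pos
      omega
    rw [Nat.cast_pow] at h0
    exact pow_ne_zero _ hfac h0
  · intro S _ hS
    exact Lam_det_piecewise b t hb p f S (Finset.nonempty_iff_ne_empty.mpr hS)
  · intro h
    exact absurd (mem_univ _) h

end Main

end Groth.Agent.Lib.Helper99.FrobDet
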