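import Mathlib
import Groth.Agent.Lib.Helper8.GrInjBaer

/-!
# Injectivity of a power-torsion module whose torsion levels are free over self-injective
quotients (helper99)
-/

set_option autoImplicit false

namespace Groth.Agent.Lib.Helper99.Frob

universe u

/-- Bass–Papp for Baer modules, arbitrary index type. -/
theorem baer_finsupp' {R : Type u} [CommRing R] [IsNoetherianRing R] (ι : Type u) (E : Type u)
    [AddCommGroup E] [Module R E] (hE : Module.Baer R E) : Module.Baer R (ι →₀ E) := by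
  classical
  intro I g
  obtain ⟨T, hT⟩ := (IsNoetherian.noetherian I : I.FG)
  have hTI : ∀ t ∈ T, t ∈ I := fun t ht => hT ▸ Submodule.subset_span ht
  choose g' hg' using fun i : ι => hE I ((Finsupp.lapply i).comp g)
  let s : Finset ι := T.attach.biUnion (fun t => (g ⟨t.1, hTI t.1 t.2⟩).support)
  have hs : ∀ i, i ∉ s → ∀ (x : R) (hx : x ∈ I), g ⟨x, hx⟩ i = 0 := by
    intro i hi x hx
    have h1 : Submodule.span R (T : Set R) ≤ LinearMap.ker (g' i) := by
      rw [Submodule.span_le]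
      intro t ht
      rw [SetLike.mem_coe, LinearMap.mem_ker, hg' i t (hTI t ht)]
      change g ⟨t, hTI t ht⟩ i = 0
      by_contra hne
      apply hi
      rw [Finset.mem_biUnion]
      exact ⟨⟨t, ht⟩, Finset.mem_attach _ _, Finsupp.mem_support_iff.2 hne⟩
    have h2 : x ∈ LinearMap.ker (g' i) := h1 (hT ▸ hx)
    rw [LinearMap.mem_ker, hg' i x hx] at h2
    exact h2
  let y : ι →₀ E := Finsupp.onFinset s (fun i => if i ∈ s then g' i 1 else 0) (by
    intro i hi
    by_contra hns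
    exact hi (if_neg hns))
  refine ⟨LinearMap.toSpanSingleton R (ι →₀ E) y, ?_⟩
  intro x hx
  ext i
  rw [LinearMap.toSpanSingleton_apply, Finsupp.smul_apply, Finsupp.onFinset_apply]
  by_cases his : i ∈ s
  · rw [if_pos his, ← map_smul, smul_eq_mul, mul_one, hg' i x hx]
    rfl
  · rw [if_neg his, smul_zero, hs i his x hx]

theorem injective_finsupp' {R : Type u} [CommRing R] [IsNoetherianRing R] (ι : Type u)
    (E : Type u) [AddCommGroup E] [Module R E] [Module.Injective R E] :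
    Module.Injective R (ι →₀ E) :=
  Module.Baer.injective (baer_finsupp' ι E (Module.Baer.of_injective inferInstance))

variable {R : Type u} [CommRing R] [IsNoetherianRing R]

theorem injective_of_levels (m : Ideal R) [m.IsMaximal]
    (M : Type u) [AddCommGroup M] [Module R M]
    (htors : ∀ x : M, ∃ n : ℕ, ∀ r ∈ m ^ n, r • x = 0)
    (hlev : ∀ n : ℕ, ∃ J : Ideal R, J ≤ m ^ n ∧ Module.Injective (R ⧸ J) (R ⧸ J) ∧
      ∃ ι : Type u, Nonempty (↥(Submodule.torsionBySet R M (J : Set R)) ≃ₗ[R] (ι →₀ R ⧸ J))) :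
    Module.Injective R M := by
  apply Groth.Agent.Lib.Helper8.GrInjBaer.injective_of_ext m htors
  intro h
  have hfg : (LinearMap.range h).FG := by
    rw [LinearMap.range_eq_map]
    exact (Module.Finite.fg_top).map h
  obtain ⟨t, ht⟩ := Groth.Agent.Lib.Helper8.GrInjBaer.exists_pow_kill m htors _ hfg
  obtain ⟨J, hJ, hinj, ι, ⟨ψ⟩⟩ := hlev (t + 1)
  -- `h` kills `m ^ (t + 1)`
  have hkill : ∀ r : R, r ∈ m ^ (t + 1) → ∃ hr : r ∈ m, h ⟨r, hr⟩ = 0 := by
    intro r hr
    rw [pow_succ] at hr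
    refine Submodule.mul_induction_on hr ?_ ?_
    · intro a ha b hb
      refine ⟨Ideal.mul_mem_left _ _ hb, ?_⟩
      have : (⟨a * b, Ideal.mul_mem_left _ _ hb⟩ : ↥m) = a • (⟨b, hb⟩ : ↥m) := rfl
      rw [this, map_smul]
      exact ht a ha _ ⟨_, rfl⟩
    · rintro x y ⟨hx, hx'⟩ ⟨hy, hy'⟩
      refine ⟨m.add_mem hx hy, ?_⟩
      have : (⟨x + y, m.add_mem hx hy⟩ : ↥m) = ⟨x, hx⟩ + ⟨y, hy⟩ := rfl
      rw [this, map_add, hx', hy', add_zero]
  have hmem : ∀ x : ↥m, h x ∈ Submodule.torsionBySet R M (J : Set R) := by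
    intro x
    rw [Submodule.mem_torsionBySet_iff]
    rintro ⟨a, ha⟩
    exact ht a (Ideal.pow_le_pow_right (Nat.le_succ t) (hJ ha)) _ ⟨x, rfl⟩
  haveI : Module.Injective (R ⧸ J) (ι →₀ R ⧸ J) := injective_finsupp' ι (R ⧸ J)
  let h₁ : ↥m →ₗ[R] (ι →₀ R ⧸ J) := ψ.toLinearMap ∘ₗ h.codRestrict _ hmem
  let mbar : Ideal (R ⧸ J) := m.map (Ideal.Quotient.mk J)
  let π : ↥m →ₗ[R] ↥mbar :=
    { toFun := fun x => ⟨Ideal.Quotient.mk J x.1, Ideal.mem_map_of_mem _ x.2⟩
      map_add' := fun x y => by ext; simp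
      map_smul' := fun r x => by
        ext
        simp only [RingHom.id_apply]
        rfl }
  have hπ : Function.Surjective π := by
    rintro ⟨y, hy⟩
    obtain ⟨x, hx, rfl⟩ := (Ideal.mem_map_iff_of_surjective _ Ideal.Quotient.mk_surjective).mp hy
    exact ⟨⟨x, hx⟩, rfl⟩
  have hker : LinearMap.ker π ≤ LinearMap.ker h₁ := by
    intro x hx
    rw [LinearMap.mem_ker] at hx ⊢
    have hx1 : Ideal.Quotient.mk J x.1 = 0 := congrArg Subtype.val hx
    rw [Ideal.Quotient.eq_zero_iff_mem] at hx1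
    obtain ⟨hr, h0⟩ := hkill x.1 (hJ hx1)
    have hx0 : h x = 0 := h0
    show ψ (h.codRestrict _ hmem x) = 0
    have : h.codRestrict _ hmem x = 0 := by
      ext
      exact hx0
    rw [this, map_zero]
  let hbarR : ↥mbar →ₗ[R] (ι →₀ R ⧸ J) :=
    (LinearMap.ker π).liftQ h₁ hker ∘ₗ (π.quotKerEquivOfSurjective hπ).symm.toLinearMap
  have hbarR_π : ∀ x, hbarR (π x) = h₁ x := by
    intro x
    show (LinearMap.ker π).liftQ h₁ hker ((π.quotKerEquivOfSurjective hπ).symm (π x)) = h₁ x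
    have : (π.quotKerEquivOfSurjective hπ).symm (π x) = Submodule.Quotient.mk x := by
      rw [LinearEquiv.symm_apply_eq]
      rfl
    rw [this, Submodule.liftQ_apply]
  let hbar : ↥mbar →ₗ[R ⧸ J] (ι →₀ R ⧸ J) :=
    LinearMap.extendScalarsOfSurjective Ideal.Quotient.mk_surjective hbarR
  obtain ⟨h', hh'⟩ := Module.Injective.extension_property (R ⧸ J) (ι →₀ R ⧸ J) _ _
    (Submodule.subtype mbar) (Submodule.injective_subtype _) hbar
  refine ⟨((ψ.symm (h' 1) : ↥(Submodule.torsionBySet R M (J : Set R))) : M), ?_⟩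
  intro x
  have h2 : h' (Ideal.Quotient.mk J x.1) = hbar (π x) := by
    rw [← hh']
    rfl
  have h3 : hbar (π x) = h₁ x := hbarR_π x
  have h4 : h' (Ideal.Quotient.mk J x.1) = x.1 • h' 1 := by
    have : Ideal.Quotient.mk J x.1 = (Ideal.Quotient.mk J x.1) • (1 : R ⧸ J) := by
      rw [smul_eq_mul, mul_one]
    rw [this, map_smul]
    rfl
  have h5 : h.codRestrict _ hmem x = x.1 • ψ.symm (h' 1) := by
    rw [← map_smul, ← h4, h2, h3]
    show h.codRestrict _ hmem x = ψ.symm (ψ (h.codRestrict _ hmem x))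
    rw [ψ.symm_apply_apply]
  have := congrArg Subtype.val h5
  exact this

end Groth.Agent.Lib.Helper99.Frob
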