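import Groth.Agent.Lib.Helper99.FrobE
import Groth.Agent.Lib.Helper27.InjHull
import Groth.Agent.Lib.Helper85.Matlis

/-!
# An injective power-torsion module over a Noetherian local ring is a direct sum of copies of the
injective hull of the residue field (helper99)
-/

set_option autoImplicit false
open IsLocalRing

namespace Groth.Agent.Lib.Helper99.Frob

universe u

open Groth.Agent.Lib.Helper27.InjHullLib

section ess

variable {R : Type u} [CommRing R] {K E : Type u} [AddCommGroup K] [Module R K]
  [AddCommGroup E] [Module R E]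

/-- a direct sum of copies of an essential injection is an essential injection -/
theorem isEssentialInj_mapRange (f : K →ₗ[R] E) (hf : InjHull.IsEssentialInj f) (ι : Type u) :
    InjHull.IsEssentialInj (Finsupp.mapRange.linearMap (α := ι) f) := by
  classical
  have hker : LinearMap.ker f = ⊥ := LinearMap.ker_eq_bot.mpr hf.injective
  have hinj : Function.Injective (Finsupp.mapRange.linearMap (α := ι) f) := by
    rw [← LinearMap.ker_eq_bot, Finsupp.ker_mapRange, hker]
    ext x
    simp [Finsupp.mem_submodule_iff, Finsupp.ext_iff]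
  apply isEssentialInj_of_forall hinj
  intro x hx
  have key : ∀ s : Finset ι, ∃ r : R, r • x ≠ 0 ∧ ∀ i ∈ s, (r • x) i ∈ LinearMap.range f := by
    intro s
    induction s using Finset.induction_on with
    | empty => exact ⟨1, by rwa [one_smul], fun i hi => absurd hi (Finset.notMem_empty i)⟩
    | insert i s _ ih =>
      obtain ⟨r, hr, hs⟩ := ih
      by_cases hi : (r • x) i = 0
      · refine ⟨r, hr, fun i' hi' => ?_⟩
        rcases Finset.mem_insert.mp hi' with rfl | h'
        · rw [hi]; exact Submodule.zero_mem _
        · exact hs i' h'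
      · obtain ⟨r', m, hr', hm⟩ := IsEssentialInj.exists_smul hf hi
        refine ⟨r' * r, ?_, fun i' hi' => ?_⟩
        · intro h0
          apply hr'
          have := DFunLike.congr_fun h0 i
          rwa [mul_smul, Finsupp.smul_apply, Finsupp.zero_apply] at this
        · rw [mul_smul, Finsupp.smul_apply]
          rcases Finset.mem_insert.mp hi' with rfl | h'
          · exact ⟨m, hm⟩
          · exact Submodule.smul_mem _ _ (hs i' h')
  obtain ⟨r, hr, hs⟩ := key x.support
  have hmem : r • x ∈ LinearMap.range (Finsupp.mapRange.linearMap (α := ι) f) := by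
    rw [Finsupp.range_mapRange_linearMap f hker, Finsupp.mem_submodule_iff]
    intro i
    by_cases hi : i ∈ x.support
    · exact hs i hi
    · rw [Finsupp.smul_apply, Finsupp.notMem_support_iff.mp hi, smul_zero]
      exact Submodule.zero_mem _
  obtain ⟨y, hy⟩ := hmem
  exact ⟨r, y, hr, hy⟩

end ess

variable {R : Type u} [CommRing R] [IsLocalRing R] [IsNoetherianRing R]
  {E : Type u} [AddCommGroup E] [Module R E]

/-- the socle of a module over a local ring is free over the residue field -/
theorem exists_socle_equiv (M : Type u) [AddCommGroup M] [Module R M] :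
    ∃ ι : Type u, Nonempty (↥(LocCoh.torsionBy (maximalIdeal R) M) ≃ₗ[R]
      (ι →₀ ResidueField R)) := by
  set V := LocCoh.torsionBy (maximalIdeal R) M with hV
  have htor : Module.IsTorsionBySet R ↥V (maximalIdeal R : Set R) := by
    rintro x ⟨a, ha⟩
    ext
    exact (Submodule.mem_torsionBySet_iff _ _).mp x.2 ⟨a, ha⟩
  letI : Module (ResidueField R) ↥V := Module.IsTorsionBySet.module htor
  haveI : IsScalarTower R (ResidueField R) ↥V := Module.IsTorsionBySet.isScalarTower htor
  let b := Module.Basis.ofVectorSpace (ResidueField R) ↥V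
  exact ⟨_, ⟨b.repr.restrictScalars R⟩⟩

theorem nonempty_equiv_finsupp_hull (f : ResidueField R →ₗ[R] E) (hf : InjHull.IsInjectiveHull f)
    (M : Type u) [AddCommGroup M] [Module R M] [Module.Injective R M]
    (hM : LocCoh.IsPowerTorsion (maximalIdeal R) M) :
    ∃ ι : Type u, Nonempty (M ≃ₗ[R] (ι →₀ E)) := by
  obtain ⟨ι, ⟨eV⟩⟩ := exists_socle_equiv (R := R) M
  refine ⟨ι, ?_⟩
  haveI : Module.Injective R E := hf.isInjective
  haveI : Module.Injective R (ι →₀ E) := injective_finsupp' ι E
  let j : (ι →₀ ResidueField R) →ₗ[R] (ι →₀ E) := Finsupp.mapRange.linearMap f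
  have hj : InjHull.IsEssentialInj j := isEssentialInj_mapRange f hf.toIsEssentialInj ι
  let incl : (ι →₀ ResidueField R) →ₗ[R] M :=
    (LocCoh.torsionBy (maximalIdeal R) M).subtype ∘ₗ eV.symm.toLinearMap
  have hincl_inj : Function.Injective incl :=
    (Submodule.injective_subtype _).comp eV.symm.injective
  have hincl : InjHull.IsEssentialInj incl := by
    apply isEssentialInj_of_forall hincl_inj
    intro y hy
    obtain ⟨a, ha, hmem⟩ := Groth.Agent.Lib.Helper85.Matlis.exists_smul_mem_socle hM y hy
    refine ⟨a, eV ⟨a • y, hmem⟩, ha, ?_⟩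
    show ((eV.symm (eV ⟨a • y, hmem⟩) : ↥(LocCoh.torsionBy (maximalIdeal R) M)) : M) = a • y
    rw [eV.symm_apply_apply]
  obtain ⟨χ, hχ⟩ := Module.Injective.extension_property R M _ _ j hj.injective incl
  have hχinj : Function.Injective χ :=
    injective_of_comp_injective hj χ (by rw [hχ]; exact hincl_inj)
  obtain ⟨ρ, hρ⟩ := Module.Injective.extension_property R (ι →₀ E) _ _ χ hχinj LinearMap.id
  have hρinj : Function.Injective ρ := by
    apply injective_of_comp_injective hincl ρ
    have : ρ ∘ₗ incl = j := by
      rw [← hχ, ← LinearMap.comp_assoc, hρ, LinearMap.id_comp]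
    rw [this]
    exact hj.injective
  have hχsurj : Function.Surjective χ := by
    intro y
    refine ⟨ρ y, hρinj ?_⟩
    exact LinearMap.congr_fun hρ (ρ y)
  exact ⟨(LinearEquiv.ofBijective χ ⟨hχinj, hχsurj⟩).symm⟩

end Groth.Agent.Lib.Helper99.Frob
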