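import Mathlib
import Groth.Agent.Lib.Helper18.GenericFP

/-!
# Generic reducedness over `ℤ`: torsion lemmas (helper99)
-/

set_option autoImplicit false

namespace Groth.Agent.Lib.Helper99.GenRed

/-- From generic freeness: a finite module over a finite type `ℤ`-algebra has no `p`-torsion for
almost all primes `p`. -/
theorem exists_forall_prime_smul_eq_zero (S : Type) [CommRing S] [Algebra.FiniteType ℤ S]
    (M : Type) [AddCommGroup M] [Module S M] [Module.Finite S M] :
    ∃ N : ℤ, N ≠ 0 ∧ ∀ p : ℕ, p.Prime → ¬ (p : ℤ) ∣ N → ∀ x : M, (p : ℤ) • x = 0 → x = 0 := by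
  obtain ⟨f₀, hf₀, H⟩ := Groth.Agent.Lib.Helper18.exists_free_localizedModule_dvd (R := ℤ) S M
  have hfree := H f₀ dvd_rfl hf₀
  refine ⟨f₀, hf₀, fun p hp hpN x hx => ?_⟩
  -- `x/1 = 0` in the localization
  have hinj : Function.Injective (algebraMap ℤ (Localization.Away f₀)) :=
    IsLocalization.injective _ (powers_le_nonZeroDivisors_of_noZeroDivisors hf₀)
  haveI : IsDomain (Localization.Away f₀) :=
    IsLocalization.isDomain_localization (powers_le_nonZeroDivisors_of_noZeroDivisors hf₀)
  have hp0 : algebraMap ℤ (Localization.Away f₀) (p : ℤ) ≠ 0 := by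
    rw [Ne, map_eq_zero_iff _ hinj]
    exact_mod_cast hp.ne_zero
  have hreg : IsRegular (algebraMap ℤ (Localization.Away f₀) (p : ℤ)) :=
    IsRegular.of_ne_zero hp0
  have hsmul : IsSMulRegular (LocalizedModule (Submonoid.powers f₀) M)
      (algebraMap ℤ (Localization.Away f₀) (p : ℤ)) :=
    Module.IsTorsionFree.isSMulRegular hreg
  have hx1 : LocalizedModule.mk x (1 : Submonoid.powers f₀) = 0 := by
    apply hsmul
    change algebraMap ℤ (Localization.Away f₀) (p : ℤ) • LocalizedModule.mk x 1 =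
      algebraMap ℤ (Localization.Away f₀) (p : ℤ) • 0
    rw [smul_zero]
    have : algebraMap ℤ (Localization.Away f₀) (p : ℤ) = Localization.mk (p : ℤ) 1 :=
      (Localization.mk_one_eq_algebraMap _).symm
    rw [this, LocalizedModule.mk_smul_mk, hx, LocalizedModule.zero_mk]
  rw [← LocalizedModule.zero_mk (1 : Submonoid.powers f₀), LocalizedModule.mk_eq] at hx1
  obtain ⟨⟨c, n, rfl⟩, hc⟩ := hx1
  simp only [one_smul, smul_zero] at hc
  change f₀ ^ n • x = 0 at hc
  -- Bezout
  have hcop : IsCoprime (p : ℤ) (f₀ ^ n) := by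
    apply IsCoprime.pow_right
    exact (Prime.coprime_iff_not_dvd (Nat.prime_iff_prime_int.mp hp)).mpr hpN
  obtain ⟨a, b, hab⟩ := hcop
  calc x = (1 : ℤ) • x := (one_smul _ _).symm
    _ = (a * p + b * f₀ ^ n) • x := by rw [hab]
    _ = 0 := by rw [add_smul, mul_smul, mul_smul, hx, hc, smul_zero, smul_zero, add_zero]

end Groth.Agent.Lib.Helper99.GenRed
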