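import Mathlib
import Groth.Agent.Lib.Helper99.GenRedA
import Groth.Agent.Lib.Helper56.GenericSmooth
import Groth.Agent.Lib.Helper30.SmoothReduced
import Groth.Agent.Lib.Helper49.MacLane2

/-!
# Generic reducedness over `ℤ`: the domain case (helper99)
-/

set_option autoImplicit false

namespace Groth.Agent.Lib.Helper99.GenRed

open TensorProduct

/-- reduction of a smooth `ℤ`-algebra modulo a prime is reduced. -/
theorem isReduced_quotient_of_smooth (S : Type) [CommRing S] [Algebra.Smooth ℤ S] (p : ℕ)
    (hp : p.Prime) : IsReduced (S ⧸ Ideal.span {(p : S)}) := by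
  have hirr : Irreducible (p : ℤ) := (Nat.prime_iff_prime_int.mp hp).irreducible
  haveI hmax : (Ideal.span {(p : ℤ)}).IsMaximal := PrincipalIdealRing.isMaximal_of_irreducible hirr
  let k := ℤ ⧸ Ideal.span {(p : ℤ)}
  haveI : IsReduced (k ⊗[ℤ] S) := Groth.Agent.Lib.Helper30.SmoothReduced.isReduced_of_smooth k _
  have e := Algebra.TensorProduct.quotIdealMapEquivQuotTensor S (Ideal.span {(p : ℤ)})
  have hmap : (Ideal.span {(p : ℤ)}).map (algebraMap ℤ S) = Ideal.span {(p : S)} := by
    rw [Ideal.map_span, Set.image_singleton]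
    simp
  rw [← hmap]
  exact isReduced_of_injective e.toRingEquiv.toRingHom e.injective

/-- the domain case. -/
theorem exists_forall_isReduced_domain (D : Type) [CommRing D] [IsDomain D]
    [Algebra.FiniteType ℤ D] :
    ∃ N : ℤ, N ≠ 0 ∧ ∀ p : ℕ, p.Prime → ¬ (p : ℤ) ∣ N →
      IsReduced (D ⧸ Ideal.span {(p : D)}) := by
  obtain ⟨ℓ, hℓ⟩ := CharP.exists D
  rcases CharP.char_is_prime_or_zero D ℓ with hprime | rfl
  · -- positive characteristic
    refine ⟨ℓ, by exact_mod_cast hprime.ne_zero, fun p hp hpN => ?_⟩
    have hcop : IsCoprime (p : ℤ) (ℓ : ℤ) :=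
      (Prime.coprime_iff_not_dvd (Nat.prime_iff_prime_int.mp hp)).mpr hpN
    obtain ⟨a, b, hab⟩ := hcop
    have h1 : (a : D) * (p : D) = 1 := by
      have := congrArg (Int.cast : ℤ → D) hab
      push_cast at this
      rw [CharP.cast_eq_zero D ℓ, mul_zero, add_zero] at this
      exact this
    have htop : Ideal.span {(p : D)} = ⊤ :=
      Ideal.eq_top_of_isUnit_mem _ (Ideal.subset_span rfl)
        (IsUnit.of_mul_eq_one _ (by rw [mul_comm]; exact h1))
    rw [htop]
    haveI : Subsingleton (D ⧸ (⊤ : Ideal D)) := Ideal.Quotient.subsingleton_iff.mpr rfl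
    infer_instance
  · -- characteristic zero
    haveI : CharZero D := CharP.charP_to_charZero D
    haveI := (faithfulSMul_iff_algebraMap_injective ℤ D).mpr
      (by exact (Int.cast_injective : Function.Injective (Int.cast : ℤ → D)))
    haveI : CharZero (FractionRing D) :=
      charZero_of_injective_algebraMap (IsFractionRing.injective D (FractionRing D))
    haveI := (faithfulSMul_iff_algebraMap_injective ℤ (FractionRing D)).mpr
      (algebraMap ℤ (FractionRing D)).injective_int
    letI := FractionRing.liftAlgebra ℤ (FractionRing D)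
    haveI := FractionRing.isScalarTower_liftAlgebra ℤ (FractionRing D)
    haveI : CharZero (FractionRing ℤ) :=
      charZero_of_injective_algebraMap (IsFractionRing.injective ℤ (FractionRing ℤ))
    haveI : Algebra.IsGeometricallyReduced (FractionRing ℤ) (FractionRing D) :=
      Groth.Agent.Lib.Helper49.MacLane.geomReduced_of_perfectField _ _
    obtain ⟨g, hg0, hsm⟩ := Groth.Agent.Lib.Helper56.exists_smooth_away ℤ D
    obtain ⟨N, hN0, hN⟩ := exists_forall_prime_smul_eq_zero D (D ⧸ Ideal.span {g})
    refine ⟨N, hN0, fun p hp hpN => ?_⟩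
    -- `g` is a nonzerodivisor modulo `p`
    have hstep : ∀ z : D, g * z ∈ Ideal.span {(p : D)} → z ∈ Ideal.span {(p : D)} := by
      intro z hz
      obtain ⟨w, hw⟩ := Ideal.mem_span_singleton'.mp hz
      have h0 : (p : ℤ) • (Ideal.Quotient.mk (Ideal.span {g}) w) = 0 := by
        rw [← map_zsmul, Ideal.Quotient.eq_zero_iff_mem, zsmul_eq_mul, Int.cast_natCast,
          mul_comm, hw]
        exact Ideal.mul_mem_right _ _ (Ideal.subset_span rfl)
      have h1 := hN p hp hpN _ h0
      rw [Ideal.Quotient.eq_zero_iff_mem] at h1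
      obtain ⟨w', hw'⟩ := Ideal.mem_span_singleton'.mp h1
      rw [Ideal.mem_span_singleton']
      refine ⟨w', mul_left_cancel₀ hg0 ?_⟩
      rw [← hw, ← hw']
      ring
    have hpow : ∀ (n : ℕ) (z : D), g ^ n * z ∈ Ideal.span {(p : D)} →
        z ∈ Ideal.span {(p : D)} := by
      intro n
      induction n with
      | zero => intro z hz; simpa using hz
      | succ n ih =>
        intro z hz
        apply ih
        apply hstep
        rw [← mul_assoc, ← pow_succ']
        exact hz
    haveI hsm' : @Algebra.Smooth ℤ _ (Localization.Away g) _ (Ring.toIntAlgebra _) := by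
      have e : (Ring.toIntAlgebra (Localization.Away g)) = OreLocalization.instAlgebra :=
        Subsingleton.elim _ _
      rw [e]
      exact hsm
    haveI hred := isReduced_quotient_of_smooth (Localization.Away g) p hp
    refine ⟨fun x hx => ?_⟩
    obtain ⟨a, rfl⟩ := Ideal.Quotient.mk_surjective x
    rw [Ideal.Quotient.eq_zero_iff_mem]
    -- pass to the localization
    have hnil : IsNilpotent (Ideal.Quotient.mk (Ideal.span {(p : Localization.Away g)})
        (algebraMap D (Localization.Away g) a)) := by
      obtain ⟨n, hn⟩ := hx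
      refine ⟨n, ?_⟩
      rw [← map_pow, Ideal.Quotient.eq_zero_iff_mem] at hn ⊢
      rw [← map_pow]
      obtain ⟨c, hc⟩ := Ideal.mem_span_singleton'.mp hn
      rw [Ideal.mem_span_singleton']
      refine ⟨algebraMap D (Localization.Away g) c, ?_⟩
      rw [← hc, map_mul, map_natCast]
    have h0 := hred.eq_zero _ hnil
    rw [Ideal.Quotient.eq_zero_iff_mem] at h0
    obtain ⟨y, hy⟩ := Ideal.mem_span_singleton'.mp h0
    obtain ⟨⟨d, ⟨_, n, rfl⟩⟩, hd⟩ := IsLocalization.surj (Submonoid.powers g) y
    have hinj : Function.Injective (algebraMap D (Localization.Away g)) :=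
      IsLocalization.injective _ (powers_le_nonZeroDivisors_of_noZeroDivisors hg0)
    apply hpow n
    rw [Ideal.mem_span_singleton']
    refine ⟨d, hinj ?_⟩
    simp only at hd
    rw [map_mul, map_mul, map_natCast, ← hd, ← hy]
    ring

end Groth.Agent.Lib.Helper99.GenRed
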