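import Mathlib
import Groth.Agent.Lib.Helper99.GenRedB

/-!
# Generic reducedness over `ℤ`: the general case (helper99)
-/

set_option autoImplicit false
universe u

namespace Groth.Agent.Lib.Helper99.GenRed

open TensorProduct

theorem finiteType_int_of_surjective {A B : Type*} [CommRing A] [CommRing B] (f : A →+* B)
    (hf : Function.Surjective f) [Algebra.FiniteType ℤ A] : Algebra.FiniteType ℤ B :=
  Algebra.FiniteType.of_surjective f.toIntAlgHom hf

theorem exists_forall_isReduced (A : Type) [CommRing A] [Algebra.FiniteType ℤ A] [IsReduced A] :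
    ∃ N : ℤ, N ≠ 0 ∧ ∀ p : ℕ, p.Prime → ¬ (p : ℤ) ∣ N →
      IsReduced (A ⧸ Ideal.span {(p : A)}) := by
  classical
  haveI : IsNoetherianRing A := Algebra.FiniteType.isNoetherianRing ℤ A
  have hfin : (minimalPrimes A).Finite := minimalPrimes.finite_of_isNoetherianRing A
  haveI : Fintype (minimalPrimes A) := hfin.fintype
  haveI hprime : ∀ P : minimalPrimes A, (P.1).IsPrime := fun P => P.2.1.1
  haveI hft : ∀ P : minimalPrimes A,
      @Algebra.FiniteType ℤ (A ⧸ P.1) _ _ (Ring.toIntAlgebra _) := fun P =>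
    finiteType_int_of_surjective (Ideal.Quotient.mk P.1) Ideal.Quotient.mk_surjective
  -- domain case for each minimal prime
  have hdom : ∀ P : minimalPrimes A, ∃ N : ℤ, N ≠ 0 ∧ ∀ p : ℕ, p.Prime → ¬ (p : ℤ) ∣ N →
      IsReduced ((A ⧸ P.1) ⧸ Ideal.span {(p : A ⧸ P.1)}) :=
    fun P => exists_forall_isReduced_domain (A ⧸ P.1)
  choose NP hNP0 hNP using hdom
  -- the product of the quotients and the cokernel
  let A' := ∀ P : minimalPrimes A, A ⧸ P.1
  let φ : A →ₗ[A] A' := LinearMap.pi (fun P => (Ideal.Quotient.mkₐ A P.1).toLinearMap)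
  have hφ : ∀ (a : A) (P : minimalPrimes A), φ a P = Ideal.Quotient.mk P.1 a := fun a P => rfl
  have hφinj : Function.Injective φ := by
    rw [← LinearMap.ker_eq_bot, eq_bot_iff]
    intro a ha
    rw [LinearMap.mem_ker] at ha
    have hmem : a ∈ sInf (minimalPrimes A) := by
      rw [Submodule.mem_sInf]
      intro P hP
      have := congrFun ha ⟨P, hP⟩
      rw [hφ] at this
      exact Ideal.Quotient.eq_zero_iff_mem.mp this
    have h0 : sInf (minimalPrimes A) = (⊥ : Ideal A) := by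
      have := Ideal.sInf_minimalPrimes (I := (⊥ : Ideal A))
      rw [this]
      change nilradical A = ⊥
      exact nilradical_eq_zero A
    rw [h0] at hmem
    exact hmem
  let C := A' ⧸ LinearMap.range φ
  obtain ⟨NC, hNC0, hNC⟩ := exists_forall_prime_smul_eq_zero A C
  refine ⟨NC * ∏ P, NP P, mul_ne_zero hNC0 (Finset.prod_ne_zero_iff.mpr fun P _ => hNP0 P),
    fun p hp hpN => ?_⟩
  have hpC : ¬ (p : ℤ) ∣ NC := fun h => hpN (dvd_mul_of_dvd_left h _)
  have hpP : ∀ P, ¬ (p : ℤ) ∣ NP P := fun P h =>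
    hpN (dvd_mul_of_dvd_right (dvd_trans h (Finset.dvd_prod_of_mem _ (Finset.mem_univ P))) _)
  refine ⟨fun x hx => ?_⟩
  obtain ⟨a, rfl⟩ := Ideal.Quotient.mk_surjective x
  rw [Ideal.Quotient.eq_zero_iff_mem]
  obtain ⟨n, hn⟩ := hx
  rw [← map_pow, Ideal.Quotient.eq_zero_iff_mem] at hn
  obtain ⟨c, hc⟩ := Ideal.mem_span_singleton'.mp hn
  -- componentwise divisibility
  have hcomp : ∀ P : minimalPrimes A, ∃ y : A ⧸ P.1, Ideal.Quotient.mk P.1 a = (p : A ⧸ P.1) * y := by
    intro P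
    haveI := hNP P p hp (hpP P)
    have hnil : IsNilpotent (Ideal.Quotient.mk (Ideal.span {(p : A ⧸ P.1)})
        (Ideal.Quotient.mk P.1 a)) := by
      refine ⟨n, ?_⟩
      rw [← map_pow, ← map_pow, Ideal.Quotient.eq_zero_iff_mem, Ideal.mem_span_singleton']
      refine ⟨Ideal.Quotient.mk P.1 c, ?_⟩
      rw [← hc, map_mul, map_natCast]
    have h0 := IsReduced.eq_zero _ hnil
    rw [Ideal.Quotient.eq_zero_iff_mem] at h0
    obtain ⟨y, hy⟩ := Ideal.mem_span_singleton'.mp h0
    exact ⟨y, by rw [← hy, mul_comm]⟩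
  choose y hy using hcomp
  have hφa : φ a = (p : ℤ) • (y : A') := by
    funext P
    rw [hφ, hy P, Pi.smul_apply, zsmul_eq_mul, Int.cast_natCast]
  have hC : (p : ℤ) • (Submodule.Quotient.mk (y : A') : C) = 0 := by
    rw [← Submodule.Quotient.mk_smul, ← hφa, Submodule.Quotient.mk_eq_zero]
    exact LinearMap.mem_range_self φ a
  have hy0 := hNC p hp hpC _ hC
  rw [Submodule.Quotient.mk_eq_zero] at hy0
  obtain ⟨b, hb⟩ := hy0
  rw [Ideal.mem_span_singleton']
  refine ⟨b, hφinj ?_⟩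
  rw [hφa, ← hb, ← map_zsmul, zsmul_eq_mul, Int.cast_natCast, mul_comm]

/-- general universe version, as finiteness of the bad set. -/
theorem finite_not_isReduced (A : Type u) [CommRing A] [Algebra.FiniteType ℤ A] [IsReduced A] :
    {p : ℕ | p.Prime ∧ ¬ IsReduced (A ⧸ Ideal.span {(p : A)})}.Finite := by
  obtain ⟨n, f, hf⟩ := Algebra.FiniteType.iff_quotient_mvPolynomial''.mp
    (inferInstance : Algebra.FiniteType ℤ A)
  let A₀ := MvPolynomial (Fin n) ℤ ⧸ RingHom.ker f.toRingHom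
  let e : A₀ ≃+* A := RingHom.quotientKerEquivOfSurjective hf
  haveI : IsReduced A₀ := isReduced_of_injective e.toRingHom e.injective
  haveI : @Algebra.FiniteType ℤ A₀ _ _ (Ring.toIntAlgebra _) :=
    finiteType_int_of_surjective e.symm.toRingHom e.symm.surjective
  obtain ⟨N, hN0, hN⟩ := exists_forall_isReduced A₀
  refine Set.Finite.subset (Nat.divisors N.natAbs).finite_toSet ?_
  rintro p ⟨hp, hbad⟩
  rw [Finset.mem_coe, Nat.mem_divisors]
  refine ⟨?_, Int.natAbs_ne_zero.mpr hN0⟩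
  rw [← Int.natCast_dvd]
  by_contra hnd
  apply hbad
  haveI := hN p hp hnd
  have hmap : Ideal.span {(p : A)} = (Ideal.span {(p : A₀)}).map e.toRingHom := by
    rw [Ideal.map_span, Set.image_singleton]
    simp
  let e' : (A₀ ⧸ Ideal.span {(p : A₀)}) ≃+* (A ⧸ Ideal.span {(p : A)}) :=
    Ideal.quotientEquiv _ _ e hmap
  exact isReduced_of_injective e'.symm.toRingHom e'.symm.injective

end Groth.Agent.Lib.Helper99.GenRed
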