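import Mathlib

/-!
# Homogeneous prime avoidance (helper99)

`exists_homogeneous_avoid`: for a homogeneous ideal `I` of an `ℕ`-graded ring and finitely many
prime ideals (not necessarily homogeneous), none containing `I` or the irrelevant ideal, there is
a homogeneous element of positive degree in `I` lying in none of the primes.
-/

set_option autoImplicit false

namespace Groth.Agent.Lib.Helper99.GeomHt

open DirectSum

variable {R A : Type*} [CommRing R] [CommRing A] [Algebra R A]
  (𝒜 : ℕ → Submodule R A) [GradedRing 𝒜]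

/-- an element outside a prime has a homogeneous component outside it -/
lemma exists_component_notMem (q : Ideal A) (x : A) (hx : x ∉ q) :
    ∃ i : ℕ, (decompose 𝒜 x i : A) ∉ q := by
  classical
  by_contra hcon
  push_neg at hcon
  apply hx
  rw [← DirectSum.sum_support_decompose 𝒜 x]
  exact q.sum_mem fun i _ => hcon i

lemma exists_homogeneous_notMem_single (I : Ideal A) (hI : I.IsHomogeneous 𝒜) (q : Ideal A)
    [q.IsPrime] (h1 : ¬ I ≤ q) (h2 : ¬ (HomogeneousIdeal.irrelevant 𝒜).toIdeal ≤ q) :
    ∃ (n : ℕ) (z : A), 0 < n ∧ z ∈ 𝒜 n ∧ z ∈ I ∧ z ∉ q := by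
  classical
  obtain ⟨x, hxI, hxq⟩ := SetLike.not_le_iff_exists.mp h1
  obtain ⟨i, hi⟩ := exists_component_notMem 𝒜 q x hxq
  obtain ⟨y, hyI, hyq⟩ := SetLike.not_le_iff_exists.mp h2
  obtain ⟨j, hj⟩ := exists_component_notMem 𝒜 q y hyq
  have hj0 : j ≠ 0 := by
    rintro rfl
    apply hj
    have : (decompose 𝒜 y 0 : A) = 0 := (HomogeneousIdeal.mem_irrelevant_iff 𝒜 y).mp hyI
    rw [this]
    exact q.zero_mem
  refine ⟨i + j, (decompose 𝒜 x i : A) * (decompose 𝒜 y j : A), by omega, ?_, ?_, ?_⟩
  · exact SetLike.mul_mem_graded (Submodule.coe_mem _) (Submodule.coe_mem _)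
  · exact I.mul_mem_right _ (hI i hxI)
  · intro hmem
    rcases (Ideal.IsPrime.mem_or_mem inferInstance hmem) with h | h
    · exact hi h
    · exact hj h

/-- **homogeneous prime avoidance** -/
theorem exists_homogeneous_avoid (I : Ideal A) (hI : I.IsHomogeneous 𝒜) :
    ∀ (S : Finset (Ideal A)),
      (∀ q ∈ S, q.IsPrime ∧ ¬ I ≤ q ∧ ¬ (HomogeneousIdeal.irrelevant 𝒜).toIdeal ≤ q) →
      ∃ (n : ℕ) (z : A), 0 < n ∧ z ∈ 𝒜 n ∧ z ∈ I ∧ ∀ q ∈ S, z ∉ q := by
  classical
  intro S
  induction S using Finset.strongInduction with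
  | H S IH =>
    intro hS
    rcases Nat.lt_or_ge S.card 2 with hcard | hcard
    · -- at most one prime
      rcases Finset.eq_empty_or_nonempty S with rfl | ⟨q, hq⟩
      · exact ⟨1, 0, one_pos, Submodule.zero_mem _, I.zero_mem, by simp⟩
      · have hSq : S = {q} := by
          have h1 : S.card = 1 := by
            have := Finset.card_pos.mpr ⟨q, hq⟩
            omega
          obtain ⟨a, ha⟩ := Finset.card_eq_one.mp h1
          rw [ha] at hq ⊢
          rw [Finset.mem_singleton] at hq
          rw [hq]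
        obtain ⟨hqp, h1, h2⟩ := hS q hq
        obtain ⟨n, z, hn, hz, hzI, hzq⟩ := exists_homogeneous_notMem_single 𝒜 I hI q h1 h2
        refine ⟨n, z, hn, hz, hzI, ?_⟩
        intro q' hq'
        rw [hSq, Finset.mem_singleton] at hq'
        rw [hq']
        exact hzq
    · -- at least two primes
      have key : ∀ q ∈ S, ∃ (n : ℕ) (z : A), 0 < n ∧ z ∈ 𝒜 n ∧ z ∈ I ∧
          ∀ q' ∈ S.erase q, z ∉ q' := by
        intro q hq
        exact IH (S.erase q) (Finset.erase_ssubset hq)
          (fun q' hq' => hS q' (Finset.mem_of_mem_erase hq'))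
      choose! n z hn hz hzI hzq using key
      by_cases hex : ∃ q ∈ S, z q ∉ q
      · obtain ⟨q, hq, hzqq⟩ := hex
        refine ⟨n q, z q, hn q hq, hz q hq, hzI q hq, ?_⟩
        intro q' hq'
        by_cases hqq : q' = q
        · rw [hqq]; exact hzqq
        · exact hzq q hq q' (Finset.mem_erase.mpr ⟨hqq, hq'⟩)
      · push_neg at hex
        obtain ⟨q₀, hq₀⟩ : S.Nonempty := Finset.card_pos.mp (by omega)
        have hne : (S.erase q₀).Nonempty := by
          rw [← Finset.card_pos, Finset.card_erase_of_mem hq₀]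
          omega
        set m := ∑ q ∈ S.erase q₀, n q with hm
        set w := ∏ q ∈ S.erase q₀, z q with hw
        have hmpos : 0 < m := by
          apply Finset.sum_pos _ hne
          intro q hq
          exact hn q (Finset.mem_of_mem_erase hq)
        have hwdeg : w ∈ 𝒜 m :=
          SetLike.prod_mem_graded 𝒜 n z (fun q hq => hz q (Finset.mem_of_mem_erase hq))
        haveI hq₀p : q₀.IsPrime := (hS q₀ hq₀).1
        have hwq₀ : w ∉ q₀ := by
          rw [hw, Ideal.IsPrime.prod_mem_iff]
          rintro ⟨q, hq, hzq₀⟩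
          refine hzq q (Finset.mem_of_mem_erase hq) q₀ ?_ hzq₀
          exact Finset.mem_erase.mpr ⟨(Finset.ne_of_mem_erase hq).symm, hq₀⟩
        have hwq : ∀ q ∈ S.erase q₀, w ∈ q := by
          intro q hq
          haveI : q.IsPrime := (hS q (Finset.mem_of_mem_erase hq)).1
          rw [hw, Ideal.IsPrime.prod_mem_iff]
          exact ⟨q, hq, hex q (Finset.mem_of_mem_erase hq)⟩
        have hwI : w ∈ I := by
          obtain ⟨q, hq⟩ := hne
          rw [hw, ← Finset.mul_prod_erase _ _ hq]
          exact I.mul_mem_right _ (hzI q (Finset.mem_of_mem_erase hq))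
        refine ⟨m * n q₀, z q₀ ^ m + w ^ n q₀, Nat.mul_pos hmpos (hn q₀ hq₀), ?_, ?_, ?_⟩
        · apply Submodule.add_mem
          · have := SetLike.pow_mem_graded m (hz q₀ hq₀)
            rwa [smul_eq_mul] at this
          · have := SetLike.pow_mem_graded (n q₀) hwdeg
            rwa [smul_eq_mul, mul_comm] at this
        · apply I.add_mem
          · exact Ideal.pow_mem_of_mem I (hzI q₀ hq₀) m hmpos
          · exact Ideal.pow_mem_of_mem I hwI (n q₀) (hn q₀ hq₀)
        · intro q hq
          haveI : q.IsPrime := (hS q hq).1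
          by_cases hqq : q = q₀
          · rw [hqq]
            intro hmem
            have h1 : z q₀ ^ m ∈ q₀ := Ideal.pow_mem_of_mem q₀ (hex q₀ hq₀) m hmpos
            have h2 : w ^ n q₀ ∈ q₀ := (Ideal.add_mem_iff_right q₀ h1).mp hmem
            exact hwq₀ (Ideal.IsPrime.mem_of_pow_mem hq₀p _ h2)
          · have hq' : q ∈ S.erase q₀ := Finset.mem_erase.mpr ⟨hqq, hq⟩
            intro hmem
            have h1 : w ^ n q₀ ∈ q := Ideal.pow_mem_of_mem q (hwq q hq') _ (hn q₀ hq₀)
            have h2 : z q₀ ^ m ∈ q := (Ideal.add_mem_iff_left q h1).mp hmem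
            exact hzq q₀ hq₀ q hq' (Ideal.IsPrime.mem_of_pow_mem inferInstance _ h2)

end Groth.Agent.Lib.Helper99.GeomHt
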