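import Mathlib
import Groth.Prelude.Def_W4c2ratsingkovacsGH

/-!
# Primes of `A_(f)` and homogeneous primes of `A` (helper99)

A convenient interface (in terms of the prelude's `locIdeal`) to Mathlib's
`ProjIsoSpecTopComponent` prime correspondence.
-/

set_option autoImplicit false

namespace Groth.Agent.Lib.Helper99.GeomHt

open DirectSum W4c2ratsingkovacs AlgebraicGeometry

variable {R A : Type*} [CommRing R] [CommRing A] [Algebra R A]
  (𝒜 : ℕ → Submodule R A) [GradedRing 𝒜]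

lemma locIdeal_mono {I I' : Ideal A} (h : I ≤ I') (f : A) : locIdeal 𝒜 I f ≤ locIdeal 𝒜 I' f :=
  Ideal.comap_mono (Ideal.map_mono h)

/-- (C5) membership of a fraction in `Q_(f)` for a prime `Q` not containing `f` -/
theorem mk_mem_locIdeal_iff (Q : Ideal A) [Q.IsPrime] (f : A) (hf : f ∉ Q)
    (z : HomogeneousLocalization.NumDenSameDeg 𝒜 (.powers f)) :
    HomogeneousLocalization.mk z ∈ locIdeal 𝒜 Q f ↔ z.num.1 ∈ Q := by
  rw [locIdeal, Ideal.mem_comap, HomogeneousLocalization.algebraMap_apply,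
    HomogeneousLocalization.val_mk, Localization.mk_eq_mk', IsLocalization.mk'_eq_mul_mk'_one,
    mul_comm, Ideal.unit_mul_mem_iff_mem, ← Ideal.mem_under,
    IsLocalization.under_map_of_isPrime_disjoint (.powers f)]
  · infer_instance
  · exact (Ideal.disjoint_powers_iff_notMem_of_isPrime _).mpr hf
  · exact isUnit_of_invertible _

/-- (C2) -/
theorem isPrime_locIdeal (Q : Ideal A) [Q.IsPrime] (f : A) (hf : f ∉ Q) :
    (locIdeal 𝒜 Q f).IsPrime := by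
  refine Ideal.IsPrime.comap _ (hK := ?_)
  exact IsLocalization.isPrime_of_isPrime_disjoint
    (Submonoid.powers f) _ _ inferInstance
    ((Ideal.disjoint_powers_iff_notMem_of_isPrime _).mpr hf)

variable {𝒜}

/-- the fraction `z^m / f^d` for `z` homogeneous of degree `d`, `f` of degree `m` -/
noncomputable def frac {f : A} {m : ℕ} (f_deg : f ∈ 𝒜 m) (z : A) (d : ℕ) (hz : z ∈ 𝒜 d) :
    HomogeneousLocalization.Away 𝒜 f :=
  HomogeneousLocalization.mk ⟨m * d, ⟨z ^ m, by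
      rw [← smul_eq_mul]; exact SetLike.pow_mem_graded m hz⟩,
    ⟨f ^ d, by rw [mul_comm, ← smul_eq_mul]; exact SetLike.pow_mem_graded d f_deg⟩, ⟨d, rfl⟩⟩

lemma frac_mem_locIdeal_iff {f : A} {m : ℕ} (f_deg : f ∈ 𝒜 m) (hm : 0 < m) (z : A) (d : ℕ)
    (hz : z ∈ 𝒜 d) (Q : Ideal A) [Q.IsPrime] (hf : f ∉ Q) :
    frac f_deg z d hz ∈ locIdeal 𝒜 Q f ↔ z ∈ Q := by
  rw [frac, mk_mem_locIdeal_iff 𝒜 Q f hf]
  exact Ideal.IsPrime.pow_mem_iff_mem inferInstance m hm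

lemma frac_mem_locIdeal_of_mem {f : A} {m : ℕ} (f_deg : f ∈ 𝒜 m) (hm : 0 < m) (z : A) (d : ℕ)
    (hz : z ∈ 𝒜 d) (I : Ideal A) (hzI : z ∈ I) :
    frac f_deg z d hz ∈ locIdeal 𝒜 I f := by
  rw [frac, locIdeal, Ideal.mem_comap, HomogeneousLocalization.algebraMap_apply,
    HomogeneousLocalization.val_mk, Localization.mk_eq_mk', IsLocalization.mk'_eq_mul_mk'_one]
  exact Ideal.mul_mem_right _ _ (Ideal.mem_map_of_mem _ (Ideal.pow_mem_of_mem I hzI m hm))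

/-- (C3) -/
theorem le_of_locIdeal_le {f : A} {m : ℕ} (f_deg : f ∈ 𝒜 m) (hm : 0 < m)
    (Q₁ Q₂ : Ideal A) [Q₁.IsPrime] [Q₂.IsPrime] (h₁ : Q₁.IsHomogeneous 𝒜) (hf₁ : f ∉ Q₁)
    (hf₂ : f ∉ Q₂) (hle : locIdeal 𝒜 Q₁ f ≤ locIdeal 𝒜 Q₂ f) : Q₁ ≤ Q₂ := by
  classical
  intro a ha
  rw [← DirectSum.sum_support_decompose 𝒜 a]
  refine Q₂.sum_mem fun i _ => ?_
  have hi : (decompose 𝒜 a i : A) ∈ Q₁ := h₁ i ha
  have h1 := (frac_mem_locIdeal_iff f_deg hm _ i (Submodule.coe_mem _) Q₁ hf₁).mpr hi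
  exact (frac_mem_locIdeal_iff f_deg hm _ i (Submodule.coe_mem _) Q₂ hf₂).mp (hle h1)

/-- (C1) every prime of `A_(f)` comes from a homogeneous prime of `A` not containing `f` -/
theorem exists_homogeneous_prime {f : A} {m : ℕ} (f_deg : f ∈ 𝒜 m) (hm : 0 < m)
    (𝔓 : Ideal (HomogeneousLocalization.Away 𝒜 f)) [h𝔓 : 𝔓.IsPrime] :
    ∃ Q : Ideal A, Q.IsHomogeneous 𝒜 ∧ Q.IsPrime ∧ f ∉ Q ∧ locIdeal 𝒜 Q f = 𝔓 := by
  let x := ProjIsoSpecTopComponent.FromSpec.toFun f_deg hm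
    (⟨𝔓, h𝔓⟩ : PrimeSpectrum (HomogeneousLocalization.Away 𝒜 f))
  refine ⟨x.1.asHomogeneousIdeal.toIdeal, x.1.asHomogeneousIdeal.isHomogeneous, x.1.isPrime,
    ?_, ?_⟩
  · exact (ProjectiveSpectrum.mem_basicOpen 𝒜 f x.1).mp x.2
  · have h := ProjIsoSpecTopComponent.toSpec_fromSpec 𝒜 f_deg hm
      (⟨𝔓, h𝔓⟩ : PrimeSpectrum (HomogeneousLocalization.Away 𝒜 f))
    have h2 := congrArg PrimeSpectrum.asIdeal h
    exact h2

/-- (C6) -/
theorem locIdeal_ne_top (I : Ideal A) (f : A) (hf : f ∉ I.radical) : locIdeal 𝒜 I f ≠ ⊤ := by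
  intro h
  have h1 : (1 : HomogeneousLocalization.Away 𝒜 f) ∈ locIdeal 𝒜 I f := by rw [h]; trivial
  rw [locIdeal, Ideal.mem_comap, map_one] at h1
  have h2 : I.map (algebraMap A (Localization.Away f)) = ⊤ := (Ideal.eq_top_iff_one _).mpr h1
  have h3 := (IsLocalization.map_algebraMap_ne_top_iff_disjoint (Submonoid.powers f)
    (Localization.Away f) I).not.mp (by simpa using h2)
  rw [Set.not_disjoint_iff] at h3
  obtain ⟨y, ⟨n, rfl⟩, hy⟩ := h3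
  exact hf ⟨n, hy⟩

end Groth.Agent.Lib.Helper99.GeomHt
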