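import Mathlib
import Groth.Prelude.Def_W4c2ratsingkovacsGH
import Groth.Agent.Lib.Helper75.GradedNoeth
import Groth.Agent.Lib.Helper99.GeomHtA
import Groth.Agent.Lib.Helper99.GeomHtB

/-!
# Geometric heights of ideals generated by well-chosen homogeneous elements (helper99)
-/

set_option autoImplicit false

namespace Groth.Agent.Lib.Helper99.GeomHt

open DirectSum W4c2ratsingkovacs

variable {R A : Type*} [CommRing R] [CommRing A] [Algebra R A]
  (𝒜 : ℕ → Submodule R A) [GradedRing 𝒜]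

theorem isNoetherianRing_away [IsNoetherianRing A] {f : A} {m : ℕ} (f_deg : f ∈ 𝒜 m) :
    IsNoetherianRing (HomogeneousLocalization.Away 𝒜 f) := by
  have h1 : Algebra.FiniteType (𝒜 0) A := Groth.Agent.Lib.Helper75.finiteType_of_isNoetherianRing 𝒜
  have h2 : Algebra.FiniteType (𝒜 0) (HomogeneousLocalization.Away 𝒜 f) :=
    HomogeneousLocalization.Away.finiteType f m f_deg
  exact Algebra.FiniteType.isNoetherianRing (𝒜 0) (HomogeneousLocalization.Away 𝒜 f)

lemma ncard_toSet_le' {α : Type*} (l : List α) : ({x | x ∈ l} : Set α).ncard ≤ l.length := by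
  classical
  have : ({x | x ∈ l} : Set α) = ↑l.toFinset := by ext; simp
  rw [this, Set.ncard_coe_finset]
  exact List.toFinset_card_le l

/-- if all members of `zs` are homogeneous and `(zs)_(f) ≤ Q_(f)` then `zs ⊆ Q` -/
lemma ofList_le_of_locIdeal_le {f : A} {m : ℕ} (f_deg : f ∈ 𝒜 m) (hm : 0 < m) (zs : List A)
    (hz : ∀ z ∈ zs, ∃ d, z ∈ 𝒜 d) (Q : Ideal A) [Q.IsPrime] (hf : f ∉ Q)
    (hle : locIdeal 𝒜 (Ideal.ofList zs) f ≤ locIdeal 𝒜 Q f) : Ideal.ofList zs ≤ Q := by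
  rw [Ideal.ofList, Ideal.span_le]
  intro z hzz
  obtain ⟨d, hd⟩ := hz z hzz
  have h1 := frac_mem_locIdeal_of_mem f_deg hm z d hd (Ideal.ofList zs) (Ideal.subset_span hzz)
  exact (frac_mem_locIdeal_iff f_deg hm z d hd Q hf).mp (hle h1)

/-- (U): some prime over `(zs)_(f)` has height at most `zs.length` -/
theorem upper [IsNoetherianRing A] (zs : List A) (hz : ∀ z ∈ zs, ∃ d, z ∈ 𝒜 d) {f : A} {m : ℕ}
    (f_deg : f ∈ 𝒜 m) (hm : 0 < m) (hne : locIdeal 𝒜 (Ideal.ofList zs) f ≠ ⊤) :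
    ∃ 𝔓 : Ideal (HomogeneousLocalization.Away 𝒜 f), 𝔓.IsPrime ∧
      locIdeal 𝒜 (Ideal.ofList zs) f ≤ 𝔓 ∧ 𝔓.height ≤ zs.length := by
  classical
  haveI := isNoetherianRing_away 𝒜 f_deg
  let g : A → HomogeneousLocalization.Away 𝒜 f := fun z =>
    if h : ∃ d, z ∈ 𝒜 d then frac f_deg z h.choose h.choose_spec else 0
  have hg : ∀ z ∈ zs, g z ∈ locIdeal 𝒜 (Ideal.ofList zs) f := by
    intro z hzz
    have h := hz z hzz
    simp only [g, dif_pos h]
    exact frac_mem_locIdeal_of_mem f_deg hm z _ _ _ (Ideal.subset_span hzz)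
  set K : Ideal (HomogeneousLocalization.Away 𝒜 f) := Ideal.span (g '' {z | z ∈ zs}) with hK
  have hKle : K ≤ locIdeal 𝒜 (Ideal.ofList zs) f := by
    rw [hK, Ideal.span_le]
    rintro _ ⟨z, hzz, rfl⟩
    exact hg z hzz
  have hKne : K ≠ ⊤ := fun h => hne (top_le_iff.mp (h ▸ hKle))
  obtain ⟨M, hM, hKM⟩ := Ideal.exists_le_maximal K hKne
  haveI : M.IsPrime := hM.isPrime
  obtain ⟨𝔓, h𝔓, -⟩ := Ideal.exists_minimalPrimes_le hKM
  haveI h𝔓p : 𝔓.IsPrime := h𝔓.1.1
  refine ⟨𝔓, h𝔓p, ?_, ?_⟩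
  · obtain ⟨Q, hQh, hQp, hfQ, hQ𝔓⟩ := exists_homogeneous_prime f_deg hm 𝔓
    haveI := hQp
    rw [← hQ𝔓]
    apply locIdeal_mono
    rw [Ideal.ofList, Ideal.span_le]
    intro z hzz
    have h := hz z hzz
    have h1 : g z ∈ 𝔓 := h𝔓.1.2 (Ideal.subset_span ⟨z, hzz, rfl⟩)
    simp only [g, dif_pos h] at h1
    rw [← hQ𝔓] at h1
    exact (frac_mem_locIdeal_iff f_deg hm z _ _ Q hfQ).mp h1
  · have hfin : (g '' {z | z ∈ zs}).Finite := (List.finite_toSet zs).image g
    have h1 := Ideal.height_le_card_of_mem_minimalPrimes_span hfin h𝔓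
    have h2 : (g '' {z | z ∈ zs}).ncard ≤ zs.length :=
      (Set.ncard_image_le (List.finite_toSet zs)).trans (ncard_toSet_le' zs)
    exact h1.trans (by exact_mod_cast h2)

/-- the inductive choice of the `z_j` -/
inductive Good (J : Ideal A) : List A → Prop
  | nil : Good J []
  | snoc (zs : List A) (z : A) : Good J zs → (∃ n, 0 < n ∧ z ∈ 𝒜 n) → z ∈ J →
      (∀ Q ∈ (Ideal.ofList zs).minimalPrimes, ¬ J ≤ Q →
        ¬ (HomogeneousIdeal.irrelevant 𝒜).toIdeal ≤ Q → z ∉ Q) →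
      Good J (zs ++ [z])

variable {𝒜} {J : Ideal A}

lemma Good.homog {zs : List A} (h : Good 𝒜 J zs) : ∀ z ∈ zs, ∃ n, 0 < n ∧ z ∈ 𝒜 n := by
  induction h with
  | nil => simp
  | snoc zs z _ hz _ _ ih =>
    intro y hy
    rw [List.mem_append, List.mem_singleton] at hy
    rcases hy with hy | rfl
    · exact ih y hy
    · exact hz

lemma Good.mem {zs : List A} (h : Good 𝒜 J zs) : ∀ z ∈ zs, z ∈ J := by
  induction h with
  | nil => simp
  | snoc zs z _ _ hz _ ih =>
    intro y hy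
    rw [List.mem_append, List.mem_singleton] at hy
    rcases hy with hy | rfl
    · exact ih y hy
    · exact hz

lemma Good.ofList_le {zs : List A} (h : Good 𝒜 J zs) : Ideal.ofList zs ≤ J := by
  rw [Ideal.ofList, Ideal.span_le]
  exact fun z hz => h.mem z hz

lemma Good.isHomogeneous {zs : List A} (h : Good 𝒜 J zs) : (Ideal.ofList zs).IsHomogeneous 𝒜 := by
  apply Ideal.homogeneous_span
  intro z hz
  obtain ⟨n, -, hn⟩ := h.homog z hz
  exact ⟨n, hn⟩

/-- (L): every prime over `(zs)_(f)` has height at least `zs.length` -/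
theorem Good.lower [IsNoetherianRing A] {zs : List A} (hg : Good 𝒜 J zs) (h : ℕ) {f : A} {m : ℕ}
    (f_deg : f ∈ 𝒜 m) (hm : 0 < m) (hJf : (h : ℕ∞) ≤ (locIdeal 𝒜 J f).height) :
    zs.length ≤ h → ∀ 𝔓 : Ideal (HomogeneousLocalization.Away 𝒜 f), 𝔓.IsPrime →
      locIdeal 𝒜 (Ideal.ofList zs) f ≤ 𝔓 → (zs.length : ℕ∞) ≤ 𝔓.height := by
  haveI := isNoetherianRing_away 𝒜 f_deg
  induction hg with
  | nil => intro _ 𝔓 _ _; simp
  | snoc zs z hgz hzdeg hzJ hzQ ih =>
    intro hlen 𝔓 h𝔓 hle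
    rw [List.length_append, List.length_singleton] at hlen ⊢
    have hle0 : locIdeal 𝒜 (Ideal.ofList zs) f ≤ 𝔓 :=
      (locIdeal_mono 𝒜 (by rw [Ideal.ofList_append]; exact le_sup_left) f).trans hle
    obtain ⟨𝔓', h𝔓'min, h𝔓'le⟩ := Ideal.exists_minimalPrimes_le hle0
    haveI h𝔓'p : 𝔓'.IsPrime := h𝔓'min.1.1
    have h1 : (zs.length : ℕ∞) ≤ 𝔓'.height := ih (by omega) 𝔓' h𝔓'p h𝔓'min.1.2
    push_cast
    by_cases hbig : ((zs.length : ℕ∞) + 1) ≤ 𝔓'.height
    · exact hbig.trans (Ideal.height_mono h𝔓'le)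
    · have hne : 𝔓' ≠ 𝔓 := by
        intro heq
        obtain ⟨Q', hQ'h, hQ'p, hfQ', hQ'𝔓⟩ := exists_homogeneous_prime f_deg hm 𝔓'
        haveI := hQ'p
        -- `z ∈ Q'`
        obtain ⟨d, -, hd⟩ := hzdeg
        have hzQ' : z ∈ Q' := by
          have h2 : frac f_deg z d hd ∈ locIdeal 𝒜 (Ideal.ofList (zs ++ [z])) f :=
            frac_mem_locIdeal_of_mem f_deg hm z d hd _
              (Ideal.subset_span (by simp))
          have h3 : frac f_deg z d hd ∈ locIdeal 𝒜 Q' f := by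
            rw [hQ'𝔓, heq]; exact hle h2
          exact (frac_mem_locIdeal_iff f_deg hm z d hd Q' hfQ').mp h3
        -- `Q'` is a minimal prime of `ofList zs`
        have hIQ' : Ideal.ofList zs ≤ Q' := by
          apply ofList_le_of_locIdeal_le 𝒜 f_deg hm zs
            (fun y hy => (hgz.homog y hy).imp fun n hn => hn.2) Q' hfQ'
          rw [hQ'𝔓]
          exact h𝔓'min.1.2
        have hmin : Q' ∈ (Ideal.ofList zs).minimalPrimes := by
          refine ⟨⟨hQ'p, hIQ'⟩, ?_⟩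
          rintro Q'' ⟨hQ''p, hIQ''⟩ hQ''le
          have hcp : ((Q''.homogeneousCore 𝒜).toIdeal).IsPrime := hQ''p.homogeneousCore
          have hcle : (Q''.homogeneousCore 𝒜).toIdeal ≤ Q'' := Ideal.toIdeal_homogeneousCore_le 𝒜 Q''
          have hIc : Ideal.ofList zs ≤ (Q''.homogeneousCore 𝒜).toIdeal := by
            have h4 := Ideal.homogeneousCore_mono 𝒜 hIQ''
            have h5 := hgz.isHomogeneous.toIdeal_homogeneousCore_eq_self
            rw [← h5]
            exact h4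
          have hfc : f ∉ (Q''.homogeneousCore 𝒜).toIdeal := fun hf => hfQ' (hQ''le (hcle hf))
          have hp'' := isPrime_locIdeal 𝒜 (Q''.homogeneousCore 𝒜).toIdeal f hfc
          have h6 : locIdeal 𝒜 (Ideal.ofList zs) f ≤
              locIdeal 𝒜 (Q''.homogeneousCore 𝒜).toIdeal f := locIdeal_mono 𝒜 hIc f
          have h7 : locIdeal 𝒜 (Q''.homogeneousCore 𝒜).toIdeal f ≤ 𝔓' := by
            rw [← hQ'𝔓]
            exact locIdeal_mono 𝒜 (hcle.trans hQ''le) f
          have h8 : 𝔓' ≤ locIdeal 𝒜 (Q''.homogeneousCore 𝒜).toIdeal f :=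
            h𝔓'min.2 ⟨hp'', h6⟩ h7
          rw [← hQ'𝔓] at h8
          exact (le_of_locIdeal_le f_deg hm Q' _ hQ'h hfQ' hfc h8).trans hcle
        -- `Q'` does not contain `J`
        have hJQ' : ¬ J ≤ Q' := by
          intro hJle
          have h9 : locIdeal 𝒜 J f ≤ 𝔓' := by
            rw [← hQ'𝔓]; exact locIdeal_mono 𝒜 hJle f
          have h10 := hJf.trans (Ideal.height_mono h9)
          apply hbig
          refine le_trans ?_ h10
          exact_mod_cast hlen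
        have hirr : ¬ (HomogeneousIdeal.irrelevant 𝒜).toIdeal ≤ Q' := by
          intro hle'
          exact hfQ' (hle' (HomogeneousIdeal.mem_irrelevant_of_mem 𝒜 hm f_deg))
        exact hzQ Q' hmin hJQ' hirr hzQ'
      have hlt : 𝔓' < 𝔓 := lt_of_le_of_ne h𝔓'le hne
      have h2 := Ideal.height_strict_mono_of_isPrime hlt
      exact Order.add_one_le_of_lt (lt_of_le_of_lt h1 h2)

/-- the geometric height of a good list -/
theorem Good.geomHeight_eq [IsNoetherianRing A] {zs : List A} (hg : Good 𝒜 J zs) (h : ℕ) {f : A}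
    {m : ℕ} (f_deg : f ∈ 𝒜 m) (hm : 0 < m) (hJf : (h : ℕ∞) ≤ (locIdeal 𝒜 J f).height)
    (hfJ : f ∉ J.radical) (hlen : zs.length ≤ h) :
    geomHeight 𝒜 (Ideal.ofList zs) f = zs.length := by
  unfold geomHeight
  apply le_antisymm
  · have hne : locIdeal 𝒜 (Ideal.ofList zs) f ≠ ⊤ := fun htop =>
      locIdeal_ne_top (𝒜 := 𝒜) J f hfJ (top_le_iff.mp (htop ▸ locIdeal_mono 𝒜 hg.ofList_le f))
    obtain ⟨𝔓, _, h1, h2⟩ := upper 𝒜 zs (fun z hz => (hg.homog z hz).imp fun n hn => hn.2)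
      f_deg hm hne
    exact (Ideal.height_mono h1).trans h2
  · rw [Ideal.height_eq_inf_minimalPrimes]
    exact le_iInf₂ fun 𝔓 h𝔓 => hg.lower h f_deg hm hJf hlen 𝔓 h𝔓.1.1 h𝔓.1.2

/-- all prefixes -/
theorem Good.geomHeight_take [IsNoetherianRing A] {zs : List A} (hg : Good 𝒜 J zs) (h : ℕ)
    {f : A} {m : ℕ} (f_deg : f ∈ 𝒜 m) (hm : 0 < m) (hJf : (h : ℕ∞) ≤ (locIdeal 𝒜 J f).height)
    (hfJ : f ∉ J.radical) :
    zs.length ≤ h → ∀ j : ℕ, j ≤ zs.length →
      geomHeight 𝒜 (Ideal.ofList (zs.take j)) f = j := by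
  induction hg with
  | nil =>
    intro _ j hj
    have : j = 0 := by simpa using hj
    subst this
    simpa using (Good.nil : Good 𝒜 J []).geomHeight_eq h f_deg hm hJf hfJ (by simp)
  | snoc zs z hgz hzdeg hzJ hzQ ih =>
    intro hlen j hj
    rw [List.length_append, List.length_singleton] at hlen hj
    rcases Nat.lt_or_ge zs.length j with hlt | hge
    · have hj' : j = (zs ++ [z]).length := by
        rw [List.length_append, List.length_singleton]; omega
      rw [hj', List.take_length]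
      exact (Good.snoc zs z hgz hzdeg hzJ hzQ).geomHeight_eq h f_deg hm hJf hfJ
        (by rw [List.length_append, List.length_singleton]; exact hlen)
    · rw [List.take_append_of_le_length hge]
      exact ih (by omega) j hge

variable (𝒜 J)

/-- existence of good lists avoiding a finite set of primes -/
theorem exists_good [IsNoetherianRing A] (hJ : J.IsHomogeneous 𝒜) (P : Finset (Ideal A))
    (hP : ∀ q ∈ P, q.IsPrime ∧ ¬ J ≤ q ∧ ¬ (HomogeneousIdeal.irrelevant 𝒜).toIdeal ≤ q) (j : ℕ) :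
    ∃ zs : List A, zs.length = j ∧ Good 𝒜 J zs ∧ ∀ z ∈ zs, ∀ q ∈ P, z ∉ q := by
  classical
  induction j with
  | zero => exact ⟨[], rfl, Good.nil, by simp⟩
  | succ j ih =>
    obtain ⟨zs, hlen, hg, havoid⟩ := ih
    have hfin := (Ideal.ofList zs).finite_minimalPrimes_of_isNoetherianRing A
    set S : Finset (Ideal A) := P ∪ hfin.toFinset.filter
      (fun Q => ¬ J ≤ Q ∧ ¬ (HomogeneousIdeal.irrelevant 𝒜).toIdeal ≤ Q) with hS
    have hSprop : ∀ q ∈ S, q.IsPrime ∧ ¬ J ≤ q ∧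
        ¬ (HomogeneousIdeal.irrelevant 𝒜).toIdeal ≤ q := by
      intro q hq
      rw [hS, Finset.mem_union, Finset.mem_filter, Set.Finite.mem_toFinset] at hq
      rcases hq with hq | ⟨hq1, hq2, hq3⟩
      · exact hP q hq
      · exact ⟨hq1.1.1, hq2, hq3⟩
    obtain ⟨n, z, hn, hz, hzJ, hzS⟩ := exists_homogeneous_avoid 𝒜 J hJ S hSprop
    refine ⟨zs ++ [z], by rw [List.length_append, List.length_singleton, hlen], ?_, ?_⟩
    · refine Good.snoc zs z hg ⟨n, hn, hz⟩ hzJ ?_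
      intro Q hQ h1 h2
      apply hzS Q
      rw [hS, Finset.mem_union, Finset.mem_filter, Set.Finite.mem_toFinset]
      exact Or.inr ⟨hQ, h1, h2⟩
    · intro y hy q hq
      rw [List.mem_append, List.mem_singleton] at hy
      rcases hy with hy | rfl
      · exact havoid y hy q hq
      · exact hzS q (by rw [hS, Finset.mem_union]; exact Or.inl hq)

end Groth.Agent.Lib.Helper99.GeomHt
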