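import Mathlib
import Groth.Prelude.Def_CAlg
import Groth.Agent.Lib.Helper77.Unmixed
import Groth.Agent.Lib.Helper99.DSeqC

/-!
# Colon identities for powers of a system of parameters in a Cohen–Macaulay local ring (helper99)
-/

set_option autoImplicit false
universe u

namespace Groth.Agent.Lib.Helper99.GorCech

open IsLocalRing RingTheory.Sequence

section General

variable {R : Type u} [CommRing R]

/-- one step of the colon computation. -/
theorem colon_step (I' : Ideal R) (y : R) (hy : ∀ r, y * r ∈ I' → r ∈ I') (n e : ℕ) (r : R)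
    (h : r * y ^ e ∈ Ideal.span {y ^ (n + e)} ⊔ I') : r ∈ Ideal.span {y ^ n} ⊔ I' := by
  have hye : ∀ (e : ℕ) (r : R), y ^ e * r ∈ I' → r ∈ I' := by
    intro e
    induction e with
    | zero => intro r hr; simpa using hr
    | succ e ih =>
      intro r hr
      apply ih
      apply hy
      have : y * (y ^ e * r) = y ^ (e + 1) * r := by ring
      rw [this]; exact hr
  obtain ⟨u, hu, v, hv, huv⟩ := Submodule.mem_sup.mp h
  obtain ⟨c, rfl⟩ := Ideal.mem_span_singleton'.mp hu
  have h1 : y ^ e * (r - c * y ^ n) ∈ I' := by
    have : y ^ e * (r - c * y ^ n) = v := by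
      have h3 : v = r * y ^ e - c * y ^ (n + e) := by rw [← huv]; ring
      rw [h3, pow_add]; ring
    rw [this]; exact hv
  have h2 := hye e _ h1
  have : r = c * y ^ n + (r - c * y ^ n) := by ring
  rw [this]
  exact Submodule.add_mem_sup (Ideal.mem_span_singleton'.mpr ⟨c, rfl⟩) h2

theorem span_range_eq_sup {ι : Type*} (f : ι → R) (i : ι) :
    Ideal.span (Set.range f) = Ideal.span {f i} ⊔ Ideal.span (f '' {j | j ≠ i}) := by
  rw [← Ideal.span_union]
  congr 1
  ext z
  constructor
  · rintro ⟨j, rfl⟩
    by_cases hj : j = i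
    · left; rw [hj]; rfl
    · right; exact ⟨j, hj, rfl⟩
  · rintro (h | ⟨j, -, rfl⟩)
    · rw [Set.mem_singleton_iff] at h; exact ⟨i, h.symm⟩
    · exact ⟨j, rfl⟩

end General

section CM

variable {R : Type u} [CommRing R] [LocCoh.IsCohenMacaulayLocalRing R]

/-- in a CM local ring each member of a system of parameters is regular modulo the others. -/
theorem regular_of_sop {d : ℕ} (hd : ringKrullDim R = d) (y : Fin d → R)
    (hy : (Ideal.span (Set.range y)).radical = maximalIdeal R) (i : Fin d) (r : R)
    (h : y i * r ∈ Ideal.span (y '' {j | j ≠ i})) : r ∈ Ideal.span (y '' {j | j ≠ i}) := by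
  classical
  set L' : List R := (Finset.univ.erase i).toList.map y with hL'
  set L : List R := L' ++ [y i] with hL
  have hofL' : Ideal.ofList L' = Ideal.span (y '' {j | j ≠ i}) := by
    rw [Ideal.ofList]
    congr 1
    ext z
    simp only [hL', List.mem_map, Finset.mem_toList, Finset.mem_erase, Finset.mem_univ, and_true,
      Set.mem_ofPred_eq, Set.mem_image]
  have hofL : Ideal.ofList L = Ideal.span (Set.range y) := by
    rw [hL, Ideal.ofList_append, hofL', span_range_eq_sup y i, sup_comm]
    congr 1
    rw [Ideal.ofList]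
    congr 1
    ext z
    simp
  have hmemy : ∀ j, y j ∈ maximalIdeal R := by
    intro j
    rw [← hy]
    exact Ideal.le_radical (Ideal.subset_span ⟨j, rfl⟩)
  have hmem : ∀ z ∈ L, z ∈ maximalIdeal R := by
    intro z hz
    have : z ∈ Ideal.ofList L := Ideal.subset_span hz
    rw [hofL] at this
    rw [← hy]
    exact Ideal.le_radical this
  have hlen' : L'.length = d - 1 := by
    rw [hL', List.length_map, Finset.length_toList, Finset.card_erase_of_mem (Finset.mem_univ i),
      Finset.card_univ, Fintype.card_fin]
  have hdpos : 0 < d := i.pos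
  have hlen : L.length = d := by
    rw [hL, List.length_append, hlen', List.length_singleton]; omega
  have hreg : IsWeaklyRegular R L := by
    apply Groth.Agent.Lib.Helper77.Unmixed.isWeaklyRegular_of_height R L hmem
    intro Q hQ
    rw [hofL] at hQ
    have h1 : maximalIdeal R ≤ Q.asIdeal := by
      rw [← hy]
      exact (Q.2.radical_le_iff).mpr hQ
    have h2 : Q.asIdeal = maximalIdeal R :=
      le_antisymm (IsLocalRing.le_maximalIdeal Q.2.ne_top) h1
    rw [h2, hlen]
    have h3 := IsLocalRing.maximalIdeal_height_eq_ringKrullDim (R := R)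
    rw [hd] at h3
    have h4 : (maximalIdeal R).height = (d : ℕ∞) := by exact_mod_cast h3
    rw [h4]
  have hi : L'.length < L.length := by rw [hlen, hlen']; omega
  have key := Groth.Agent.Lib.Helper99.DSeq.regular_of_isWeaklyRegular L hreg L'.length hi
  have e1 : L[L'.length]'hi = y i := by
    simp [hL]
  have e2 : L.take L'.length = L' := by
    simp [hL]
  rw [e1, e2, hofL'] at key
  exact key r h

end CM

end Groth.Agent.Lib.Helper99.GorCech
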