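import Mathlib
import Groth.Agent.Lib.Helper99.GorCechA

/-!
# Colon identities for powers of a system of parameters, II (helper99)
-/

set_option autoImplicit false
universe u

namespace Groth.Agent.Lib.Helper99.GorCech

open IsLocalRing

section Defs

variable {R : Type u} [CommRing R] {d : ℕ} (x : Fin d → R)

/-- the ideal `(x_1^{a_1}, …, x_d^{a_d})`. -/
def Jp (a : Fin d → ℕ) : Ideal R := Ideal.span (Set.range fun j => x j ^ a j)

theorem pow_mem_Jp (a : Fin d → ℕ) (j : Fin d) : x j ^ a j ∈ Jp x a :=
  Ideal.subset_span ⟨j, rfl⟩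

end Defs

section CM

variable {R : Type u} [CommRing R] [LocCoh.IsCohenMacaulayLocalRing R] {d : ℕ}
  (hd : ringKrullDim R = d) (x : Fin d → R)
  (hx : (Ideal.span (Set.range x)).radical = maximalIdeal R)

include hx in
theorem x_mem (j : Fin d) : x j ∈ maximalIdeal R := by
  rw [← hx]
  exact Ideal.le_radical (Ideal.subset_span ⟨j, rfl⟩)

include hx in
theorem Jp_le_pow (N : ℕ) : Jp x (fun _ => N) ≤ maximalIdeal R ^ N := by
  rw [Jp, Ideal.span_le]
  rintro _ ⟨j, rfl⟩
  exact Ideal.pow_mem_pow (x_mem x hx j) N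

include hx in
theorem radical_Jp (a : Fin d → ℕ) (ha : ∀ j, 0 < a j) : (Jp x a).radical = maximalIdeal R := by
  apply le_antisymm
  · have : Jp x a ≤ maximalIdeal R := by
      rw [Jp, Ideal.span_le]
      rintro _ ⟨j, rfl⟩
      exact Ideal.pow_mem_of_mem _ (x_mem x hx j) _ (ha j)
    calc (Jp x a).radical ≤ (maximalIdeal R).radical := Ideal.radical_mono this
      _ = maximalIdeal R := (Ideal.IsPrime.radical inferInstance)
  · rw [← hx]
    rw [Ideal.radical_le_radical_iff, Ideal.span_le]
    rintro _ ⟨j, rfl⟩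
    exact ⟨a j, pow_mem_Jp x a j⟩

include hd hx in
theorem colon_one_var (a : Fin d → ℕ) (ha : ∀ j, 0 < a j) (i : Fin d) (e : ℕ) (r : R)
    (h : r * x i ^ e ∈ Jp x (fun j => a j + if j = i then e else 0)) : r ∈ Jp x a := by
  classical
  set f : Fin d → R := fun j => x j ^ a j with hf
  set f' : Fin d → R := fun j => x j ^ (a j + if j = i then e else 0) with hf'
  set I' : Ideal R := Ideal.span (f '' {j | j ≠ i}) with hI'
  have himg' : f' '' {j | j ≠ i} = f '' {j | j ≠ i} := by
    apply Set.image_congr
    intro j hj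
    have hj' : j ≠ i := hj
    simp only [hf', hf, if_neg hj', add_zero]
  have hJa : Jp x a = Ideal.span {x i ^ a i} ⊔ I' := span_range_eq_sup f i
  have hJa' : Jp x (fun j => a j + if j = i then e else 0) = Ideal.span {x i ^ (a i + e)} ⊔ I' := by
    have := span_range_eq_sup f' i
    rw [himg'] at this
    have hfi : f' i = x i ^ (a i + e) := by simp [hf']
    rw [hfi] at this
    exact this
  -- regularity of `x i` modulo `I'`
  set b : Fin d → ℕ := Function.update a i 1 with hb
  have hbpos : ∀ j, 0 < b j := by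
    intro j
    by_cases hj : j = i
    · rw [hb, hj, Function.update_self]; exact Nat.one_pos
    · rw [hb, Function.update_of_ne hj]; exact ha j
  set y : Fin d → R := fun j => x j ^ b j with hy
  have hyi : y i = x i := by simp [hy, hb]
  have himgy : y '' {j | j ≠ i} = f '' {j | j ≠ i} := by
    apply Set.image_congr
    intro j hj
    have hj' : j ≠ i := hj
    simp only [hy, hf, hb, Function.update_of_ne hj']
  have hreg : ∀ r, x i * r ∈ I' → r ∈ I' := by
    intro r hr
    have := regular_of_sop hd y (radical_Jp x hx b hbpos) i r (by rw [hyi, himgy]; exact hr)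
    rw [himgy] at this
    exact this
  rw [hJa]
  rw [hJa'] at h
  exact colon_step I' (x i) hreg (a i) e r h

include hd hx in
theorem colon_finset (e : ℕ) (s : Finset (Fin d)) : ∀ (a : Fin d → ℕ), (∀ j, 0 < a j) → ∀ r : R,
    r * ∏ i ∈ s, x i ^ e ∈ Jp x (fun j => a j + if j ∈ s then e else 0) → r ∈ Jp x a := by
  classical
  induction s using Finset.induction_on with
  | empty =>
    intro a _ r h
    simpa using h
  | insert i s his ih =>
    intro a ha r h
    rw [Finset.prod_insert his] at h
    set a' : Fin d → ℕ := fun j => a j + if j = i then e else 0 with ha'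
    have ha'pos : ∀ j, 0 < a' j := fun j => Nat.add_pos_left (ha j) _
    have hexp : (fun j => a j + if j ∈ insert i s then e else 0) =
        fun j => a' j + if j ∈ s then e else 0 := by
      funext j
      by_cases hji : j = i
      · subst hji
        simp [ha', his]
      · simp [ha', hji, Finset.mem_insert]
    rw [hexp] at h
    have h1 : r * x i ^ e ∈ Jp x a' := by
      apply ih a' ha'pos
      have : r * x i ^ e * ∏ i ∈ s, x i ^ e = r * (x i ^ e * ∏ i ∈ s, x i ^ e) := by ring
      rw [this]; exact h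
    exact colon_one_var hd x hx a ha i e r h1

include hd hx in
/-- `(x_1^{N+e}, …, x_d^{N+e}) : (x_1 ⋯ x_d)^e = (x_1^N, …, x_d^N)` for `N ≥ 1`. -/
theorem colon_pow (N e : ℕ) (hN : 0 < N) (r : R)
    (h : r * (∏ i, x i) ^ e ∈ Jp x (fun _ => N + e)) : r ∈ Jp x (fun _ => N) := by
  apply colon_finset hd x hx e Finset.univ (fun _ => N) (fun _ => hN) r
  rw [Finset.prod_pow]
  simpa using h

include hd hx in
theorem prod_pow_regular (e : ℕ) (r : R) (h : r * (∏ i, x i) ^ e = 0) : r = 0 := by
  have h1 : ∀ N : ℕ, r ∈ maximalIdeal R ^ N := by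
    intro N
    rcases Nat.eq_zero_or_pos N with rfl | hN
    · simp
    · apply Jp_le_pow x hx N
      apply colon_pow hd x hx N e hN r
      rw [h]; exact Ideal.zero_mem _
  have h2 : r ∈ (⨅ N : ℕ, maximalIdeal R ^ N) := by
    rw [Ideal.mem_iInf]; exact h1
  rw [Ideal.iInf_pow_eq_bot_of_isLocalRing _ (Ideal.IsPrime.ne_top inferInstance)] at h2
  simpa using h2

end CM

end Groth.Agent.Lib.Helper99.GorCech
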