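import Mathlib
import Groth.Agent.Lib.Helper99.GorCechB

/-!
# The top Čech cohomology module of a sequence: basic facts (helper99)
-/

set_option autoImplicit false
universe u

namespace Groth.Agent.Lib.Helper99.GorCech

open IsLocalRing

section General

variable {R : Type u} [CommRing R] {d : ℕ} (x : Fin d → R)

/-- the submodule `Σ_i R_{t/x_i}` of `R_t`. -/
def Sx : Submodule R (Localization.Away (∏ i, x i)) :=
  Submodule.span R {y : Localization.Away (∏ i, x i) | ∃ (i : Fin d) (n : ℕ),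
    y = algebraMap R (Localization.Away (∏ i, x i)) (x i ^ n) *
      IsLocalization.Away.invSelf (∏ i, x i) ^ n}

/-- the inverse of `t` in `R_t`. -/
noncomputable abbrev vv : Localization.Away (∏ i, x i) := IsLocalization.Away.invSelf (∏ i, x i)

theorem t_mul_v : algebraMap R (Localization.Away (∏ i, x i)) (∏ i, x i) * vv x = 1 :=
  IsLocalization.Away.mul_invSelf _

theorem t_pow_mul_v_pow (n : ℕ) :
    algebraMap R (Localization.Away (∏ i, x i)) ((∏ i, x i) ^ n) * vv x ^ n = 1 := by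
  rw [map_pow, ← mul_pow, t_mul_v, one_pow]

/-- raising the exponent of a fraction. -/
theorem frac_raise (r : R) (M k : ℕ) :
    algebraMap R (Localization.Away (∏ i, x i)) (r * (∏ i, x i) ^ k) * vv x ^ (M + k) =
      algebraMap R (Localization.Away (∏ i, x i)) r * vv x ^ M := by
  rw [map_mul, pow_add]
  calc algebraMap R _ r * algebraMap R _ ((∏ i, x i) ^ k) * (vv x ^ M * vv x ^ k)
      = algebraMap R _ r * vv x ^ M * (algebraMap R _ ((∏ i, x i) ^ k) * vv x ^ k) := by ring
    _ = _ := by rw [t_pow_mul_v_pow, mul_one]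

/-- every element of `R_t` is a fraction `r / t^M`, with `M` as large as we like. -/
theorem exists_frac (a : Localization.Away (∏ i, x i)) (M₀ : ℕ) :
    ∃ (r : R) (M : ℕ), M₀ ≤ M ∧ a = algebraMap R _ r * vv x ^ M := by
  obtain ⟨n, r, hr⟩ := IsLocalization.Away.surj (∏ i, x i) a
  refine ⟨r * (∏ i, x i) ^ M₀, n + M₀, Nat.le_add_left _ _, ?_⟩
  rw [frac_raise, ← hr, ← map_pow]
  calc a = a * (algebraMap R _ ((∏ i, x i) ^ n) * vv x ^ n) := by
        rw [t_pow_mul_v_pow, mul_one]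
    _ = _ := by ring

/-- `r ∈ (x^N) ⇒ r / t^N ∈ S`. -/
theorem frac_mem_Sx (N : ℕ) (r : R) (hr : r ∈ Jp x (fun _ => N)) :
    algebraMap R (Localization.Away (∏ i, x i)) r * vv x ^ N ∈ Sx x := by
  rw [Jp] at hr
  induction hr using Submodule.span_induction with
  | mem z hz =>
    obtain ⟨j, rfl⟩ := hz
    exact Submodule.subset_span ⟨j, N, rfl⟩
  | zero => simp
  | add a b _ _ ha hb =>
    rw [map_add, add_mul]
    exact Submodule.add_mem _ ha hb
  | smul c a _ ha =>
    rw [smul_eq_mul, map_mul, mul_assoc, ← Algebra.smul_def]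
    exact Submodule.smul_mem _ c ha

/-- every element of `S` is of the form `b / t^M` with `b ∈ (x^M)`, for all large `M`. -/
theorem exists_frac_of_mem_Sx (s : Localization.Away (∏ i, x i)) (hs : s ∈ Sx x) :
    ∃ M₀ : ℕ, ∀ M, M₀ ≤ M → ∃ b ∈ Jp x (fun _ => M), s = algebraMap R _ b * vv x ^ M := by
  classical
  rw [Sx] at hs
  induction hs using Submodule.span_induction with
  | mem z hz =>
    obtain ⟨i, n, rfl⟩ := hz
    refine ⟨n, fun M hM => ?_⟩
    obtain ⟨k, rfl⟩ := Nat.exists_eq_add_of_le hM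
    refine ⟨x i ^ n * (∏ i, x i) ^ k, ?_, (frac_raise x _ n k).symm⟩
    have ht : (∏ j, x j) = x i * ∏ j ∈ Finset.univ.erase i, x j :=
      (Finset.mul_prod_erase Finset.univ x (Finset.mem_univ i)).symm
    have : x i ^ n * (∏ i, x i) ^ k = (∏ j ∈ Finset.univ.erase i, x j) ^ k * x i ^ (n + k) := by
      rw [ht, mul_pow, pow_add]; ring
    rw [this]
    exact Ideal.mul_mem_left _ _ (pow_mem_Jp x (fun _ => n + k) i)
  | zero =>
    exact ⟨0, fun M _ => ⟨0, Ideal.zero_mem _, by simp⟩⟩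
  | add a b _ _ ha hb =>
    obtain ⟨Ma, hMa⟩ := ha
    obtain ⟨Mb, hMb⟩ := hb
    refine ⟨max Ma Mb, fun M hM => ?_⟩
    obtain ⟨ba, hba, rfl⟩ := hMa M (le_trans (le_max_left _ _) hM)
    obtain ⟨bb, hbb, rfl⟩ := hMb M (le_trans (le_max_right _ _) hM)
    exact ⟨ba + bb, Ideal.add_mem _ hba hbb, by rw [map_add, add_mul]⟩
  | smul c a _ ha =>
    obtain ⟨Ma, hMa⟩ := ha
    refine ⟨Ma, fun M hM => ?_⟩
    obtain ⟨ba, hba, rfl⟩ := hMa M hM
    exact ⟨c * ba, Ideal.mul_mem_left _ _ hba, by rw [Algebra.smul_def, map_mul, mul_assoc]⟩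

end General

section CM

variable {R : Type u} [CommRing R] [LocCoh.IsCohenMacaulayLocalRing R] {d : ℕ}
  (hd : ringKrullDim R = d) (x : Fin d → R)
  (hx : (Ideal.span (Set.range x)).radical = maximalIdeal R)

include hd hx in
theorem algebraMap_injective :
    Function.Injective (algebraMap R (Localization.Away (∏ i, x i))) := by
  rw [injective_iff_map_eq_zero]
  intro r hr
  rw [IsLocalization.map_eq_zero_iff (Submonoid.powers (∏ i, x i))] at hr
  obtain ⟨⟨_, k, rfl⟩, hk⟩ := hr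
  apply prod_pow_regular hd x hx k r
  rw [mul_comm]; exact hk

include hd hx in
/-- `r / t^N ∈ S ⇔ r ∈ (x^N)` for `N ≥ 1`. -/
theorem frac_mem_Sx_iff (N : ℕ) (hN : 0 < N) (r : R) :
    algebraMap R (Localization.Away (∏ i, x i)) r * vv x ^ N ∈ Sx x ↔ r ∈ Jp x (fun _ => N) := by
  refine ⟨fun h => ?_, frac_mem_Sx x N r⟩
  obtain ⟨M₀, hM₀⟩ := exists_frac_of_mem_Sx x _ h
  obtain ⟨b, hb, hrb⟩ := hM₀ (N + M₀) (Nat.le_add_left _ _)
  rw [← frac_raise x r N M₀] at hrb
  have h1 : algebraMap R (Localization.Away (∏ i, x i)) (r * (∏ i, x i) ^ M₀) =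
      algebraMap R _ b := by
    have := congrArg (fun z => z * algebraMap R (Localization.Away (∏ i, x i))
      ((∏ i, x i) ^ (N + M₀))) hrb
    rwa [mul_assoc, mul_assoc, mul_comm (vv x ^ (N + M₀)), t_pow_mul_v_pow, mul_one, mul_one]
      at this
  have h2 := algebraMap_injective hd x hx h1
  apply colon_pow hd x hx N M₀ hN r
  rw [h2]; exact hb

end CM

end Groth.Agent.Lib.Helper99.GorCech
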