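import Mathlib
import Groth.Agent.Lib.Helper99.GorCechC
import Groth.Agent.Lib.Helper77.GorCI
import Groth.Agent.Lib.Helper24.DoubleAnn
import Groth.Agent.Lib.Helper4.GorCM

/-!
# Quotients of a Gorenstein local ring by powers of a system of parameters (helper99)
-/

set_option autoImplicit false
universe u

namespace Groth.Agent.Lib.Helper99.GorCech

open IsLocalRing

variable {R : Type u} [CommRing R] [LocCoh.IsGorensteinLocalRing R] {d : ℕ}
  (hd : ringKrullDim R = d) (x : Fin d → R)
  (hx : (Ideal.span (Set.range x)).radical = maximalIdeal R)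

instance (priority := 50) instCM : LocCoh.IsCohenMacaulayLocalRing R :=
  Groth.Agent.Lib.Helper4.GorCM.isCohenMacaulayLocalRing_of_gorenstein R

include hx in
theorem Jp_ne_top (N : ℕ) (hN : 0 < N) : Jp x (fun _ => N) ≠ ⊤ := by
  intro h
  have := radical_Jp x hx (fun _ => N) (fun _ => hN)
  rw [h, Ideal.radical_top] at this
  exact (Ideal.IsPrime.ne_top (inferInstance : (maximalIdeal R).IsPrime)) this.symm

include hx in
theorem krullDim_quot (N : ℕ) (hN : 0 < N) : ringKrullDim (R ⧸ Jp x (fun _ => N)) = 0 := by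
  set J := Jp x (fun _ => N) with hJ
  have hnt : Nontrivial (R ⧸ J) := Ideal.Quotient.nontrivial_iff.mpr (Jp_ne_top x hx N hN)
  have hle : Ring.KrullDimLE 0 (R ⧸ J) := by
    rw [Ring.krullDimLE_zero_iff]
    intro P hP
    have hc : (P.comap (Ideal.Quotient.mk J)).IsPrime := Ideal.comap_isPrime _ P
    have hJP : J ≤ P.comap (Ideal.Quotient.mk J) := by
      intro z hz
      rw [Ideal.mem_comap, Ideal.Quotient.eq_zero_iff_mem.mpr hz]
      exact P.zero_mem
    have h1 : maximalIdeal R ≤ P.comap (Ideal.Quotient.mk J) := by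
      rw [← radical_Jp x hx (fun _ => N) (fun _ => hN)]
      exact (hc.radical_le_iff).mpr hJP
    have h2 : P.comap (Ideal.Quotient.mk J) = maximalIdeal R :=
      le_antisymm (IsLocalRing.le_maximalIdeal hc.ne_top) h1
    have h3 : P = (maximalIdeal R).map (Ideal.Quotient.mk J) := by
      rw [← h2, Ideal.map_comap_of_surjective _ Ideal.Quotient.mk_surjective]
    rw [h3]
    rcases Ideal.map_eq_top_or_isMaximal_of_surjective (Ideal.Quotient.mk J)
      Ideal.Quotient.mk_surjective (maximalIdeal.isMaximal R) with h | h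
    · exfalso
      rw [← h3] at h
      exact hP.ne_top h
    · exact h
  apply le_antisymm
  · exact_mod_cast (Ring.krullDimLE_iff (n := 0)).mp hle
  · exact ringKrullDim_nonneg_of_nontrivial

include hd hx in
theorem gor_quot (N : ℕ) (hN : 0 < N) :
    LocCoh.IsGorensteinLocalRing (R ⧸ Jp x (fun _ => N)) := by
  apply Groth.Agent.Lib.Helper77.GorCI.gor_of_surjective_of_dim d R (R ⧸ Jp x (fun _ => N))
    (fun i => x i ^ N) (fun i => Ideal.pow_mem_of_mem _ (x_mem x hx i) _ hN)
    (Ideal.Quotient.mk _) Ideal.Quotient.mk_surjective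
  · rw [Ideal.mk_ker]; rfl
  · rw [krullDim_quot x hx N hN, hd, zero_add]

omit [LocCoh.IsGorensteinLocalRing R] in
theorem mul_prod_pow_mem (N e : ℕ) (a : R) (ha : a ∈ Jp x (fun _ => N)) :
    a * (∏ i, x i) ^ e ∈ Jp x (fun _ => N + e) := by
  classical
  rw [Jp] at ha
  induction ha using Submodule.span_induction with
  | mem z hz =>
    obtain ⟨i, rfl⟩ := hz
    have ht : (∏ j, x j) = x i * ∏ j ∈ Finset.univ.erase i, x j :=
      (Finset.mul_prod_erase Finset.univ x (Finset.mem_univ i)).symm
    have : x i ^ N * (∏ i, x i) ^ e = (∏ j ∈ Finset.univ.erase i, x j) ^ e * x i ^ (N + e) := by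
      rw [ht, mul_pow, pow_add]; ring
    rw [this]
    exact Ideal.mul_mem_left _ _ (pow_mem_Jp x (fun _ => N + e) i)
  | zero => simp
  | add a b _ _ ha hb => rw [add_mul]; exact Ideal.add_mem _ ha hb
  | smul c a _ ha => rw [smul_eq_mul, mul_assoc]; exact Ideal.mul_mem_left _ _ ha

include hd hx in
/-- the double annihilator computation: `(x^{N+e}) : (x^N) = (x^{N+e}) + (t^e)`. -/
theorem exists_sub_mul_mem (N e : ℕ) (hN : 0 < N) (r : R)
    (hr : ∀ a ∈ Jp x (fun _ => N), a * r ∈ Jp x (fun _ => N + e)) :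
    ∃ c : R, r - c * (∏ i, x i) ^ e ∈ Jp x (fun _ => N + e) := by
  set J := Jp x (fun _ => N + e) with hJ
  have hM : 0 < N + e := Nat.add_pos_left hN e
  have := gor_quot hd x hx (N + e) hM
  have hdim := krullDim_quot x hx (N + e) hM
  set tb : R ⧸ J := Ideal.Quotient.mk J ((∏ i, x i) ^ e) with htb
  set I : Ideal (R ⧸ J) := Ideal.span {tb} with hI
  have hann : (Submodule.annihilator I : Ideal (R ⧸ J)) =
      (Jp x (fun _ => N)).map (Ideal.Quotient.mk J) := by
    apply le_antisymm
    · intro a ha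
      obtain ⟨a, rfl⟩ := Ideal.Quotient.mk_surjective a
      rw [Submodule.mem_annihilator] at ha
      have h1 := ha tb (Ideal.subset_span rfl)
      rw [smul_eq_mul, htb, ← map_mul, Ideal.Quotient.eq_zero_iff_mem] at h1
      exact Ideal.mem_map_of_mem _ (colon_pow hd x hx N e hN a h1)
    · rw [Ideal.map_le_iff_le_comap]
      intro a ha
      rw [Ideal.mem_comap, Submodule.mem_annihilator]
      intro n hn
      obtain ⟨c, rfl⟩ := Ideal.mem_span_singleton'.mp hn
      rw [smul_eq_mul, htb]
      have : Ideal.Quotient.mk J a * (c * Ideal.Quotient.mk J ((∏ i, x i) ^ e)) =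
          c * Ideal.Quotient.mk J (a * (∏ i, x i) ^ e) := by rw [map_mul]; ring
      rw [this, Ideal.Quotient.eq_zero_iff_mem.mpr (mul_prod_pow_mem x N e a ha), mul_zero]
  have hmem : Ideal.Quotient.mk J r ∈
      (Submodule.annihilator ((Jp x (fun _ => N)).map (Ideal.Quotient.mk J)) : Ideal (R ⧸ J)) := by
    rw [Submodule.mem_annihilator]
    intro n hn
    rw [Ideal.map, ← Ideal.submodule_span_eq] at hn
    induction hn using Submodule.span_induction with
    | mem z hz =>
      obtain ⟨a, ha, rfl⟩ := hz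
      rw [smul_eq_mul, ← map_mul, mul_comm, Ideal.Quotient.eq_zero_iff_mem]
      exact hr a ha
    | zero => simp
    | add a b _ _ ha hb => rw [smul_add, ha, hb, add_zero]
    | smul c a _ ha => rw [smul_comm, ha, smul_zero]
  rw [← hann, Groth.Agent.Lib.Helper24.DoubleAnn.annihilator_annihilator_eq hdim I] at hmem
  obtain ⟨c, hc⟩ := Ideal.mem_span_singleton'.mp hmem
  obtain ⟨c, rfl⟩ := Ideal.Quotient.mk_surjective c
  refine ⟨c, ?_⟩
  rw [← Ideal.Quotient.eq_zero_iff_mem, map_sub, map_mul, ← hc, htb, sub_self]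

end Groth.Agent.Lib.Helper99.GorCech
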