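import Mathlib
import Groth.Agent.Lib.Helper99.GorCechD
import Groth.Agent.Lib.Helper99.FrobE

/-!
# The top Čech cohomology of a Gorenstein local ring is an injective module (helper99)
-/

set_option autoImplicit false
universe u

namespace Groth.Agent.Lib.Helper99.GorCech

open IsLocalRing

section Defs

variable {R : Type u} [CommRing R] {d : ℕ} (x : Fin d → R)

/-- the top Čech cohomology module `R_t / Σ_i R_{t/x_i}`. -/
abbrev HH : Type u := Localization.Away (∏ i, x i) ⧸ Sx x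

/-- `r ↦ [r / t^N]`. -/
noncomputable def psi (N : ℕ) : R →ₗ[R] HH x :=
  (Sx x).mkQ ∘ₗ LinearMap.toSpanSingleton R (Localization.Away (∏ i, x i)) (vv x ^ N)

theorem psi_apply (N : ℕ) (r : R) :
    psi x N r = Submodule.Quotient.mk (algebraMap R (Localization.Away (∏ i, x i)) r * vv x ^ N) := by
  simp [psi, Algebra.smul_def]

theorem psi_raise (r : R) (M k : ℕ) : psi x (M + k) (r * (∏ i, x i) ^ k) = psi x M r := by
  rw [psi_apply, psi_apply, frac_raise]

theorem exists_psi (h : HH x) (M₀ : ℕ) : ∃ (r : R) (M : ℕ), M₀ ≤ M ∧ h = psi x M r := by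
  obtain ⟨a, rfl⟩ := Submodule.Quotient.mk_surjective _ h
  obtain ⟨r, M, hM, rfl⟩ := exists_frac x a M₀
  exact ⟨r, M, hM, (psi_apply x M r).symm⟩

theorem psi_eq_zero_of_mem (N : ℕ) (r : R) (hr : r ∈ Jp x (fun _ => N)) : psi x N r = 0 := by
  rw [psi_apply, Submodule.Quotient.mk_eq_zero]
  exact frac_mem_Sx x N r hr

theorem psi_mem_torsion (N : ℕ) (r : R) :
    psi x N r ∈ Submodule.torsionBySet R (HH x) (Jp x (fun _ => N) : Set R) := by
  rw [Submodule.mem_torsionBySet_iff]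
  rintro ⟨c, hc⟩
  show c • psi x N r = 0
  rw [← map_smul, smul_eq_mul]
  exact psi_eq_zero_of_mem x N _ (Ideal.mul_mem_right _ _ hc)

end Defs

variable {R : Type u} [CommRing R] [LocCoh.IsGorensteinLocalRing R] {d : ℕ}
  (hd : ringKrullDim R = d) (x : Fin d → R)
  (hx : (Ideal.span (Set.range x)).radical = maximalIdeal R)

include hd hx in
theorem psi_eq_zero_iff (N : ℕ) (hN : 0 < N) (r : R) :
    psi x N r = 0 ↔ r ∈ Jp x (fun _ => N) := by
  rw [psi_apply, Submodule.Quotient.mk_eq_zero, frac_mem_Sx_iff hd x hx N hN]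

include hd hx in
theorem exists_psi_of_torsion (N : ℕ) (hN : 0 < N) (h : HH x)
    (hh : h ∈ Submodule.torsionBySet R (HH x) (Jp x (fun _ => N) : Set R)) :
    ∃ c : R, h = psi x N c := by
  obtain ⟨r, M, hM, rfl⟩ := exists_psi x h N
  obtain ⟨e, rfl⟩ := Nat.exists_eq_add_of_le hM
  rw [Submodule.mem_torsionBySet_iff] at hh
  have hr : ∀ a ∈ Jp x (fun _ => N), a * r ∈ Jp x (fun _ => N + e) := by
    intro a ha
    have h1 : a • psi x (N + e) r = 0 := hh ⟨a, ha⟩
    rw [← map_smul, smul_eq_mul] at h1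
    exact (psi_eq_zero_iff hd x hx (N + e) (Nat.add_pos_left hN e) _).mp h1
  obtain ⟨c, hc⟩ := exists_sub_mul_mem hd x hx N e hN r hr
  refine ⟨c, ?_⟩
  have h2 : psi x (N + e) (r - c * (∏ i, x i) ^ e) = 0 := psi_eq_zero_of_mem x _ _ hc
  rw [map_sub, sub_eq_zero, psi_raise] at h2
  exact h2

include hd hx in
/-- the level `H[(x^N)]` is isomorphic to `R / (x^N)`. -/
theorem nonempty_levelEquiv (N : ℕ) (hN : 0 < N) :
    Nonempty (↥(Submodule.torsionBySet R (HH x) (Jp x (fun _ => N) : Set R)) ≃ₗ[R]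
      (R ⧸ Jp x (fun _ => N))) := by
  set J := Jp x (fun _ => N) with hJ
  let g₀ : (R ⧸ J) →ₗ[R] HH x := Submodule.liftQ J (psi x N) (fun r hr => by
    rw [LinearMap.mem_ker]; exact psi_eq_zero_of_mem x N r hr)
  have hg₀ : ∀ r : R, g₀ (Ideal.Quotient.mk J r) = psi x N r := fun r => rfl
  let g : (R ⧸ J) →ₗ[R] ↥(Submodule.torsionBySet R (HH x) (J : Set R)) :=
    LinearMap.codRestrict _ g₀ (fun c => by
      obtain ⟨r, rfl⟩ := Ideal.Quotient.mk_surjective c
      rw [hg₀]; exact psi_mem_torsion x N r)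
  have hinj : Function.Injective g := by
    rw [injective_iff_map_eq_zero]
    intro c hc
    obtain ⟨r, rfl⟩ := Ideal.Quotient.mk_surjective c
    have h1 : g₀ (Ideal.Quotient.mk J r) = 0 := congrArg Subtype.val hc
    rw [hg₀, psi_eq_zero_iff hd x hx N hN] at h1
    exact Ideal.Quotient.eq_zero_iff_mem.mpr h1
  have hsurj : Function.Surjective g := by
    rintro ⟨h, hh⟩
    obtain ⟨c, rfl⟩ := exists_psi_of_torsion hd x hx N hN h hh
    exact ⟨Ideal.Quotient.mk J c, Subtype.ext (hg₀ c)⟩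
  exact ⟨(LinearEquiv.ofBijective g ⟨hinj, hsurj⟩).symm⟩

include hx in
theorem exists_pow_le_Jp (N : ℕ) (hN : 0 < N) : ∃ k : ℕ, maximalIdeal R ^ k ≤ Jp x (fun _ => N) := by
  have hrad := radical_Jp x hx (fun _ => N) (fun _ => hN)
  apply Ideal.exists_pow_le_of_le_radical_of_fg_radical (le_of_eq hrad.symm)
  rw [hrad]
  exact (isNoetherianRing_iff_ideal_fg R).mp inferInstance _

include hx in
theorem powerTorsion (h : HH x) : ∃ n : ℕ, ∀ r ∈ maximalIdeal R ^ n, r • h = 0 := by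
  obtain ⟨r, M, hM, rfl⟩ := exists_psi x h 1
  obtain ⟨k, hk⟩ := exists_pow_le_Jp x hx M hM
  refine ⟨k, fun a ha => ?_⟩
  have := psi_mem_torsion x M r
  rw [Submodule.mem_torsionBySet_iff] at this
  exact this ⟨a, hk ha⟩

include hd hx in
theorem injective_HH : Module.Injective R (HH x) := by
  apply Groth.Agent.Lib.Helper99.Frob.injective_of_levels (maximalIdeal R) (HH x)
    (powerTorsion x hx)
  intro n
  have hN : 0 < max n 1 := lt_of_lt_of_le Nat.one_pos (le_max_right _ _)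
  refine ⟨Jp x (fun _ => max n 1), ?_, ?_, PUnit, ?_⟩
  · exact (Jp_le_pow x hx _).trans (Ideal.pow_le_pow_right (le_max_left _ _))
  · have := gor_quot hd x hx (max n 1) hN
    exact Groth.Agent.Lib.Helper24.DoubleAnn.injective_of_gorenstein (krullDim_quot x hx _ hN)
  · obtain ⟨e⟩ := nonempty_levelEquiv hd x hx (max n 1) hN
    exact ⟨e.trans (Finsupp.uniqueLinearEquiv R _ PUnit.unit).symm⟩

end Groth.Agent.Lib.Helper99.GorCech
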