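import Mathlib
import Groth.Agent.Lib.Helper99.GorCechE
import Groth.Agent.Lib.Helper85.GorSocle
import Groth.Agent.Lib.Helper85.Matlis

/-!
# The top Čech cohomology of a Gorenstein local ring is an injective hull of the residue field
(helper99)
-/

set_option autoImplicit false
universe u

namespace Groth.Agent.Lib.Helper99.GorCech

open IsLocalRing

variable {R : Type u} [CommRing R] [LocCoh.IsGorensteinLocalRing R] {d : ℕ}
  (hd : ringKrullDim R = d) (x : Fin d → R)
  (hx : (Ideal.span (Set.range x)).radical = maximalIdeal R)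

include hx in
theorem mk_mem_maximalIdeal (a : R) (ha : a ∈ maximalIdeal R)
    [IsLocalRing (R ⧸ Jp x (fun _ => 1))] :
    Ideal.Quotient.mk (Jp x (fun _ => 1)) a ∈ maximalIdeal (R ⧸ Jp x (fun _ => 1)) := by
  rw [mem_maximalIdeal, mem_nonunits_iff]
  intro hu
  obtain ⟨b, hb⟩ := hu.exists_right_inv
  obtain ⟨b, rfl⟩ := Ideal.Quotient.mk_surjective b
  rw [← map_mul, ← map_one (Ideal.Quotient.mk (Jp x (fun _ => 1))), Ideal.Quotient.eq] at hb
  have hJm : Jp x (fun _ => 1) ≤ maximalIdeal R := by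
    have := Jp_le_pow x hx 1
    rwa [pow_one] at this
  have h1 : a * b - 1 ∈ maximalIdeal R := hJm hb
  have h2 : a * b ∈ maximalIdeal R := Ideal.mul_mem_right _ _ ha
  have h3 : (1 : R) ∈ maximalIdeal R := by
    have := Ideal.sub_mem _ h2 h1
    simpa using this
  exact (Ideal.IsPrime.ne_top (inferInstance : (maximalIdeal R).IsPrime))
    ((Ideal.eq_top_iff_one _).mpr h3)

include hd hx in
theorem exists_isInjectiveHull :
    ∃ f : ResidueField R →ₗ[R] HH x, InjHull.IsInjectiveHull f := by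
  set J := Jp x (fun _ => 1) with hJ
  have hG : LocCoh.IsGorensteinLocalRing (R ⧸ J) := gor_quot hd x hx 1 Nat.one_pos
  have hdim : ringKrullDim (R ⧸ J) = 0 := krullDim_quot x hx 1 Nat.one_pos
  have hArt : IsArtinianRing (R ⧸ J) :=
    Groth.Agent.Lib.Helper24.DoubleAnn.isArtinianRing_of_dim_zero hdim
  have hInj : Module.Injective (R ⧸ J) (R ⧸ J) :=
    Groth.Agent.Lib.Helper24.DoubleAnn.injective_of_gorenstein hdim
  have hJm : J ≤ maximalIdeal R := by
    have := Jp_le_pow x hx 1
    rwa [pow_one] at this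
  obtain ⟨sb, hsb0, hsb⟩ := Groth.Agent.Lib.Helper24.DoubleAnn.exists_socle (A := R ⧸ J)
  obtain ⟨s, rfl⟩ := Ideal.Quotient.mk_surjective sb
  have hsJ : s ∉ J := fun h => hsb0 (Ideal.Quotient.eq_zero_iff_mem.mpr h)
  have hms : ∀ a ∈ maximalIdeal R, a * s ∈ J := by
    intro a ha
    have := hsb _ (mk_mem_maximalIdeal x hx a ha)
    rwa [← map_mul, Ideal.Quotient.eq_zero_iff_mem] at this
  set z : HH x := psi x 1 s with hz
  have hz0 : z ≠ 0 := fun h => hsJ ((psi_eq_zero_iff hd x hx 1 Nat.one_pos s).mp h)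
  have hmz : ∀ a ∈ maximalIdeal R, a • z = 0 := by
    intro a ha
    rw [hz, ← map_smul, smul_eq_mul]
    exact psi_eq_zero_of_mem x 1 _ (hms a ha)
  let f : ResidueField R →ₗ[R] HH x :=
    Submodule.liftQ (maximalIdeal R) (LinearMap.toSpanSingleton R (HH x) z) (fun a ha => by
      rw [LinearMap.mem_ker, LinearMap.toSpanSingleton_apply]
      exact hmz a ha)
  have hf : ∀ a : R, f (residue R a) = a • z := fun a => rfl
  refine ⟨f, ⟨⟨?_, ?_⟩, injective_HH hd x hx⟩⟩
  · rw [injective_iff_map_eq_zero]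
    intro c hc
    obtain ⟨a, rfl⟩ := residue_surjective c
    rw [hf] at hc
    by_contra hne
    have hau : IsUnit a := by
      by_contra hnu
      exact hne ((residue_eq_zero_iff a).mpr ((mem_maximalIdeal a).mpr hnu))
    obtain ⟨u, rfl⟩ := hau
    have : z = (↑u⁻¹ : R) • ((u : R) • z) := by rw [smul_smul, Units.inv_mul, one_smul]
    rw [hc, smul_zero] at this
    exact hz0 this
  · intro N' hN'
    obtain ⟨h, hhN, hh0⟩ := Submodule.exists_mem_ne_zero_of_ne_bot hN'
    obtain ⟨a, hah0, hah⟩ := Groth.Agent.Lib.Helper85.Matlis.exists_smul_mem_socle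
      (R := R) (M := HH x) (powerTorsion x hx) h hh0
    -- `a • h` is a nonzero socle element lying in `N'`
    have h1 : a • h ∈ Submodule.torsionBySet R (HH x) (J : Set R) := by
      rw [Submodule.mem_torsionBySet_iff] at hah ⊢
      rintro ⟨b, hb⟩
      exact hah ⟨b, hJm hb⟩
    obtain ⟨c, hc⟩ := exists_psi_of_torsion hd x hx 1 Nat.one_pos _ h1
    have hmc : ∀ b ∈ maximalIdeal R, b * c ∈ J := by
      intro b hb
      rw [Submodule.mem_torsionBySet_iff] at hah
      have h2 : b • (a • h) = 0 := hah ⟨b, hb⟩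
      rw [hc, ← map_smul, smul_eq_mul] at h2
      exact (psi_eq_zero_iff hd x hx 1 Nat.one_pos _).mp h2
    -- simple socle
    have hsimple := Groth.Agent.Lib.Helper85.GorFlat.socleSimple_of_injective (R ⧸ J)
    have hc1 : ∀ b ∈ maximalIdeal (R ⧸ J), b * Ideal.Quotient.mk J s = 0 := hsb
    have hc2 : ∀ b ∈ maximalIdeal (R ⧸ J), b * Ideal.Quotient.mk J c = 0 := by
      intro b hb
      obtain ⟨b, rfl⟩ := Ideal.Quotient.mk_surjective b
      have hbm : b ∈ maximalIdeal R := by
        by_contra hnm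
        have hbu : IsUnit b := by
          by_contra hnu
          exact hnm ((mem_maximalIdeal b).mpr hnu)
        have : IsUnit (Ideal.Quotient.mk J b) := hbu.map _
        exact ((mem_maximalIdeal _).mp hb) this
      rw [← map_mul, Ideal.Quotient.eq_zero_iff_mem]
      exact hmc b hbm
    obtain ⟨ab, hab⟩ := hsimple _ _ hc1 hc2 hsb0
    obtain ⟨a', rfl⟩ := Ideal.Quotient.mk_surjective ab
    rw [← map_mul, Ideal.Quotient.eq] at hab
    have h3 : psi x 1 c = a' • z := by
      rw [hz, ← map_smul, smul_eq_mul, ← sub_eq_zero, ← map_sub]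
      exact psi_eq_zero_of_mem x 1 _ hab
    intro hbot
    have h4 : a • h ∈ N' ⊓ LinearMap.range f := by
      refine ⟨N'.smul_mem a hhN, ?_⟩
      rw [hc, h3]
      exact ⟨residue R a', hf a'⟩
    rw [hbot, Submodule.mem_bot] at h4
    exact hah0 h4

end Groth.Agent.Lib.Helper99.GorCech
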