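import Mathlib
import Groth.Agent.Lib.Helper75.GradedNoeth
import Groth.Agent.Lib.Helper67.EquiCat2
import Groth.Agent.Lib.Helper99.SchubCMA

/-!
# Graded algebras over a field with degree-zero part the field: the irrelevant ideal computes dimensions
-/

set_option autoImplicit false
universe u v

namespace Groth.Agent.Lib.Helper99.GrGlue
open DirectSum Groth.Agent.Lib.Helper99.SchubCM

variable {K : Type u} [Field K] {A : Type v} [CommRing A] [Algebra K A]
  (𝒜 : ℕ → Submodule K A) [GradedAlgebra 𝒜]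

/-- the irrelevant ideal -/
abbrev irr : Ideal A := (HomogeneousIdeal.irrelevant 𝒜).toIdeal

lemma mem_irr_iff (a : A) : a ∈ irr 𝒜 ↔ (decompose 𝒜 a 0 : A) = 0 := Iff.rfl

variable (h0 : ∀ a ∈ 𝒜 0, ∃ c : K, algebraMap K A c = a)

include h0 in
/-- proper homogeneous ideals lie in the irrelevant ideal -/
lemma le_irr_of_isHomogeneous (L : Ideal A) (hL : L.IsHomogeneous 𝒜) (hne : L ≠ ⊤) : L ≤ irr 𝒜 := by
  intro x hx
  rw [mem_irr_iff]
  have h1 : (decompose 𝒜 x 0 : A) ∈ L := hL 0 hx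
  obtain ⟨c, hc⟩ := h0 _ (SetLike.coe_mem (decompose 𝒜 x 0))
  by_contra hne0
  have hc0 : c ≠ 0 := by
    rintro rfl
    rw [map_zero] at hc
    exact hne0 hc.symm
  apply hne
  rw [Ideal.eq_top_iff_one]
  have h2 : (1 : A) = algebraMap K A c⁻¹ * (decompose 𝒜 x 0 : A) := by
    rw [← hc, ← map_mul, inv_mul_cancel₀ hc0, map_one]
  rw [h2]
  exact L.mul_mem_left _ h1

include h0 in
/-- the irrelevant ideal is maximal -/
lemma irr_isMaximal [Nontrivial A] : (irr 𝒜).IsMaximal := by
  rw [Ideal.isMaximal_iff]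
  constructor
  · rw [mem_irr_iff]
    have h1 : (decompose 𝒜 (1 : A) 0 : A) = 1 := decompose_of_mem_same 𝒜 (SetLike.one_mem_graded 𝒜)
    rw [h1]
    exact one_ne_zero
  · intro N x hle hx hxN
    obtain ⟨c, hc⟩ := h0 _ (SetLike.coe_mem (decompose 𝒜 x 0))
    have hc0 : c ≠ 0 := by
      rintro rfl
      rw [map_zero] at hc
      exact hx ((mem_irr_iff 𝒜 x).2 hc.symm)
    have h1 : x - (decompose 𝒜 x 0 : A) ∈ irr 𝒜 := by
      rw [mem_irr_iff, decompose_sub, DFinsupp.sub_apply, AddSubgroupClass.coe_sub,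
        decompose_of_mem_same 𝒜 (SetLike.coe_mem (decompose 𝒜 x 0)), sub_self]
    have h2 : (decompose 𝒜 x 0 : A) ∈ N := by
      have : (decompose 𝒜 x 0 : A) = x - (x - (decompose 𝒜 x 0 : A)) := by ring
      rw [this]
      exact N.sub_mem hxN (hle h1)
    have h3 : (1 : A) = algebraMap K A c⁻¹ * (decompose 𝒜 x 0 : A) := by
      rw [← hc, ← map_mul, inv_mul_cancel₀ hc0, map_one]
    rw [h3]
    exact N.mul_mem_left _ h2

include h0 in
/-- a Noetherian graded algebra with degree-zero part the field is of finite type -/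
lemma finiteType [IsNoetherianRing A] : Algebra.FiniteType K A := by
  obtain ⟨s, hs⟩ := (Groth.Agent.Lib.Helper75.finiteType_of_isNoetherianRing 𝒜).out
  refine ⟨⟨s, ?_⟩⟩
  rw [eq_top_iff]
  intro a _
  have ha : a ∈ Algebra.adjoin (𝒜 0) (s : Set A) := by rw [hs]; trivial
  clear ‹a ∈ (⊤ : Subalgebra K A)›
  induction ha using Algebra.adjoin_induction with
  | mem x hx => exact Algebra.subset_adjoin hx
  | algebraMap r =>
    obtain ⟨c, hc⟩ := h0 _ r.2
    have : algebraMap (𝒜 0) A r = algebraMap K A c := hc.symm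
    rw [this]
    exact Subalgebra.algebraMap_mem _ c
  | add x y _ _ hx hy => exact Subalgebra.add_mem _ hx hy
  | mul x y _ _ hx hy => exact Subalgebra.mul_mem _ hx hy

/-- minimal primes over homogeneous ideals are homogeneous -/
lemma isHomogeneous_of_mem_minimalPrimes (L : Ideal A) (hL : L.IsHomogeneous 𝒜) (q : Ideal A)
    (hq : q ∈ L.minimalPrimes) : q.IsHomogeneous 𝒜 := by
  have hqp : q.IsPrime := hq.1.1
  have h1 : (q.homogeneousCore 𝒜).toIdeal.IsPrime := Ideal.IsPrime.homogeneousCore hqp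
  have h2 : (q.homogeneousCore 𝒜).toIdeal ≤ q := Ideal.toIdeal_homogeneousCore_le 𝒜 q
  have h3 : L ≤ (q.homogeneousCore 𝒜).toIdeal := by
    rw [← hL.toIdeal_homogeneousCore_eq_self]
    exact Ideal.homogeneousCore_mono 𝒜 hq.1.2
  have h4 : q ≤ (q.homogeneousCore 𝒜).toIdeal := hq.2 ⟨h1, h3⟩ h2
  have h5 : (q.homogeneousCore 𝒜).toIdeal = q := le_antisymm h2 h4
  rw [← h5]
  exact (q.homogeneousCore 𝒜).isHomogeneous

include h0 in
/-- the quotient by the irrelevant ideal has dimension zero -/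
lemma ringKrullDim_quotient_irr [Nontrivial A] : ringKrullDim (A ⧸ irr 𝒜) = 0 := by
  have := irr_isMaximal 𝒜 h0
  let _ : Field (A ⧸ irr 𝒜) := Ideal.Quotient.field _
  exact ringKrullDim_eq_zero_of_field _

include h0 in
/-- the height of the irrelevant ideal of a graded quotient is its dimension -/
theorem height_irr_quotient [IsNoetherianRing A] [Nontrivial A] (L : Ideal A) (hL : L.IsHomogeneous 𝒜) (hne : L ≠ ⊤) :
    ((((irr 𝒜).map (Ideal.Quotient.mk L)).height : ℕ∞) : WithBot ℕ∞) = ringKrullDim (A ⧸ L) := by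
  have hmax := irr_isMaximal 𝒜 h0
  have hprime : (irr 𝒜).IsPrime := hmax.isPrime
  have hft := finiteType 𝒜 h0
  have hLirr := le_irr_of_isHomogeneous 𝒜 h0 L hL hne
  apply le_antisymm
  · have h1 := height_map_add_le L (irr 𝒜) hLirr
    rw [ringKrullDim_quotient_irr 𝒜 h0, add_zero] at h1
    exact h1
  · apply Groth.Agent.Lib.Helper67.EquiCat.ringKrullDim_le_of_forall_minimalPrimes
    intro P hP
    obtain ⟨p, hp, rfl⟩ := (Groth.Agent.Lib.Helper67.EquiCat.mem_minimalPrimes_quotient_iff L P).1 hP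
    have hpp : p.IsPrime := hp.1.1
    have hLp : L ≤ p := hp.1.2
    have hph := isHomogeneous_of_mem_minimalPrimes 𝒜 L hL p hp
    have hpirr := le_irr_of_isHomogeneous 𝒜 h0 p hph hpp.ne_top
    rw [Groth.Agent.Lib.Helper67.EquiCat.ringKrullDim_quotient_quotient L p hLp]
    have h2 := le_height_map_add K L p (irr 𝒜) hLp hpirr
    rw [ringKrullDim_quotient_irr 𝒜 h0, add_zero] at h2
    exact h2

end Groth.Agent.Lib.Helper99.GrGlue
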