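import Mathlib
import Groth.Agent.Lib.Helper99.GrGlueA
import Groth.Agent.Lib.Helper99.CMGlueB
import Groth.Agent.Lib.Helper99.DimA

/-!
# Gluing Cohen–Macaulay closed subschemes at one prime, and the graded case at the irrelevant ideal
-/

set_option autoImplicit false
universe u v

namespace Groth.Agent.Lib.Helper99.CM
open LocCoh Groth.Agent.Lib.Helper67

variable {S : Type u} [CommRing S] [IsNoetherianRing S] (I J : Ideal S)

/-- Local gluing lemma at a prime `q`: the dimension formulas are only needed at the primes containing `q`. -/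
theorem cm_glue_at (q : Ideal S) (e : ℕ) (he : 1 ≤ e)
    (hI : IsCohenMacaulayRing (S ⧸ I)) (hJ : IsCohenMacaulayRing (S ⧸ J))
    (hIJ : IsCohenMacaulayRing (S ⧸ (I ⊔ J)))
    (HI : ∀ q' : Ideal S, q'.IsPrime → q ≤ q' → I ≤ q' →
      (((q'.map (Ideal.Quotient.mk I)).height : ℕ∞) : WithBot ℕ∞) + ringKrullDim (S ⧸ q') = (e : WithBot ℕ∞))
    (HJ : ∀ q' : Ideal S, q'.IsPrime → q ≤ q' → J ≤ q' →
      (((q'.map (Ideal.Quotient.mk J)).height : ℕ∞) : WithBot ℕ∞) + ringKrullDim (S ⧸ q') = (e : WithBot ℕ∞))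
    (HIJ : ∀ q' : Ideal S, q'.IsPrime → q ≤ q' → I ⊔ J ≤ q' →
      (((q'.map (Ideal.Quotient.mk (I ⊔ J))).height : ℕ∞) : WithBot ℕ∞) + ringKrullDim (S ⧸ q') =
        ((e - 1 : ℕ) : WithBot ℕ∞))
    (Hle : ∀ q' : Ideal S, q'.IsPrime → q ≤ q' → I ⊓ J ≤ q' →
      (((q'.map (Ideal.Quotient.mk (I ⊓ J))).height : ℕ∞) : WithBot ℕ∞) + ringKrullDim (S ⧸ q') ≤
        (e : WithBot ℕ∞)) :
    (q.map (Ideal.Quotient.mk (I ⊓ J))).height ≤ idealDepth q (S ⧸ (I ⊓ J)) := by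
  -- the three depth estimates
  have key : ∀ (L : Ideal S) (k : ℕ) (hk : k ≤ e) (hL : IsCohenMacaulayRing (S ⧸ L)) (hle : I ⊓ J ≤ L)
      (HL : ∀ q' : Ideal S, q'.IsPrime → q ≤ q' → L ≤ q' →
        (((q'.map (Ideal.Quotient.mk L)).height : ℕ∞) : WithBot ℕ∞) + ringKrullDim (S ⧸ q') =
          ((e - k : ℕ) : WithBot ℕ∞)),
      (q.map (Ideal.Quotient.mk (I ⊓ J))).height ≤ idealDepth q (S ⧸ L) + k := by
    intro L k hk hL hle HL
    have h1 : (q.map (Ideal.Quotient.mk (I ⊓ J))).height - k ≤ idealDepth q (S ⧸ L) := by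
      apply le_idealDepth_quotient L q hL
      intro Q hQ hqQ
      rw [tsub_le_iff_right]
      set q' := Q.comap (Ideal.Quotient.mk L) with hq'
      have hq'prime : q'.IsPrime := Ideal.comap_isPrime _ _
      have hQq' : q'.map (Ideal.Quotient.mk L) = Q :=
        Ideal.map_comap_of_surjective _ Ideal.Quotient.mk_surjective Q
      have hLq' : L ≤ q' := by
        intro x hx
        rw [hq', Ideal.mem_comap, Ideal.Quotient.eq_zero_iff_mem.2 hx]
        exact Q.zero_mem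
      have hqq' : q ≤ q' := Ideal.map_le_iff_le_comap.1 hqQ
      have h2 := HL q' hq'prime hqq' hLq'
      rw [hQq'] at h2
      have h3 := Hle q' hq'prime hqq' (hle.trans hLq')
      have h4 : (q.map (Ideal.Quotient.mk (I ⊓ J))).height ≤ (q'.map (Ideal.Quotient.mk (I ⊓ J))).height :=
        Ideal.height_mono (Ideal.map_mono hqq')
      exact h4.trans (le_add_of_dim_formulas _ _ _ e k hk h3 h2)
    calc (q.map (Ideal.Quotient.mk (I ⊓ J))).height
        ≤ (q.map (Ideal.Quotient.mk (I ⊓ J))).height - k + k := le_tsub_add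
      _ ≤ idealDepth q (S ⧸ L) + k := by gcongr
  have kI := key I 0 (Nat.zero_le _) hI inf_le_left (by simpa using HI)
  have kJ := key J 0 (Nat.zero_le _) hJ inf_le_right (by simpa using HJ)
  have kIJ := key (I ⊔ J) 1 he hIJ (inf_le_left.trans le_sup_left) HIJ
  rw [Nat.cast_zero, add_zero] at kI kJ
  rw [Nat.cast_one] at kIJ
  have hSES := idealDepth_left_ge q (S ⧸ (I ⊓ J)) ((S ⧸ I) × (S ⧸ J)) (S ⧸ (I ⊔ J)) (diagMap I J) (diffMap I J)
    (diagMap_injective I J) (diffMap_surjective I J) (exact_diagMap_diffMap I J)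
  have hprod := min_le_idealDepth_prod q (S ⧸ I) (S ⧸ J)
  refine le_trans ?_ hSES
  rw [le_min_iff]
  refine ⟨le_trans ?_ hprod, kIJ⟩
  rw [le_min_iff]
  exact ⟨kI, kJ⟩

/-- the local ring of `S/(I ∩ J)` at (the image of) `q` is Cohen–Macaulay -/
theorem cm_glue_at' (q : Ideal S) (e : ℕ) (he : 1 ≤ e)
    [hP : (q.map (Ideal.Quotient.mk (I ⊓ J))).IsPrime]
    (hI : IsCohenMacaulayRing (S ⧸ I)) (hJ : IsCohenMacaulayRing (S ⧸ J))
    (hIJ : IsCohenMacaulayRing (S ⧸ (I ⊔ J)))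
    (HI : ∀ q' : Ideal S, q'.IsPrime → q ≤ q' → I ≤ q' →
      (((q'.map (Ideal.Quotient.mk I)).height : ℕ∞) : WithBot ℕ∞) + ringKrullDim (S ⧸ q') = (e : WithBot ℕ∞))
    (HJ : ∀ q' : Ideal S, q'.IsPrime → q ≤ q' → J ≤ q' →
      (((q'.map (Ideal.Quotient.mk J)).height : ℕ∞) : WithBot ℕ∞) + ringKrullDim (S ⧸ q') = (e : WithBot ℕ∞))
    (HIJ : ∀ q' : Ideal S, q'.IsPrime → q ≤ q' → I ⊔ J ≤ q' →
      (((q'.map (Ideal.Quotient.mk (I ⊔ J))).height : ℕ∞) : WithBot ℕ∞) + ringKrullDim (S ⧸ q') =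
        ((e - 1 : ℕ) : WithBot ℕ∞))
    (Hle : ∀ q' : Ideal S, q'.IsPrime → q ≤ q' → I ⊓ J ≤ q' →
      (((q'.map (Ideal.Quotient.mk (I ⊓ J))).height : ℕ∞) : WithBot ℕ∞) + ringKrullDim (S ⧸ q') ≤
        (e : WithBot ℕ∞)) :
    IsCohenMacaulayLocalRing (Localization.AtPrime (q.map (Ideal.Quotient.mk (I ⊓ J)))) := by
  apply isCMLocal_of_height_le_idealDepth
  have hdep : idealDepth (q.map (Ideal.Quotient.mk (I ⊓ J))) (S ⧸ (I ⊓ J)) = idealDepth q (S ⧸ (I ⊓ J)) := by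
    rw [idealDepth_eq_idealDepth_map_of_finite (B := S ⧸ (I ⊓ J)) q (S ⧸ (I ⊓ J)),
      Ideal.Quotient.algebraMap_eq]
  rw [hdep]
  exact cm_glue_at I J q e he hI hJ hIJ HI HJ HIJ Hle

end Groth.Agent.Lib.Helper99.CM

namespace Groth.Agent.Lib.Helper99.GrGlue
open LocCoh Groth.Agent.Lib.Helper99.CM Groth.Agent.Lib.Helper99.SchubCM Groth.Agent.Lib.Helper99.Normal

variable {K : Type u} [Field K] {A : Type v} [CommRing A] [Algebra K A] [IsNoetherianRing A]
  (𝒜 : ℕ → Submodule K A) [GradedAlgebra 𝒜]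

/-- the dimension of `A/(I ∩ J)` -/
lemma ringKrullDim_quotient_inf_le {S : Type*} [CommRing S] (I J : Ideal S) (c : WithBot ℕ∞)
    (hI : ringKrullDim (S ⧸ I) ≤ c) (hJ : ringKrullDim (S ⧸ J) ≤ c) : ringKrullDim (S ⧸ (I ⊓ J)) ≤ c := by
  have h := ringKrullDim_quotient_iInf_le (S := S) (Set.univ : Set Bool) (fun b => if b then I else J) c
    (by
      intro b _
      cases b
      · simpa using hJ
      · simpa using hI)
  have h2 : (⨅ b ∈ (Set.univ : Set Bool), (if b then I else J : Ideal S)) = I ⊓ J := by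
    simp [iInf_bool_eq]
  rw [h2] at h
  exact h

/-- Graded gluing at the irrelevant ideal. -/
theorem gr_glue (h0 : ∀ a ∈ 𝒜 0, ∃ c : K, algebraMap K A c = a) (I J : Ideal A) (hI : I.IsHomogeneous 𝒜)
    (hJ : J.IsHomogeneous 𝒜) (e : ℕ) (he : 1 ≤ e)
    (hIcm : IsCohenMacaulayRing (A ⧸ I)) (hJcm : IsCohenMacaulayRing (A ⧸ J))
    (hIJcm : IsCohenMacaulayRing (A ⧸ (I ⊔ J)))
    (hIdim : ringKrullDim (A ⧸ I) = (e : WithBot ℕ∞)) (hJdim : ringKrullDim (A ⧸ J) = (e : WithBot ℕ∞))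
    (hIJdim : ringKrullDim (A ⧸ (I ⊔ J)) = ((e - 1 : ℕ) : WithBot ℕ∞))
    [hm : ((HomogeneousIdeal.irrelevant 𝒜).toIdeal.map (Ideal.Quotient.mk (I ⊓ J))).IsPrime] :
    IsCohenMacaulayLocalRing (Localization.AtPrime
        ((HomogeneousIdeal.irrelevant 𝒜).toIdeal.map (Ideal.Quotient.mk (I ⊓ J)))) ∧
      ringKrullDim (Localization.AtPrime
        ((HomogeneousIdeal.irrelevant 𝒜).toIdeal.map (Ideal.Quotient.mk (I ⊓ J)))) = (e : WithBot ℕ∞) := by
  have hntI : Nontrivial (A ⧸ I) := by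
    by_contra h
    rw [not_nontrivial_iff_subsingleton] at h
    rw [ringKrullDim_eq_bot_of_subsingleton] at hIdim
    exact WithBot.bot_ne_coe hIdim
  have hIne : I ≠ ⊤ := Ideal.Quotient.nontrivial_iff.1 hntI
  have hntJ : Nontrivial (A ⧸ J) := by
    by_contra h
    rw [not_nontrivial_iff_subsingleton] at h
    rw [ringKrullDim_eq_bot_of_subsingleton] at hJdim
    exact WithBot.bot_ne_coe hJdim
  have hJne : J ≠ ⊤ := Ideal.Quotient.nontrivial_iff.1 hntJ
  have hntIJ : Nontrivial (A ⧸ (I ⊔ J)) := by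
    by_contra h
    rw [not_nontrivial_iff_subsingleton] at h
    rw [ringKrullDim_eq_bot_of_subsingleton] at hIJdim
    exact WithBot.bot_ne_coe hIJdim
  have hIJne : I ⊔ J ≠ ⊤ := Ideal.Quotient.nontrivial_iff.1 hntIJ
  have hinfne : I ⊓ J ≠ ⊤ := fun h => hIne (top_le_iff.1 (h ▸ inf_le_left))
  have hntA : Nontrivial A := by
    by_contra h
    rw [not_nontrivial_iff_subsingleton] at h
    exact hIne (Subsingleton.elim _ _)
  have hmax := irr_isMaximal 𝒜 h0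
  have hIJh : (I ⊔ J).IsHomogeneous 𝒜 := hI.sup hJ
  have hinfh : (I ⊓ J).IsHomogeneous 𝒜 := hI.inf hJ
  have hdiminf : ringKrullDim (A ⧸ (I ⊓ J)) = (e : WithBot ℕ∞) := by
    apply le_antisymm
    · exact ringKrullDim_quotient_inf_le I J _ hIdim.le hJdim.le
    · rw [← hIdim]
      exact Groth.Agent.Lib.Helper67.EquiCat.ringKrullDim_quotient_le_of_le (I ⊓ J) I inf_le_left
  have hq0 := ringKrullDim_quotient_irr 𝒜 h0
  -- primes above the irrelevant ideal
  have honly : ∀ q' : Ideal A, q'.IsPrime → irr 𝒜 ≤ q' → q' = irr 𝒜 := by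
    intro q' hq' hle
    exact (hmax.eq_of_le hq'.ne_top hle).symm
  constructor
  · apply cm_glue_at' I J (irr 𝒜) e he hIcm hJcm hIJcm
    · intro q' hq' hle _
      rw [honly q' hq' hle, hq0, add_zero, height_irr_quotient 𝒜 h0 I hI hIne, hIdim]
    · intro q' hq' hle _
      rw [honly q' hq' hle, hq0, add_zero, height_irr_quotient 𝒜 h0 J hJ hJne, hJdim]
    · intro q' hq' hle _
      rw [honly q' hq' hle, hq0, add_zero, height_irr_quotient 𝒜 h0 (I ⊔ J) hIJh hIJne, hIJdim]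
    · intro q' hq' hle _
      rw [honly q' hq' hle, hq0, add_zero, height_irr_quotient 𝒜 h0 (I ⊓ J) hinfh hinfne, hdiminf]
  · rw [IsLocalization.AtPrime.ringKrullDim_eq_height ((irr 𝒜).map (Ideal.Quotient.mk (I ⊓ J))),
      height_irr_quotient 𝒜 h0 (I ⊓ J) hinfh hinfne, hdiminf]

end Groth.Agent.Lib.Helper99.GrGlue
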