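import Mathlib

/-!
# The scaling action on polynomial rings and ideals stable under it
-/

set_option autoImplicit false
universe u

namespace Groth.Agent.Lib.Helper99.GrLG
open MvPolynomial

variable (K : Type u) [Field K] {σ : Type*}

/-- the scaling endomorphism `x_i ↦ t x_i` -/
noncomputable def scale (t : K) : MvPolynomial σ K →ₐ[K] MvPolynomial σ K :=
  aeval fun i => C t * X i

variable {K}

lemma scale_X (t : K) (i : σ) : scale K t (X i : MvPolynomial σ K) = C t * X i := by
  unfold scale
  rw [aeval_X]

lemma scale_comp (t u : K) : (scale K t).comp (scale K u) = scale K (t * u) (σ := σ) := by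
  apply MvPolynomial.algHom_ext
  intro i
  rw [AlgHom.comp_apply, scale_X, map_mul, scale_X, scale_X]
  have : scale K t (C u : MvPolynomial σ K) = C u := by
    rw [← MvPolynomial.algebraMap_eq, AlgHom.commutes]
  rw [this, map_mul]
  ring

lemma scale_one : scale K (1 : K) = AlgHom.id K (MvPolynomial σ K) := by
  apply MvPolynomial.algHom_ext
  intro i
  rw [scale_X, map_one, one_mul, AlgHom.id_apply]

lemma scale_scale (t u : K) (f : MvPolynomial σ K) : scale K t (scale K u f) = scale K (t * u) f := by
  rw [← scale_comp, AlgHom.comp_apply]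

/-- scaling multiplies homogeneous polynomials by a power of the scalar -/
lemma scale_of_isHomogeneous (t : K) (f : MvPolynomial σ K) (k : ℕ) (hf : f.IsHomogeneous k) :
    scale K t f = C (t ^ k) * f := by
  classical
  have hf' : f = ∑ s ∈ f.support, monomial s (coeff s f) := (MvPolynomial.support_sum_monomial_coeff f).symm
  rw [hf', map_sum, Finset.mul_sum]
  apply Finset.sum_congr rfl
  intro s hs
  have hdeg : s.degree = k := by
    have := hf (mem_support_iff.1 hs)
    rw [Finsupp.degree_eq_weight_one]
    exact this
  have h1 : ∀ (s : σ →₀ ℕ) (c : K), scale K t (monomial s c) = C (t ^ s.degree) * monomial s c := by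
    intro s c
    induction s using Finsupp.induction with
    | zero =>
      have : (monomial (0 : σ →₀ ℕ) c : MvPolynomial σ K) = C c := rfl
      rw [this, ← MvPolynomial.algebraMap_eq, AlgHom.commutes, MvPolynomial.algebraMap_eq]
      simp
    | single_add i n s his hn ih =>
      have hmon : (monomial (Finsupp.single i n + s) c : MvPolynomial σ K) = X i ^ n * monomial s c := by
        rw [X_pow_eq_monomial, monomial_mul, one_mul]
      rw [hmon, map_mul, map_pow, scale_X, ih, mul_pow, ← C_pow]
      have hd : (Finsupp.single i n + s).degree = n + s.degree := by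
        rw [map_add, Finsupp.degree_single]
      rw [hd, pow_add, C_mul]
      ring
  rw [h1, hdeg]

/-- scaling in terms of homogeneous components -/
lemma scale_eq_sum (t : K) (f : MvPolynomial σ K) :
    scale K t f = ∑ j ∈ Finset.range (f.totalDegree + 1), C (t ^ j) * homogeneousComponent j f := by
  conv_lhs => rw [← sum_homogeneousComponent f]
  rw [map_sum]
  apply Finset.sum_congr rfl
  intro j _
  exact scale_of_isHomogeneous t _ j (homogeneousComponent_isHomogeneous j f)

/-- An ideal stable under all scalings by nonzero scalars of an infinite field contains the constant terms of its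
elements. -/
theorem C_coeff_zero_mem [Infinite K] (J : Ideal (MvPolynomial σ K))
    (hJ : ∀ t : K, t ≠ 0 → ∀ f ∈ J, scale K t f ∈ J) (f : MvPolynomial σ K) (hf : f ∈ J) :
    C (coeff 0 f) ∈ J := by
  classical
  set D := f.totalDegree with hD
  obtain ⟨s, hs0, hscard⟩ : ∃ s : Finset K, (∀ x ∈ s, x ≠ 0) ∧ s.card = D + 1 := by
    have hinf : ({x : K | x ≠ 0} : Set K).Infinite := by
      have : ({x : K | x ≠ 0} : Set K) = {0}ᶜ := by ext x; simp
      rw [this]
      exact (Set.finite_singleton (0 : K)).infinite_compl
    obtain ⟨s, hs, hc⟩ := hinf.exists_subset_card_eq (D + 1)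
    exact ⟨s, fun x hx => hs hx, hc⟩
  set a : K → K := fun i => (Lagrange.basis s id i).eval 0 with ha
  have hinj : Set.InjOn (id : K → K) s := Function.injective_id.injOn
  have hkey : ∀ j : ℕ, j ≤ D → ∑ i ∈ s, a i * i ^ j = if j = 0 then 1 else 0 := by
    intro j hj
    have hdeg : (Polynomial.X ^ j : Polynomial K).degree < s.card := by
      rw [Polynomial.degree_X_pow, hscard]
      exact_mod_cast Nat.lt_succ_of_le hj
    have h1 := Lagrange.eq_interpolate (s := s) (v := id) hinj hdeg
    have h2 := congrArg (Polynomial.eval 0) h1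
    rw [Lagrange.interpolate_apply, Polynomial.eval_finsetSum] at h2
    simp only [Polynomial.eval_mul, Polynomial.eval_C, Polynomial.eval_pow, Polynomial.eval_X, id] at h2
    rw [zero_pow_eq] at h2
    rw [h2]
    apply Finset.sum_congr rfl
    intro i _
    rw [mul_comm]
  have hsum : ∑ i ∈ s, C (a i) * scale K i f = C (coeff 0 f) := by
    have h1 : ∀ i ∈ s, C (a i) * scale K i f =
        ∑ j ∈ Finset.range (D + 1), C (a i * i ^ j) * homogeneousComponent j f := by
      intro i _
      rw [scale_eq_sum, Finset.mul_sum]
      apply Finset.sum_congr rfl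
      intro j _
      rw [C_mul]
      ring
    rw [Finset.sum_congr rfl h1, Finset.sum_comm]
    have h2 : ∀ j ∈ Finset.range (D + 1), ∑ i ∈ s, C (a i * i ^ j) * homogeneousComponent j f =
        if j = 0 then homogeneousComponent 0 f else 0 := by
      intro j hj
      rw [← Finset.sum_mul, ← map_sum, hkey j (Nat.lt_succ_iff.1 (Finset.mem_range.1 hj))]
      split_ifs with h0
      · subst h0
        rw [C_1, one_mul]
      · rw [C_0, zero_mul]
    rw [Finset.sum_congr rfl h2, Finset.sum_ite_eq' (Finset.range (D + 1)) 0, if_pos (by simp),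
      homogeneousComponent_zero]
  rw [← hsum]
  exact J.sum_mem fun i hi => J.mul_mem_left _ (hJ i (hs0 i hi) f hf)

/-- A proper ideal stable under all scalings lies in the irrelevant ideal. -/
theorem le_ker_constantCoeff [Infinite K] (J : Ideal (MvPolynomial σ K))
    (hJ : ∀ t : K, t ≠ 0 → ∀ f ∈ J, scale K t f ∈ J) (hne : J ≠ ⊤) :
    J ≤ RingHom.ker (constantCoeff : MvPolynomial σ K →+* K) := by
  intro f hf
  rw [RingHom.mem_ker, constantCoeff_eq]
  by_contra h0
  apply hne
  rw [Ideal.eq_top_iff_one]
  have h1 := C_coeff_zero_mem J hJ f hf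
  have h2 : (1 : MvPolynomial σ K) = C (coeff 0 f)⁻¹ * C (coeff 0 f) := by
    rw [← C_mul, inv_mul_cancel₀ h0, C_1]
  rw [h2]
  exact J.mul_mem_left _ h1

end Groth.Agent.Lib.Helper99.GrLG
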