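import Mathlib
import Groth.Agent.Lib.Helper99.GrLGA
import Groth.Agent.Lib.Helper67.CMOpen

/-!
# A cone over an infinite field is Cohen–Macaulay as soon as it is so at its vertex
-/

set_option autoImplicit false
universe u

namespace Groth.Agent.Lib.Helper99.GrLG
open MvPolynomial LocCoh

variable (K : Type u) [Field K] (N : ℕ)

/-- scaling by a nonzero scalar as an algebra automorphism -/
noncomputable def scaleEquiv (t : K) (ht : t ≠ 0) : MvPolynomial (Fin N) K ≃ₐ[K] MvPolynomial (Fin N) K :=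
  AlgEquiv.ofAlgHom (scale K t) (scale K t⁻¹)
    (by rw [scale_comp, mul_inv_cancel₀ ht, scale_one])
    (by rw [scale_comp, inv_mul_cancel₀ ht, scale_one])

lemma scaleEquiv_apply (t : K) (ht : t ≠ 0) (f : MvPolynomial (Fin N) K) :
    scaleEquiv K N t ht f = scale K t f := rfl

variable {K N}
variable (I : Ideal (MvPolynomial (Fin N) K))

lemma scale_mem (hI : ∃ T : Set (MvPolynomial (Fin N) K), (∀ f ∈ T, ∃ k : ℕ, f.IsHomogeneous k) ∧ I = Ideal.span T)
    (t : K) : ∀ f ∈ I, scale K t f ∈ I := by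
  obtain ⟨T, hT, rfl⟩ := hI
  intro f hf
  induction hf using Submodule.span_induction with
  | mem x hx =>
    obtain ⟨k, hk⟩ := hT x hx
    rw [scale_of_isHomogeneous t x k hk]
    exact Ideal.mul_mem_left _ _ (Ideal.subset_span hx)
  | zero => rw [map_zero]; exact zero_mem _
  | add x y _ _ hx hy => rw [map_add]; exact add_mem hx hy
  | smul a x _ hx => rw [smul_eq_mul, map_mul]; exact Ideal.mul_mem_left _ _ hx

lemma map_scaleEquiv (hI : ∃ T : Set (MvPolynomial (Fin N) K), (∀ f ∈ T, ∃ k : ℕ, f.IsHomogeneous k) ∧ I = Ideal.span T)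
    (t : K) (ht : t ≠ 0) :
    I = I.map (((scaleEquiv K N t ht : MvPolynomial (Fin N) K ≃ₐ[K] MvPolynomial (Fin N) K) :
      MvPolynomial (Fin N) K ≃+* MvPolynomial (Fin N) K) : MvPolynomial (Fin N) K →+* MvPolynomial (Fin N) K) := by
  apply le_antisymm
  · intro f hf
    have h1 : scale K t⁻¹ f ∈ I := scale_mem I hI t⁻¹ f hf
    have h2 : f = scale K t (scale K t⁻¹ f) := by
      rw [scale_scale, mul_inv_cancel₀ ht, scale_one, AlgHom.id_apply]
    rw [h2]
    exact Ideal.mem_map_of_mem _ h1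
  · rw [Ideal.map_le_iff_le_comap]
    intro f hf
    rw [Ideal.mem_comap]
    exact scale_mem I hI t f hf

/-- the automorphism of the quotient induced by a scaling -/
noncomputable def quotEquiv
    (hI : ∃ T : Set (MvPolynomial (Fin N) K), (∀ f ∈ T, ∃ k : ℕ, f.IsHomogeneous k) ∧ I = Ideal.span T)
    (t : K) (ht : t ≠ 0) : (MvPolynomial (Fin N) K ⧸ I) ≃+* (MvPolynomial (Fin N) K ⧸ I) :=
  Ideal.quotientEquiv I I ((scaleEquiv K N t ht : MvPolynomial (Fin N) K ≃ₐ[K] MvPolynomial (Fin N) K) :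
      MvPolynomial (Fin N) K ≃+* MvPolynomial (Fin N) K) (map_scaleEquiv I hI t ht)

lemma quotEquiv_mk
    (hI : ∃ T : Set (MvPolynomial (Fin N) K), (∀ f ∈ T, ∃ k : ℕ, f.IsHomogeneous k) ∧ I = Ideal.span T)
    (t : K) (ht : t ≠ 0) (f : MvPolynomial (Fin N) K) :
    quotEquiv I hI t ht (Ideal.Quotient.mk I f) = Ideal.Quotient.mk I (scale K t f) := by
  unfold quotEquiv
  rw [Ideal.quotientEquiv_mk]
  rfl

/-- A cone is Cohen–Macaulay if it is Cohen–Macaulay at its vertex. -/
theorem cm_of_vertex [Infinite K]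
    (hI : ∃ T : Set (MvPolynomial (Fin N) K), (∀ f ∈ T, ∃ k : ℕ, f.IsHomogeneous k) ∧ I = Ideal.span T)
    [hm : ((RingHom.ker (MvPolynomial.constantCoeff : MvPolynomial (Fin N) K →+* K)).map
      (Ideal.Quotient.mk I)).IsPrime]
    (hCM : IsCohenMacaulayLocalRing (Localization.AtPrime
        ((RingHom.ker (MvPolynomial.constantCoeff : MvPolynomial (Fin N) K →+* K)).map
          (Ideal.Quotient.mk I)))) :
    IsCohenMacaulayRing (MvPolynomial (Fin N) K ⧸ I) := by
  classical
  have hft : Algebra.FiniteType K (MvPolynomial (Fin N) K ⧸ I) :=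
    Algebra.FiniteType.of_surjective (Ideal.Quotient.mkₐ K I) (Ideal.Quotient.mkₐ_surjective K _)
  have hopen := Groth.Agent.Lib.Helper67.CMOpen.isOpen_cm_locus K (MvPolynomial (Fin N) K ⧸ I)
  refine { isCohenMacaulayLocalRing_localization := fun p hp => ?_ }
  by_contra hpCM
  set Zc : Set (PrimeSpectrum (MvPolynomial (Fin N) K ⧸ I)) :=
    {q | ¬ IsCohenMacaulayLocalRing (Localization.AtPrime q.asIdeal)} with hZc
  have hclosed : IsClosed Zc := by
    rw [← isOpen_compl_iff]
    have : Zcᶜ = {q : PrimeSpectrum (MvPolynomial (Fin N) K ⧸ I) |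
        IsCohenMacaulayLocalRing (Localization.AtPrime q.asIdeal)} := by
      ext q
      simp [hZc]
    rw [this]
    exact hopen
  set J := PrimeSpectrum.vanishingIdeal Zc with hJ
  have hzero : PrimeSpectrum.zeroLocus (J : Set (MvPolynomial (Fin N) K ⧸ I)) = Zc := by
    rw [hJ, PrimeSpectrum.zeroLocus_vanishingIdeal_eq_closure, hclosed.closure_eq]
  have hpZ : (⟨p, hp⟩ : PrimeSpectrum (MvPolynomial (Fin N) K ⧸ I)) ∈ Zc := hpCM
  have hJne : J ≠ ⊤ := by
    intro htop
    have h1 : (1 : MvPolynomial (Fin N) K ⧸ I) ∈ J := by rw [htop]; trivial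
    rw [hJ, PrimeSpectrum.mem_vanishingIdeal] at h1
    exact hp.ne_top ((Ideal.eq_top_iff_one _).2 (h1 _ hpZ))
  -- stability of the non-CM locus under the scalings
  have hstab : ∀ (t : K) (ht : t ≠ 0), ∀ x ∈ J, quotEquiv I hI t ht x ∈ J := by
    intro t ht x hx
    rw [hJ, PrimeSpectrum.mem_vanishingIdeal] at hx ⊢
    intro q hq
    set e := quotEquiv I hI t ht with he
    have hq'prime : (q.asIdeal.comap (e : (MvPolynomial (Fin N) K ⧸ I) →+* (MvPolynomial (Fin N) K ⧸ I))).IsPrime :=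
      Ideal.comap_isPrime _ _
    have hq'Z : (⟨q.asIdeal.comap (e : (MvPolynomial (Fin N) K ⧸ I) →+* (MvPolynomial (Fin N) K ⧸ I)), hq'prime⟩ :
        PrimeSpectrum (MvPolynomial (Fin N) K ⧸ I)) ∈ Zc := by
      intro hcm
      apply hq
      exact Groth.Agent.Lib.Helper56.isCohenMacaulayLocalRing_of_ringEquiv
        (Localization.localRingEquiv (q.asIdeal.comap (e : (MvPolynomial (Fin N) K ⧸ I) →+* (MvPolynomial (Fin N) K ⧸ I)))
          q.asIdeal e rfl) hcm
    have := hx _ hq'Z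
    exact this
  -- the preimage in the polynomial ring
  set J' := J.comap (Ideal.Quotient.mk I) with hJ'
  have hJ'stab : ∀ t : K, t ≠ 0 → ∀ f ∈ J', scale K t f ∈ J' := by
    intro t ht f hf
    rw [hJ', Ideal.mem_comap] at hf ⊢
    rw [← quotEquiv_mk I hI t ht]
    exact hstab t ht _ hf
  have hJ'ne : J' ≠ ⊤ := by
    intro htop
    apply hJne
    rw [Ideal.eq_top_iff_one]
    have : (1 : MvPolynomial (Fin N) K) ∈ J' := by rw [htop]; trivial
    rw [hJ', Ideal.mem_comap, map_one] at this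
    exact this
  have hle := le_ker_constantCoeff J' hJ'stab hJ'ne
  have hJle : J ≤ (RingHom.ker (MvPolynomial.constantCoeff : MvPolynomial (Fin N) K →+* K)).map
      (Ideal.Quotient.mk I) := by
    intro x hx
    obtain ⟨f, rfl⟩ := Ideal.Quotient.mk_surjective x
    exact Ideal.mem_map_of_mem _ (hle (by rw [hJ', Ideal.mem_comap]; exact hx))
  have hmZ : (⟨_, hm⟩ : PrimeSpectrum (MvPolynomial (Fin N) K ⧸ I)) ∈ Zc := by
    rw [← hzero, PrimeSpectrum.mem_zeroLocus]
    exact hJle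
  exact hmZ hCM

end Groth.Agent.Lib.Helper99.GrLG
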