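import Mathlib
import Groth.Agent.Lib.Helper97.CartierH1

/-!
# Generators of Kähler differentials at a prime: general lemmas (helper99)
-/

set_option autoImplicit false
open TensorProduct IsLocalRing

namespace Groth.Agent.Lib.Helper99.Hyp

universe u

/-- Nakayama: a finite module over a local ring is generated by `finrank (k ⊗ M)` elements. -/
theorem exists_finset_span_of_finrank_le {R : Type u} [CommRing R] [IsLocalRing R]
    {M : Type u} [AddCommGroup M] [Module R M] [Module.Finite R M] (n : ℕ)
    (h : Module.finrank (ResidueField R) (ResidueField R ⊗[R] M) ≤ n) :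
    ∃ s : Finset M, s.card ≤ n ∧ Submodule.span R (s : Set M) = ⊤ := by
  classical
  set r := Module.finrank (ResidueField R) (ResidueField R ⊗[R] M) with hr
  let b := Module.finBasis (ResidueField R) (ResidueField R ⊗[R] M)
  have hsurj : Function.Surjective (TensorProduct.mk R (ResidueField R) M 1) :=
    TensorProduct.mk_surjective R M (ResidueField R) Ideal.Quotient.mk_surjective
  choose f hf using fun i => hsurj (b i)
  have hspan : Submodule.span R (Set.range f) = ⊤ :=
    IsLocalRing.span_eq_top_of_tmul_eq_basis f b hf
  refine ⟨Finset.univ.image f, ?_, ?_⟩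
  · refine (Finset.card_image_le).trans ?_
    rw [Finset.card_univ, Fintype.card_fin]
    exact h
  · rw [Finset.coe_image, Finset.coe_univ, Set.image_univ]
    exact hspan

/-- dimension of the fibre is insensitive to field extension -/
theorem finrank_tensor_tower {A : Type u} [CommRing A] (W : Type u) [AddCommGroup W] [Module A W]
    (F F' : Type u) [Field F] [Field F'] [Algebra A F] [Algebra A F'] [Algebra F F']
    [IsScalarTower A F F'] :
    Module.finrank F' (F' ⊗[A] W) = Module.finrank F (F ⊗[A] W) := by
  rw [← Module.finrank_baseChange (R := F') (S := F) (M' := F ⊗[A] W)]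
  exact (TensorProduct.AlgebraTensorModule.cancelBaseChange A F F' F' W).symm.finrank_eq

/-- the conormal bound at the residue field of a local algebra over a field -/
theorem finrank_residueField_tensor_kaehler_le (k : Type u) [Field k] (R' : Type u) [CommRing R']
    [IsLocalRing R'] [IsNoetherianRing R'] [Algebra k R'] [Module.Finite R' (Ω[R'⁄k])] :
    Module.finrank (ResidueField R') (ResidueField R' ⊗[R'] Ω[R'⁄k]) ≤
      (maximalIdeal R').spanFinrank + Module.finrank (ResidueField R') (Ω[ResidueField R'⁄k]) := by
  classical
  have hsurj : Function.Surjective (algebraMap R' (ResidueField R')) := Ideal.Quotient.mk_surjective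
  let g := KaehlerDifferential.mapBaseChange k R' (ResidueField R')
  have hgsurj : Function.Surjective g := KaehlerDifferential.mapBaseChange_surjective k R' (ResidueField R') hsurj
  have hex := KaehlerDifferential.exact_kerCotangentToTensor_mapBaseChange k R' (ResidueField R') hsurj
  obtain ⟨s, hcard, hspan⟩ := Submodule.FG.exists_span_finset_card_eq_spanFinrank
    (IsNoetherian.noetherian (maximalIdeal R'))
  let U : Submodule (ResidueField R') (ResidueField R' ⊗[R'] Ω[R'⁄k]) :=
    Submodule.span (ResidueField R') ((fun y : R' => (1 : ResidueField R') ⊗ₜ[R'] KaehlerDifferential.D k R' y) '' (s : Set R'))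
  have hU : Module.finrank (ResidueField R') U ≤ (maximalIdeal R').spanFinrank := by
    rw [← hcard]
    refine (finrank_span_le_card _).trans ?_
    rw [Set.toFinset_card]
    refine (Fintype.card_le_of_surjective (fun y : s => (⟨_, ⟨y.1, y.2, rfl⟩⟩ :
      ((fun y : R' => (1 : ResidueField R') ⊗ₜ[R'] KaehlerDifferential.D k R' y) '' (s : Set R'))))
      ?_).trans ?_
    · rintro ⟨_, y, hy, rfl⟩
      exact ⟨⟨y, hy⟩, rfl⟩
    · rw [Fintype.card_coe]
  have hkerle : LinearMap.ker g ≤ U := by
    intro v hv
    obtain ⟨c, rfl⟩ := (hex v).mp hv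
    obtain ⟨y, rfl⟩ := Ideal.toCotangent_surjective _ c
    rw [KaehlerDifferential.kerCotangentToTensor_toCotangent]
    have hy : (y : R') ∈ maximalIdeal R' := by
      have h0 : algebraMap R' (ResidueField R') (y : R') = 0 := RingHom.mem_ker.mp y.2
      have h1 : IsLocalRing.residue R' (y : R') = 0 := h0
      exact (IsLocalRing.residue_eq_zero_iff _).mp h1
    rw [← hspan] at hy
    refine Submodule.span_induction (p := fun z _ => (1 : ResidueField R') ⊗ₜ[R'] KaehlerDifferential.D k R' z ∈ U)
      ?_ ?_ ?_ ?_ hy
    · intro z hz
      exact Submodule.subset_span ⟨z, hz, rfl⟩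
    · rw [map_zero, tmul_zero]
      exact U.zero_mem
    · intro a b _ _ ha hb
      rw [map_add, tmul_add]
      exact U.add_mem ha hb
    · intro a z hz hz'
      rw [smul_eq_mul, Derivation.leibniz, tmul_add]
      refine U.add_mem ?_ ?_
      · have : (1 : ResidueField R') ⊗ₜ[R'] (a • KaehlerDifferential.D k R' z) =
            (algebraMap R' (ResidueField R') a) • ((1 : ResidueField R') ⊗ₜ[R'] KaehlerDifferential.D k R' z) := by
          rw [TensorProduct.tmul_smul, TensorProduct.smul_tmul', TensorProduct.smul_tmul',
            Algebra.smul_def, smul_eq_mul]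
        rw [this]
        exact U.smul_mem _ hz'
      · have hzm : z ∈ maximalIdeal R' := hspan ▸ hz
        have : (1 : ResidueField R') ⊗ₜ[R'] (z • KaehlerDifferential.D k R' a) = 0 := by
          rw [TensorProduct.tmul_smul, TensorProduct.smul_tmul', Algebra.smul_def, mul_one,
            IsLocalRing.ResidueField.algebraMap_eq, (IsLocalRing.residue_eq_zero_iff z).mpr hzm,
            zero_tmul]
        rw [this]
        exact U.zero_mem
  have h1 := LinearMap.finrank_range_add_finrank_ker g
  have h2 : Module.finrank (ResidueField R') (LinearMap.range g) = Module.finrank (ResidueField R') (Ω[ResidueField R'⁄k]) := by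
    rw [LinearMap.range_eq_top.mpr hgsurj, finrank_top]
  have h3 : Module.finrank (ResidueField R') (LinearMap.ker g) ≤ Module.finrank (ResidueField R') U :=
    Submodule.finrank_mono hkerle
  omega

/-- Cartier's equality over a perfect field -/
theorem finrank_kaehler_eq_trdeg (k L : Type u) [Field k] [Field L] [Algebra k L]
    [PerfectField k] [Algebra.EssFiniteType k L] :
    Module.finrank L (Ω[L⁄k]) = Cardinal.toNat (Algebra.trdeg k L) := by
  obtain ⟨-, -, h⟩ := Groth.Agent.Lib.Helper97.CartierH1.cartier (K := k) (L := L)
  haveI : Subsingleton (Algebra.H1Cotangent k L) := Algebra.FormallySmooth.subsingleton_h1Cotangent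
  rw [Module.finrank_zero_of_subsingleton (M := Algebra.H1Cotangent k L)] at h
  have : (Module.finrank L (Ω[L⁄k]) : ℤ) = Cardinal.toNat (Algebra.trdeg k L) := by
    simpa using h
  exact_mod_cast this

end Groth.Agent.Lib.Helper99.Hyp
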