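import Groth.Agent.Lib.Helper99.HypA
import Groth.Agent.Lib.Helper94.CIDim
import Groth.Agent.Lib.Helper73.DimFT.Catenary

/-!
# Fibre dimension of Kähler differentials at a prime with hypersurface-type local ring (helper99)
-/

set_option autoImplicit false
open TensorProduct IsLocalRing

namespace Groth.Agent.Lib.Helper99.Hyp

universe u

theorem finrank_fibre_kaehler_le (k : Type u) [Field k] [PerfectField k] (T : Type u) [CommRing T]
    [IsDomain T] [Algebra k T] [Algebra.FiniteType k T] (d : ℕ)
    (hd : ringKrullDim T ≤ (d : WithBot ℕ∞)) (q : Ideal T) [q.IsPrime]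
    (hq : (Module.finrank (ResidueField (Localization.AtPrime q))
      (CotangentSpace (Localization.AtPrime q)) : ℕ∞) ≤ q.height + 1) :
    Module.finrank q.ResidueField (q.ResidueField ⊗[T] Ω[T⁄k]) ≤ d + 1 := by
  haveI : IsNoetherianRing T := Algebra.FiniteType.isNoetherianRing k T
  haveI : IsNoetherianRing (Localization.AtPrime q) :=
    IsLocalization.isNoetherianRing q.primeCompl _ inferInstance
  let e1 : Localization.AtPrime q ⊗[T] Ω[T⁄k] ≃ₗ[Localization.AtPrime q]
      Ω[Localization.AtPrime q⁄k] :=
    KaehlerDifferential.tensorKaehlerEquivOfFormallyEtale k T (Localization.AtPrime q)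
  haveI : Module.Finite (Localization.AtPrime q) (Ω[Localization.AtPrime q⁄k]) :=
    Module.Finite.equiv e1
  let e2 : q.ResidueField ⊗[Localization.AtPrime q] Ω[Localization.AtPrime q⁄k]
      ≃ₗ[q.ResidueField] q.ResidueField ⊗[T] Ω[T⁄k] :=
    (TensorProduct.AlgebraTensorModule.congr (LinearEquiv.refl q.ResidueField q.ResidueField)
      e1.symm).trans
      (TensorProduct.AlgebraTensorModule.cancelBaseChange T (Localization.AtPrime q)
        q.ResidueField q.ResidueField (Ω[T⁄k]))
  have h1 := finrank_residueField_tensor_kaehler_le k (Localization.AtPrime q)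
  have h1' : Module.finrank q.ResidueField (q.ResidueField ⊗[T] Ω[T⁄k]) ≤
      (maximalIdeal (Localization.AtPrime q)).spanFinrank +
        Module.finrank q.ResidueField (Ω[q.ResidueField⁄k]) := by
    rw [← e2.finrank_eq]
    exact h1
  have h2 : (maximalIdeal (Localization.AtPrime q)).spanFinrank =
      Module.finrank (ResidueField (Localization.AtPrime q))
        (CotangentSpace (Localization.AtPrime q)) :=
    IsLocalRing.spanFinrank_maximalIdeal_eq_finrank_cotangentSpace (Localization.AtPrime q)
  haveI : Algebra.EssFiniteType k q.ResidueField := Algebra.EssFiniteType.comp k T q.ResidueField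
  have h3 := finrank_kaehler_eq_trdeg k q.ResidueField
  obtain ⟨n, hn⟩ := Groth.Agent.Lib.Helper73.exists_nat_ringKrullDim_eq k (T ⧸ q)
  have h4 : Algebra.trdeg k q.ResidueField = n :=
    Groth.Agent.Lib.Helper73.trdeg_eq_of_ringKrullDim_eq k (A := T ⧸ q) q.ResidueField n hn
  have h5 := Groth.Agent.Lib.Helper94.CIDim.height_add_ringKrullDim_quotient_le T q
  rw [hn] at h5
  have h6 : ((q.height : ℕ∞) : WithBot ℕ∞) + (n : WithBot ℕ∞) ≤ (d : WithBot ℕ∞) := h5.trans hd
  have h7 : q.height + (n : ℕ∞) ≤ (d : ℕ∞) := by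
    have : (((q.height + (n : ℕ∞) : ℕ∞)) : WithBot ℕ∞) ≤ ((d : ℕ∞) : WithBot ℕ∞) := by
      push_cast
      exact h6
    exact_mod_cast this
  have hfin : q.height ≠ ⊤ := by
    intro htop
    rw [htop, top_add] at h7
    exact absurd h7 (by simp)
  obtain ⟨h, hh⟩ := ENat.ne_top_iff_exists.mp hfin
  rw [← hh] at h7 hq
  have h8 : h + n ≤ d := by exact_mod_cast h7
  have h9 : Module.finrank (ResidueField (Localization.AtPrime q))
      (CotangentSpace (Localization.AtPrime q)) ≤ h + 1 := by exact_mod_cast hq
  rw [h4, Cardinal.toNat_natCast] at h3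
  rw [h2] at h1'
  omega

end Groth.Agent.Lib.Helper99.Hyp
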