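import Groth.Agent.Lib.Helper99.HypB
import Groth.Agent.Lib.Helper73.DimFT.Basic

set_option autoImplicit false
open TensorProduct IsLocalRing

namespace Groth.Agent.Lib.Helper99.Hyp

universe u

attribute [local instance] Algebra.TensorProduct.rightAlgebra

theorem isIntegral_tensor (K : Type u) [Field K] (A : Type u) [CommRing A] [Algebra K A]
    (k : Type u) [Field k] [Algebra K k] [Algebra.IsAlgebraic K k] :
    Algebra.IsIntegral A (k ⊗[K] A) := by
  have : Algebra.IsIntegral K k := Algebra.IsAlgebraic.isIntegral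
  refine ⟨fun z => ?_⟩
  induction z using TensorProduct.induction_on with
  | zero => exact isIntegral_zero
  | tmul x y =>
    have h1 : x ⊗ₜ[K] y = (x ⊗ₜ[K] (1 : A)) * ((1 : k) ⊗ₜ[K] y) := by
      rw [Algebra.TensorProduct.tmul_mul_tmul, mul_one, one_mul]
    rw [h1]
    refine IsIntegral.mul ?_ ?_
    · have hx : IsIntegral K x := Algebra.IsIntegral.isIntegral x
      have h2 : IsIntegral K ((Algebra.TensorProduct.includeLeft : k →ₐ[K] k ⊗[K] A) x) :=
        hx.map _
      exact h2.tower_top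
    · exact isIntegral_algebraMap (R := A) (x := y)
  | add a b ha hb => exact ha.add hb

/-- fibre dimension of `Ω[A⁄K]` at `p` bounded via a geometric point. -/
theorem finrank_fibre_le (K : Type u) [Field K] (A : Type u) [CommRing A] [Algebra K A]
    [Algebra.FiniteType K A]
    (k : Type u) [Field k] [Algebra K k] [Algebra.IsAlgebraic K k] [PerfectField k]
    [IsDomain (k ⊗[K] A)]
    (hhyp : ∀ (q : Ideal (k ⊗[K] A)) [q.IsPrime],
      (Module.finrank (ResidueField (Localization.AtPrime q))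
          (CotangentSpace (Localization.AtPrime q)) : ℕ∞) ≤ q.height + 1)
    (d : ℕ) (hd : ringKrullDim A = d) (p : Ideal A) [p.IsPrime] :
    Module.finrank p.ResidueField (p.ResidueField ⊗[A] Ω[A⁄K]) ≤ d + 1 := by
  haveI := isIntegral_tensor K A k
  have hinj : Function.Injective (algebraMap A (k ⊗[K] A)) :=
    Algebra.TensorProduct.includeRight_injective (algebraMap K k).injective
  have hdT : ringKrullDim (k ⊗[K] A) ≤ (d : WithBot ℕ∞) := by
    rw [Groth.Agent.Lib.Helper73.ringKrullDim_eq_of_isIntegral_of_injective hinj, hd]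
  obtain ⟨q, -, hqp, hqc⟩ := Ideal.exists_ideal_over_prime_of_isIntegral p (⊥ : Ideal (k ⊗[K] A))
    (by
      rw [← RingHom.ker_eq_comap_bot, (RingHom.injective_iff_ker_eq_bot _).mp hinj]
      exact bot_le)
  haveI := hqp
  have hB := finrank_fibre_kaehler_le k (k ⊗[K] A) d hdT q (hhyp q)
  letI : Algebra p.ResidueField q.ResidueField :=
    (Ideal.ResidueField.map p q (algebraMap A (k ⊗[K] A)) hqc.symm).toAlgebra
  haveI : IsScalarTower A p.ResidueField q.ResidueField := by
    refine IsScalarTower.of_algebraMap_eq fun a => ?_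
    rw [IsScalarTower.algebraMap_apply A (k ⊗[K] A) q.ResidueField]
    exact (Ideal.ResidueField.map_algebraMap p q (algebraMap A (k ⊗[K] A)) hqc.symm a).symm
  rw [← finrank_tensor_tower (Ω[A⁄K]) p.ResidueField q.ResidueField]
  let e1 : q.ResidueField ⊗[k ⊗[K] A] ((k ⊗[K] A) ⊗[A] Ω[A⁄K]) ≃ₗ[q.ResidueField]
      q.ResidueField ⊗[A] Ω[A⁄K] :=
    TensorProduct.AlgebraTensorModule.cancelBaseChange A (k ⊗[K] A) q.ResidueField q.ResidueField
      (Ω[A⁄K])
  let e2 : (k ⊗[K] A) ⊗[A] Ω[A⁄K] ≃ₗ[k ⊗[K] A] Ω[(k ⊗[K] A)⁄k] :=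
    KaehlerDifferential.tensorKaehlerEquiv K k A (k ⊗[K] A)
  let e3 : q.ResidueField ⊗[k ⊗[K] A] ((k ⊗[K] A) ⊗[A] Ω[A⁄K]) ≃ₗ[q.ResidueField]
      q.ResidueField ⊗[k ⊗[K] A] Ω[(k ⊗[K] A)⁄k] :=
    TensorProduct.AlgebraTensorModule.congr (LinearEquiv.refl q.ResidueField q.ResidueField) e2
  rw [← e1.finrank_eq, e3.finrank_eq]
  exact hB

/-- the final statement: `(Ω[A⁄K])_p` is generated by `d + 1` elements. -/
theorem exists_generators (K : Type u) [Field K] (A : Type u) [CommRing A] [Algebra K A]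
    [Algebra.FiniteType K A]
    (k : Type u) [Field k] [Algebra K k] [Algebra.IsAlgebraic K k] [PerfectField k]
    [IsDomain (k ⊗[K] A)]
    (hhyp : ∀ (q : Ideal (k ⊗[K] A)) [q.IsPrime],
      (Module.finrank (ResidueField (Localization.AtPrime q))
          (CotangentSpace (Localization.AtPrime q)) : ℕ∞) ≤ q.height + 1)
    (d : ℕ) (hd : ringKrullDim A = d) (p : Ideal A) [p.IsPrime] :
    ∃ s : Finset (LocalizedModule p.primeCompl (Ω[A⁄K])),
      s.card ≤ d + 1 ∧ Submodule.span (Localization.AtPrime p)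
        (s : Set (LocalizedModule p.primeCompl (Ω[A⁄K]))) = ⊤ := by
  have h := finrank_fibre_le K A k hhyp d hd p
  have hbc : IsBaseChange (Localization.AtPrime p)
      (LocalizedModule.mkLinearMap p.primeCompl (Ω[A⁄K])) :=
    IsLocalizedModule.isBaseChange p.primeCompl (Localization.AtPrime p)
      (LocalizedModule.mkLinearMap p.primeCompl (Ω[A⁄K]))
  let e1 : Localization.AtPrime p ⊗[A] Ω[A⁄K] ≃ₗ[Localization.AtPrime p]
      LocalizedModule p.primeCompl (Ω[A⁄K]) := hbc.equiv
  let e2 : p.ResidueField ⊗[Localization.AtPrime p] (Localization.AtPrime p ⊗[A] Ω[A⁄K])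
      ≃ₗ[p.ResidueField] p.ResidueField ⊗[A] Ω[A⁄K] :=
    TensorProduct.AlgebraTensorModule.cancelBaseChange A (Localization.AtPrime p)
      p.ResidueField p.ResidueField (Ω[A⁄K])
  let e3 : p.ResidueField ⊗[Localization.AtPrime p] (Localization.AtPrime p ⊗[A] Ω[A⁄K])
      ≃ₗ[p.ResidueField] p.ResidueField ⊗[Localization.AtPrime p]
        LocalizedModule p.primeCompl (Ω[A⁄K]) :=
    TensorProduct.AlgebraTensorModule.congr (LinearEquiv.refl p.ResidueField p.ResidueField) e1
  haveI : Module.Finite (Localization.AtPrime p) (LocalizedModule p.primeCompl (Ω[A⁄K])) :=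
    Module.Finite.of_isLocalizedModule p.primeCompl
      (LocalizedModule.mkLinearMap p.primeCompl (Ω[A⁄K]))
  refine exists_finset_span_of_finrank_le (R := Localization.AtPrime p)
    (M := LocalizedModule p.primeCompl (Ω[A⁄K])) (d + 1) ?_
  have h' : Module.finrank p.ResidueField (p.ResidueField ⊗[Localization.AtPrime p]
      LocalizedModule p.primeCompl (Ω[A⁄K])) ≤ d + 1 := by
    rw [← e3.finrank_eq, e2.finrank_eq]
    exact h
  exact h'

end Groth.Agent.Lib.Helper99.Hyp
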