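import Groth.Agent.Lib.Helper94.KosDivDefs

/-!
# S15901, piece RHO (helper99, second seat): surjectivity on affine sections of the comparison map
`Z ⟶ i_* i^* Z ×_{i_* i^* H} H` for an epimorphism `π : Z ⟶ H` of quasi-coherent modules.
-/

set_option autoImplicit false
universe u
open CategoryTheory CategoryTheory.Limits AlgebraicGeometry Opposite TopologicalSpace
open Groth.Agent.Lib.Lead.Inv Groth.Agent.Lib.Helper94.KosDiv

namespace Groth.Agent.Lib.Helper99.KosDivRHO

variable {X : Scheme.{u}}

open Groth.Agent.Lib.Helper21.QCohSections Groth.Agent.Lib.Helper21.IdealMulSec in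
/-- the key computation, for any closed immersion `i` and compatible sections `u`, `h` -/
theorem key {Y : Scheme.{u}} (i : Y ⟶ X) [IsClosedImmersion i] {Z H : X.Modules}
    [Z.IsQuasicoherent] [H.IsQuasicoherent] (π : Z ⟶ H) [Epi π] {U : X.Opens}
    (hU : IsAffineOpen U)
    (u : Γ((Scheme.Modules.pullback i ⋙ Scheme.Modules.pushforward i).obj Z, U)) (h : Γ(H, U))
    (hcond : ((Scheme.Modules.pullback i ⋙ Scheme.Modules.pushforward i).map π).app U u =
      ((Scheme.Modules.pullbackPushforwardAdjunction i).unit.app H).app U h) :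
    ∃ z : Γ(Z, U), u = ((Scheme.Modules.pullbackPushforwardAdjunction i).unit.app Z).app U z ∧
      h = π.app U z := by
  -- naturality of the unit on sections
  have hnat : ∀ z : Γ(Z, U),
      ((Scheme.Modules.pullback i ⋙ Scheme.Modules.pushforward i).map π).app U
        (((Scheme.Modules.pullbackPushforwardAdjunction i).unit.app Z).app U z) =
      ((Scheme.Modules.pullbackPushforwardAdjunction i).unit.app H).app U (π.app U z) := by
    intro z
    have := (Scheme.Modules.pullbackPushforwardAdjunction i).unit.naturality π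
    exact (congrArg (fun φ => (Scheme.Modules.Hom.app φ U) z) this).symm
  obtain ⟨z₀, hz₀⟩ := app_surjective_of_epi π hU h
  obtain ⟨z₁, hz₁⟩ : ∃ z₁ : Γ(Z, U),
      ((Scheme.Modules.pullbackPushforwardAdjunction i).unit.app Z).app U z₁ =
        u - ((Scheme.Modules.pullbackPushforwardAdjunction i).unit.app Z).app U z₀ :=
    unit_app_surjective i Z hU _
  have h3 : ((Scheme.Modules.pullbackPushforwardAdjunction i).unit.app H).app U (π.app U z₁) = 0 := by
    rw [← hnat, hz₁, map_sub, hcond, hnat, hz₀, sub_self]
  rw [unit_app_eq_zero_iff i H hU] at h3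
  -- lift `π z₁` to an element of `K • ⊤`
  have hsurj : Function.Surjective (appL π U) := app_surjective_of_epi π hU
  have hmap : Submodule.map (appL π U)
      (RingHom.ker (i.app U).hom • (⊤ : Submodule Γ(X, U) Γ(Z, U))) =
      RingHom.ker (i.app U).hom • (⊤ : Submodule Γ(X, U) Γ(H, U)) := by
    rw [Submodule.map_smul'', Submodule.map_top, LinearMap.range_eq_top.mpr hsurj]
  rw [← hmap] at h3
  obtain ⟨b, hb, hbz⟩ := h3
  have hb0 : ((Scheme.Modules.pullbackPushforwardAdjunction i).unit.app Z).app U b = 0 :=
    (unit_app_eq_zero_iff i Z hU b).mpr hb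
  have hbz' : π.app U b = π.app U z₁ := hbz
  refine ⟨z₀ + z₁ - b, ?_, ?_⟩
  · rw [map_sub, map_add, hz₁, hb0, sub_zero, add_sub_cancel]
  · rw [map_sub, map_add, hz₀, hbz', add_sub_cancel_right]

theorem rho_app_surjective (ID : X.IdealSheafData) {Z H : X.Modules} [Z.IsQuasicoherent]
    [H.IsQuasicoherent] (π : Z ⟶ H) [Epi π] {U : X.Opens} (hU : IsAffineOpen U)
    (p : Γ(pullback ((Scheme.Modules.pullback ID.subschemeι ⋙
      Scheme.Modules.pushforward ID.subschemeι).map π)
      ((Scheme.Modules.pullbackPushforwardAdjunction ID.subschemeι).unit.app H), U)) :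
    ∃ z : Γ(Z, U), (pullback.fst ((Scheme.Modules.pullback ID.subschemeι ⋙
      Scheme.Modules.pushforward ID.subschemeι).map π)
      ((Scheme.Modules.pullbackPushforwardAdjunction ID.subschemeι).unit.app H)).app U p =
        ((Scheme.Modules.pullbackPushforwardAdjunction ID.subschemeι).unit.app Z).app U z ∧
      (pullback.snd ((Scheme.Modules.pullback ID.subschemeι ⋙
      Scheme.Modules.pushforward ID.subschemeι).map π)
      ((Scheme.Modules.pullbackPushforwardAdjunction ID.subschemeι).unit.app H)).app U p =
        π.app U z := by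
  refine key ID.subschemeι π hU _ _ ?_
  have := pullback.condition (f := (Scheme.Modules.pullback ID.subschemeι ⋙
      Scheme.Modules.pushforward ID.subschemeι).map π)
      (g := (Scheme.Modules.pullbackPushforwardAdjunction ID.subschemeι).unit.app H)
  exact congrArg (fun φ => (Scheme.Modules.Hom.app φ U) p) this

end Groth.Agent.Lib.Helper99.KosDivRHO
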