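import Groth.Agent.Lib.Helper99.LenPowA

/-!
# Lengths at minimal primes of a radicial finite free algebra over a reduced ring (helper99)
-/

set_option autoImplicit false
universe u v w

namespace Groth.Agent.Lib.Helper99.LenPow

open IsLocalRing

section Main

variable (B C : Type u) [CommRing B] [CommRing C] [Algebra B C]

theorem comap_mem_minimalPrimes [Module.Flat B C] (q : Ideal C) [q.IsPrime]
    (hq : q ∈ minimalPrimes C) : q.comap (algebraMap B C) ∈ minimalPrimes B := by
  refine ⟨⟨inferInstance, bot_le⟩, ?_⟩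
  rintro n' ⟨hn', -⟩ hle
  haveI : q.LiesOver (q.comap (algebraMap B C)) := ⟨rfl⟩
  obtain ⟨q', hq'le, hq'prime, hq'over⟩ :=
    Ideal.exists_ideal_le_liesOver_of_le (p := n') (q := q.comap (algebraMap B C)) q hle
  have heq : q' = q := le_antisymm hq'le (hq.2 ⟨hq'prime, bot_le⟩ hq'le)
  rw [hq'over.over, heq]

theorem exists_length_dvd [IsReduced B] [Module.Free B C] [Module.Finite B C]
    (hpow : ∀ x : C, ∃ n > 0, x ^ n ∈ (algebraMap B C).range)
    (q : Ideal C) [q.IsPrime] (hq : q ∈ minimalPrimes C) :
    ∃ d : ℕ, d ∣ Module.finrank B C ∧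
      Module.length (Localization.AtPrime q) (Localization.AtPrime q) = (d : ℕ∞) := by
  set n : Ideal B := q.comap (algebraMap B C) with hn
  have hnmin : n ∈ minimalPrimes B := comap_mem_minimalPrimes B C q hq
  haveI : n.IsPrime := hnmin.1.1
  let E := Localization.AtPrime n
  haveI : Ring.KrullDimLE 0 E := .of_isLocalization n hnmin E
  letI : Field E := Ring.KrullDimLE.isField_of_isReduced.toField
  let S : Submonoid C := Algebra.algebraMapSubmonoid C n.primeCompl
  let R := Localization S
  have hSq : S ≤ q.primeCompl := by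
    rintro _ ⟨b', hb', rfl⟩
    exact hb'
  -- the localized module structure
  haveI hloc : IsLocalizedModule n.primeCompl (IsScalarTower.toAlgHom B C R).toLinearMap :=
    (isLocalizedModule_iff_isLocalization (S := n.primeCompl) (A := C) (Aₛ := R)).mpr inferInstance
  haveI : Module.Free E R :=
    Module.free_of_isLocalizedModule n.primeCompl (IsScalarTower.toAlgHom B C R).toLinearMap
  haveI : Module.Finite E R :=
    Module.Finite.of_isLocalizedModule n.primeCompl (IsScalarTower.toAlgHom B C R).toLinearMap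
  have hrank : Module.finrank E R = Module.finrank B C :=
    Module.finrank_of_isLocalizedModule_of_free E n.primeCompl
      (IsScalarTower.toAlgHom B C R).toLinearMap
  -- nontriviality
  haveI : Nontrivial R := by
    refine ⟨⟨1, 0, fun h10 => ?_⟩⟩
    have h1 : algebraMap C R 1 = 0 := by rw [map_one]; exact h10
    obtain ⟨⟨s, hs⟩, hs0⟩ := (IsLocalization.map_eq_zero_iff S R 1).mp h1
    rw [mul_one] at hs0
    have hs0' : s = 0 := hs0
    exact hSq hs (by rw [hs0']; exact q.zero_mem)
  -- the power property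
  have hpowR : ∀ y : R, ∃ m > 0, y ^ m ∈ (algebraMap E R).range := by
    intro y
    obtain ⟨c, ⟨s, hs⟩, rfl⟩ := IsLocalization.exists_mk'_eq S y
    have hs2 := hs
    obtain ⟨b', hb', hbs⟩ := hs2
    obtain ⟨m, hm, b, hb⟩ := hpow c
    refine ⟨m, hm, algebraMap B E b * (algebraMap B E (b' ^ m))⁻¹, ?_⟩
    have hu : algebraMap B E (b' ^ m) ≠ 0 := by
      have : IsUnit (algebraMap B E (b' ^ m)) :=
        IsLocalization.map_units E (⟨b' ^ m, n.primeCompl.pow_mem hb' m⟩ : n.primeCompl)
      exact this.ne_zero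
    have h1 : IsLocalization.mk' R c ⟨s, hs⟩ * algebraMap C R (algebraMap B C b') =
        algebraMap C R c := by
      rw [hbs]
      exact IsLocalization.mk'_spec R c ⟨s, hs⟩
    have h2 : (IsLocalization.mk' R c ⟨s, hs⟩) ^ m *
        algebraMap E R (algebraMap B E (b' ^ m)) = algebraMap E R (algebraMap B E b) := by
      rw [← IsScalarTower.algebraMap_apply B E R, IsScalarTower.algebraMap_apply B C R,
        ← IsScalarTower.algebraMap_apply B E R, IsScalarTower.algebraMap_apply B C R b, hb,
        map_pow, map_pow, ← mul_pow, h1, map_pow]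
    rw [map_mul, ← h2, mul_assoc, ← map_mul, mul_inv_cancel₀ hu, map_one, mul_one]
  haveI : IsLocalRing R := isLocalRing_of_pow_mem hpowR
  -- `R` is the localization at `q`
  haveI hlocq : IsLocalization.AtPrime R q := by
    refine IsLocalization.of_le S q.primeCompl hSq ?_
    intro r hr
    by_contra hnu
    obtain ⟨m, hm⟩ := isNilpotent_of_not_isUnit hpowR _ hnu
    rw [← map_pow] at hm
    obtain ⟨⟨s, hs⟩, hs0⟩ := (IsLocalization.map_eq_zero_iff S R (r ^ m)).mp hm
    have hmem : s * r ^ m ∈ q := by rw [hs0]; exact q.zero_mem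
    rcases Ideal.IsPrime.mem_or_mem ‹q.IsPrime› hmem with h | h
    · exact hSq hs h
    · exact hr (Ideal.IsPrime.mem_of_pow_mem ‹q.IsPrime› m h)
  let e : Localization.AtPrime q ≃ₐ[C] R := IsLocalization.algEquiv q.primeCompl _ _
  obtain ⟨d, hd, hlen⟩ := exists_length_eq_dvd_finrank (E := E) (R := R)
  refine ⟨d, hrank ▸ hd, ?_⟩
  rw [length_eq_of_ringEquiv e.toRingEquiv, hlen]

end Main

end Groth.Agent.Lib.Helper99.LenPow
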