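import Groth.Agent.Lib.Helper99.LenPowB
import Groth.Agent.Lib.Helper51.GeomRed
import Groth.Agent.Lib.Helper56.SepGenResidue

/-!
# Multiplicities of components of `K ⊗_k L` are powers of `p` (helper99)
-/

set_option autoImplicit false
universe u v w

namespace Groth.Agent.Lib.Helper99.LenPow

open TensorProduct IntermediateField

section Transfer

variable {C C' : Type u} [CommRing C] [CommRing C']

theorem comap_mem_minimalPrimes_of_ringEquiv (e : C ≃+* C') (q' : Ideal C')
    (hq' : q' ∈ minimalPrimes C') : q'.comap (e : C →+* C') ∈ minimalPrimes C := by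
  have h := Ideal.minimalPrimes_comap_of_surjective (f := (e : C →+* C')) e.surjective
    (I := ⊥) (J := q') hq'
  have hb : Ideal.comap (e : C →+* C') ⊥ = ⊥ :=
    Ideal.comap_bot_of_injective (e : C →+* C') e.injective
  rwa [hb] at h

theorem length_localization_of_ringEquiv (e : C ≃+* C') (q' : Ideal C') [q'.IsPrime] :
    Module.length (Localization.AtPrime q') (Localization.AtPrime q') =
      Module.length (Localization.AtPrime (q'.comap (e : C →+* C')))
        (Localization.AtPrime (q'.comap (e : C →+* C'))) := by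
  have H : Submonoid.map (e : C →* C') (q'.comap (e : C →+* C')).primeCompl = q'.primeCompl := by
    ext x
    constructor
    · rintro ⟨y, hy, rfl⟩
      exact hy
    · intro hx
      refine ⟨e.symm x, ?_, by simp⟩
      change e.symm x ∉ q'.comap (e : C →+* C')
      rw [Ideal.mem_comap]
      simpa using hx
  exact (length_eq_of_ringEquiv
    (IsLocalization.ringEquivOfRingEquiv (Localization.AtPrime (q'.comap (e : C →+* C')))
      (Localization.AtPrime q') e H)).symm

theorem transfer (e : C ≃+* C') (P : ℕ∞ → Prop)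
    (h : ∀ (q : Ideal C) [q.IsPrime], q ∈ minimalPrimes C →
      P (Module.length (Localization.AtPrime q) (Localization.AtPrime q)))
    (q' : Ideal C') [q'.IsPrime] (hq' : q' ∈ minimalPrimes C') :
    P (Module.length (Localization.AtPrime q') (Localization.AtPrime q')) := by
  have hq0 := comap_mem_minimalPrimes_of_ringEquiv e q' hq'
  haveI : (q'.comap (e : C →+* C')).IsPrime := hq0.1.1
  rw [length_localization_of_ringEquiv e q']
  exact h _ hq0

end Transfer

section Field

theorem exists_length_eq_pow_of_tower (k K M L : Type u) [Field k] [Field K] [Field M] [Field L]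
    [Algebra k K] [Algebra k M] [Algebra k L] [Algebra M L] [IsScalarTower k M L]
    [IsPurelyInseparable M L] [FiniteDimensional M L] [IsReduced (M ⊗[k] K)]
    (p : ℕ) [ExpChar k p]
    (q : Ideal (K ⊗[k] L)) [q.IsPrime] (hq : q ∈ minimalPrimes (K ⊗[k] L)) :
    ∃ n : ℕ, Module.length (Localization.AtPrime q) (Localization.AtPrime q) = ((p ^ n : ℕ) : ℕ∞) := by
  -- the ring isomorphism
  let e1 : ((M ⊗[k] K) ⊗[M] L) ≃+* (L ⊗[M] (M ⊗[k] K)) :=
    (Algebra.TensorProduct.comm M (M ⊗[k] K) L).toRingEquiv
  let e2 : (L ⊗[M] (M ⊗[k] K)) ≃+* (L ⊗[k] K) :=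
    (Algebra.TensorProduct.cancelBaseChange k M M L K).toRingEquiv
  let e3 : (L ⊗[k] K) ≃+* (K ⊗[k] L) := (Algebra.TensorProduct.comm k L K).toRingEquiv
  let e : ((M ⊗[k] K) ⊗[M] L) ≃+* (K ⊗[k] L) := (e1.trans e2).trans e3
  -- apply the core theorem
  refine transfer (C := (M ⊗[k] K) ⊗[M] L) (C' := K ⊗[k] L) e
    (fun x => ∃ n : ℕ, x = ((p ^ n : ℕ) : ℕ∞)) ?_ q hq
  intro q0 _ hq0
  obtain ⟨d, hd, hlen⟩ := exists_length_dvd (M ⊗[k] K) ((M ⊗[k] K) ⊗[M] L)
    (fun x => IsPurelyInseparable.exists_pow_mem_range_tensorProduct x) q0 hq0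
  simp only [hlen]
  -- the rank is a power of `p`
  haveI : Nontrivial ((M ⊗[k] K) ⊗[M] L) :=
    ⟨⟨0, 1, fun h => Ideal.IsPrime.ne_top ‹q0.IsPrime›
      ((Ideal.eq_top_iff_one _).mpr (h ▸ q0.zero_mem))⟩⟩
  haveI : Nontrivial (M ⊗[k] K) := (algebraMap (M ⊗[k] K) ((M ⊗[k] K) ⊗[M] L)).domain_nontrivial
  have hrank : Module.finrank (M ⊗[k] K) ((M ⊗[k] K) ⊗[M] L) = Module.finrank M L :=
    Module.finrank_baseChange
  haveI : ExpChar M p := expChar_of_injective_algebraMap (algebraMap k M).injective p
  obtain ⟨a, ha⟩ := IsPurelyInseparable.finrank_eq_pow (F := M) L p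
  rw [hrank, ha] at hd
  rcases expChar_is_prime_or_one k p with hp | hp
  · obtain ⟨m, -, rfl⟩ := (Nat.dvd_prime_pow hp).mp hd
    exact ⟨m, rfl⟩
  · subst hp
    rw [one_pow, Nat.dvd_one] at hd
    exact ⟨0, by rw [hd, pow_zero]⟩

variable (k K L : Type u) [Field k] [Field K] [Field L] [Algebra k K] [Algebra k L]

theorem exists_length_eq_pow (hL : (⊤ : IntermediateField k L).FG) (p : ℕ) [ExpChar k p]
    (q : Ideal (K ⊗[k] L)) [q.IsPrime] (hq : q ∈ minimalPrimes (K ⊗[k] L)) :
    ∃ n : ℕ, Module.length (Localization.AtPrime q) (Localization.AtPrime q) = ((p ^ n : ℕ) : ℕ∞) := by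
  classical
  haveI : Algebra.EssFiniteType k L := IntermediateField.fg_top_iff.mp hL
  obtain ⟨s, hs⟩ := IntermediateField.fg_top k L
  have : Algebra.IsAlgebraic (Algebra.adjoin k (s : Set L)) L := by
    rw [← isAlgebraic_adjoin_iff_top, hs, Algebra.isAlgebraic_iff_isIntegral]
    exact Algebra.isIntegral_of_surjective topEquiv.surjective
  obtain ⟨t, hts, ht⟩ := exists_isTranscendenceBasis_subset (R := k) (s : Set L)
  haveI : Finite t := (s.finite_toSet.subset hts).to_subtype
  let F : IntermediateField k L := IntermediateField.adjoin k (Set.range ((↑) : t → L))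
  haveI hFalg : Algebra.IsAlgebraic F L := ht.isAlgebraic_field
  haveI : Module.Finite F L := by
    apply +allowSynthFailures Algebra.finite_of_essFiniteType_of_isAlgebraic
    exact .of_comp k _ _
  let Ls : IntermediateField F L := separableClosure F L
  haveI : IsPurelyInseparable Ls L := separableClosure.isPurelyInseparable F L
  haveI : Algebra.IsSeparable F Ls := separableClosure.isSeparable F L
  -- `Ls/k` is separably generated, hence geometrically reduced
  have hSG : Groth.Agent.Lib.Helper56.SepGen k Ls :=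
    ⟨t, inferInstance, F, inferInstance, inferInstance, inferInstance, inferInstance,
      ⟨ht.1.aevalEquivField⟩, inferInstance, inferInstance⟩
  haveI : Algebra.IsGeometricallyReduced k Ls :=
    Groth.Agent.Lib.Helper56.isGeometricallyReduced_of_sepGen k Ls hSG
  haveI hred1 : IsReduced (K ⊗[k] Ls) :=
    Groth.Agent.Lib.Helper51.isReduced_tensor_of_isGeometricallyReduced K
  haveI hred : IsReduced (Ls ⊗[k] K) :=
    isReduced_of_injective (Algebra.TensorProduct.comm k Ls K).toAlgHom
      (Algebra.TensorProduct.comm k Ls K).injective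
  haveI : IsScalarTower k Ls L := IsScalarTower.of_algebraMap_eq (fun x => rfl)
  exact exists_length_eq_pow_of_tower k K Ls L p q hq

end Field

end Groth.Agent.Lib.Helper99.LenPow
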