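import Mathlib

/-!
# Logarithmic differentials along a prime of a smooth local ring, part A (helper99)

For a local ring `S`, formally smooth over a field `k` of characteristic zero, and a uniformizer-like
element `π ∈ 𝔪 \ 𝔪²`, there is a `k`-derivation `S → S` sending `π` to `1`. Consequently
`e • dlog π` lies in the image of `Ω[S⁄k] → Ω[K⁄k]` only for `e = 0`.
-/

set_option autoImplicit false
universe u

namespace Groth.Agent.Lib.Helper99.LogD

open KaehlerDifferential IsLocalRing TensorProduct

theorem formallySmooth_of_charZero (k : Type*) [Field k] [CharZero k] (L : Type*) [Field L]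
    [Algebra k L] : Algebra.FormallySmooth k L := by
  obtain ⟨s, hs⟩ := exists_isTranscendenceBasis k L
  have halg : Algebra.IsAlgebraic (IntermediateField.adjoin k (Set.range ((↑) : s → L))) L :=
    hs.isAlgebraic_field
  exact Algebra.FormallySmooth.of_algebraicIndependent_of_isSeparable hs.1

section functional

variable (k : Type u) [Field k] [CharZero k] (S : Type u) [CommRing S] [IsLocalRing S]
  [Algebra k S] [Algebra.FormallySmooth k S]

attribute [local instance] Ideal.Quotient.field in
theorem exists_functional (π : S) (hπ : π ∈ maximalIdeal S) (hπ2 : π ∉ (maximalIdeal S) ^ 2) :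
    ∃ φ₀ : Ω[S⁄k] →ₗ[S] S, φ₀ (D k S π) = 1 := by
  have hsurj : Function.Surjective (algebraMap S (ResidueField S)) := IsLocalRing.residue_surjective
  have hsm : Algebra.FormallySmooth k (ResidueField S) := formallySmooth_of_charZero k _
  obtain ⟨l, hl⟩ := (Algebra.FormallySmooth.iff_split_injection (R := k) hsurj).mp hsm
  have hker : RingHom.ker (algebraMap S (ResidueField S)) = maximalIdeal S :=
    IsLocalRing.ker_residue
  have hmax : (RingHom.ker (algebraMap S (ResidueField S))).IsMaximal := by
    rw [hker]; infer_instance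
  have hπk : π ∈ RingHom.ker (algebraMap S (ResidueField S)) := by rw [hker]; exact hπ
  set x := (RingHom.ker (algebraMap S (ResidueField S))).toCotangent ⟨π, hπk⟩ with hx
  have hx0 : x ≠ 0 := by
    rw [hx, Ne, Ideal.toCotangent_eq_zero]
    simp only
    rw [hker]
    exact hπ2
  obtain ⟨μ', hμ'⟩ : ∃ μ' : Module.Dual (S ⧸ RingHom.ker (algebraMap S (ResidueField S)))
      (RingHom.ker (algebraMap S (ResidueField S))).Cotangent, μ' x ≠ 0 := by
    by_contra hcon
    push Not at hcon
    exact hx0 ((Module.forall_dual_apply_eq_zero_iff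
      (S ⧸ RingHom.ker (algebraMap S (ResidueField S))) x).mp hcon)
  have hlx : l (kerCotangentToTensor k S (ResidueField S) x) = x := LinearMap.congr_fun hl x
  rw [hx, kerCotangentToTensor_toCotangent] at hlx
  simp only at hlx
  -- the functional to the residue field
  let ψ : Ω[S⁄k] →ₗ[S] (S ⧸ RingHom.ker (algebraMap S (ResidueField S))) :=
    ((μ'.restrictScalars S) ∘ₗ l) ∘ₗ (TensorProduct.mk S (ResidueField S) (Ω[S⁄k]) 1)
  have hψ : ψ (D k S π) = μ' x := by
    simp only [ψ, LinearMap.coe_comp, Function.comp_apply, LinearMap.coe_restrictScalars,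
      TensorProduct.mk_apply]
    rw [hlx]
  have hsurj' : Function.Surjective
      (Algebra.linearMap S (S ⧸ RingHom.ker (algebraMap S (ResidueField S)))) :=
    Ideal.Quotient.mk_surjective
  obtain ⟨φ₁, hφ₁⟩ := Module.projective_lifting_property
    (Algebra.linearMap S (S ⧸ RingHom.ker (algebraMap S (ResidueField S)))) ψ hsurj'
  have h1 : Ideal.Quotient.mk (RingHom.ker (algebraMap S (ResidueField S))) (φ₁ (D k S π))
      = μ' x := by
    have := LinearMap.congr_fun hφ₁ (D k S π)
    rw [hψ] at this
    exact this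
  have hunit : IsUnit (φ₁ (D k S π)) := by
    rw [← IsLocalRing.notMem_maximalIdeal, ← hker, ← Ideal.Quotient.eq_zero_iff_mem, h1]
    exact hμ'
  obtain ⟨w, hw⟩ := hunit
  refine ⟨(↑w⁻¹ : S) • φ₁, ?_⟩
  rw [LinearMap.smul_apply, ← hw, smul_eq_mul, Units.inv_mul]

end functional

section main

variable (k : Type u) [Field k] [CharZero k] (S : Type u) [CommRing S] [IsLocalRing S]
  [Algebra k S] [Algebra.FormallySmooth k S] [IsDomain S]
  (K : Type u) [Field K] [Algebra S K] [IsFractionRing S K] [Algebra k K] [IsScalarTower k S K]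

theorem int_eq_zero_of_dlog_mem (π : S) (hπ : maximalIdeal S = Ideal.span {π}) (hπ0 : π ≠ 0)
    (e : ℤ) (ω : Ω[S⁄k])
    (h : ((e : K) * (algebraMap S K π)⁻¹) • D k K (algebraMap S K π) = map k k S K ω) :
    e = 0 := by
  have hπm : π ∈ maximalIdeal S := by rw [hπ]; exact Ideal.subset_span rfl
  have hπ2 : π ∉ (maximalIdeal S) ^ 2 := by
    rw [hπ, Ideal.span_singleton_pow, Ideal.mem_span_singleton]
    rintro ⟨c, hc⟩
    have h1 : π * 1 = π * (π * c) := by rw [mul_one, ← mul_assoc, ← pow_two]; exact hc
    have h2 := mul_left_cancel₀ hπ0 h1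
    have : IsUnit π := IsUnit.of_mul_eq_one c h2.symm
    exact (IsLocalRing.notMem_maximalIdeal.mpr this) hπm
  obtain ⟨φ₀, hφ₀⟩ := exists_functional k S π hπm hπ2
  have : Algebra.FormallyEtale S K := Algebra.FormallyEtale.of_isLocalization (Rₘ := K)
    (nonZeroDivisors S)
  have hbc : IsBaseChange K (map k k S K) := KaehlerDifferential.isBaseChange_of_formallyEtale k S K
  let φ : Ω[K⁄k] →ₗ[K] K := hbc.lift ((Algebra.linearMap S K) ∘ₗ φ₀)
  have hφ : ∀ ω' : Ω[S⁄k], φ (map k k S K ω') = algebraMap S K (φ₀ ω') := fun ω' =>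
    hbc.lift_eq _ ω'
  have hD : D k K (algebraMap S K π) = map k k S K (D k S π) := (map_D k k S K π).symm
  have h2 := congrArg φ h
  rw [map_smul, hD, hφ, hφ, hφ₀, map_one, smul_eq_mul, mul_one] at h2
  by_contra he
  have hπK : algebraMap S K π ≠ 0 := by
    rwa [Ne, map_eq_zero_iff _ (IsFractionRing.injective S K)]
  have h3 : algebraMap S K ((e : S)) = algebraMap S K (π * φ₀ ω) := by
    rw [map_mul, ← h2, map_intCast]
    field_simp
  have h4 := IsFractionRing.injective S K h3
  have heu : IsUnit ((e : S)) := by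
    have : (e : S) = algebraMap k S (e : k) := by rw [map_intCast]
    rw [this]
    exact (IsUnit.mk0 _ (Int.cast_ne_zero.mpr he)).map _
  rw [h4] at heu
  exact (IsLocalRing.notMem_maximalIdeal.mpr (isUnit_of_mul_isUnit_left heu)) hπm

end main

end Groth.Agent.Lib.Helper99.LogD
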