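import Mathlib
import Groth.Agent.Lib.Helper99.LogDA

/-!
# Logarithmic differentials along a prime of a smooth local ring, part B (helper99)

Abstract version: `R → S → K` with `S` local with principal maximal ideal `(π)`.
-/

set_option autoImplicit false
universe u

namespace Groth.Agent.Lib.Helper99.LogD

open KaehlerDifferential IsLocalRing TensorProduct

section abstract

variable (k : Type u) [Field k] [CharZero k] (R : Type u) [CommRing R] [Algebra k R]
  (S : Type u) [CommRing S] [IsLocalRing S] [Algebra k S] [Algebra.FormallySmooth k S] [IsDomain S]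
  [Algebra R S] [IsScalarTower k R S]
  (K : Type u) [Field K] [Algebra S K] [IsFractionRing S K] [Algebra k K] [IsScalarTower k S K]
  [Algebra R K] [IsScalarTower R S K] [IsScalarTower k R K]

omit [CharZero k] [IsLocalRing S] [Algebra.FormallySmooth k S] [IsDomain S] [IsFractionRing S K] in
lemma map_mem_range (η : Ω[R⁄k]) :
    map k k R K η ∈ LinearMap.range (map k k S K) := by
  have h : ∀ η : Ω[R⁄k], map k k R K η = map k k S K (map k k R S η) := by
    intro η
    have hspan := KaehlerDifferential.span_range_derivation k R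
    have hmem : η ∈ Submodule.span R (Set.range (D k R)) := by rw [hspan]; trivial
    refine Submodule.span_induction ?_ ?_ ?_ ?_ hmem
    · rintro _ ⟨x, rfl⟩
      rw [map_D, map_D, map_D, ← IsScalarTower.algebraMap_apply]
    · simp
    · intro a b _ _ ha hb
      rw [map_add, map_add, map_add, ha, hb]
    · intro c a _ ha
      rw [map_smul, map_smul, ha]
      rw [← algebraMap_smul S c (map k k R S a), map_smul, algebraMap_smul]
  rw [h]
  exact ⟨_, rfl⟩

omit [CharZero k] [IsLocalRing S] [Algebra.FormallySmooth k S] [IsDomain S] [IsFractionRing S K] in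
lemma smul_D_mem_range (c s : R) (hs : IsUnit (algebraMap R S s)) :
    ((algebraMap R K c) * (algebraMap R K s)⁻¹) • D k K (algebraMap R K s) ∈
      LinearMap.range (map k k S K) := by
  obtain ⟨w, hw⟩ := hs
  refine ⟨(algebraMap R S c * (↑w⁻¹ : S)) • D k S (algebraMap R S s), ?_⟩
  rw [map_smul, map_D, ← IsScalarTower.algebraMap_apply]
  rw [← algebraMap_smul K (algebraMap R S c * (↑w⁻¹ : S)), map_mul,
    ← IsScalarTower.algebraMap_apply]
  congr 2
  have h1 : algebraMap S K (↑w⁻¹ : S) * algebraMap R K s = 1 := by
    rw [IsScalarTower.algebraMap_apply R S K s, ← hw, ← map_mul, Units.inv_mul, map_one]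
  exact eq_inv_of_mul_eq_one_left h1

theorem int_eq_zero (π : R) (hmax : maximalIdeal S = Ideal.span {algebraMap R S π})
    (hπ0 : algebraMap R S π ≠ 0) (e : ℤ) (s t : R) (hs : IsUnit (algebraMap R S s))
    (ht : IsUnit (algebraMap R S t)) {r : ℕ} (f c : Fin r → R)
    (hf : ∀ i, IsUnit (algebraMap R S (f i))) (η : Ω[R⁄k])
    (h : ((e : K) * (algebraMap R K π)⁻¹) • D k K (algebraMap R K π) +
        (algebraMap R K s)⁻¹ • D k K (algebraMap R K s) -
        (algebraMap R K t)⁻¹ • D k K (algebraMap R K t) =
      map k k R K η + ∑ i, (algebraMap R K (c i) * (algebraMap R K (f i))⁻¹) •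
        D k K (algebraMap R K (f i))) : e = 0 := by
  have h1 : ((e : K) * (algebraMap R K π)⁻¹) • D k K (algebraMap R K π) =
      map k k R K η + ∑ i, (algebraMap R K (c i) * (algebraMap R K (f i))⁻¹) •
        D k K (algebraMap R K (f i)) - (algebraMap R K s)⁻¹ • D k K (algebraMap R K s) +
        (algebraMap R K t)⁻¹ • D k K (algebraMap R K t) := by
    rw [← h]; abel
  have hs' := smul_D_mem_range k R S K 1 s hs
  have ht' := smul_D_mem_range k R S K 1 t ht
  rw [map_one, one_mul] at hs' ht'
  have hmem : ((e : K) * (algebraMap R K π)⁻¹) • D k K (algebraMap R K π) ∈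
      LinearMap.range (map k k S K) := by
    rw [h1]
    refine Submodule.add_mem _ (Submodule.sub_mem _ (Submodule.add_mem _
      (map_mem_range k R S K η) (Submodule.sum_mem _ fun i _ => ?_)) hs') ht'
    exact smul_D_mem_range k R S K (c i) (f i) (hf i)
  obtain ⟨ω, hω⟩ := hmem
  rw [IsScalarTower.algebraMap_apply R S K π] at hω
  exact int_eq_zero_of_dlog_mem k S K (algebraMap R S π) hmax hπ0 e ω hω.symm

end abstract

end Groth.Agent.Lib.Helper99.LogD
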