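import Mathlib
import Groth.Agent.Lib.Helper99.LogDB

/-!
# Logarithmic differentials along a prime of a smooth local ring, part C (helper99)

Concrete version: `S = R_(π)` for a prime element `π` of a domain `R`.
-/

set_option autoImplicit false
universe u

namespace Groth.Agent.Lib.Helper99.LogD

open KaehlerDifferential IsLocalRing TensorProduct

section concrete

variable (k : Type u) [Field k] [CharZero k] (R : Type u) [CommRing R] [IsDomain R] [Algebra k R]
  [Algebra.FormallySmooth k R]
  (K : Type u) [Field K] [Algebra R K] [IsFractionRing R K] [Algebra k K] [IsScalarTower k R K]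

theorem int_eq_zero_of_prime (π : R) (hπ : Prime π) (e : ℤ) (s t : R) (hs : ¬ π ∣ s)
    (ht : ¬ π ∣ t) {r : ℕ} (f c : Fin r → R) (hf : ∀ i, ¬ π ∣ f i) (η : Ω[R⁄k])
    (h : ((e : K) * (algebraMap R K π)⁻¹) • D k K (algebraMap R K π) +
        (algebraMap R K s)⁻¹ • D k K (algebraMap R K s) -
        (algebraMap R K t)⁻¹ • D k K (algebraMap R K t) =
      map k k R K η + ∑ i, (algebraMap R K (c i) * (algebraMap R K (f i))⁻¹) •
        D k K (algebraMap R K (f i))) : e = 0 := by
  haveI hP : (Ideal.span {π}).IsPrime := (Ideal.span_singleton_prime hπ.ne_zero).mpr hπ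
  have hle : (Ideal.span {π}).primeCompl ≤ nonZeroDivisors R := by
    intro x hx
    rw [mem_nonZeroDivisors_iff_ne_zero]
    exact fun h0 => hx (h0.symm ▸ (Ideal.span {π}).zero_mem)
  letI : Algebra (Localization.AtPrime (Ideal.span {π})) K :=
    IsLocalization.localizationAlgebraOfSubmonoidLe (Localization.AtPrime (Ideal.span {π})) K
      (Ideal.span {π}).primeCompl (nonZeroDivisors R) hle
  haveI : IsScalarTower R (Localization.AtPrime (Ideal.span {π})) K :=
    IsLocalization.localization_isScalarTower_of_submonoid_le
      (Localization.AtPrime (Ideal.span {π})) K _ _ hle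
  haveI : IsDomain (Localization.AtPrime (Ideal.span {π})) :=
    IsLocalization.isDomain_localization hle
  haveI : IsFractionRing (Localization.AtPrime (Ideal.span {π})) K :=
    IsFractionRing.isFractionRing_of_isDomain_of_isLocalization (Ideal.span {π}).primeCompl
      (Localization.AtPrime (Ideal.span {π})) K
  haveI : IsScalarTower k (Localization.AtPrime (Ideal.span {π})) K :=
    IsScalarTower.of_algebraMap_eq fun x => by
      rw [IsScalarTower.algebraMap_apply k R K,
        IsScalarTower.algebraMap_apply k R (Localization.AtPrime (Ideal.span {π})),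
        ← IsScalarTower.algebraMap_apply R (Localization.AtPrime (Ideal.span {π})) K]
  haveI : Algebra.FormallySmooth R (Localization.AtPrime (Ideal.span {π})) :=
    Algebra.FormallySmooth.of_isLocalization (Ideal.span {π}).primeCompl
  haveI : Algebra.FormallySmooth k (Localization.AtPrime (Ideal.span {π})) :=
    Algebra.FormallySmooth.comp k R _
  have hmax : maximalIdeal (Localization.AtPrime (Ideal.span {π})) =
      Ideal.span {algebraMap R (Localization.AtPrime (Ideal.span {π})) π} := by
    rw [← Localization.AtPrime.map_eq_maximalIdeal, Ideal.map_span, Set.image_singleton]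
  have hinj : Function.Injective (algebraMap R (Localization.AtPrime (Ideal.span {π}))) :=
    IsLocalization.injective _ hle
  have hπ0 : algebraMap R (Localization.AtPrime (Ideal.span {π})) π ≠ 0 := by
    rw [Ne, map_eq_zero_iff _ hinj]
    exact hπ.ne_zero
  have hunit : ∀ x : R, ¬ π ∣ x →
      IsUnit (algebraMap R (Localization.AtPrime (Ideal.span {π})) x) := by
    intro x hx
    have hx' : x ∈ (Ideal.span {π}).primeCompl := by
      intro hmem
      exact hx (Ideal.mem_span_singleton.mp hmem)
    exact IsLocalization.map_units _ (⟨x, hx'⟩ : (Ideal.span {π}).primeCompl)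
  exact int_eq_zero k R (Localization.AtPrime (Ideal.span {π})) K π hmax hπ0 e s t (hunit s hs)
    (hunit t ht) f c (fun i => hunit _ (hf i)) η h

end concrete

end Groth.Agent.Lib.Helper99.LogD
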