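import Mathlib
import Groth.Agent.Lib.Helper99.LogDC

/-!
# Logarithmic differentials along a prime of a smooth local ring, part D (helper99)

`dlog` calculus and the main theorem for a factorial domain `R`, formally smooth over a field of
characteristic zero.
-/

set_option autoImplicit false
universe u

namespace Groth.Agent.Lib.Helper99.LogD

open KaehlerDifferential

section dlog

variable (k : Type*) {K : Type*} [CommRing k] [Field K] [Algebra k K]

/-- logarithmic differential -/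
noncomputable def dlog (x : K) : Ω[K⁄k] := x⁻¹ • D k K x

lemma dlog_mul {x y : K} (hx : x ≠ 0) (hy : y ≠ 0) : dlog k (x * y) = dlog k x + dlog k y := by
  unfold dlog
  rw [Derivation.leibniz, smul_add, smul_smul, smul_smul, add_comm]
  have h1 : (x * y)⁻¹ * y = x⁻¹ := by field_simp
  have h2 : (x * y)⁻¹ * x = y⁻¹ := by field_simp
  rw [h1, h2]

lemma dlog_one : dlog k (1 : K) = 0 := by
  unfold dlog
  rw [Derivation.map_one_eq_zero, smul_zero]

lemma dlog_inv {x : K} (hx : x ≠ 0) : dlog k x⁻¹ = - dlog k x := by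
  have h := dlog_mul k hx (inv_ne_zero hx)
  rw [mul_inv_cancel₀ hx, dlog_one] at h
  exact eq_neg_of_add_eq_zero_right h.symm

lemma dlog_div {x y : K} (hx : x ≠ 0) (hy : y ≠ 0) : dlog k (x / y) = dlog k x - dlog k y := by
  rw [div_eq_mul_inv, dlog_mul k hx (inv_ne_zero hy), dlog_inv k hy, sub_eq_add_neg]

lemma dlog_pow {x : K} (hx : x ≠ 0) (n : ℕ) : dlog k (x ^ n) = n • dlog k x := by
  induction n with
  | zero => rw [pow_zero, dlog_one, zero_smul]
  | succ n ih => rw [pow_succ, dlog_mul k (pow_ne_zero n hx) hx, ih, succ_nsmul]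

lemma dlog_zpow {x : K} (hx : x ≠ 0) (n : ℤ) : dlog k (x ^ n) = n • dlog k x := by
  cases n with
  | ofNat n => rw [Int.ofNat_eq_natCast, zpow_natCast, dlog_pow k hx, natCast_zsmul]
  | negSucc n =>
    rw [zpow_negSucc, dlog_inv k (pow_ne_zero _ hx), dlog_pow k hx, negSucc_zsmul]

lemma dlog_prod {ι : Type*} (s : Finset ι) (x : ι → K) (hx : ∀ i ∈ s, x i ≠ 0) :
    dlog k (∏ i ∈ s, x i) = ∑ i ∈ s, dlog k (x i) := by
  classical
  induction s using Finset.induction_on with
  | empty => rw [Finset.prod_empty, Finset.sum_empty, dlog_one]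
  | insert a s ha ih =>
    rw [Finset.prod_insert ha, Finset.sum_insert ha,
      dlog_mul k (hx a (Finset.mem_insert_self a s))
        (Finset.prod_ne_zero_iff.mpr fun i hi => hx i (Finset.mem_insert_of_mem hi)),
      ih fun i hi => hx i (Finset.mem_insert_of_mem hi)]

lemma zsmul_dlog (x : K) (n : ℤ) : n • dlog k x = ((n : K) * x⁻¹) • D k K x := by
  unfold dlog
  rw [← Int.cast_smul_eq_zsmul K, smul_smul]

end dlog

section factor

variable {R : Type*} [CommRing R] [IsDomain R] [UniqueFactorizationMonoid R]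

theorem exists_eq_unit_mul_prod {r : ℕ} (f : Fin r → R) (x : R) :
    x ≠ 0 → (∀ π, Prime π → π ∣ x → ∃ i, Associated π (f i)) →
      ∃ (v : Rˣ) (n : Fin r → ℕ), x = ↑v * ∏ i, f i ^ n i := by
  refine UniqueFactorizationMonoid.induction_on_prime x ?_ ?_ ?_
  · intro h
    exact absurd rfl h
  · intro x hx _ _
    exact ⟨hx.unit, 0, by simp⟩
  · intro a p ha hp ih _ hdiv
    obtain ⟨i, hi⟩ := hdiv p hp (dvd_mul_right p a)
    obtain ⟨v, n, hvn⟩ := ih ha (fun π hπ hπa => hdiv π hπ (dvd_mul_of_dvd_right hπa p))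
    obtain ⟨u, hu⟩ := hi
    refine ⟨u⁻¹ * v, (n + Pi.single i 1 : Fin r → ℕ), ?_⟩
    have hprod : ∏ j, f j ^ ((n + Pi.single i 1 : Fin r → ℕ) j) = (∏ j, f j ^ n j) * f i := by
      simp only [Pi.add_apply, pow_add, Finset.prod_mul_distrib]
      congr 1
      rw [Finset.prod_eq_single i]
      · rw [Pi.single_eq_same, pow_one]
      · intro j _ hji
        rw [Pi.single_eq_of_ne hji, pow_zero]
      · intro h
        exact absurd (Finset.mem_univ i) h
    have hp' : p = f i * ↑u⁻¹ := by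
      rw [← hu, mul_assoc, Units.mul_inv, mul_one]
    rw [hprod, Units.val_mul]
    conv_lhs => rw [hp', hvn]
    ring

end factor

section main

variable (k : Type u) [Field k] [CharZero k] (R : Type u) [CommRing R] [IsDomain R] [Algebra k R]
  [Algebra.FormallySmooth k R] [UniqueFactorizationMonoid R]
  (K : Type u) [Field K] [Algebra R K] [IsFractionRing R K] [Algebra k K] [IsScalarTower k R K]

omit [UniqueFactorizationMonoid R] in
lemma zpow_eq_zero (π : R) (hπ : Prime π) {r : ℕ} (f c : Fin r → R) (hfp : ∀ i, Prime (f i))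
    (hbad : ∀ i, ¬ Associated π (f i)) (e : ℤ) (s t : R) (hs : ¬ π ∣ s) (ht : ¬ π ∣ t)
    (η : Ω[R⁄k]) (gK : K)
    (hg : gK = (algebraMap R K π) ^ e * algebraMap R K s / algebraMap R K t)
    (h : dlog k gK = map k k R K η + ∑ i, (algebraMap R K (c i) * (algebraMap R K (f i))⁻¹) •
        D k K (algebraMap R K (f i))) : e = 0 := by
  have hinj := IsFractionRing.injective R K
  have hπ0 : algebraMap R K π ≠ 0 := by
    rw [Ne, map_eq_zero_iff _ hinj]; exact hπ.ne_zero
  have hs0 : algebraMap R K s ≠ 0 := by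
    rw [Ne, map_eq_zero_iff _ hinj]; rintro rfl; exact hs (dvd_zero π)
  have ht0 : algebraMap R K t ≠ 0 := by
    rw [Ne, map_eq_zero_iff _ hinj]; rintro rfl; exact ht (dvd_zero π)
  have hf' : ∀ i, ¬ π ∣ f i := fun i hd => hbad i (hπ.associated_of_dvd (hfp i) hd)
  rw [hg, dlog_div k (mul_ne_zero (zpow_ne_zero e hπ0) hs0) ht0,
    dlog_mul k (zpow_ne_zero e hπ0) hs0, dlog_zpow k hπ0, zsmul_dlog] at h
  exact int_eq_zero_of_prime k R K π hπ e s t hs ht f c hf' η h

theorem main {r : ℕ} (f : Fin r → R) (hf : ∀ i, Prime (f i)) (g : Kˣ) (η : Ω[R⁄k])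
    (c : Fin r → R)
    (h : (g : K)⁻¹ • D k K (g : K) = map k k R K η +
      ∑ i, (algebraMap R K (c i) * (algebraMap R K (f i))⁻¹) • D k K (algebraMap R K (f i))) :
    ∃ (v : Rˣ) (b : Fin r → ℤ),
      (g : K)⁻¹ • D k K (g : K) =
        (algebraMap R K (v : R))⁻¹ • D k K (algebraMap R K (v : R)) +
          ∑ i, ((b i : K) * (algebraMap R K (f i))⁻¹) • D k K (algebraMap R K (f i)) := by
  have hinj := IsFractionRing.injective R K
  obtain ⟨a, b, hrel, hab⟩ := IsFractionRing.exists_reduced_fraction (A := R) (K := K) (g : K)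
  have hb0 : (b : R) ≠ 0 := nonZeroDivisors.coe_ne_zero b
  have hgK : (g : K) = algebraMap R K a / algebraMap R K (b : R) := by
    rw [← hab, IsFractionRing.mk'_eq_div]
  have ha0 : a ≠ 0 := by
    rintro rfl
    rw [map_zero, zero_div] at hgK
    exact g.ne_zero hgK
  have hA : ∀ π, Prime π → (∀ i, ¬ Associated π (f i)) → ¬ π ∣ a := by
    intro π hπ hbad hdvd
    have hnb : ¬ π ∣ (b : R) := fun hdb => hπ.not_isUnit (hrel hdvd hdb)
    obtain ⟨e, a', ha', hae⟩ := WfDvdMonoid.max_power_factor ha0 hπ.irreducible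
    have he : e ≠ 0 := by
      rintro rfl
      rw [pow_zero, one_mul] at hae
      exact ha' (hae ▸ hdvd)
    have := zpow_eq_zero k R K π hπ f c hf hbad (e : ℤ) a' b ha' hnb η (g : K)
      (by rw [hgK, hae, map_mul, map_pow, zpow_natCast]) h
    exact he (by exact_mod_cast this)
  have hB : ∀ π, Prime π → (∀ i, ¬ Associated π (f i)) → ¬ π ∣ (b : R) := by
    intro π hπ hbad hdvd
    have hna : ¬ π ∣ a := fun hda => hπ.not_isUnit (hrel hda hdvd)
    obtain ⟨e, b', hb', hbe⟩ := WfDvdMonoid.max_power_factor hb0 hπ.irreducible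
    have he : e ≠ 0 := by
      rintro rfl
      rw [pow_zero, one_mul] at hbe
      exact hb' (hbe ▸ hdvd)
    have hπ0 : algebraMap R K π ≠ 0 := by
      rw [Ne, map_eq_zero_iff _ hinj]; exact hπ.ne_zero
    have hb'0 : algebraMap R K b' ≠ 0 := by
      rw [Ne, map_eq_zero_iff _ hinj]; rintro rfl; exact hb' (dvd_zero π)
    have := zpow_eq_zero k R K π hπ f c hf hbad (-(e : ℤ)) a b' hna hb' η (g : K)
      (by
        rw [hgK, hbe, map_mul, map_pow, zpow_neg, zpow_natCast]
        field_simp) h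
    exact he (by exact_mod_cast neg_eq_zero.mp this)
  obtain ⟨v₁, n, hn⟩ := exists_eq_unit_mul_prod f a ha0 (fun π hπ hd => by
    by_contra hcon
    exact hA π hπ (not_exists.mp hcon) hd)
  obtain ⟨v₂, m, hm⟩ := exists_eq_unit_mul_prod f (b : R) hb0 (fun π hπ hd => by
    by_contra hcon
    exact hB π hπ (not_exists.mp hcon) hd)
  have hf0 : ∀ i, algebraMap R K (f i) ≠ 0 := fun i => by
    rw [Ne, map_eq_zero_iff _ hinj]; exact (hf i).ne_zero
  have hv0 : ∀ v : Rˣ, algebraMap R K (v : R) ≠ 0 := fun v => by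
    rw [Ne, map_eq_zero_iff _ hinj]; exact v.ne_zero
  have hexp : ∀ (v : Rˣ) (n : Fin r → ℕ), dlog k (algebraMap R K (↑v * ∏ i, f i ^ n i)) =
      dlog k (algebraMap R K (v : R)) + ∑ i, (n i : ℤ) • dlog k (algebraMap R K (f i)) := by
    intro v n
    rw [map_mul, map_prod, dlog_mul k (hv0 v)
      (Finset.prod_ne_zero_iff.mpr fun i _ => by rw [map_pow]; exact pow_ne_zero _ (hf0 i)),
      dlog_prod k _ _ (fun i _ => by rw [map_pow]; exact pow_ne_zero _ (hf0 i))]
    congr 1
    refine Finset.sum_congr rfl fun i _ => ?_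
    rw [map_pow, dlog_pow k (hf0 i), natCast_zsmul]
  refine ⟨v₁ * v₂⁻¹, fun i => (n i : ℤ) - (m i : ℤ), ?_⟩
  change dlog k (g : K) = dlog k (algebraMap R K ((v₁ * v₂⁻¹ : Rˣ) : R)) + _
  have hb0' : algebraMap R K (b : R) ≠ 0 := by
    rw [Ne, map_eq_zero_iff _ hinj]; exact hb0
  have ha0' : algebraMap R K a ≠ 0 := by
    rw [Ne, map_eq_zero_iff _ hinj]; exact ha0
  rw [hgK, dlog_div k ha0' hb0']
  conv_lhs => rw [hn, hm, hexp, hexp]
  have hv : dlog k (algebraMap R K ((v₁ * v₂⁻¹ : Rˣ) : R)) =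
      dlog k (algebraMap R K (v₁ : R)) - dlog k (algebraMap R K (v₂ : R)) := by
    rw [Units.val_mul, map_mul, dlog_mul k (hv0 v₁) (hv0 v₂⁻¹), sub_eq_add_neg,
      ← dlog_inv k (hv0 v₂)]
    congr 2
    exact map_units_inv (algebraMap R K) v₂
  rw [hv]
  have hsum : ∑ i, ((((n i : ℤ) - (m i : ℤ) : ℤ) : K) * (algebraMap R K (f i))⁻¹) •
      D k K (algebraMap R K (f i)) =
      ∑ i, (n i : ℤ) • dlog k (algebraMap R K (f i)) -
        ∑ i, (m i : ℤ) • dlog k (algebraMap R K (f i)) := by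
    rw [← Finset.sum_sub_distrib]
    refine Finset.sum_congr rfl fun i _ => ?_
    rw [← zsmul_dlog, sub_smul]
  rw [hsum]
  abel

end main

end Groth.Agent.Lib.Helper99.LogD
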