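import Mathlib
import Groth.Agent.Lib.Helper30.SmoothRegular
import Groth.Agent.Lib.Helper94.RegularUFD2
import Groth.Agent.Lib.Helper99.LogDD

/-!
# Logarithmic differentials, part E: localizations of smooth algebras over a field are factorial
(helper99)
-/

set_option autoImplicit false
universe u

namespace Groth.Agent.Lib.Helper99.LogD

theorem isRegularLocalRing_localization_field (k : Type u) [Field k] (q : Ideal k) [q.IsPrime] :
    IsRegularLocalRing (Localization.AtPrime q) := by
  have hu : q.primeCompl ≤ IsUnit.submonoid k := by
    intro x hx
    exact IsUnit.mk0 _ (fun h0 => hx (h0 ▸ q.zero_mem))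
  have e := IsLocalization.atUnits k q.primeCompl (S := Localization.AtPrime q) hu
  exact IsRegularLocalRing.of_ringEquiv e.toRingEquiv

theorem isRegularLocalRing_of_smooth_field (k B R : Type u) [Field k] [CommRing B] [Algebra k B]
    [Algebra.Smooth k B] (p : Ideal B) [p.IsPrime] [CommRing R] [Algebra B R]
    [IsLocalization.AtPrime R p] : IsRegularLocalRing R := by
  have hreg0 : IsRegularLocalRing (Localization.AtPrime (p.comap (algebraMap k B))) :=
    isRegularLocalRing_localization_field k _
  have hreg1 : IsRegularLocalRing (Localization.AtPrime p) :=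
    Groth.Agent.Lib.Helper30.SmoothRegular.regular_of_smooth k B p hreg0
  exact IsRegularLocalRing.of_ringEquiv
    (IsLocalization.algEquiv p.primeCompl (Localization.AtPrime p) R).toRingEquiv

theorem ufd_of_smooth_field (k B R : Type u) [Field k] [CommRing B] [Algebra k B]
    [Algebra.Smooth k B] (p : Ideal B) [p.IsPrime] [CommRing R] [Algebra B R]
    [IsLocalization.AtPrime R p] [IsDomain R] : UniqueFactorizationMonoid R := by
  haveI := isRegularLocalRing_of_smooth_field k B R p
  exact Groth.Agent.Lib.Helper94.RegularUFD.uniqueFactorizationMonoid_of_isRegularLocalRing R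

end Groth.Agent.Lib.Helper99.LogD
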