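import Mathlib

/-!
# Picard groups of `ℤ`-orders: auxiliary lemmas (helper99)
-/

open Polynomial TensorProduct

universe u

namespace Groth.Agent.Lib.Helper99.PicOrd


/-- A non-zero-divisor that is integral over `ℤ` divides a nonzero integer. -/
theorem exists_mul_eq_intCast {S : Type*} [CommRing S] (x : S) (hx : x ∈ nonZeroDivisors S)
    (hint : IsIntegral ℤ x) : ∃ c : S, ∃ n : ℤ, n ≠ 0 ∧ x * c = (n : S) := by
  set P := minpoly ℤ x with hP
  have hmon : P.Monic := minpoly.monic hint
  have hroot : aeval x P = 0 := minpoly.aeval ℤ x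
  have hdecomp : divX P * X + C (P.coeff 0) = P := divX_mul_X_add P
  have hev : aeval x (divX P) * x + (P.coeff 0 : S) = 0 := by
    have := congrArg (aeval x) hdecomp
    rw [hroot] at this
    simpa using this
  by_cases h0 : P.coeff 0 = 0
  · exfalso
    rw [h0] at hev hdecomp
    simp only [Int.cast_zero, add_zero, map_zero] at hev hdecomp
    have hz : aeval x (divX P) = 0 := (mem_nonZeroDivisors_iff_right.mp hx) _ hev
    have hmon' : (divX P).Monic := by
      apply Monic.of_mul_monic_right monic_X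
      rw [hdecomp]; exact hmon
    have hle := minpoly.min ℤ x hmon' hz
    have hdeg : (divX P).degree < P.degree := by
      conv_rhs => rw [← hdecomp]
      rw [degree_mul, degree_X]
      have : (divX P).degree ≠ ⊥ := by
        rw [Ne, degree_eq_bot]; exact hmon'.ne_zero
      rw [degree_eq_natDegree hmon'.ne_zero]
      exact_mod_cast Nat.lt_succ_self _
    exact absurd hle (not_le.mpr hdeg)
  · refine ⟨aeval x (divX P), - P.coeff 0, neg_ne_zero.mpr h0, ?_⟩
    push_cast
    linear_combination hev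

/-- Split `N` into an `n`-primary part and a part coprime to `n`. -/
theorem exists_factor_coprime (n : ℕ) : ∀ N : ℕ, N ≠ 0 →
    ∃ N₁ N₂ k : ℕ, N = N₁ * N₂ ∧ N₁ ∣ n ^ k ∧ Nat.Coprime N₂ n := by
  intro N
  induction N using Nat.strong_induction_on with
  | _ N ih =>
    intro hN
    by_cases hg : Nat.gcd N n = 1
    · exact ⟨1, N, 0, by simp, by simp, hg⟩
    · set g := Nat.gcd N n with hgdef
      have hgN : g ∣ N := Nat.gcd_dvd_left N n
      have hgn : g ∣ n := Nat.gcd_dvd_right N n
      obtain ⟨N', hN'⟩ := hgN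
      have hgpos : 0 < g := Nat.gcd_pos_of_pos_left n (Nat.pos_of_ne_zero hN)
      have hg2 : 2 ≤ g := by omega
      have hN'0 : N' ≠ 0 := by rintro rfl; simp at hN'; exact hN hN'
      have hlt : N' < N := by
        rw [hN']
        calc N' = 1 * N' := (one_mul _).symm
          _ < g * N' := Nat.mul_lt_mul_of_pos_right (by omega) (Nat.pos_of_ne_zero hN'0)
      obtain ⟨N₁, N₂, k, h1, h2, h3⟩ := ih N' hlt hN'0
      refine ⟨g * N₁, N₂, k + 1, ?_, ?_, h3⟩
      · rw [hN', h1, mul_assoc]
      · rw [pow_succ, mul_comm (n ^ k) n]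
        exact Nat.mul_dvd_mul hgn h2




theorem finite_quotient_natCast {S : Type u} [CommRing S] [Module.Finite ℤ S] (n : ℕ) (hn : 0 < n) :
    Finite (S ⧸ Ideal.span {(n : S)}) := by
  have : Module.Finite ℤ (S ⧸ Ideal.span {(n : S)}) :=
    Module.Finite.of_surjective ((Ideal.span {(n : S)}).mkQ.restrictScalars ℤ)
      (Ideal.span {(n : S)}).mkQ_surjective
  apply Module.finite_of_fg_torsion
  intro x
  refine ⟨⟨(n : ℤ), ?_⟩, ?_⟩
  · rw [mem_nonZeroDivisors_iff_ne_zero]; exact_mod_cast hn.ne'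
  · obtain ⟨y, rfl⟩ := Ideal.Quotient.mk_surjective x
    show (n : ℤ) • (Ideal.Quotient.mk _ y) = 0
    rw [← map_zsmul, Ideal.Quotient.eq_zero_iff_mem]
    rw [zsmul_eq_mul]
    push_cast
    exact Ideal.mul_mem_right _ _ (Ideal.subset_span rfl)

/-- an invertible ideal of a `ℤ`-finite ring is principal "modulo `n`". -/
theorem exists_generator_mod {S : Type u} [CommRing S] [Module.Finite ℤ S]
    (J : Ideal S) [Module.Invertible S J] (n : ℕ) (hn : 0 < n) :
    ∃ h ∈ J, ∃ t : ℤ, (∃ s : ℤ, t = 1 + n * s) ∧ ∀ y ∈ J, (t : S) * y ∈ Ideal.span {h} := by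
  set I : Ideal S := Ideal.span {(n : S)} with hI
  have : Finite (S ⧸ I) := finite_quotient_natCast n hn
  have : Finite (MaximalSpectrum (S ⧸ I)) := by
    have : Finite (Ideal (S ⧸ I)) := Finite.of_injective (fun K : Ideal (S ⧸ I) => (K : Set (S ⧸ I)))
      SetLike.coe_injective
    exact Finite.of_injective (fun m : MaximalSpectrum (S ⧸ I) => m.asIdeal)
      (fun a b h => MaximalSpectrum.ext h)
  -- freeness
  obtain ⟨e⟩ : Nonempty (((S ⧸ I) ⊗[S] J) ≃ₗ[S ⧸ I] (S ⧸ I)) :=
    Module.Invertible.free_iff_linearEquiv.mp inferInstance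
  obtain ⟨h, hh⟩ := TensorProduct.mk_surjective S J (S ⧸ I) Ideal.Quotient.mk_surjective (e.symm 1)
  -- every y ∈ J is a multiple of h modulo n J
  have key : ∀ y : J, ∃ a : S, ∃ z : J, y = a • h + (n : S) • z := by
    intro y
    obtain ⟨a, ha⟩ := Ideal.Quotient.mk_surjective (e ((1 : S ⧸ I) ⊗ₜ[S] y))
    have h1 : (1 : S ⧸ I) ⊗ₜ[S] y = (1 : S ⧸ I) ⊗ₜ[S] (a • h) := by
      apply e.injective
      rw [TensorProduct.tmul_smul, ← ha]
      have : a • ((1 : S ⧸ I) ⊗ₜ[S] h) = (Ideal.Quotient.mk I a) • ((1 : S ⧸ I) ⊗ₜ[S] h) := by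
        rw [TensorProduct.smul_tmul', TensorProduct.smul_tmul']
        congr 1
      rw [this, map_smul]
      have h2 : e ((1 : S ⧸ I) ⊗ₜ[S] h) = 1 := by
        have := congrArg e hh
        simpa using this
      rw [h2, smul_eq_mul, mul_one]
    have h3 : (Submodule.Quotient.mk (y - a • h) : J ⧸ (I • ⊤ : Submodule S J)) = 0 := by
      rw [← TensorProduct.quotTensorEquivQuotSMul_mk_one_tmul, TensorProduct.tmul_sub, h1, sub_self,
        map_zero]
    rw [Submodule.Quotient.mk_eq_zero, hI, Submodule.ideal_span_singleton_smul,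
      Submodule.mem_smul_pointwise_iff_exists] at h3
    obtain ⟨z, -, hz⟩ := h3
    exact ⟨a, z, by rw [hz]; abel⟩
  -- Nakayama over ℤ on Q = J / S h
  set Q := J ⧸ (Submodule.span S {h}) with hQ
  have : IsNoetherian ℤ S := isNoetherian_of_isNoetherianRing_of_finite ℤ S
  have : Module.Finite ℤ J :=
    Module.Finite.of_injective (J.subtype.restrictScalars ℤ) Subtype.val_injective
  have : Module.Finite ℤ Q :=
    Module.Finite.of_surjective ((Submodule.span S {h}).mkQ.restrictScalars ℤ)
      (Submodule.span S {h}).mkQ_surjective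
  have hle : (⊤ : Submodule ℤ Q) ≤ (Ideal.span {(n : ℤ)}) • (⊤ : Submodule ℤ Q) := by
    intro q _
    obtain ⟨y, rfl⟩ := Submodule.Quotient.mk_surjective _ q
    obtain ⟨a, z, hy⟩ := key y
    have : (Submodule.Quotient.mk y : Q) = (n : ℤ) • (Submodule.Quotient.mk z : Q) := by
      rw [hy, Submodule.Quotient.mk_add]
      have h0 : (Submodule.Quotient.mk (a • h) : Q) = 0 := by
        rw [Submodule.Quotient.mk_eq_zero]
        exact Submodule.smul_mem _ _ (Submodule.subset_span rfl)
      rw [h0, zero_add, ← Submodule.Quotient.mk_smul]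
      congr 1
      rw [Nat.cast_smul_eq_nsmul, natCast_zsmul]
    rw [this]
    exact Submodule.smul_mem_smul (Ideal.subset_span rfl) Submodule.mem_top
  obtain ⟨t, ht1, ht2⟩ := Submodule.exists_sub_one_mem_and_smul_eq_zero_of_fg_of_le_smul
    (Ideal.span {(n : ℤ)}) (⊤ : Submodule ℤ Q) Module.Finite.fg_top hle
  refine ⟨h, h.2, t, ?_, ?_⟩
  · obtain ⟨s, hs⟩ := Ideal.mem_span_singleton'.mp ht1
    exact ⟨s, by linarith⟩
  · intro y hy
    have h4 := ht2 (Submodule.Quotient.mk ⟨y, hy⟩) Submodule.mem_top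
    rw [← Submodule.Quotient.mk_smul, Submodule.Quotient.mk_eq_zero,
      Submodule.mem_span_singleton] at h4
    obtain ⟨a, ha⟩ := h4
    rw [Ideal.mem_span_singleton']
    refine ⟨a, ?_⟩
    have := congrArg Subtype.val ha
    simp only [Submodule.coe_smul, smul_eq_mul] at this
    rw [this]
    simp [zsmul_eq_mul]

end Groth.Agent.Lib.Helper99.PicOrd
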