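import Mathlib
import Groth.Agent.Lib.Helper99.PicOrdA

/-!
# Picard groups of `ℤ`-orders: surjectivity along quotient maps (helper99)
-/

open TensorProduct CommRing

universe u

namespace Groth.Agent.Lib.Helper99.PicOrd

/-- The invertible submodule `(a, N₁)` of the total fraction ring with inverse `(1, c / N₁)`. -/
theorem exists_unit_submodule {R : Type u} [CommRing R] (a c : R) (N₁ N₂ : ℕ)
    (hac : a * c = (N₁ : R) * (N₂ : R)) (hcop : Nat.Coprime N₁ N₂)
    (hN₁ : (N₁ : R) ∈ nonZeroDivisors R) :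
    ∃ u : (Submodule R (FractionRing R))ˣ,
      (u : Submodule R (FractionRing R)) =
        Submodule.map (Algebra.linearMap R (FractionRing R)) (Ideal.span {a, (N₁ : R)}) := by
  set A := FractionRing R with hA
  set φ := algebraMap R A with hφ
  obtain ⟨v, hv⟩ : ∃ v : A, φ (N₁ : R) * v = 1 := by
    have : IsUnit (φ (N₁ : R)) := IsLocalization.map_units A ⟨(N₁ : R), hN₁⟩
    obtain ⟨w, hw⟩ := this
    exact ⟨((w⁻¹ : Aˣ) : A), by rw [← hw]; simp⟩
  set b : A := φ c * v with hb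
  set I₁ : Submodule R A := Submodule.map (Algebra.linearMap R A) (Ideal.span {a, (N₁ : R)}) with hI₁
  set I₂ : Submodule R A := Submodule.span R {1, b} with hI₂
  have hab : φ a * b = φ (N₂ : R) := by
    have h1 : φ a * φ c = φ (N₁ : R) * φ (N₂ : R) := by rw [← map_mul, hac, map_mul]
    calc φ a * b = (φ a * φ c) * v := by rw [hb]; ring
      _ = φ (N₂ : R) * (φ (N₁ : R) * v) := by rw [h1]; ring
      _ = φ (N₂ : R) := by rw [hv, mul_one]
  have hNb : φ (N₁ : R) * b = φ c := by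
    calc φ (N₁ : R) * b = φ c * (φ (N₁ : R) * v) := by rw [hb]; ring
      _ = φ c := by rw [hv, mul_one]
  have hmemI₁ : ∀ r ∈ Ideal.span {a, (N₁ : R)}, φ r ∈ I₁ := fun r hr => ⟨r, hr, rfl⟩
  have hle : I₁ * I₂ ≤ 1 := by
    rw [Submodule.mul_le]
    rintro m ⟨r, hr, rfl⟩ n hn
    obtain ⟨r₁, r₂, rfl⟩ := Ideal.mem_span_pair.mp hr
    obtain ⟨s₁, s₂, rfl⟩ := Submodule.mem_span_pair.mp hn
    rw [Submodule.mem_one]
    refine ⟨r₁ * s₁ * a + r₁ * s₂ * N₂ + r₂ * s₁ * N₁ + r₂ * s₂ * c, ?_⟩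
    simp only [Algebra.linearMap_apply, Algebra.smul_def, map_add, map_mul, mul_one]
    rw [← hab, ← hNb]
    ring
  have hge : (1 : Submodule R A) ≤ I₁ * I₂ := by
    rw [Submodule.one_le]
    have hcop' : IsCoprime (N₁ : ℤ) (N₂ : ℤ) := Nat.Coprime.isCoprime hcop
    obtain ⟨α, β, hαβ⟩ := hcop'
    have h1 : φ (N₁ : R) * 1 ∈ I₁ * I₂ :=
      Submodule.mul_mem_mul (hmemI₁ _ (Ideal.subset_span (by simp)))
        (Submodule.subset_span (by simp))
    have h2 : φ a * b ∈ I₁ * I₂ :=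
      Submodule.mul_mem_mul (hmemI₁ _ (Ideal.subset_span (by simp)))
        (Submodule.subset_span (by simp))
    have h3 : (α : R) • (φ (N₁ : R) * 1) + (β : R) • (φ a * b) ∈ I₁ * I₂ :=
      Submodule.add_mem _ (Submodule.smul_mem _ _ h1) (Submodule.smul_mem _ _ h2)
    convert h3 using 1
    rw [hab, mul_one, Algebra.smul_def, Algebra.smul_def, ← map_mul, ← map_mul, ← map_add]
    have : (α : R) * (N₁ : R) + (β : R) * (N₂ : R) = 1 := by
      have := congrArg (fun z : ℤ => (z : R)) hαβ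
      push_cast at this
      exact this
    rw [this, map_one]
  exact ⟨Units.mkOfMulEqOne I₁ I₂ (le_antisymm hle hge), rfl⟩

end Groth.Agent.Lib.Helper99.PicOrd
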