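import Mathlib
import Groth.Agent.Lib.Helper99.PicOrdA
import Groth.Agent.Lib.Helper99.PicOrdB

/-!
# Picard groups of `ℤ`-orders: surjectivity along quotient maps, main statement (helper99)
-/

open TensorProduct CommRing

universe u

namespace Groth.Agent.Lib.Helper99.PicOrd

/-- natural-number version of `exists_mul_eq_intCast`. -/
theorem exists_mul_eq_natCast {S : Type*} [CommRing S] (x : S) (hx : x ∈ nonZeroDivisors S)
    (hint : IsIntegral ℤ x) : ∃ c : S, ∃ n : ℕ, n ≠ 0 ∧ x * c = (n : S) := by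
  obtain ⟨c, z, hz, h⟩ := exists_mul_eq_intCast x hx hint
  obtain ⟨m, rfl | rfl⟩ := Int.eq_nat_or_neg z
  · refine ⟨c, m, by simpa using hz, ?_⟩
    rw [h]; simp
  · refine ⟨-c, m, by simpa using hz, ?_⟩
    rw [mul_neg, h]; simp

/-- Let `R → S` be a surjection of `ℤ`-finite, `ℤ`-torsion-free rings along which non-zero-divisors
lift to non-zero-divisors. Then `Pic R → Pic S` is surjective. -/
theorem pic_mapAlgebra_surjective {R S : Type u} [CommRing R] [CommRing S] [Algebra R S]
    (hsurj : Function.Surjective (algebraMap R S))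
    [Module.Finite ℤ R] [IsNoetherianRing S]
    (htfR : ∀ n : ℕ, n ≠ 0 → (n : R) ∈ nonZeroDivisors R)
    (htfS : ∀ n : ℕ, n ≠ 0 → (n : S) ∈ nonZeroDivisors S)
    (hlift : ∀ h ∈ nonZeroDivisors S, ∃ h' ∈ nonZeroDivisors R, algebraMap R S h' = h) :
    Function.Surjective (Pic.mapAlgebra R S) := by
  intro M'
  have hfinS : Module.Finite ℤ S :=
    Module.Finite.of_surjective ((Algebra.linearMap R S).restrictScalars ℤ) hsurj
  have hintS : Algebra.IsIntegral ℤ S := Algebra.IsIntegral.of_finite ℤ S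
  have hintR : Algebra.IsIntegral ℤ R := Algebra.IsIntegral.of_finite ℤ R
  -- replace `M'` by an ideal
  obtain ⟨J', ⟨e'⟩⟩ := Module.Invertible.exists_linearEquiv_ideal S M'
  have : Module.Invertible S J' := Module.Invertible.congr e'
  obtain ⟨x, hxJ, hxnzd⟩ := Ideal.nonempty_inter_nonZeroDivisors_of_faithfulSMul (I := J')
  obtain ⟨c, n0, hn0, hxc⟩ := exists_mul_eq_natCast x hxnzd (Algebra.IsIntegral.isIntegral x)
  set n : ℕ := 2 * n0 with hn
  have hnpos : 0 < n := by omega
  have hnJ : (n : S) ∈ J' := by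
    rw [hn]; push_cast
    rw [← hxc]
    exact Ideal.mul_mem_left _ _ (Ideal.mul_mem_right _ _ hxJ)
  obtain ⟨h, hhJ, t, ⟨s, hts⟩, ht⟩ := exists_generator_mod J' n hnpos
  have ht0 : t ≠ 0 := by
    intro h0
    rw [h0, hn] at hts
    push_cast at hts
    have h1 : (2 : ℤ) ∣ 1 := ⟨-((n0 : ℤ) * s), by linarith⟩
    omega
  -- `h` is a non-zero-divisor
  have hh : h ∈ nonZeroDivisors S := by
    have h1 := ht x hxJ
    obtain ⟨a, ha⟩ := Ideal.mem_span_singleton'.mp h1
    have h2 : (t : S) * x ∈ nonZeroDivisors S := by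
      refine mul_mem ?_ hxnzd
      obtain ⟨m, hm | hm⟩ := Int.eq_nat_or_neg t
      · have hm0 : m ≠ 0 := by rintro rfl; exact ht0 (by simpa using hm)
        rw [hm, Int.cast_natCast]
        exact htfS m hm0
      · have hm0 : m ≠ 0 := by rintro rfl; exact ht0 (by simpa using hm)
        rw [hm, Int.cast_neg, Int.cast_natCast]
        have := htfS m hm0
        rw [mem_nonZeroDivisors_iff_right] at this ⊢
        intro z hz
        exact this z (by simpa using hz)
    rw [← ha] at h2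
    exact (mul_mem_nonZeroDivisors.mp h2).2
  obtain ⟨h', hh', hh'h⟩ := hlift h hh
  obtain ⟨c'', N0, hN0, hc''⟩ := exists_mul_eq_natCast h' hh' (Algebra.IsIntegral.isIntegral h')
  obtain ⟨N₁, N₂, k, hN, hN1, hN2⟩ := exists_factor_coprime n N0 hN0
  have hN₁0 : N₁ ≠ 0 := by
    rintro rfl
    rw [zero_mul] at hN
    exact hN0 hN
  have hcop12 : Nat.Coprime N₁ N₂ := by
    have h1 : Nat.Coprime (n ^ k) N₂ := (Nat.Coprime.pow_right k hN2).symm
    exact Nat.Coprime.coprime_dvd_left hN1 h1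
  have hac : h' * c'' = (N₁ : R) * (N₂ : R) := by
    rw [hc'', hN]; push_cast; rfl
  obtain ⟨u, hu⟩ := exists_unit_submodule h' c'' N₁ N₂ hac hcop12 (htfR N₁ hN₁0)
  -- the ideal `J = (h', N₁)` of `R`
  set J : Ideal R := Ideal.span {h', (N₁ : R)} with hJ
  have hinj : Function.Injective (Algebra.linearMap R (FractionRing R)) :=
    IsFractionRing.injective R (FractionRing R)
  let eJ : J ≃ₗ[R] (u : Submodule R (FractionRing R)) :=
    (Submodule.equivMapOfInjective (Algebra.linearMap R (FractionRing R)) hinj J).trans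
      (LinearEquiv.ofEq _ _ hu.symm)
  have : Module.Invertible R J := Module.Invertible.congr eJ.symm
  -- `N₁ ∈ J'`
  have hN₁J : ((N₁ : ℕ) : S) ∈ J' := by
    have hcop : IsCoprime (N₂ : ℤ) (n : ℤ) := Nat.Coprime.isCoprime hN2
    obtain ⟨α, β, hαβ⟩ := hcop
    have h1 : ((N₁ : ℕ) : S) * (N₂ : S) ∈ J' := by
      have := congrArg (algebraMap R S) hac
      rw [map_mul, hh'h, map_mul, map_natCast, map_natCast] at this
      rw [← this]
      exact Ideal.mul_mem_right _ _ hhJ
    have h2 : ((N₁ : ℕ) : S) = (α : S) * ((N₁ : S) * (N₂ : S)) + (β : S) * (N₁ : S) * (n : S) := by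
      have := congrArg (fun z : ℤ => (z : S)) hαβ
      push_cast at this
      calc ((N₁ : ℕ) : S) = (N₁ : S) * 1 := (mul_one _).symm
        _ = (N₁ : S) * ((α : S) * (N₂ : S) + (β : S) * (n : S)) := by rw [this]
        _ = _ := by ring
    rw [h2]
    exact Ideal.add_mem _ (Ideal.mul_mem_left _ _ h1) (Ideal.mul_mem_left _ _ hnJ)
  -- the map `J → J'`
  have hmap : ∀ y ∈ J, algebraMap R S y ∈ J' := by
    intro y hy
    obtain ⟨r₁, r₂, rfl⟩ := Ideal.mem_span_pair.mp hy
    rw [map_add, map_mul, map_mul, hh'h, map_natCast]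
    exact Ideal.add_mem _ (Ideal.mul_mem_left _ _ hhJ) (Ideal.mul_mem_left _ _ hN₁J)
  let ψ₀ : J →ₗ[R] J' :=
    { toFun := fun y => ⟨algebraMap R S y, hmap y y.2⟩
      map_add' := fun y z => by ext; simp
      map_smul' := fun r y => by ext; simp [Algebra.smul_def] }
  let Ψ : S ⊗[R] J →ₗ[S] J' := LinearMap.liftBaseChange S ψ₀
  have hΨsurj : Function.Surjective Ψ := by
    rintro ⟨y, hy⟩
    -- `gcd(t, N₁) = 1`
    have hcop : IsCoprime t (N₁ : ℤ) := by
      have h1 : IsCoprime t (n : ℤ) := by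
        refine ⟨1, -s, ?_⟩
        rw [hts]; ring
      have h2 : IsCoprime t ((n : ℤ) ^ k) := IsCoprime.pow_right h1
      have h3 : (N₁ : ℤ) ∣ (n : ℤ) ^ k := by exact_mod_cast hN1
      exact IsCoprime.of_isCoprime_of_dvd_right h2 h3
    obtain ⟨α, β, hαβ⟩ := hcop
    obtain ⟨a, ha⟩ := Ideal.mem_span_singleton'.mp (ht y hy)
    refine ⟨((α : S) * a) ⊗ₜ[R] ⟨h', Ideal.subset_span (by simp)⟩ +
      ((β : S) * y) ⊗ₜ[R] ⟨(N₁ : R), Ideal.subset_span (by simp)⟩, ?_⟩
    apply Subtype.ext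
    simp only [Ψ, map_add, LinearMap.liftBaseChange_tmul, ψ₀, LinearMap.coe_mk, AddHom.coe_mk,
      Submodule.coe_add, Submodule.coe_smul, smul_eq_mul, hh'h, map_natCast]
    have := congrArg (fun z : ℤ => (z : S)) hαβ
    push_cast at this
    calc (α : S) * a * h + (β : S) * y * (N₁ : S)
        = (α : S) * (a * h) + (β : S) * (N₁ : S) * y := by ring
      _ = ((α : S) * (t : S) + (β : S) * (N₁ : S)) * y := by rw [ha]; ring
      _ = y := by rw [this, one_mul]
  have hΨbij : Function.Bijective Ψ := Module.Invertible.bijective_of_surjective hΨsurj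
  -- conclusion
  refine ⟨Submodule.unitsToPic R (FractionRing R) u, ?_⟩
  rw [Pic.mapAlgebra_apply, Pic.mk_eq_iff]
  refine ⟨?_⟩
  refine (AlgebraTensorModule.congr (LinearEquiv.refl S S)
    ((Submodule.unitsToPicEquiv u).trans eJ.symm)).trans
    ((LinearEquiv.ofBijective Ψ hΨbij).trans e'.symm)

end Groth.Agent.Lib.Helper99.PicOrd
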