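import Mathlib
import Groth.Agent.S17983

/-!
# Weil numbers: `q / π` is integral (helper99)
-/

open Polynomial

namespace Groth.Agent.Lib.Helper99.PicOrd

/-- functional equation of the minimal polynomial of a Weil `q`-number. -/
theorem weil_coeff_relation (p e : ℕ) [Fact p.Prime] {K : Type*} [Field K] [CharZero K] (π : K)
    (hπ : IsIntegral ℤ π)
    (hweil : ∀ z ∈ (minpoly ℤ π).aroots ℂ, ‖z‖ = Real.sqrt ((p : ℝ) ^ e)) :
    ∀ k ≤ (minpoly ℤ π).natDegree,
      (minpoly ℤ π).coeff k * ((p : ℤ) ^ e) ^ k =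
        (minpoly ℤ π).coeff 0 * (minpoly ℤ π).coeff ((minpoly ℤ π).natDegree - k) := by
  set P := minpoly ℤ π with hP
  set n := P.natDegree with hn
  have hPm : P.Monic := minpoly.monic hπ
  have hmapne : P.map (algebraMap ℤ ℂ) ≠ 0 := (hPm.map _).ne_zero
  have hnpos : 0 < n := minpoly.natDegree_pos hπ
  have hdeg : P.degree ≠ 0 := by
    rw [degree_eq_natDegree hPm.ne_zero]
    exact_mod_cast hnpos.ne'
  obtain ⟨z₀, hz₀⟩ := IsAlgClosed.exists_aeval_eq_zero ℂ P hdeg
  have hz₀mem : z₀ ∈ P.aroots ℂ := (mem_aroots').mpr ⟨hmapne, hz₀⟩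
  have hpe : (0 : ℝ) ≤ (p : ℝ) ^ e := by positivity
  set s := Real.sqrt ((p : ℝ) ^ e) with hs
  have hs2 : s ^ 2 = (p : ℝ) ^ e := Real.sq_sqrt hpe
  set w := (starRingEnd ℂ) z₀ with hw
  have hzw : z₀ * w = (((p : ℤ) ^ e : ℤ) : ℂ) := by
    rw [hw, Complex.mul_conj, Complex.normSq_eq_norm_sq, hweil z₀ hz₀mem]
    push_cast
    rw [← Complex.ofReal_pow, hs2]
    push_cast
    rfl
  have hwroot : aeval w P = 0 := by
    have := Polynomial.aeval_algHom_apply ((starRingEnd ℂ).toIntAlgHom) z₀ P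
    change aeval w P = (starRingEnd ℂ) (aeval z₀ P) at this
    rw [this, hz₀, map_zero]
  have hT := Groth.Agent.S17983.dvd_of_root π hπ w hwroot
  have hrel := Groth.Agent.S17983.coeff_relation ((p : ℤ) ^ e) n P hn.symm hPm z₀ w hT hz₀ hzw
  intro k hk
  have := hrel (n - k) (Nat.sub_le n k)
  rwa [Nat.sub_sub_self hk] at this

/-- For a Weil `q`-number `π`, the element `q / π` is again a root of the minimal polynomial of
`π`; in particular it is integral. -/
theorem weil_aeval_q_div (p e : ℕ) [Fact p.Prime] {K : Type*} [Field K] [CharZero K] (π : K)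
    (hπ : IsIntegral ℤ π)
    (hweil : ∀ z ∈ (minpoly ℤ π).aroots ℂ, ‖z‖ = Real.sqrt ((p : ℝ) ^ e)) :
    aeval ((p : K) ^ e / π) (minpoly ℤ π) = 0 := by
  have hfe := weil_coeff_relation p e π hπ hweil
  set P := minpoly ℤ π with hP
  set n := P.natDegree with hn
  have hPm : P.Monic := minpoly.monic hπ
  have hq0 : ((p : ℤ) ^ e) ≠ 0 := pow_ne_zero _ (by exact_mod_cast (Fact.out : p.Prime).ne_zero)
  have hc0 : P.coeff 0 ≠ 0 := by
    intro h0
    have := hfe n le_rfl
    rw [h0, zero_mul, hPm.coeff_natDegree, one_mul] at this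
    exact pow_ne_zero _ hq0 this
  have hx : π ≠ 0 := by
    intro h0
    have h1 : aeval π P = 0 := minpoly.aeval ℤ π
    rw [h0, Polynomial.aeval_def, Polynomial.eval₂_at_zero] at h1
    have h2 : ((P.coeff 0 : ℤ) : K) = 0 := by simpa using h1
    exact hc0 (by exact_mod_cast h2)
  set x := π with hxdef
  set y := ((p : K) ^ e) / x with hy
  have hxy : x * y = (p : K) ^ e := by rw [hy]; field_simp
  have h1 : x ^ n * Polynomial.aeval y P = ((P.coeff 0 : ℤ) : K) * Polynomial.aeval x P := by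
    rw [Polynomial.aeval_eq_sum_range, Polynomial.aeval_eq_sum_range, ← hn, Finset.mul_sum,
      Finset.mul_sum]
    rw [← Finset.sum_range_reflect (fun k => ((P.coeff 0 : ℤ) : K) * (P.coeff k • x ^ k))]
    refine Finset.sum_congr rfl fun k hk => ?_
    have hk' : k ≤ n := by have := Finset.mem_range.mp hk; omega
    have h2 : n + 1 - 1 - k = n - k := by omega
    rw [h2]
    have h3 : x ^ n = x ^ (n - k) * x ^ k := by rw [← pow_add]; congr 1; omega
    have h4 := hfe k hk'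
    have h5 : ((P.coeff k : ℤ) : K) * ((p : K) ^ e) ^ k
        = ((P.coeff 0 : ℤ) : K) * ((P.coeff (n - k) : ℤ) : K) := by
      have := congrArg (fun n : ℤ => (n : K)) h4
      push_cast at this
      exact this
    rw [zsmul_eq_mul, zsmul_eq_mul, h3]
    calc x ^ (n - k) * x ^ k * ((P.coeff k : ℤ) * y ^ k)
        = x ^ (n - k) * (((P.coeff k : ℤ) : K) * (x * y) ^ k) := by rw [mul_pow]; ring
      _ = x ^ (n - k) * (((P.coeff 0 : ℤ) : K) * ((P.coeff (n - k) : ℤ) : K)) := by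
          rw [hxy, h5]
      _ = _ := by ring
  have h6 : Polynomial.aeval x P = 0 := minpoly.aeval ℤ π
  rw [h6, mul_zero] at h1
  rcases mul_eq_zero.mp h1 with h | h
  · exact absurd (eq_zero_of_pow_eq_zero h) hx
  · exact h

theorem weil_isIntegral_q_div (p e : ℕ) [Fact p.Prime] {K : Type*} [Field K] [CharZero K] (π : K)
    (hπ : IsIntegral ℤ π)
    (hweil : ∀ z ∈ (minpoly ℤ π).aroots ℂ, ‖z‖ = Real.sqrt ((p : ℝ) ^ e)) :
    IsIntegral ℤ ((p : K) ^ e / π) :=
  ⟨minpoly ℤ π, minpoly.monic hπ, weil_aeval_q_div p e π hπ hweil⟩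

end Groth.Agent.Lib.Helper99.PicOrd
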