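import Mathlib
import Groth.Agent.Lib.Helper99.PicOrdD

/-!
# The minimal central order of a finite family of Weil numbers: basic facts (helper99)
-/

open MvPolynomial

universe u

namespace Groth.Agent.Lib.Helper99.PicOrd

noncomputable section

set_option linter.unusedSectionVars false

variable (p e : ℕ) [Fact p.Prime]
    {ι : Type} [Fintype ι] (K : ι → Type u) [∀ i, Field (K i)] [∀ i, CharZero (K i)] (ϖ : ∀ i, K i)

/-- the map `ℤ[F,V] → ∏ K_i` -/
abbrev φ : MvPolynomial (Fin 2) ℤ →ₐ[ℤ] ((i : ι) → K i) :=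
  aeval ![fun i => ϖ i, fun i => ((p : K i) ^ e) / ϖ i]

/-- the order `R_w` -/
abbrev Ord : Type := MvPolynomial (Fin 2) ℤ ⧸ RingHom.ker (φ p e K ϖ)

/-- the `i`-th component map `R_w → K_i`. -/
def comp (i : ι) : Ord p e K ϖ →+* K i :=
  (Pi.evalRingHom K i).comp (Ideal.kerLiftAlg (φ p e K ϖ) : Ord p e K ϖ →+* ((i : ι) → K i))

lemma comp_mk (i : ι) (f : MvPolynomial (Fin 2) ℤ) :
    comp p e K ϖ i (Ideal.Quotient.mk _ f) = φ p e K ϖ f i := by
  show (Ideal.kerLiftAlg (φ p e K ϖ) (Ideal.Quotient.mk _ f)) i = φ p e K ϖ f i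
  rw [Ideal.kerLiftAlg_mk]

lemma eq_zero_of_comp (r : Ord p e K ϖ) (h : ∀ i, comp p e K ϖ i r = 0) : r = 0 := by
  apply Ideal.kerLiftAlg_injective (φ p e K ϖ)
  rw [map_zero]
  funext i
  exact h i

lemma φ_X0 : φ p e K ϖ (X 0) = fun i => ϖ i := by simp [φ]
lemma φ_X1 : φ p e K ϖ (X 1) = fun i => ((p : K i) ^ e) / ϖ i := by simp [φ]

lemma φ_aeval (u : Polynomial ℤ) (i : ι) :
    φ p e K ϖ (Polynomial.aeval (X 0 : MvPolynomial (Fin 2) ℤ) u) i = Polynomial.aeval (ϖ i) u := by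
  rw [← Polynomial.aeval_algHom_apply, φ_X0]
  have := Polynomial.aeval_algHom_apply (Pi.evalAlgHom ℤ K i) (fun i => ϖ i) u
  simpa using this.symm

lemma aeval_pi (u : Polynomial ℤ) (f : (i : ι) → K i) (i : ι) :
    Polynomial.aeval f u i = Polynomial.aeval (f i) u := by
  have := Polynomial.aeval_algHom_apply (Pi.evalAlgHom ℤ K i) f u
  simpa using this.symm

variable (hint : ∀ i, IsIntegral ℤ (ϖ i))
    (hweil : ∀ i, ∀ z ∈ (minpoly ℤ (ϖ i)).aroots ℂ, ‖z‖ = Real.sqrt ((p : ℝ) ^ e))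
    (hinj : ∀ i j, minpoly ℤ (ϖ i) = minpoly ℤ (ϖ j) → i = j)

include hint in
lemma isIntegral_X0 : IsIntegral ℤ (φ p e K ϖ (X 0)) := by
  refine ⟨∏ i, minpoly ℤ (ϖ i), Polynomial.monic_prod_of_monic _ _ fun i _ => minpoly.monic (hint i), ?_⟩
  show Polynomial.aeval (φ p e K ϖ (X 0)) (∏ i, minpoly ℤ (ϖ i)) = 0
  funext i
  rw [aeval_pi, φ_X0, map_prod]
  exact Finset.prod_eq_zero (Finset.mem_univ i) (minpoly.aeval ℤ (ϖ i))

include hint hweil in
lemma isIntegral_X1 : IsIntegral ℤ (φ p e K ϖ (X 1)) := by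
  refine ⟨∏ i, minpoly ℤ (ϖ i), Polynomial.monic_prod_of_monic _ _ fun i _ => minpoly.monic (hint i), ?_⟩
  show Polynomial.aeval (φ p e K ϖ (X 1)) (∏ i, minpoly ℤ (ϖ i)) = 0
  funext i
  rw [aeval_pi, φ_X1, map_prod]
  exact Finset.prod_eq_zero (Finset.mem_univ i) (weil_aeval_q_div p e (ϖ i) (hint i) (hweil i))

include hint hweil in
lemma isIntegral_ord : Algebra.IsIntegral ℤ (Ord p e K ϖ) := by
  constructor
  intro r
  obtain ⟨f, rfl⟩ := Ideal.Quotient.mk_surjective r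
  rw [← isIntegral_algHom_iff (Ideal.kerLiftAlg (φ p e K ϖ)) (Ideal.kerLiftAlg_injective _),
    Ideal.kerLiftAlg_mk]
  induction f using MvPolynomial.induction_on with
  | C a =>
    rw [MvPolynomial.algHom_C]
    exact isIntegral_algebraMap
  | add f g hf hg => rw [map_add]; exact hf.add hg
  | mul_X f i hf =>
    rw [map_mul]
    refine hf.mul ?_
    fin_cases i
    · exact isIntegral_X0 p e K ϖ hint
    · exact isIntegral_X1 p e K ϖ hint hweil

include hint hweil in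
lemma finite_ord : Module.Finite ℤ (Ord p e K ϖ) := by
  have := isIntegral_ord p e K ϖ hint hweil
  exact Algebra.IsIntegral.finite

lemma natCast_mem_nonZeroDivisors (n : ℕ) (hn : n ≠ 0) :
    (n : Ord p e K ϖ) ∈ nonZeroDivisors (Ord p e K ϖ) := by
  rw [mem_nonZeroDivisors_iff_right]
  intro r hr
  apply eq_zero_of_comp
  intro i
  have := congrArg (comp p e K ϖ i) hr
  rw [map_mul, map_natCast, map_zero] at this
  rcases mul_eq_zero.mp this with h | h
  · exact h
  · exact absurd h (by exact_mod_cast hn)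

/-- an element all of whose components are nonzero is a non-zero-divisor. -/
lemma mem_nonZeroDivisors_of_comp_ne_zero (r : Ord p e K ϖ) (h : ∀ i, comp p e K ϖ i r ≠ 0) :
    r ∈ nonZeroDivisors (Ord p e K ϖ) := by
  rw [mem_nonZeroDivisors_iff_right]
  intro s hs
  apply eq_zero_of_comp
  intro i
  have := congrArg (comp p e K ϖ i) hs
  rw [map_mul, map_zero] at this
  rcases mul_eq_zero.mp this with h' | h'
  · exact h'
  · exact absurd h' (h i)

include hint hinj in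
lemma aeval_minpoly_ne_zero (i j : ι) (hij : i ≠ j) :
    Polynomial.aeval (ϖ j) (minpoly ℤ (ϖ i)) ≠ 0 := by
  intro h0
  have hirr : ∀ i, Irreducible (minpoly ℤ (ϖ i)) := fun i => minpoly.irreducible (hint i)
  have hdiv : minpoly ℤ (ϖ j) ∣ minpoly ℤ (ϖ i) := minpoly.isIntegrallyClosed_dvd (hint j) h0
  have hass := (hirr j).associated_of_dvd (hirr i) hdiv
  exact hij (hinj i j (Polynomial.eq_of_monic_of_associated (minpoly.monic (hint j))
    (minpoly.monic (hint i)) hass).symm)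

/-- the element `∏_{i ∈ s} P_i(F)` of `R_w`. -/
def prodElt (s : Finset ι) : Ord p e K ϖ :=
  Ideal.Quotient.mk _ (Polynomial.aeval (X 0 : MvPolynomial (Fin 2) ℤ) (∏ i ∈ s, minpoly ℤ (ϖ i)))

lemma comp_prodElt (s : Finset ι) (j : ι) :
    comp p e K ϖ j (prodElt p e K ϖ s) = ∏ i ∈ s, Polynomial.aeval (ϖ j) (minpoly ℤ (ϖ i)) := by
  rw [prodElt, comp_mk, φ_aeval, map_prod]

lemma comp_prodElt_eq_zero (s : Finset ι) (j : ι) (hj : j ∈ s) :
    comp p e K ϖ j (prodElt p e K ϖ s) = 0 := by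
  rw [comp_prodElt]
  exact Finset.prod_eq_zero hj (minpoly.aeval ℤ (ϖ j))

include hint hinj in
lemma comp_prodElt_ne_zero (s : Finset ι) (j : ι) (hj : j ∉ s) :
    comp p e K ϖ j (prodElt p e K ϖ s) ≠ 0 := by
  rw [comp_prodElt]
  refine Finset.prod_ne_zero_iff.mpr fun i hi => ?_
  exact aeval_minpoly_ne_zero K ϖ hint hinj i j (fun h => hj (h ▸ hi))

include hint hinj in
/-- a non-zero-divisor of `R_w` has all components nonzero. -/
lemma comp_ne_zero_of_mem_nonZeroDivisors [DecidableEq ι] (r : Ord p e K ϖ)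
    (hr : r ∈ nonZeroDivisors (Ord p e K ϖ)) (j : ι) : comp p e K ϖ j r ≠ 0 := by
  intro h0
  set a := prodElt p e K ϖ (Finset.univ.erase j) with ha
  have h1 : a * r = 0 := by
    apply eq_zero_of_comp
    intro i
    rw [map_mul]
    by_cases hij : i = j
    · rw [hij, h0, mul_zero]
    · rw [comp_prodElt_eq_zero p e K ϖ _ i (Finset.mem_erase.mpr ⟨hij, Finset.mem_univ i⟩), zero_mul]
  have h2 : a = 0 := (mem_nonZeroDivisors_iff_right.mp hr) a h1
  have h3 := comp_prodElt_ne_zero p e K ϖ hint hinj (Finset.univ.erase j) j (by simp)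
  rw [← ha, h2, map_zero] at h3
  exact h3 rfl

end

end Groth.Agent.Lib.Helper99.PicOrd
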