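import Mathlib
import Groth.Agent.Lib.Helper99.PicOrdC
import Groth.Agent.Lib.Helper99.PicOrdE

/-!
# `Pic(R_w) → Pic(R_v)` is surjective for a subfamily of Weil numbers (helper99)
-/

open MvPolynomial CommRing

universe u

namespace Groth.Agent.Lib.Helper99.PicOrd

noncomputable section

set_option linter.unusedSectionVars false

variable (p e : ℕ) [Fact p.Prime]
    {J J' : Type} [Fintype J] [Fintype J'] (emb : J' → J)
    (K : J → Type u) [∀ j, Field (K j)] [∀ j, CharZero (K j)] (ϖ : ∀ j, K j)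

/-- compatibility of the two evaluation maps. -/
lemma φ_emb (f : MvPolynomial (Fin 2) ℤ) (j' : J') :
    φ p e (fun j' => K (emb j')) (fun j' => ϖ (emb j')) f j' = φ p e K ϖ f (emb j') := by
  have h : ((Pi.evalAlgHom ℤ (fun j' => K (emb j')) j').comp
        (φ p e (fun j' => K (emb j')) (fun j' => ϖ (emb j')))) =
      ((Pi.evalAlgHom ℤ K (emb j')).comp (φ p e K ϖ)) := by
    apply MvPolynomial.algHom_ext
    intro i
    fin_cases i <;> simp [φ]
  exact congrArg (fun g => g f) h

variable (hle : RingHom.ker (φ p e K ϖ) ≤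
    RingHom.ker (φ p e (fun j' => K (emb j')) (fun j' => ϖ (emb j'))))

lemma comp_factor (r : Ord p e K ϖ) (j' : J') :
    comp p e (fun j' => K (emb j')) (fun j' => ϖ (emb j')) j' (Ideal.Quotient.factor hle r) =
      comp p e K ϖ (emb j') r := by
  obtain ⟨f, rfl⟩ := Ideal.Quotient.mk_surjective r
  rw [Ideal.Quotient.factor_mk, comp_mk, comp_mk, φ_emb]

variable (hint : ∀ j, IsIntegral ℤ (ϖ j))
    (hweil : ∀ j, ∀ z ∈ (minpoly ℤ (ϖ j)).aroots ℂ, ‖z‖ = Real.sqrt ((p : ℝ) ^ e))
    (hinj : ∀ i j, minpoly ℤ (ϖ i) = minpoly ℤ (ϖ j) → i = j)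
    (hemb : Function.Injective emb)

include hint hinj hemb in
lemma exists_lift_nonZeroDivisor
    (h : Ord p e (fun j' => K (emb j')) (fun j' => ϖ (emb j')))
    (hh : h ∈ nonZeroDivisors (Ord p e (fun j' => K (emb j')) (fun j' => ϖ (emb j')))) :
    ∃ h' ∈ nonZeroDivisors (Ord p e K ϖ), Ideal.Quotient.factor hle h' = h := by
  classical
  have hcomp : ∀ j', comp p e (fun j' => K (emb j')) (fun j' => ϖ (emb j')) j' h ≠ 0 :=
    comp_ne_zero_of_mem_nonZeroDivisors p e (fun j' => K (emb j')) (fun j' => ϖ (emb j'))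
      (fun j' => hint (emb j')) (fun i j hij => hemb (hinj _ _ hij)) h hh
  obtain ⟨h₀, hh₀⟩ := Ideal.Quotient.factor_surjective hle h
  set s : Finset J := Finset.univ.image emb with hs
  set b := prodElt p e K ϖ s with hb
  have hb0 : Ideal.Quotient.factor hle b = 0 := by
    apply eq_zero_of_comp
    intro j'
    rw [comp_factor]
    exact comp_prodElt_eq_zero p e K ϖ s (emb j') (Finset.mem_image_of_mem emb (Finset.mem_univ j'))
  have hbne : ∀ j, j ∉ s → comp p e K ϖ j b ≠ 0 := fun j hj =>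
    comp_prodElt_ne_zero p e K ϖ hint hinj s j hj
  -- choose `k`
  have hfin : (⋃ j : {j : J // j ∉ s},
      {k : ℤ | comp p e K ϖ j.1 h₀ + (k : K j.1) * comp p e K ϖ j.1 b = 0}).Finite := by
    apply Set.finite_iUnion
    rintro ⟨j, hj⟩
    apply Set.Subsingleton.finite
    intro k hk k' hk'
    simp only [Set.mem_ofPred_eq] at hk hk'
    have h1 : ((k : K j) - (k' : K j)) * comp p e K ϖ j b = 0 := by
      linear_combination hk - hk'
    rcases mul_eq_zero.mp h1 with h2 | h2
    · have : (k : K j) = (k' : K j) := sub_eq_zero.mp h2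
      exact_mod_cast this
    · exact absurd h2 (hbne j hj)
  obtain ⟨k, hk⟩ := hfin.exists_notMem
  refine ⟨h₀ + (k : Ord p e K ϖ) * b, ?_, ?_⟩
  · apply mem_nonZeroDivisors_of_comp_ne_zero
    intro j
    rw [map_add, map_mul, map_intCast]
    by_cases hj : j ∈ s
    · obtain ⟨j', -, rfl⟩ := Finset.mem_image.mp hj
      rw [comp_prodElt_eq_zero p e K ϖ s (emb j') hj, mul_zero, add_zero, ← comp_factor p e emb K ϖ hle,
        hh₀]
      exact hcomp j'
    · intro h0
      exact hk (Set.mem_iUnion.mpr ⟨⟨j, hj⟩, h0⟩)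
  · rw [map_add, map_mul, hb0, mul_zero, add_zero, hh₀]

include hint hweil hinj hemb in
theorem pic_factor_surjective :
    Function.Surjective (Pic.mapRingHom (Ideal.Quotient.factor hle)) := by
  let _ : Algebra (Ord p e K ϖ) (Ord p e (fun j' => K (emb j')) (fun j' => ϖ (emb j'))) :=
    (Ideal.Quotient.factor hle).toAlgebra
  have hfin : Module.Finite ℤ (Ord p e K ϖ) := finite_ord p e K ϖ hint hweil
  show Function.Surjective (Pic.mapAlgebra (Ord p e K ϖ)
    (Ord p e (fun j' => K (emb j')) (fun j' => ϖ (emb j'))))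
  apply pic_mapAlgebra_surjective
  · exact Ideal.Quotient.factor_surjective hle
  · exact natCast_mem_nonZeroDivisors p e K ϖ
  · exact natCast_mem_nonZeroDivisors p e (fun j' => K (emb j')) (fun j' => ϖ (emb j'))
  · intro h hh
    exact exists_lift_nonZeroDivisor p e emb K ϖ hle hint hinj hemb h hh

end

end Groth.Agent.Lib.Helper99.PicOrd
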