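import Mathlib
import Groth.Agent.Lib.Helper99.SMTCoord

/-!
# The alternating extension of a Plücker vector, and the quadrics on decomposable vectors
-/

set_option autoImplicit false
universe u

namespace Groth.Agent.Lib.Helper99.PluQ
open W4bk4grassmannian MvPolynomial Groth.Agent.Lib.Helper99.SMT

variable {d n : ℕ}

/-- the sorted tuple only depends on the set of entries -/
lemma sortIdx_eq_of_image_eq (a b : Fin d → Fin n) (ha : (Finset.univ.image a).card = d)
    (hb : (Finset.univ.image b).card = d) (h : Finset.univ.image a = Finset.univ.image b) :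
    sortIdx d n a ha = sortIdx d n b hb := by
  apply Subtype.ext
  funext t
  unfold sortIdx
  simp only
  have key : ∀ (s s' : Finset (Fin n)) (hs : s.card = d) (hs' : s'.card = d), s = s' →
      s.orderEmbOfFin hs t = s'.orderEmbOfFin hs' t := by
    intro s s' hs hs' hss'
    subst hss'
    rfl
  exact key _ _ ha hb h

lemma image_comp_perm (a : Fin d → Fin n) (σ : Equiv.Perm (Fin d)) :
    Finset.univ.image (a ∘ σ) = Finset.univ.image a := by
  ext x
  simp only [Finset.mem_image, Finset.mem_univ, true_and, Function.comp_apply]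
  constructor
  · rintro ⟨t, rfl⟩
    exact ⟨σ t, rfl⟩
  · rintro ⟨t, rfl⟩
    exact ⟨σ.symm t, by simp⟩

lemma sortPerm_comp_perm (a : Fin d → Fin n) (σ : Equiv.Perm (Fin d)) (ha : (Finset.univ.image a).card = d)
    (hb : (Finset.univ.image (a ∘ σ)).card = d) :
    sortPerm (a ∘ σ) hb = sortPerm a ha * σ := by
  ext t
  rw [Equiv.Perm.mul_apply]
  congr 1
  have h1 := sortIdx_sortPerm (a ∘ σ) hb t
  have h2 := sortIdx_sortPerm a ha (σ t)
  rw [sortIdx_eq_of_image_eq (a ∘ σ) a hb ha (image_comp_perm a σ)] at h1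
  rw [Function.comp_apply, ← h2] at h1
  exact (sortIdx d n a ha).2.injective h1

variable (K : Type u) [CommRing K]

lemma coord_eq_sign (a : Fin d → Fin n) (h : (Finset.univ.image a).card = d) :
    coord K d n a = (((Equiv.Perm.sign (sortPerm a h) : ℤˣ) : ℤ) : PlRing K d n) * X (sortIdx d n a h) := by
  unfold coord
  rw [dif_pos h, sign_sortPerm]
  simp

/-- signed coordinates are alternating -/
theorem coord_comp_perm (a : Fin d → Fin n) (σ : Equiv.Perm (Fin d)) :
    coord K d n (a ∘ σ) = (((Equiv.Perm.sign σ : ℤˣ) : ℤ) : PlRing K d n) * coord K d n a := by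
  by_cases h : (Finset.univ.image a).card = d
  · have h' : (Finset.univ.image (a ∘ σ)).card = d := by rw [image_comp_perm]; exact h
    rw [coord_eq_sign K (a ∘ σ) h', coord_eq_sign K a h, sortPerm_comp_perm a σ h h',
      sortIdx_eq_of_image_eq (a ∘ σ) a h' h (image_comp_perm a σ), Equiv.Perm.sign_mul, Units.val_mul,
      Int.cast_mul]
    ring
  · have h' : ¬ (Finset.univ.image (a ∘ σ)).card = d := by rw [image_comp_perm]; exact h
    unfold coord
    rw [dif_neg h, dif_neg h', mul_zero]

lemma coord_eq_zero_of_not_injective (a : Fin d → Fin n) (h : ¬ Function.Injective a) :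
    coord K d n a = 0 := by
  unfold coord
  rw [dif_neg]
  intro hc
  exact h (injective_of_card_image hc)

/-- the alternating extension of a Plücker vector -/
noncomputable def Qf (q : Idx d n → K) (a : Fin d → Fin n) : K := MvPolynomial.eval q (coord K d n a)

lemma Qf_idx (q : Idx d n → K) (θ : Idx d n) : Qf K q θ.1 = q θ := by
  unfold Qf
  rw [coord_of_strictMono, eval_X]

lemma Qf_of_strictMono (q : Idx d n → K) (a : Fin d → Fin n) (ha : StrictMono a) : Qf K q a = q ⟨a, ha⟩ :=
  Qf_idx K q ⟨a, ha⟩

lemma Qf_eq_zero (q : Idx d n → K) (a : Fin d → Fin n) (h : ¬ Function.Injective a) : Qf K q a = 0 := by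
  unfold Qf
  rw [coord_eq_zero_of_not_injective K a h, map_zero]

lemma Qf_comp_perm (q : Idx d n → K) (a : Fin d → Fin n) (σ : Equiv.Perm (Fin d)) :
    Qf K q (a ∘ σ) = (((Equiv.Perm.sign σ : ℤˣ) : ℤ) : K) * Qf K q a := by
  unfold Qf
  rw [coord_comp_perm, map_mul, map_intCast]

/-- for the minors of a matrix the alternating extension is the determinant on arbitrary rows -/
lemma Qf_minors (A : Matrix (Fin n) (Fin d) K) (q : Idx d n → K) (hq : ∀ θ : Idx d n, q θ = (A.submatrix θ.1 id).det)
    (a : Fin d → Fin n) : Qf K q a = (A.submatrix a id).det := by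
  rw [← evalMinors_coord]
  unfold Qf evalMinors
  have : q = fun θ : Idx d n => (A.submatrix θ.1 id).det := funext hq
  rw [this]
  rfl

/-- the value of a quadric in terms of the alternating extension -/
lemma eval_quadric {e : ℕ} (q : Idx (e + 1) n → K) (i' : Idx e n) (j' : Idx (e + 2) n) :
    MvPolynomial.eval q (quadric K i' j') =
      ∑ h : Fin (e + 2), (-1 : K) ^ (h.val + 1) * Qf K q (Fin.snoc i'.1 (j'.1 h)) * Qf K q (j'.1 ∘ h.succAbove) := by
  unfold quadric Qf
  rw [map_sum]
  apply Finset.sum_congr rfl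
  intro h _
  rw [map_mul, map_mul, map_pow, map_neg, map_one]

end Groth.Agent.Lib.Helper99.PluQ
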