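import Mathlib
import Groth.Agent.Lib.Helper99.PluQA

/-!
# The Plücker quadrics vanish on the minors of a matrix
-/

set_option autoImplicit false
universe u

namespace Groth.Agent.Lib.Helper99.PluQ
open W4bk4grassmannian MvPolynomial Groth.Agent.Lib.Helper99.SMT

variable {n : ℕ} (K : Type u) [Field K]

/-- expansion of a minor along its last row -/
lemma det_snoc {e : ℕ} (A : Matrix (Fin n) (Fin (e + 1)) K) (i' : Fin e → Fin n) (x : Fin n) :
    (A.submatrix (Fin.snoc i' x : Fin (e + 1) → Fin n) id).det =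
      ∑ c : Fin (e + 1), A x c * ((-1 : K) ^ (e + c.val) * (A.submatrix i' c.succAbove).det) := by
  rw [Matrix.det_succ_row _ (Fin.last e)]
  apply Finset.sum_congr rfl
  intro c _
  have h1 : (A.submatrix (Fin.snoc i' x : Fin (e + 1) → Fin n) id) (Fin.last e) c = A x c := by
    simp [Matrix.submatrix_apply]
  have h2 : (A.submatrix (Fin.snoc i' x : Fin (e + 1) → Fin n) id).submatrix (Fin.last e).succAbove c.succAbove =
      A.submatrix i' c.succAbove := by
    ext s t
    simp [Matrix.submatrix_apply, Fin.succAbove_last]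
  rw [h1, h2, Fin.val_last]
  ring

/-- the quadrics vanish on decomposable vectors -/
theorem quadric_vanish {e : ℕ} (A : Matrix (Fin n) (Fin (e + 1)) K) (q : Idx (e + 1) n → K)
    (hq : ∀ θ : Idx (e + 1) n, q θ = (A.submatrix θ.1 id).det) (i' : Idx e n) (j' : Idx (e + 2) n) :
    MvPolynomial.eval q (quadric K i' j') = 0 := by
  classical
  rw [eval_quadric]
  simp_rw [Qf_minors K A q hq]
  set ℓ : Fin (e + 1) → K := fun c => (-1 : K) ^ (e + c.val) * (A.submatrix i'.1 c.succAbove).det with hℓ
  set N : Matrix (Fin (e + 2)) (Fin (e + 2)) K := Matrix.of fun h s =>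
    (Fin.cons ((A.submatrix (Fin.snoc i'.1 (j'.1 h) : Fin (e + 1) → Fin n) id).det) (fun c => A (j'.1 h) c) :
      Fin (e + 2) → K) s with hN
  have hdet0 : N.det = 0 := by
    rw [← Matrix.exists_mulVec_eq_zero_iff]
    refine ⟨Fin.cons (-1) ℓ, ?_, ?_⟩
    · intro h0
      have := congrFun h0 0
      simp at this
    · funext h
      rw [Matrix.mulVec, dotProduct, Fin.sum_univ_succ]
      simp only [hN, Matrix.of_apply, Fin.cons_zero, Fin.cons_succ, Pi.zero_apply]
      rw [det_snoc K A i'.1 (j'.1 h)]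
      ring
  have hexp := Matrix.det_succ_column_zero N
  rw [hdet0] at hexp
  have hsub : ∀ h : Fin (e + 2), N.submatrix h.succAbove Fin.succ = A.submatrix (j'.1 ∘ h.succAbove) id := by
    intro h
    ext s t
    simp [hN, Matrix.submatrix_apply]
  have hN0 : ∀ h : Fin (e + 2), N h 0 = (A.submatrix (Fin.snoc i'.1 (j'.1 h) : Fin (e + 1) → Fin n) id).det := by
    intro h
    simp [hN]
  have : ∑ h : Fin (e + 2), (-1 : K) ^ (h.val + 1) *
      (A.submatrix (Fin.snoc i'.1 (j'.1 h) : Fin (e + 1) → Fin n) id).det * (A.submatrix (j'.1 ∘ h.succAbove) id).det =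
      - ∑ h : Fin (e + 2), (-1 : K) ^ (h : ℕ) * N h 0 * (N.submatrix h.succAbove Fin.succ).det := by
    rw [← Finset.sum_neg_distrib]
    apply Finset.sum_congr rfl
    intro h _
    rw [hsub, hN0, pow_succ]
    ring
  rw [this, ← hexp, neg_zero]

end Groth.Agent.Lib.Helper99.PluQ
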