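import Mathlib
import Groth.Agent.Lib.Helper99.PluQB

/-!
# A nonzero vector satisfying the Plücker quadrics is the vector of minors of a matrix
-/

set_option autoImplicit false
universe u

namespace Groth.Agent.Lib.Helper99.PluQ
open W4bk4grassmannian MvPolynomial Groth.Agent.Lib.Helper99.SMT

variable {n : ℕ} (K : Type u) [Field K]

lemma intCast_units_mul_self' (R : Type*) [CommRing R] (e : ℤˣ) : ((e : ℤ) : R) * ((e : ℤ) : R) = 1 := by
  rw [← Int.cast_mul, ← Units.val_mul, Int.units_mul_self, Units.val_one, Int.cast_one]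

/-- increasing tuples are determined by their sets of entries -/
lemma idx_eq_of_image_eq {d : ℕ} (θ θ' : Idx d n) (h : Finset.univ.image θ.1 = Finset.univ.image θ'.1) :
    θ = θ' := by
  rw [← sortIdx_of_strictMono θ (card_image_of_strictMono θ), ← sortIdx_of_strictMono θ' (card_image_of_strictMono θ')]
  exact sortIdx_eq_of_image_eq _ _ _ _ h

/-- the permutation moving position `c` to the end -/
def endPerm {e : ℕ} (c : Fin (e + 1)) : Equiv.Perm (Fin (e + 1)) :=
  finSuccEquivLast.trans (finSuccEquiv' c).symm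

lemma endPerm_castSucc {e : ℕ} (c : Fin (e + 1)) (t : Fin e) : endPerm c t.castSucc = c.succAbove t := by
  unfold endPerm
  simp

lemma endPerm_last {e : ℕ} (c : Fin (e + 1)) : endPerm c (Fin.last e) = c := by
  unfold endPerm
  simp

lemma snoc_eq_update_comp {e : ℕ} (θ0 : Fin (e + 1) → Fin n) (c : Fin (e + 1)) (x : Fin n) :
    (Fin.snoc (θ0 ∘ c.succAbove) x : Fin (e + 1) → Fin n) = Function.update θ0 c x ∘ endPerm c := by
  funext t
  refine Fin.lastCases ?_ (fun s => ?_) t
  · rw [Fin.snoc_last, Function.comp_apply, endPerm_last, Function.update_self]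
  · rw [Fin.snoc_castSucc, Function.comp_apply, Function.comp_apply, endPerm_castSucc,
      Function.update_of_ne (Fin.succAbove_ne c s)]

variable {e : ℕ} (q : Idx (e + 1) n → K) (θ0 : Idx (e + 1) n)

/-- the candidate matrix, normalised to be the identity on the rows `θ0` -/
noncomputable def Bmat : Matrix (Fin n) (Fin (e + 1)) K :=
  Matrix.of fun i c => Qf K q (Function.update θ0.1 c i) / q θ0

lemma Bmat_row (hθ0 : q θ0 ≠ 0) (b c : Fin (e + 1)) :
    Bmat K q θ0 (θ0.1 b) c = if b = c then 1 else 0 := by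
  unfold Bmat
  rw [Matrix.of_apply]
  split_ifs with hbc
  · subst hbc
    rw [Function.update_eq_self, Qf_idx, div_self hθ0]
  · rw [Qf_eq_zero, zero_div]
    intro hinj
    apply hbc
    apply hinj
    rw [Function.update_self, Function.update_of_ne hbc]

lemma Bmat_submatrix_self (hθ0 : q θ0 ≠ 0) : (Bmat K q θ0).submatrix θ0.1 id = 1 := by
  ext b c
  rw [Matrix.submatrix_apply, id, Bmat_row K q θ0 hθ0, Matrix.one_apply]

lemma Qf_update (hθ0 : q θ0 ≠ 0) (c : Fin (e + 1)) (x : Fin n) :
    Qf K q (Function.update θ0.1 c x) = q θ0 * Bmat K q θ0 x c := by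
  unfold Bmat
  rw [Matrix.of_apply, mul_div_cancel₀ _ hθ0]

lemma image_comp_succAbove {d : ℕ} (j : Fin (d + 1) → Fin n) (hj : Function.Injective j) (h : Fin (d + 1)) :
    Finset.univ.image (j ∘ h.succAbove) = (Finset.univ.image j).erase (j h) := by
  classical
  rw [← Finset.image_image, Fin.image_succAbove_univ, Finset.compl_singleton, Finset.image_erase hj]

/-- the main induction: all minors of the candidate matrix are the given coordinates, up to the normalisation -/
theorem det_Bmat (hθ0 : q θ0 ≠ 0)
    (hquad : ∀ (i' : Idx e n) (j' : Idx (e + 2) n), MvPolynomial.eval q (quadric K i' j') = 0) :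
    ∀ (k : ℕ) (θ : Idx (e + 1) n), (Finset.univ.image θ.1 \ Finset.univ.image θ0.1).card = k →
      ((Bmat K q θ0).submatrix θ.1 id).det = q θ / q θ0 := by
  classical
  intro k
  induction k using Nat.strong_induction_on with
  | _ k ih =>
  intro θ hk
  set S0 := Finset.univ.image θ0.1 with hS0
  set Sθ := Finset.univ.image θ.1 with hSθ
  have hcard0 : S0.card = e + 1 := card_image_of_strictMono θ0
  have hcardθ : Sθ.card = e + 1 := card_image_of_strictMono θ
  by_cases heq : Sθ = S0
  · have : θ = θ0 := idx_eq_of_image_eq θ θ0 heq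
    rw [this, Bmat_submatrix_self K q θ0 hθ0, Matrix.det_one, div_self hθ0]
  · -- a row of `θ0` missing from `θ`
    have hex : ∃ c : Fin (e + 1), θ0.1 c ∉ Sθ := by
      by_contra hcon
      push Not at hcon
      apply heq
      symm
      apply Finset.eq_of_subset_of_card_le
      · intro x hx
        obtain ⟨c, -, rfl⟩ := Finset.mem_image.1 hx
        exact hcon c
      · rw [hcard0, hcardθ]
    obtain ⟨c, hc⟩ := hex
    set x0 := θ0.1 c with hx0
    have hx0S0 : x0 ∈ S0 := Finset.mem_image_of_mem _ (Finset.mem_univ c)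
    set T := insert x0 Sθ with hT
    have hTcard : T.card = e + 2 := by
      rw [hT, Finset.card_insert_of_notMem hc, hcardθ]
    set j' : Idx (e + 2) n := ⟨fun t => T.orderEmbOfFin hTcard t, (T.orderEmbOfFin hTcard).strictMono⟩ with hj'
    have hj'inj : Function.Injective j'.1 := j'.2.injective
    have hj'img : Finset.univ.image j'.1 = T := Finset.image_orderEmbOfFin_univ T hTcard
    have hj'mem : ∀ h, j'.1 h ∈ T := fun h => by
      rw [← hj'img]; exact Finset.mem_image_of_mem _ (Finset.mem_univ h)
    obtain ⟨p, hp⟩ : ∃ p : Fin (e + 2), j'.1 p = x0 := by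
      have : x0 ∈ Finset.univ.image j'.1 := by rw [hj'img]; exact Finset.mem_insert_self _ _
      obtain ⟨p, -, hp⟩ := Finset.mem_image.1 this
      exact ⟨p, hp⟩
    set θh : Fin (e + 2) → Idx (e + 1) n := fun h =>
      ⟨j'.1 ∘ h.succAbove, j'.2.comp (Fin.strictMono_succAbove h)⟩ with hθh
    have himg : ∀ h, Finset.univ.image (θh h).1 = T.erase (j'.1 h) := by
      intro h
      rw [← hj'img]
      exact image_comp_succAbove j'.1 hj'inj h
    have hθp : θh p = θ := by
      apply idx_eq_of_image_eq
      rw [himg p, hp, hT, Finset.erase_insert hc]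
    -- the first identity: a determinant with two equal columns
    set B := Bmat K q θ0 with hB
    have hS1 : ∑ h : Fin (e + 2), (-1 : K) ^ (h : ℕ) * B (j'.1 h) c * (B.submatrix (θh h).1 id).det = 0 := by
      set N : Matrix (Fin (e + 2)) (Fin (e + 2)) K := Matrix.of fun h s =>
        (Fin.cons (B (j'.1 h) c) (fun s' => B (j'.1 h) s') : Fin (e + 2) → K) s with hN
      have hdet0 : N.det = 0 := by
        apply Matrix.det_zero_of_column_eq (Fin.succ_ne_zero c).symm
        intro h
        simp [hN]
      have hexp := Matrix.det_succ_column_zero N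
      rw [hdet0] at hexp
      rw [hexp]
      apply Finset.sum_congr rfl
      intro h _
      have h1 : N h 0 = B (j'.1 h) c := by simp [hN]
      have h2 : N.submatrix h.succAbove Fin.succ = B.submatrix (θh h).1 id := by
        ext s t
        simp [hN, hθh, Matrix.submatrix_apply]
      rw [h1, h2]
    -- the second identity: the quadric
    set i' : Idx e n := ⟨θ0.1 ∘ c.succAbove, θ0.2.comp (Fin.strictMono_succAbove c)⟩ with hi'
    set sc : K := (((Equiv.Perm.sign (endPerm c) : ℤˣ) : ℤ) : K) with hsc
    have hsc2 : sc * sc = 1 := intCast_units_mul_self' K _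
    have hS2 : ∑ h : Fin (e + 2), (-1 : K) ^ (h : ℕ) * B (j'.1 h) c * q (θh h) = 0 := by
      have h1 := hquad i' j'
      rw [eval_quadric] at h1
      have h2 : ∀ h : Fin (e + 2), (-1 : K) ^ (h.val + 1) * Qf K q (Fin.snoc i'.1 (j'.1 h)) * Qf K q (j'.1 ∘ h.succAbove) =
          (- sc * q θ0) * ((-1 : K) ^ (h : ℕ) * B (j'.1 h) c * q (θh h)) := by
        intro h
        have h3 : (Fin.snoc i'.1 (j'.1 h) : Fin (e + 1) → Fin n) = Function.update θ0.1 c (j'.1 h) ∘ endPerm c :=
          snoc_eq_update_comp θ0.1 c (j'.1 h)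
        rw [h3, Qf_comp_perm, Qf_update K q θ0 hθ0, Qf_of_strictMono K q _ (θh h).2, pow_succ]
        ring
      rw [Finset.sum_congr rfl (fun h _ => h2 h), ← Finset.mul_sum] at h1
      have hne : - sc * q θ0 ≠ 0 := by
        apply mul_ne_zero _ hθ0
        rw [neg_ne_zero]
        intro h0
        rw [h0, zero_mul] at hsc2
        exact zero_ne_one hsc2
      exact (mul_eq_zero.1 h1).resolve_left hne
    -- combine
    have hS3 : ∑ h : Fin (e + 2), (-1 : K) ^ (h : ℕ) * B (j'.1 h) c *
        ((B.submatrix (θh h).1 id).det - q (θh h) / q θ0) = 0 := by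
      have : ∀ h : Fin (e + 2), (-1 : K) ^ (h : ℕ) * B (j'.1 h) c * ((B.submatrix (θh h).1 id).det - q (θh h) / q θ0) =
          (-1 : K) ^ (h : ℕ) * B (j'.1 h) c * (B.submatrix (θh h).1 id).det -
            ((-1 : K) ^ (h : ℕ) * B (j'.1 h) c * q (θh h)) / q θ0 := by
        intro h; ring
      rw [Finset.sum_congr rfl (fun h _ => this h), Finset.sum_sub_distrib, ← Finset.sum_div, hS1, hS2, zero_div,
        sub_zero]
    have hterm : ∀ h : Fin (e + 2), h ≠ p → (-1 : K) ^ (h : ℕ) * B (j'.1 h) c *
        ((B.submatrix (θh h).1 id).det - q (θh h) / q θ0) = 0 := by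
      intro h hhp
      have hne : j'.1 h ≠ x0 := fun hc' => hhp (hj'inj (hc'.trans hp.symm))
      by_cases hin : j'.1 h ∈ S0
      · obtain ⟨b, -, hb⟩ := Finset.mem_image.1 hin
        have hbc : b ≠ c := by
          rintro rfl
          exact hne hb.symm
        rw [← hb, hB, Bmat_row K q θ0 hθ0, if_neg hbc, mul_zero, zero_mul]
      · have hjS : j'.1 h ∈ Sθ := by
          have := hj'mem h
          rw [hT, Finset.mem_insert] at this
          exact this.resolve_left hne
        have hlt : (Finset.univ.image (θh h).1 \ S0).card < k := by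
          rw [himg h, ← hk]
          have hsub : T.erase (j'.1 h) \ S0 = (Sθ \ S0).erase (j'.1 h) := by
            ext y
            simp only [Finset.mem_sdiff, Finset.mem_erase, hT, Finset.mem_insert]
            constructor
            · rintro ⟨⟨hy1, hy2⟩, hy3⟩
              rcases hy2 with rfl | hy2
              · exact absurd hx0S0 hy3
              · exact ⟨hy1, hy2, hy3⟩
            · rintro ⟨hy1, hy2, hy3⟩
              exact ⟨⟨hy1, Or.inr hy2⟩, hy3⟩
          rw [hsub]
          apply Finset.card_erase_lt_of_mem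
          rw [Finset.mem_sdiff]
          exact ⟨hjS, hin⟩
        rw [ih _ hlt (θh h) rfl, sub_self, mul_zero]
    rw [Finset.sum_eq_single p (fun h _ hhp => hterm h hhp) (fun h => absurd (Finset.mem_univ p) h)] at hS3
    rw [hp, hθp, hx0, hB, Bmat_row K q θ0 hθ0, if_pos rfl, mul_one] at hS3
    have hpow : (-1 : K) ^ (p : ℕ) ≠ 0 := pow_ne_zero _ (neg_ne_zero.2 one_ne_zero)
    have := (mul_eq_zero.1 hS3).resolve_left hpow
    exact sub_eq_zero.1 this

/-- A nonzero vector on which all Plücker quadrics vanish is the vector of minors of a matrix. -/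
theorem exists_matrix (hq : q ≠ 0)
    (hquad : ∀ (i' : Idx e n) (j' : Idx (e + 2) n), MvPolynomial.eval q (quadric K i' j') = 0) :
    ∃ A : Matrix (Fin n) (Fin (e + 1)) K, ∀ θ : Idx (e + 1) n, q θ = (A.submatrix θ.1 id).det := by
  classical
  obtain ⟨θ0, hθ0⟩ : ∃ θ0, q θ0 ≠ 0 := by
    by_contra hcon
    push Not at hcon
    exact hq (funext hcon)
  set D : Matrix (Fin (e + 1)) (Fin (e + 1)) K := Matrix.diagonal (fun c => if c = 0 then q θ0 else 1) with hD
  have hDdet : D.det = q θ0 := by
    rw [hD, Matrix.det_diagonal, Fin.prod_univ_succ]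
    simp
  refine ⟨Bmat K q θ0 * D, fun θ => ?_⟩
  have h1 : (Bmat K q θ0 * D).submatrix θ.1 id = (Bmat K q θ0).submatrix θ.1 id * D := by
    ext s t
    simp [Matrix.submatrix_apply, Matrix.mul_apply]
  rw [h1, Matrix.det_mul, hDdet, det_Bmat K q θ0 hθ0 hquad _ θ rfl, div_mul_cancel₀ _ hθ0]

end Groth.Agent.Lib.Helper99.PluQ
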