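import Groth.Agent.S9272
import Groth.Agent.Lib.Helper43.SeqFlatBC

/-!
# Quasi-regular sequences modulo a nil ideal: the fibre ring, part A

If the images of `f'` in `B'/IB'` are quasi-regular with quotient flat over `A'/I`, then for every
`A'`-algebra `K` killed by `I` the elements `f' i ⊗ 1` of `B' ⊗[A'] K` are quasi-regular.
-/

open TensorProduct

namespace Groth.Agent.Lib.Helper99.QRegFlat

universe u
variable {A' B' : Type u} [CommRing A'] [CommRing B'] [Algebra A' B']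

theorem quasiRegular_tensor (I : Ideal A') (K : Type u) [CommRing K] [Algebra A' K]
    (hIK : ∀ a ∈ I, algebraMap A' K a = 0) {r : ℕ} (f' : Fin r → B')
    (hq : CAlgX.IsQuasiRegular
      (fun i => Ideal.Quotient.mk (Ideal.map (algebraMap A' B') I) (f' i)))
    (hflat : Module.Flat (A' ⧸ I)
      ((B' ⧸ Ideal.map (algebraMap A' B') I) ⧸
        Ideal.span (Set.range (fun i => Ideal.Quotient.mk (Ideal.map (algebraMap A' B') I) (f' i))))) :
    CAlgX.IsQuasiRegular (fun i => (f' i) ⊗ₜ[A'] (1 : K) : Fin r → B' ⊗[A'] K) := by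
  letI : Algebra (A' ⧸ I) K := (Ideal.Quotient.lift I (algebraMap A' K) hIK).toAlgebra
  haveI : IsScalarTower A' (A' ⧸ I) K := IsScalarTower.of_algebraMap_eq (fun a => rfl)
  have h1 := Groth.Agent.S9272.result (A' ⧸ I) (B' ⧸ Ideal.map (algebraMap A' B') I) K r _ hflat hq
  let e₁ := Algebra.TensorProduct.quotIdealMapEquivQuotTensor B' I
  let e₂ : K ⊗[A' ⧸ I] (B' ⧸ Ideal.map (algebraMap A' B') I) ≃ₐ[A' ⧸ I]
      K ⊗[A' ⧸ I] ((A' ⧸ I) ⊗[A'] B') :=
    Algebra.TensorProduct.congr AlgEquiv.refl e₁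
  let e₃ := Algebra.TensorProduct.cancelBaseChange A' (A' ⧸ I) (A' ⧸ I) K B'
  let e₄ := Algebra.TensorProduct.comm A' K B'
  let Ψ : K ⊗[A' ⧸ I] (B' ⧸ Ideal.map (algebraMap A' B') I) ≃+* B' ⊗[A'] K :=
    (e₂.toRingEquiv.trans e₃.toRingEquiv).trans e₄.toRingEquiv
  have hΨ : ∀ i, Ψ ((1 : K) ⊗ₜ Ideal.Quotient.mk (Ideal.map (algebraMap A' B') I) (f' i)) =
      f' i ⊗ₜ 1 := by
    intro i
    simp [Ψ, e₁, e₂, e₃, e₄]
  have h2 := Groth.Agent.Lib.Helper43.SeqFlatBC.quasiRegular_of_flat Ψ.toRingHom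
    (RingHom.Flat.of_bijective Ψ.bijective) _ h1
  convert h2 using 1
  funext i
  exact (hΨ i).symm

end Groth.Agent.Lib.Helper99.QRegFlat
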