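import Groth.Agent.Lib.Helper99.QRegFlatB
import Groth.Agent.S2586
import Groth.Agent.S5071

/-!
# Flatness of the quotient by a lift of a quasi-regular sequence, part C
-/

open TensorProduct

namespace Groth.Agent.Lib.Helper99.QRegFlat

universe u
variable {A' B' : Type u} [CommRing A'] [CommRing B'] [Algebra A' B']
variable (q : Ideal B') [q.IsPrime]

/-- regularity on the localized fibre module -/
theorem isRegular_fibre [Algebra.FiniteType A' B'] (I : Ideal A')
    (hI : I ≤ q.comap (algebraMap A' B')) {r : ℕ} (f' : Fin r → B') (hf' : ∀ i, f' i ∈ q)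
    (hq : CAlgX.IsQuasiRegular
      (fun i => Ideal.Quotient.mk (Ideal.map (algebraMap A' B') I) (f' i)))
    (hflat : Module.Flat (A' ⧸ I)
      ((B' ⧸ Ideal.map (algebraMap A' B') I) ⧸
        Ideal.span (Set.range (fun i => Ideal.Quotient.mk (Ideal.map (algebraMap A' B') I) (f' i))))) :
    RingTheory.Sequence.IsRegular
      (LocalizedModule q.primeCompl (B' ⊗[A'] (q.comap (algebraMap A' B')).ResidueField))
      (List.ofFn f') := by
  have h := isRegular_Tq q I hI f' hf' hq hflat
  let e : LocalizedModule q.primeCompl (T (A' := A') q) ≃ₗ[B'] Tq (A' := A') q :=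
    IsLocalizedModule.iso q.primeCompl
      (IsScalarTower.toAlgHom B' (T (A' := A') q) (Tq (A' := A') q)).toLinearMap
  have hbs : (List.ofFn fun i => algebraMap (T (A' := A') q) (Tq (A' := A') q) (f' i ⊗ₜ 1)) =
      (List.ofFn f').map (algebraMap B' (Tq (A' := A') q)) := by
    rw [List.map_ofFn]
    congr 1
  rw [hbs] at h
  refine (e.toAddEquiv.isRegular_congr ?_).mpr h
  refine List.forall₂_map_right_iff.mpr (List.forall₂_same.mpr fun b _ x => ?_)
  change e (b • x) = algebraMap B' (Tq (A' := A') q) b • e x
  rw [e.map_smul, algebraMap_smul]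

/-- flatness of the quotient at a prime -/
theorem flat_localized [Module.Flat A' B'] [Algebra.FinitePresentation A' B'] (I : Ideal A')
    (hI : ∀ x ∈ I, IsNilpotent x) {r : ℕ} (f' : Fin r → B')
    (hq : CAlgX.IsQuasiRegular
      (fun i => Ideal.Quotient.mk (Ideal.map (algebraMap A' B') I) (f' i)))
    (hflat : Module.Flat (A' ⧸ I)
      ((B' ⧸ Ideal.map (algebraMap A' B') I) ⧸
        Ideal.span (Set.range (fun i => Ideal.Quotient.mk (Ideal.map (algebraMap A' B') I) (f' i))))) :
    Module.Flat A' (LocalizedModule q.primeCompl (B' ⧸ Ideal.span (Set.range f'))) := by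
  by_cases hfq : ∀ i, f' i ∈ q
  · have hI' : I ≤ q.comap (algebraMap A' B') := by
      intro a ha
      obtain ⟨n, hn⟩ := hI a ha
      have : a ^ n ∈ q.comap (algebraMap A' B') := by rw [hn]; exact Ideal.zero_mem _
      exact Ideal.IsPrime.mem_of_pow_mem inferInstance n this
    have : Algebra.FiniteType A' B' := inferInstance
    have hreg := isRegular_fibre q I hI' f' hfq hq hflat
    have hfl : Module.Flat A' (LocalizedModule q.primeCompl B') :=
      Groth.Agent.S5071.flat_localizedModule B' q.primeCompl
    have h2 := (Groth.Agent.S2586.result B' q (List.ofFn f')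
      (fun b hb => by
        obtain ⟨i, rfl⟩ := (List.mem_ofFn' _ _).mp hb
        exact hfq i) hfl hreg).2 (List.ofFn f').length le_rfl
    rw [List.take_length] at h2
    have heq : Ideal.span {b | b ∈ List.ofFn f'} • (⊤ : Submodule B' B') =
        Ideal.span (Set.range f') := by
      rw [smul_eq_mul, Ideal.mul_top]
      congr 1
      ext b
      simp [List.mem_ofFn']
    exact Groth.Agent.Lib.Helper55.FL.flat_localized_of_equiv
      (Submodule.quotEquivOfEq _ _ heq) q.primeCompl h2
  · push Not at hfq
    obtain ⟨i, hi⟩ := hfq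
    have : Subsingleton (LocalizedModule q.primeCompl (B' ⧸ Ideal.span (Set.range f'))) := by
      rw [LocalizedModule.subsingleton_iff]
      intro m
      refine ⟨f' i, hi, ?_⟩
      obtain ⟨b, rfl⟩ := Ideal.Quotient.mk_surjective m
      rw [Algebra.smul_def, Ideal.Quotient.algebraMap_eq, ← map_mul,
        Ideal.Quotient.eq_zero_iff_mem]
      exact Ideal.mul_mem_right _ _ (Ideal.subset_span ⟨i, rfl⟩)
    have := Module.Free.of_subsingleton A'
      (LocalizedModule q.primeCompl (B' ⧸ Ideal.span (Set.range f')))
    infer_instance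

/-- Stacks-type lemma: the quotient by a lift of a quasi-regular sequence modulo a nil ideal is
flat. -/
theorem flat_quotient [Module.Flat A' B'] [Algebra.FinitePresentation A' B'] (I : Ideal A')
    (hI : ∀ x ∈ I, IsNilpotent x) {r : ℕ} (f' : Fin r → B')
    (hq : CAlgX.IsQuasiRegular
      (fun i => Ideal.Quotient.mk (Ideal.map (algebraMap A' B') I) (f' i)))
    (hflat : Module.Flat (A' ⧸ I)
      ((B' ⧸ Ideal.map (algebraMap A' B') I) ⧸
        Ideal.span (Set.range (fun i => Ideal.Quotient.mk (Ideal.map (algebraMap A' B') I) (f' i))))) :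
    Module.Flat A' (B' ⧸ Ideal.span (Set.range f')) := by
  refine Module.flat_of_isLocalized_maximal B' (B' ⧸ Ideal.span (Set.range f'))
    (fun P _ => LocalizedModule P.primeCompl (B' ⧸ Ideal.span (Set.range f')))
    (fun P _ => LocalizedModule.mkLinearMap P.primeCompl (B' ⧸ Ideal.span (Set.range f')))
    (fun P hP => ?_)
  have := hP.isPrime
  exact flat_localized P I hI f' hq hflat

end Groth.Agent.Lib.Helper99.QRegFlat
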