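import Groth.Agent.Lib.Helper99.QRegFlatC

/-!
# Smoothness of the quotient by a lift of a quasi-regular sequence, part D
-/

open TensorProduct

namespace Groth.Agent.Lib.Helper99.QRegFlat

universe u
variable {A' B' : Type u} [CommRing A'] [CommRing B'] [Algebra A' B']

/-- the reduction of `B'/(f')` modulo `I` is `(B'/IB')/(f̄)` -/
noncomputable def redEquiv (I : Ideal A') {r : ℕ} (f' : Fin r → B') :
    ((B' ⧸ Ideal.map (algebraMap A' B') I) ⧸
      Ideal.span (Set.range (fun i => Ideal.Quotient.mk (Ideal.map (algebraMap A' B') I) (f' i))))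
      ≃ₐ[A' ⧸ I] (A' ⧸ I) ⊗[A'] (B' ⧸ Ideal.span (Set.range f')) := by
  refine AlgEquiv.extendScalarsOfSurjective (R := A') Ideal.Quotient.mk_surjective ?_
  have h1 : Ideal.span (Set.range (fun i =>
      Ideal.Quotient.mk (Ideal.map (algebraMap A' B') I) (f' i))) =
      (Ideal.span (Set.range f')).map (Ideal.Quotient.mkₐ A' (Ideal.map (algebraMap A' B') I)) := by
    rw [Ideal.map_span, ← Set.range_comp]
    rfl
  have h2 : (Ideal.map (algebraMap A' B') I).map (Ideal.Quotient.mkₐ A' (Ideal.span (Set.range f'))) =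
      Ideal.map (algebraMap A' (B' ⧸ Ideal.span (Set.range f'))) I := by
    change Ideal.map (Ideal.Quotient.mk (Ideal.span (Set.range f')))
      (Ideal.map (algebraMap A' B') I) = _
    rw [Ideal.map_map]
    rfl
  exact ((Ideal.quotientEquivAlgOfEq A' h1).trans
    ((DoubleQuot.quotQuotEquivCommₐ A' (Ideal.map (algebraMap A' B') I)
      (Ideal.span (Set.range f'))).trans (Ideal.quotientEquivAlgOfEq A' h2))).trans
    ((Algebra.TensorProduct.quotIdealMapEquivQuotTensor
      (B' ⧸ Ideal.span (Set.range f')) I).restrictScalars A')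

/-- smoothness of the quotient by a lift of a quasi-regular sequence modulo a nil ideal -/
theorem smooth_quotient [Module.Flat A' B'] [Algebra.FinitePresentation A' B'] (I : Ideal A')
    (hI : ∀ x ∈ I, IsNilpotent x) {r : ℕ} (f' : Fin r → B')
    (hq : CAlgX.IsQuasiRegular
      (fun i => Ideal.Quotient.mk (Ideal.map (algebraMap A' B') I) (f' i)))
    (hsm : Algebra.Smooth (A' ⧸ I)
      ((B' ⧸ Ideal.map (algebraMap A' B') I) ⧸
        Ideal.span (Set.range (fun i => Ideal.Quotient.mk (Ideal.map (algebraMap A' B') I) (f' i))))) :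
    Algebra.Smooth A' (B' ⧸ Ideal.span (Set.range f')) := by
  have hflat : Module.Flat A' (B' ⧸ Ideal.span (Set.range f')) :=
    flat_quotient I hI f' hq inferInstance
  have hfp : Algebra.FinitePresentation A' (B' ⧸ Ideal.span (Set.range f')) :=
    Algebra.FinitePresentation.quotient (Submodule.fg_span (Set.finite_range f'))
  refine Algebra.Smooth.of_formallySmooth_fiber fun p hp => ?_
  have hIp : ∀ a ∈ I, algebraMap A' p.ResidueField a = 0 := by
    intro a ha
    rw [Ideal.algebraMap_residueField_eq_zero]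
    obtain ⟨n, hn⟩ := hI a ha
    have : a ^ n ∈ p := by rw [hn]; exact Ideal.zero_mem _
    exact Ideal.IsPrime.mem_of_pow_mem hp n this
  let _ : Algebra (A' ⧸ I) p.ResidueField :=
    (Ideal.Quotient.lift I (algebraMap A' p.ResidueField) hIp).toAlgebra
  have : IsScalarTower A' (A' ⧸ I) p.ResidueField := IsScalarTower.of_algebraMap_eq (fun a => rfl)
  have hfs : Algebra.FormallySmooth (A' ⧸ I)
      ((A' ⧸ I) ⊗[A'] (B' ⧸ Ideal.span (Set.range f'))) :=
    Algebra.FormallySmooth.of_equiv (redEquiv I f')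
  have hfs2 : Algebra.FormallySmooth p.ResidueField
      (p.ResidueField ⊗[A' ⧸ I] ((A' ⧸ I) ⊗[A'] (B' ⧸ Ideal.span (Set.range f')))) :=
    inferInstance
  exact Algebra.FormallySmooth.of_equiv
    (Algebra.TensorProduct.cancelBaseChange A' (A' ⧸ I) p.ResidueField p.ResidueField
      (B' ⧸ Ideal.span (Set.range f')))

end Groth.Agent.Lib.Helper99.QRegFlat
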