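import Groth.Agent.S0009
import Groth.Agent.S2128
import Groth.Agent.Lib.Helper4.ImgColimMod
import Groth.Agent.Lib.Helper21.CohNoeth
import Groth.Agent.Lib.Helper21.MLImage

/-!
# Serre's criterion on a qcqs scheme with finite type ideals (S0014 assembly, helper99)

`main`: S0014 = S0009 (all quasi-coherent ideals) + S2128 (a quasi-coherent module on a qcqs scheme
is a filtered colimit of finitely presented modules) + helper4's
`ImgColimMod.subsingleton_HH_of_images` (cohomology of a filtered colimit vanishes as soon as the
cohomology of the images of the legs does).  The images of the legs are quasi-coherent ideals of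
finite type.
-/

set_option autoImplicit false
set_option linter.style.haveILetI false
universe u

open AlgebraicGeometry CategoryTheory CategoryTheory.Limits Opposite TopologicalSpace

namespace Groth.Agent.Lib.Helper99.QcqsSerre

/-- the image of a morphism from a finitely presented module to a quasi-coherent module is
quasi-coherent of finite type -/
theorem image_qcoh_ft {X : Scheme.{u}} {A B : X.Modules} (g : A ⟶ B)
    (hA : CohB1.IsFP A) (hB : Coh.IsQCoh B) :
    Coh.IsQCoh (image g) ∧ CohB1.IsFT (image g) := by
  haveI : SheafOfModules.IsFinitePresentation (R := X.ringCatSheaf) A := hA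
  haveI : A.IsQuasicoherent := inferInstance
  haveI : B.IsQuasicoherent := hB
  haveI hS : ((imageSubobject g : Subobject B) : X.Modules).IsQuasicoherent :=
    Groth.Agent.Lib.Helper21.MLImage.isQuasicoherent_imageSubobject g
  haveI hq : (image g).IsQuasicoherent :=
    Groth.Agent.Lib.Lead.PullbackAff.isQuasicoherent_of_iso (imageSubobjectIso g)
  refine ⟨hq, ?_⟩
  exact Groth.Agent.Lib.Helper21.CohNoeth.isFiniteType_of_epi (factorThruImage g)
    (inferInstance : SheafOfModules.IsFiniteType (R := X.ringCatSheaf) A)

/-- S0014: on a qcqs scheme, vanishing of `H¹` for all quasi-coherent ideals of finite type implies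
affineness. -/
theorem main (X : Scheme.{u}) [CompactSpace X] [QuasiSeparatedSpace X]
    (h : ∀ (I : X.Modules) (i : I ⟶ Coh.structureModule X), Mono i →
      Coh.IsQCoh I → CohB1.IsFT I → Subsingleton (Coh.HH X I 1)) : IsAffine X := by
  refine Groth.Agent.S0009.result X (fun I ι hι hI => ?_)
  obtain ⟨I₀, _, _, D, c, hc, hfp, hpt⟩ := Groth.Agent.S2128.result X I hI
  subst hpt
  refine Groth.Agent.Lib.Helper4.ImgColimMod.subsingleton_HH_of_images hc 1 (fun j => ?_)
  obtain ⟨hq, hft⟩ := image_qcoh_ft (c.ι.app j) (hfp j) hI
  haveI : Mono ι := hι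
  exact h (image (c.ι.app j)) (image.ι (c.ι.app j) ≫ ι) (mono_comp _ _) hq hft

end Groth.Agent.Lib.Helper99.QcqsSerre
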