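import Mathlib
import Groth.Agent.Lib.Helper99.SMTDegenC

set_option autoImplicit false
universe u

namespace Groth.Agent.Lib.Helper99.SMT
open W4bk4grassmannian MvPolynomial

attribute [local instance] Polynomial.algebra

variable {d n : ℕ}
variable (K : Type u) [Field K] [Infinite K]

/-- a product of two generators whose product of coordinates drops in the filtration dies in the special fibre -/
lemma psi0_mul_eq_zero (hd : 0 < d) (w : Idx d n) (u : Idx d n → ℕ) (hmul : MulProp K hd w u)
    (a b : Below w) (k : ℕ) (hk : u a.1 + u b.1 = k + 1)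
    (hmem : (Ideal.Quotient.mk (schubertVanishing K d n w) (X a.1 * X b.1) : ACone K w) ∈
      Rees.Fil (wbasis K hd w) (fun c : WChain w => chainWt u c.2.1) k) :
    psi0 K hd w u hmul (X a * X b) = 0 := by
  rw [map_mul, psi0_X, psi0_X, ← map_mul]
  have := Rees.mk_monomial_succ_eq_zero (isMul_of_mulProp K hd w u hmul) hmem
  rw [← this]
  congr 1
  apply Subtype.ext
  show (Polynomial.monomial (u a.1) (Ideal.Quotient.mk (schubertVanishing K d n w) (X a.1) : ACone K w)) *
    (Polynomial.monomial (u b.1) (Ideal.Quotient.mk (schubertVanishing K d n w) (X b.1) : ACone K w)) = _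
  rw [Polynomial.monomial_mul_monomial, hk, ← map_mul]

theorem psi0_srIdeal (hd : 0 < d) (w : Idx d n) :
    ∀ f ∈ srIdeal K w, psi0 K hd w (uSR d n) (mulProp_uSR K hd w) f = 0 := by
  intro f hf
  have hle : srIdeal K w ≤ RingHom.ker (psi0 K hd w (uSR d n) (mulProp_uSR K hd w)).toRingHom := by
    unfold srIdeal
    rw [Ideal.span_le]
    rintro g ⟨a, b, hab, hba, rfl⟩
    show psi0 K hd w (uSR d n) (mulProp_uSR K hd w) (X a * X b) = 0
    obtain ⟨k, hk, hmem⟩ := strict_uSR K hd w a.1 b.1 (fun h => hab h) (fun h => hba h)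
    exact psi0_mul_eq_zero K hd w (uSR d n) (mulProp_uSR K hd w) a b k hk hmem
  exact hle hf

theorem span_srIdeal (w : Idx d n) :
    Submodule.span K (Set.range fun c : WChain w =>
      (Ideal.Quotient.mk (srIdeal K w) (∏ k, X (⟨c.2.1 k, c.2.2.2 k⟩ : Below w)) :
        MvPolynomial (Below w) K ⧸ srIdeal K w)) = ⊤ := by
  classical
  rw [eq_top_iff]
  rintro x -
  obtain ⟨f, rfl⟩ := Ideal.Quotient.mk_surjective x
  have htop : f ∈ Submodule.span K (Set.range fun s : Multiset (Below w) =>
      ((s.map fun a => (X a : MvPolynomial (Below w) K)).prod)) := by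
    rw [span_msMon_eq_top]; trivial
  induction htop using Submodule.span_induction with
  | mem f hf =>
    obtain ⟨s, rfl⟩ := hf
    by_cases hch : ∀ x ∈ s, ∀ y ∈ s, x ≤ y ∨ y ≤ x
    · obtain ⟨c, hc⟩ := exists_wchain_of_chain w s hch
      apply Submodule.subset_span
      refine ⟨c, ?_⟩
      simp only
      rw [← hc, Multiset.map_map, Finset.prod_eq_multiset_prod]
      rfl
    · push Not at hch
      obtain ⟨x, hx, y, hy, hxy, hyx⟩ := hch
      have hne : y ≠ x := fun h => hxy (h ▸ le_refl _)
      have hy' : y ∈ s.erase x := (Multiset.mem_erase_of_ne hne).2 hy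
      have hs : s = x ::ₘ y ::ₘ (s.erase x).erase y := by
        rw [Multiset.cons_erase hy', Multiset.cons_erase hx]
      have hmem : ((s.map fun a => (X a : MvPolynomial (Below w) K)).prod) ∈ srIdeal K w := by
        rw [hs, Multiset.map_cons, Multiset.prod_cons, Multiset.map_cons, Multiset.prod_cons, ← mul_assoc]
        apply Ideal.mul_mem_right
        exact Ideal.subset_span ⟨x, y, hxy, hyx, rfl⟩
      simp only
      rw [Ideal.Quotient.eq_zero_iff_mem.2 hmem]
      exact Submodule.zero_mem _
  | zero => rw [map_zero]; exact Submodule.zero_mem _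
  | add f g _ _ hf hg => rw [map_add]; exact Submodule.add_mem _ hf hg
  | smul c f _ hf =>
    have : Ideal.Quotient.mk (srIdeal K w) (c • f) = c • Ideal.Quotient.mk (srIdeal K w) f :=
      map_smul (Ideal.Quotient.mkₐ K (srIdeal K w)) c f
    rw [this]
    exact Submodule.smul_mem _ c hf

theorem sr_degeneration (hd : 0 < d) (w : Idx d n) :
    ∃ (R : Type u) (_ : CommRing R) (_ : Algebra K R) (_ : Algebra (Polynomial K) R)
      (_ : IsScalarTower K (Polynomial K) R),
      Module.Free (Polynomial K) R ∧
      Nonempty ((R ⧸ Ideal.span {algebraMap (Polynomial K) R Polynomial.X}) ≃ₐ[K]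
        (MvPolynomial (Below w) K ⧸ srIdeal K w)) ∧
      ∀ c : K, c ≠ 0 →
        Nonempty ((R ⧸ Ideal.span {algebraMap (Polynomial K) R (Polynomial.X - Polynomial.C c)}) ≃ₐ[K]
          (PlRing K d n ⧸ schubertVanishing K d n w)) :=
  degeneration K hd w (uSR d n) (mulProp_uSR K hd w) (srIdeal K w) (psi0_srIdeal K hd w)
    (span_srIdeal K w)

end Groth.Agent.Lib.Helper99.SMT
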