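import Mathlib
import Groth.Agent.Lib.Helper99.SMTHibiA

set_option autoImplicit false
universe u

namespace Groth.Agent.Lib.Helper99.SMT
open W4bk4grassmannian MvPolynomial

variable {d n : ℕ}
variable (K : Type u) [Field K] [Infinite K]

lemma vanishing_le_schubertVanishing (w : Idx d n) : vanishing K d n ≤ schubertVanishing K d n w := by
  intro f hf
  rw [mem_vanishing_iff] at hf
  rw [mem_schubertVanishing_iff]
  intro A _
  exact hf A

lemma msWt_cons (u : Idx d n → ℕ) (a : Idx d n) (s : Multiset (Idx d n)) :
    msWt u (a ::ₘ s) = u a + msWt u s := by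
  unfold msWt; rw [Multiset.map_cons, Multiset.sum_cons]

lemma sq_spread {p q a b : ℕ} (h : p + q = a + b) (h1 : a < p) (h2 : b < p) :
    a ^ 2 + b ^ 2 < p ^ 2 + q ^ 2 := by
  nlinarith

theorem mulProp_uH (hd : 0 < d) (w : Idx d n) : MulProp K hd w (uH d n) := by
  classical
  intro s
  induction' hk : (s.card * (d * n) ^ 2 - Phi s) using Nat.strong_induction_on with k ih generalizing s
  by_cases hch : ∀ x ∈ s, ∀ y ∈ s, x ≤ y ∨ y ≤ x
  · obtain ⟨m', c, hc, hcs⟩ := exists_antitone_of_chain s.card s rfl hch
    have hmon : mon K s = chainMon K c := by rw [chainMon_eq_mon, hcs]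
    rw [hmon]
    by_cases hcw : ∀ k, c k ≤ w
    · have := Rees.basis_mem_Fil (wbasis K hd w) (fun c : WChain w => chainWt (uH d n) c.2.1)
        (⟨m', ⟨c, hc, hcw⟩⟩ : WChain w) (k := msWt (uH d n) s) (by
          show chainWt (uH d n) c ≤ _
          rw [chainWt_eq_msWt, hcs])
      rw [wbasis_apply] at this
      exact this
    · push Not at hcw
      obtain ⟨k', hk'⟩ := hcw
      rw [Ideal.Quotient.eq_zero_iff_mem.2
        (chainMon_mem_of_factor K _ c k' (X_mem_schubertVanishing K w (c k') hk'))]
      exact Submodule.zero_mem _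
  · push Not at hch
    obtain ⟨x, hx, y, hy, hxy, hyx⟩ := hch
    have hne : y ≠ x := fun h => hxy (h ▸ le_refl _)
    have hy' : y ∈ s.erase x := (Multiset.mem_erase_of_ne hne).2 hy
    set s0 := (s.erase x).erase y with hs0
    have hs : s = x ::ₘ y ::ₘ s0 := by
      rw [hs0, Multiset.cons_erase hy', Multiset.cons_erase hx]
    set σ := W4bk4grassmannian.sup x y with hσ
    set ρ := W4bk4grassmannian.inf x y with hρ
    have hρσ : ρ ≤ σ := le_trans (inf_le_left' x y) (le_sup_left' x y)
    have hxσ : x < σ := lt_of_le_of_ne (le_sup_left' x y) (by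
      intro h; apply hyx; rw [h]; exact le_sup_right' x y)
    have hyσ : y < σ := lt_of_le_of_ne (le_sup_right' x y) (by
      intro h; apply hxy; rw [h]; exact le_sup_left' x y)
    have hwtσρ : wt σ + wt ρ = wt x + wt y := wt_add_of_cnt (cnt_sup_inf x y)
    -- the IH in convenient form
    have IH : ∀ (a b : Idx d n), cnt a.1 + cnt b.1 = cnt x.1 + cnt y.1 → wt x < wt a → wt y < wt a →
        uH d n a + uH d n b ≤ uH d n x + uH d n y →
        (Ideal.Quotient.mk (schubertVanishing K d n w) (X a * X b * mon K s0) : ACone K w) ∈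
          Rees.Fil (wbasis K hd w) (fun c : WChain w => chainWt (uH d n) c.2.1) (msWt (uH d n) s) := by
      intro a b hcnt hwa hwb hu
      set s' := a ::ₘ b ::ₘ s0 with hs'
      have e2 : s'.card = s.card := by rw [hs', hs]; simp
      have hwt : wt a + wt b = wt x + wt y := wt_add_of_cnt hcnt
      have e3 : Phi s < Phi s' := by
        rw [hs', hs, Phi_cons, Phi_cons, Phi_cons, Phi_cons]
        have := sq_spread hwt hwa hwb
        omega
      have hb := Phi_le s'
      have hmem := ih (s'.card * (d * n) ^ 2 - Phi s') (by rw [← hk, e2] at *; omega) s' rfl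
      have hle : msWt (uH d n) s' ≤ msWt (uH d n) s := by
        rw [hs', hs, msWt_cons, msWt_cons, msWt_cons, msWt_cons]; omega
      have hm : X a * X b * mon K s0 = mon K s' := by rw [hs', mon_cons, mon_cons, mul_assoc]
      rw [hm]
      exact Rees.Fil_mono _ _ hle hmem
    obtain ⟨g, hg, hv⟩ := straightening_shape' K hd x y
    have hmon : mon K s = X x * X y * mon K s0 := by
      rw [hs, mon_cons, mon_cons, mul_assoc]
    have hdecomp : X x * X y * mon K s0 = X σ * X ρ * mon K s0 + g * mon K s0 +
        (X x * X y - X σ * X ρ - g) * mon K s0 := by ring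
    rw [hmon, hdecomp, map_add, map_add]
    have hv0 : (Ideal.Quotient.mk (schubertVanishing K d n w)
        ((X x * X y - X σ * X ρ - g) * mon K s0) : ACone K w) = 0 := by
      rw [Ideal.Quotient.eq_zero_iff_mem]
      exact Ideal.mul_mem_right _ _ (vanishing_le_schubertVanishing K w hv)
    rw [hv0, add_zero]
    apply Submodule.add_mem
    · exact IH σ ρ (cnt_sup_inf x y) (wt_lt_of_lt hxσ) (wt_lt_of_lt hyσ) (le_of_eq (uH_sup_inf x y))
    · -- the spread terms
      have key : ∀ f ∈ Submodule.span K {f : PlRing K d n | ∃ α β : Idx d n,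
          β ≤ α ∧ σ < α ∧ β < ρ ∧ cnt α.1 + cnt β.1 = cnt x.1 + cnt y.1 ∧ f = X α * X β},
          (Ideal.Quotient.mk (schubertVanishing K d n w) (f * mon K s0) : ACone K w) ∈
            Rees.Fil (wbasis K hd w) (fun c : WChain w => chainWt (uH d n) c.2.1) (msWt (uH d n) s) := by
        intro f hf
        induction hf using Submodule.span_induction with
        | mem f hf =>
          obtain ⟨α, β, -, hσα, hβρ, hcnt, rfl⟩ := hf
          have hcnt' : cnt α.1 + cnt β.1 = cnt σ.1 + cnt ρ.1 := by rw [hcnt, cnt_sup_inf]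
          have hlt := uH_lt_of_spread hρσ hσα hβρ.le hcnt'
          have hσρu : uH d n σ + uH d n ρ = uH d n x + uH d n y := uH_sup_inf x y
          apply IH α β hcnt (lt_trans (wt_lt_of_lt hxσ) (wt_lt_of_lt hσα))
            (lt_trans (wt_lt_of_lt hyσ) (wt_lt_of_lt hσα))
          omega
        | zero => rw [zero_mul, map_zero]; exact Submodule.zero_mem _
        | add f g _ _ hf hg => rw [add_mul, map_add]; exact Submodule.add_mem _ hf hg
        | smul c f _ hf =>
          rw [smul_mul_assoc]
          have : Ideal.Quotient.mk (schubertVanishing K d n w) (c • (f * mon K s0)) =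
              c • Ideal.Quotient.mk (schubertVanishing K d n w) (f * mon K s0) :=
            map_smul (Ideal.Quotient.mkₐ K (schubertVanishing K d n w)) c _
          rw [this]
          exact Submodule.smul_mem _ c hf
      exact key g hg

end Groth.Agent.Lib.Helper99.SMT
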