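import Mathlib
import Groth.Agent.Lib.Helper99.SMTHibiB
import Groth.Agent.Lib.Helper99.SMTDegenSR

set_option autoImplicit false
universe u

namespace Groth.Agent.Lib.Helper99.SMT
open W4bk4grassmannian MvPolynomial

attribute [local instance] Polynomial.algebra

variable {d n : ℕ}
variable (K : Type u) [Field K] [Infinite K]

theorem psi0_hibiIdeal (hd : 0 < d) (w : Idx d n) :
    ∀ f ∈ hibiIdeal K w, psi0 K hd w (uH d n) (mulProp_uH K hd w) f = 0 := by
  intro f hf
  have hle : hibiIdeal K w ≤ RingHom.ker (psi0 K hd w (uH d n) (mulProp_uH K hd w)).toRingHom := by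
    unfold hibiIdeal
    rw [Ideal.span_le]
    rintro g ⟨a, b, rfl⟩
    show psi0 K hd w (uH d n) (mulProp_uH K hd w) (X a * X b - X (Below.sup a b) * X (Below.inf a b)) = 0
    set hmul := mulProp_uH K hd w with hhmul
    set σ := W4bk4grassmannian.sup a.1 b.1 with hσ
    set ρ := W4bk4grassmannian.inf a.1 b.1 with hρ
    have hρσ : ρ ≤ σ := le_trans (inf_le_left' a.1 b.1) (le_sup_left' a.1 b.1)
    have hU : uH d n σ + uH d n ρ = uH d n a.1 + uH d n b.1 := uH_sup_inf a.1 b.1
    obtain ⟨g, hg, hv⟩ := straightening_shape' K hd a.1 b.1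
    -- the class of g lies one step lower
    have hgFil : (Ideal.Quotient.mk (schubertVanishing K d n w) g : ACone K w) ∈
        Rees.Fil (wbasis K hd w) (fun c : WChain w => chainWt (uH d n) c.2.1)
          (uH d n a.1 + uH d n b.1 - 1) := by
      clear hv
      induction hg using Submodule.span_induction with
      | mem f hf =>
        obtain ⟨α, β, -, hσα, hβρ, hcnt, rfl⟩ := hf
        have hcnt' : cnt α.1 + cnt β.1 = cnt σ.1 + cnt ρ.1 := by rw [hcnt, cnt_sup_inf]
        have hlt := uH_lt_of_spread hρσ hσα hβρ.le hcnt'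
        have := hmul (α ::ₘ β ::ₘ 0)
        have e1 : mon K (α ::ₘ β ::ₘ (0 : Multiset (Idx d n))) = X α * X β := by
          rw [mon_cons, mon_cons]; unfold mon; simp
        have e2 : msWt (uH d n) (α ::ₘ β ::ₘ (0 : Multiset (Idx d n))) = uH d n α + uH d n β := by
          rw [msWt_cons, msWt_cons]; unfold msWt; simp
        rw [e1, e2] at this
        exact Rees.Fil_mono _ _ (by omega) this
      | zero => rw [map_zero]; exact Submodule.zero_mem _
      | add f g _ _ hf hg => rw [map_add]; exact Submodule.add_mem _ hf hg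
      | smul c f _ hf =>
        have : Ideal.Quotient.mk (schubertVanishing K d n w) (c • f) =
            c • Ideal.Quotient.mk (schubertVanishing K d n w) f :=
          map_smul (Ideal.Quotient.mkₐ K (schubertVanishing K d n w)) c _
        rw [this]
        exact Submodule.smul_mem _ c hf
    have hdiff : (Ideal.Quotient.mk (schubertVanishing K d n w) (X a.1 * X b.1 - X σ * X ρ) : ACone K w) =
        Ideal.Quotient.mk (schubertVanishing K d n w) g := by
      rw [← sub_eq_zero, ← map_sub, Ideal.Quotient.eq_zero_iff_mem]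
      exact vanishing_le_schubertVanishing K w hv
    have hpos : uH d n a.1 + uH d n b.1 = (uH d n a.1 + uH d n b.1 - 1) + 1 := by
      have := uH_pos a.1
      omega
    have hzero := Rees.mk_monomial_succ_eq_zero (isMul_of_mulProp K hd w (uH d n) hmul) hgFil
    rw [map_sub, map_mul, map_mul, psi0_X, psi0_X, psi0_X, psi0_X, ← map_mul, ← map_mul, ← map_sub]
    rw [← hzero]
    congr 1
    apply Subtype.ext
    show (Polynomial.monomial (uH d n a.1) (Ideal.Quotient.mk (schubertVanishing K d n w) (X a.1) : ACone K w)) *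
        (Polynomial.monomial (uH d n b.1) (Ideal.Quotient.mk (schubertVanishing K d n w) (X b.1) : ACone K w)) -
      (Polynomial.monomial (uH d n σ) (Ideal.Quotient.mk (schubertVanishing K d n w) (X σ) : ACone K w)) *
        (Polynomial.monomial (uH d n ρ) (Ideal.Quotient.mk (schubertVanishing K d n w) (X ρ) : ACone K w)) = _
    rw [Polynomial.monomial_mul_monomial, Polynomial.monomial_mul_monomial, hU, ← map_sub, ← map_mul,
      ← map_mul, ← map_sub, hdiff]
    show _ = Polynomial.monomial (uH d n a.1 + uH d n b.1 - 1 + 1)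
      (Ideal.Quotient.mk (schubertVanishing K d n w) g : ACone K w)
    rw [← hpos]
  exact hle hf

end Groth.Agent.Lib.Helper99.SMT

namespace Groth.Agent.Lib.Helper99.SMT
open W4bk4grassmannian MvPolynomial

variable {d n : ℕ}
variable (K : Type u) [Field K] [Infinite K]

/-- the straightening measure on multisets of `H(w)` -/
def PhiB {w : Idx d n} (s : Multiset (Below w)) : ℕ := Phi (s.map Subtype.val)

theorem span_hibiIdeal (w : Idx d n) :
    Submodule.span K (Set.range fun c : WChain w =>
      (Ideal.Quotient.mk (hibiIdeal K w) (∏ k, X (⟨c.2.1 k, c.2.2.2 k⟩ : Below w)) :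
        MvPolynomial (Below w) K ⧸ hibiIdeal K w)) = ⊤ := by
  classical
  rw [eq_top_iff]
  rintro x -
  obtain ⟨f, rfl⟩ := Ideal.Quotient.mk_surjective x
  have htop : f ∈ Submodule.span K (Set.range fun s : Multiset (Below w) =>
      ((s.map fun a => (X a : MvPolynomial (Below w) K)).prod)) := by
    rw [span_msMon_eq_top]; trivial
  -- every monomial is in the span
  have key : ∀ s : Multiset (Below w),
      (Ideal.Quotient.mk (hibiIdeal K w) ((s.map fun a => (X a : MvPolynomial (Below w) K)).prod) :
        MvPolynomial (Below w) K ⧸ hibiIdeal K w) ∈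
      Submodule.span K (Set.range fun c : WChain w =>
        (Ideal.Quotient.mk (hibiIdeal K w) (∏ k, X (⟨c.2.1 k, c.2.2.2 k⟩ : Below w)) :
          MvPolynomial (Below w) K ⧸ hibiIdeal K w)) := by
    intro s
    induction' hk : (s.card * (d * n) ^ 2 - PhiB s) using Nat.strong_induction_on with k ih generalizing s
    by_cases hch : ∀ x ∈ s, ∀ y ∈ s, x ≤ y ∨ y ≤ x
    · obtain ⟨c, hc⟩ := exists_wchain_of_chain w s hch
      apply Submodule.subset_span
      refine ⟨c, ?_⟩
      simp only
      rw [← hc, Multiset.map_map, Finset.prod_eq_multiset_prod]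
      rfl
    · push Not at hch
      obtain ⟨x, hx, y, hy, hxy, hyx⟩ := hch
      have hne : y ≠ x := fun h => hxy (h ▸ le_refl _)
      have hy' : y ∈ s.erase x := (Multiset.mem_erase_of_ne hne).2 hy
      set s0 := (s.erase x).erase y with hs0
      have hs : s = x ::ₘ y ::ₘ s0 := by
        rw [hs0, Multiset.cons_erase hy', Multiset.cons_erase hx]
      set s' := Below.sup x y ::ₘ Below.inf x y ::ₘ s0 with hs'
      have hxy' : ¬ x.1 ≤ y.1 := fun h => hxy h
      have hyx' : ¬ y.1 ≤ x.1 := fun h => hyx h
      have hxσ : x.1 < W4bk4grassmannian.sup x.1 y.1 := lt_of_le_of_ne (le_sup_left' x.1 y.1) (by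
        intro h; apply hyx'; rw [h]; exact le_sup_right' x.1 y.1)
      have hyσ : y.1 < W4bk4grassmannian.sup x.1 y.1 := lt_of_le_of_ne (le_sup_right' x.1 y.1) (by
        intro h; apply hxy'; rw [h]; exact le_sup_left' x.1 y.1)
      have hwt : wt (W4bk4grassmannian.sup x.1 y.1) + wt (W4bk4grassmannian.inf x.1 y.1) = wt x.1 + wt y.1 :=
        wt_add_of_cnt (cnt_sup_inf x.1 y.1)
      have e2 : s'.card = s.card := by rw [hs', hs]; simp
      have e3 : PhiB s < PhiB s' := by
        unfold PhiB
        rw [hs', hs]
        simp only [Multiset.map_cons]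
        rw [Phi_cons, Phi_cons, Phi_cons, Phi_cons]
        have := sq_spread hwt (wt_lt_of_lt hxσ) (wt_lt_of_lt hyσ)
        show wt x.1 ^ 2 + (wt y.1 ^ 2 + _) < wt (W4bk4grassmannian.sup x.1 y.1) ^ 2 +
          (wt (W4bk4grassmannian.inf x.1 y.1) ^ 2 + _)
        omega
      have hb : PhiB s' ≤ s'.card * (d * n) ^ 2 := by
        unfold PhiB
        have := Phi_le (s'.map Subtype.val)
        rwa [Multiset.card_map] at this
      have hmem := ih (s'.card * (d * n) ^ 2 - PhiB s') (by rw [← hk, e2] at *; omega) s' rfl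
      have heq : (Ideal.Quotient.mk (hibiIdeal K w) ((s.map fun a => (X a : MvPolynomial (Below w) K)).prod) :
          MvPolynomial (Below w) K ⧸ hibiIdeal K w) =
          Ideal.Quotient.mk (hibiIdeal K w) ((s'.map fun a => (X a : MvPolynomial (Below w) K)).prod) := by
        rw [← sub_eq_zero, ← map_sub, Ideal.Quotient.eq_zero_iff_mem, hs, hs']
        simp only [Multiset.map_cons, Multiset.prod_cons]
        have : X x * (X y * (s0.map fun a => (X a : MvPolynomial (Below w) K)).prod) -
            X (Below.sup x y) * (X (Below.inf x y) * (s0.map fun a => (X a : MvPolynomial (Below w) K)).prod) =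
            (X x * X y - X (Below.sup x y) * X (Below.inf x y)) *
              (s0.map fun a => (X a : MvPolynomial (Below w) K)).prod := by ring
        rw [this]
        apply Ideal.mul_mem_right
        exact Ideal.subset_span ⟨x, y, rfl⟩
      rw [heq]
      exact hmem
  induction htop using Submodule.span_induction with
  | mem f hf =>
    obtain ⟨s, rfl⟩ := hf
    exact key s
  | zero => rw [map_zero]; exact Submodule.zero_mem _
  | add f g _ _ hf hg => rw [map_add]; exact Submodule.add_mem _ hf hg
  | smul c f _ hf =>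
    have : Ideal.Quotient.mk (hibiIdeal K w) (c • f) = c • Ideal.Quotient.mk (hibiIdeal K w) f :=
      map_smul (Ideal.Quotient.mkₐ K (hibiIdeal K w)) c f
    rw [this]
    exact Submodule.smul_mem _ c hf

theorem hibi_degeneration (hd : 0 < d) (w : Idx d n) :
    ∃ (R : Type u) (_ : CommRing R) (_ : Algebra K R) (_ : Algebra (Polynomial K) R)
      (_ : IsScalarTower K (Polynomial K) R),
      Module.Free (Polynomial K) R ∧
      Nonempty ((R ⧸ Ideal.span {algebraMap (Polynomial K) R Polynomial.X}) ≃ₐ[K]
        (MvPolynomial (Below w) K ⧸ hibiIdeal K w)) ∧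
      ∀ c : K, c ≠ 0 →
        Nonempty ((R ⧸ Ideal.span {algebraMap (Polynomial K) R (Polynomial.X - Polynomial.C c)}) ≃ₐ[K]
          (PlRing K d n ⧸ schubertVanishing K d n w)) :=
  degeneration K hd w (uH d n) (mulProp_uH K hd w) (hibiIdeal K w) (psi0_hibiIdeal K hd w)
    (span_hibiIdeal K w)

end Groth.Agent.Lib.Helper99.SMT
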