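import Mathlib

/-!
# Pure algebra for S14683: actions of groups of exponent `p` on groups of order `p`,
and interpolation lemmas
-/

set_option autoImplicit false

namespace Groth.Agent.Lib.Helper99.SekAct

/-- an action by automorphisms of a group of exponent `p` on a group of prime order `p`
is trivial -/
theorem act_trivial {G H : Type*} [Group G] [Group H] (p : ℕ) [hp : Fact p.Prime]
    (hG : ∀ g : G, g ^ p = 1) (hH : Nat.card H = p)
    (act : G → H → H) (h1 : ∀ x, act 1 x = x)
    (hmul : ∀ g g' x, act (g * g') x = act g (act g' x))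
    (hhom : ∀ g x y, act g (x * y) = act g x * act g y) (g : G) (x : H) : act g x = x := by
  have hone : act g 1 = 1 := by
    have := hhom g 1 1
    rw [mul_one] at this
    exact (mul_eq_left.mp this.symm)
  have hpow : ∀ (y : H) (n : ℕ), act g (y ^ n) = (act g y) ^ n := by
    intro y n
    induction n with
    | zero => simpa using hone
    | succ n ih => rw [pow_succ, hhom, ih, pow_succ]
  have hiter : ∀ (k : ℕ) (y : H), act (g ^ k) y = (act g)^[k] y := by
    intro k
    induction k with
    | zero => intro y; simpa using h1 y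
    | succ k ih =>
      intro y
      rw [pow_succ', hmul, ih, Function.iterate_succ_apply']
  by_cases hx : x = 1
  · rw [hx]; exact hone
  obtain ⟨n, hn⟩ : ∃ n : ℕ, x ^ n = act g x := by
    have := mem_powers_of_prime_card hH hx (g' := act g x)
    exact Submonoid.mem_powers_iff _ _ |>.mp this
  have hk : ∀ k : ℕ, (act g)^[k] x = x ^ (n ^ k) := by
    intro k
    induction k with
    | zero => simp
    | succ k ih =>
      rw [Function.iterate_succ_apply', ih, hpow, ← hn, ← pow_mul, ← pow_succ']
  have hxp : x ^ p = 1 := by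
    have := pow_card_eq_one' (G := H) (x := x)
    rwa [hH] at this
  have h2 : x = x ^ (n ^ p) := by
    rw [← hk p, ← hiter, hG, h1]
  have hmod : n ^ p ≡ n [MOD orderOf x] := by
    have h3 : n ^ p ≡ n [MOD p] := by
      rw [← ZMod.natCast_eq_natCast_iff]
      push_cast
      exact ZMod.pow_card _
    exact h3.of_dvd (orderOf_dvd_of_pow_eq_one hxp)
  rw [← hn, ← pow_eq_pow_iff_modEq.mpr hmod, ← h2]

open Polynomial in
/-- a polynomial of degree `< p` vanishing at `p` points is zero: coefficient form -/
theorem eq_zero_of_sum_eq_zero {L : Type*} [Field L] (p : ℕ) (S : Finset L) (hS : p ≤ S.card)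
    (b : Fin p → L) (h : ∀ β ∈ S, ∑ j : Fin p, b j * β ^ (j : ℕ) = 0) : b = 0 := by
  set Q : L[X] := ∑ j : Fin p, C (b j) * X ^ (j : ℕ) with hQ
  have hdeg : Q.degree < p := Polynomial.degree_sum_fin_lt b
  have hQ0 : Q = 0 := by
    by_contra hne
    apply hne
    apply eq_zero_of_natDegree_lt_card_of_eval_eq_zero' Q S
    · intro β hβ
      rw [hQ, Polynomial.eval_finsetSum]
      simpa using h β hβ
    · have := (Polynomial.natDegree_lt_iff_degree_lt hne).mpr hdeg
      omega
  funext j
  have := congrArg (fun q : L[X] => q.coeff (j : ℕ)) hQ0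
  simp only [hQ, Polynomial.finsetSum_coeff, Polynomial.coeff_C_mul_X_pow, Polynomial.coeff_zero]
    at this
  rw [Finset.sum_eq_single j] at this
  · simpa using this
  · intro i _ hij
    rw [if_neg]
    intro h'
    exact hij (Fin.ext h'.symm)
  · intro h'
    exact absurd (Finset.mem_univ j) h'

/-- two-variable interpolation -/
theorem eq_zero_of_sum_sum_eq_zero {L : Type*} [Field L] (m n : ℕ) (S S' : Finset L)
    (hS : n ≤ S.card) (hS' : m ≤ S'.card) (a : Fin m → Fin n → L)
    (h : ∀ β' ∈ S', ∀ β ∈ S, ∑ i : Fin m, ∑ j : Fin n, a i j * β' ^ (i : ℕ) * β ^ (j : ℕ) = 0) :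
    a = 0 := by
  have h1 : ∀ β' ∈ S', ∀ j : Fin n, ∑ i : Fin m, a i j * β' ^ (i : ℕ) = 0 := by
    intro β' hβ'
    have := eq_zero_of_sum_eq_zero n S hS (fun j => ∑ i : Fin m, a i j * β' ^ (i : ℕ)) (by
      intro β hβ
      have := h β' hβ' β hβ
      rw [Finset.sum_comm] at this
      rw [← this]
      refine Finset.sum_congr rfl fun j _ => ?_
      rw [Finset.sum_mul])
    intro j
    exact congrFun this j
  funext i j
  have := eq_zero_of_sum_eq_zero m S' hS' (fun i => a i j) (fun β' hβ' => h1 β' hβ' j)
  exact congrFun this i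

end Groth.Agent.Lib.Helper99.SekAct
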