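import Mathlib
import Groth.Agent.Lib.Helper99.SekActA
import Groth.Agent.S14694

/-!
# Ring-level facts about the coordinate ring `AK` of `G_{λ,1}` for S14683:
geometric points and joint injectivity on the tensor product
-/

set_option autoImplicit false
universe u
open scoped TensorProduct

namespace Groth.Agent.Lib.Helper99.SekAct

open SekSuwa Polynomial

variable {R : Type u} [CommRing R] [IsDomain R] {L : Type u} [Field L] [Algebra R L]
  [IsAlgClosed L] [CharZero L]

section roots

variable (lam : R) (p : ℕ) [hp : Fact p.Prime] (h : DivCond lam p)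

/-- the roots of `P_{λ,p}` in `L` -/
noncomputable def rootsL (L : Type u) [Field L] [Algebra R L] : Finset L := by
  classical exact ((psiPoly lam p h).map (algebraMap R L)).roots.toFinset

include h in
theorem lam_ne_zero : lam ≠ 0 := by
  intro h0
  have := h.nzd
  rw [h0] at this
  exact zero_notMem_nonZeroDivisors this

include hp in
theorem separable_map (hinj : Function.Injective (algebraMap R L)) :
    ((psiPoly lam p h).map (algebraMap R L)).Separable := by
  set l : L := algebraMap R L lam with hl
  have hl0 : l ≠ 0 := by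
    rw [hl, Ne, map_eq_zero_iff _ hinj]
    exact lam_ne_zero lam p h
  have hp0 : (p : L) ≠ 0 := Nat.cast_ne_zero.mpr hp.out.ne_zero
  have hspec : C (l ^ p) * (psiPoly lam p h).map (algebraMap R L) = (1 + C l * X) ^ p - 1 := by
    have := congrArg (Polynomial.map (algebraMap R L)) (psiPoly_spec h)
    simpa [hl] using this
  have hQ : ((1 + C l * X : L[X]) ^ p - 1).Separable := by
    rw [Polynomial.separable_def]
    have hder : derivative ((1 + C l * X : L[X]) ^ p - 1) =
        C (p : L) * (1 + C l * X) ^ (p - 1) * C l := by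
      rw [derivative_sub, derivative_one, sub_zero, derivative_pow]
      simp
    rw [hder]
    refine ⟨-1, C ((p : L) * l)⁻¹ * (1 + C l * X), ?_⟩
    have h1 : (1 + C l * X : L[X]) ^ p = (1 + C l * X) ^ (p - 1) * (1 + C l * X) := by
      rw [← pow_succ, Nat.sub_add_cancel hp.out.one_le]
    have h2 : (C ((p : L) * l)⁻¹ : L[X]) * (C (p : L) * C l) = 1 := by
      rw [← C_mul, ← C_mul, inv_mul_cancel₀ (mul_ne_zero hp0 hl0), C_1]
    calc -1 * ((1 + C l * X : L[X]) ^ p - 1) +
          C ((p : L) * l)⁻¹ * (1 + C l * X) * (C (p : L) * (1 + C l * X) ^ (p - 1) * C l)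
        = -((1 + C l * X : L[X]) ^ p) + 1 +
          (C ((p : L) * l)⁻¹ * (C (p : L) * C l)) * ((1 + C l * X) ^ (p - 1) * (1 + C l * X)) := by
          ring
      _ = 1 := by rw [h2, ← h1]; ring
  exact hQ.of_dvd ⟨C (l ^ p), by rw [← hspec, mul_comm]⟩

include hp in
theorem card_rootsL (hinj : Function.Injective (algebraMap R L)) :
    (rootsL lam p h L).card = p := by
  classical
  unfold rootsL
  rw [Multiset.toFinset_card_of_nodup (nodup_roots (separable_map lam p h hinj)),
    IsAlgClosed.card_roots_eq_natDegree,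
    (Groth.Agent.S14694.monic_psiPoly h hp.out.pos).natDegree_map,
    Groth.Agent.S14694.natDegree_psiPoly h hp.out.pos]

theorem mem_rootsL (β : L) :
    β ∈ rootsL lam p h L ↔ Polynomial.aeval β (psiPoly lam p h) = 0 := by
  classical
  unfold rootsL
  rw [Multiset.mem_toFinset, Polynomial.mem_roots', Polynomial.IsRoot.def, Polynomial.eval_map,
    ← Polynomial.aeval_def]
  constructor
  · exact fun h' => h'.2
  · intro h'
    refine ⟨?_, h'⟩
    haveI : Nontrivial L := inferInstance
    exact ((Groth.Agent.S14694.monic_psiPoly h (Nat.pos_of_ne_zero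
      (fun h0 => by
        have := hp.out
        rw [h0] at this
        exact Nat.not_prime_zero this))).map (algebraMap R L)).ne_zero

/-- the point with coordinate a root -/
noncomputable def ptOfRoot (β : L) (hβ : Polynomial.aeval β (psiPoly lam p h) = 0) :
    AK R lam p h →ₐ[R] L :=
  (AdjoinRoot.liftAlgHom (psiPoly lam p h) (Algebra.ofId R L) β (by
    rw [Polynomial.aeval_def] at hβ
    exact hβ)).comp
    (Groth.Agent.S14694.toAdj h hp.out.pos)

theorem ptOfRoot_t (β : L) (hβ : Polynomial.aeval β (psiPoly lam p h) = 0) :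
    ptOfRoot lam p h β hβ AK.t = β := by
  unfold ptOfRoot
  rw [AlgHom.comp_apply, Groth.Agent.S14694.toAdj_t h hp.out.pos]
  simp

theorem aeval_t_eq_zero (x : AK R lam p h →ₐ[R] L) :
    Polynomial.aeval (x AK.t) (psiPoly lam p h) = 0 := by
  rw [Polynomial.aeval_algHom_apply, AK.aeval_t, map_zero]

/-- an algebra map out of `AK` is determined by the image of `t` -/
theorem algHom_ext_t {B : Type u} [CommRing B] [Algebra R B] {x y : AK R lam p h →ₐ[R] B}
    (hxy : x AK.t = y AK.t) : x = y := by
  have e := Groth.Agent.S14694.equivAdj h hp.out.pos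
  have key : x.comp (Groth.Agent.S14694.ofAdj h) = y.comp (Groth.Agent.S14694.ofAdj h) := by
    apply AdjoinRoot.algHom_ext
    rw [AlgHom.comp_apply, AlgHom.comp_apply, Groth.Agent.S14694.ofAdj_root, hxy]
  ext z
  have hz : z = Groth.Agent.S14694.ofAdj h (Groth.Agent.S14694.toAdj h hp.out.pos z) := by
    have := (Groth.Agent.S14694.equivAdj h hp.out.pos).symm_apply_apply z
    exact this.symm
  rw [hz]
  exact congrArg (fun f => f (Groth.Agent.S14694.toAdj h hp.out.pos z)) key

/-- geometric points of `G_{λ,1}` correspond to roots of `P_{λ,p}` -/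
noncomputable def ptEquiv : (AK R lam p h →ₐ[R] L) ≃ {β : L // β ∈ rootsL lam p h L} where
  toFun x := ⟨x AK.t, (mem_rootsL lam p h _).mpr (aeval_t_eq_zero lam p h x)⟩
  invFun β := ptOfRoot lam p h β.1 ((mem_rootsL lam p h _).mp β.2)
  left_inv x := by
    apply algHom_ext_t lam p h
    rw [ptOfRoot_t]
  right_inv β := by
    apply Subtype.ext
    exact ptOfRoot_t lam p h β.1 _

include hp in
theorem card_pts (hinj : Function.Injective (algebraMap R L)) :
    Nat.card (AK R lam p h →ₐ[R] L) = p := by
  rw [Nat.card_congr (ptEquiv lam p h), Nat.card_eq_fintype_card, Fintype.card_coe,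
    card_rootsL lam p h hinj]

end roots

section joint

variable (lam mu : R) (p : ℕ) [hp : Fact p.Prime] (h₁ : DivCond lam p) (h₂ : DivCond mu p)

/-- the power basis `1, t, …, t^{p-1}` of `AK` -/
noncomputable def pbAK : PowerBasis R (AK R lam p h₁) :=
  (AdjoinRoot.powerBasis' (Groth.Agent.S14694.monic_psiPoly h₁ hp.out.pos)).map
    (Groth.Agent.S14694.equivAdj h₁ hp.out.pos).symm

theorem pbAK_gen : (pbAK lam p h₁).gen = AK.t := by
  unfold pbAK
  rw [PowerBasis.map_gen]
  show (Groth.Agent.S14694.equivAdj h₁ hp.out.pos).symm (AdjoinRoot.root _) = AK.t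
  rw [AlgEquiv.symm_apply_eq]
  exact (Groth.Agent.S14694.toAdj_t h₁ hp.out.pos).symm

theorem pbAK_dim : (pbAK lam p h₁).dim = p := by
  unfold pbAK
  rw [PowerBasis.map_dim]
  show (psiPoly lam p h₁).natDegree = p
  exact Groth.Agent.S14694.natDegree_psiPoly h₁ hp.out.pos

include hp in
/-- the geometric points of `G_{μ,1} × G_{λ,1}` are jointly injective on functions -/
theorem eq_zero_of_forall_productMap (hinj : Function.Injective (algebraMap R L))
    (c : AK R mu p h₂ ⊗[R] AK R lam p h₁)
    (hc : ∀ (g : AK R mu p h₂ →ₐ[R] L) (x : AK R lam p h₁ →ₐ[R] L),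
      Algebra.TensorProduct.productMap g x c = 0) : c = 0 := by
  classical
  set bM := (pbAK mu p h₂).basis with hbM
  set bN := (pbAK lam p h₁).basis with hbN
  set B := Module.Basis.tensorProduct bM bN with hB
  have hrepr := B.sum_repr c
  set a : Fin (pbAK mu p h₂).dim → Fin (pbAK lam p h₁).dim → L :=
    fun i j => algebraMap R L (B.repr c (i, j)) with ha
  have key : a = 0 := by
    apply eq_zero_of_sum_sum_eq_zero _ _ (rootsL lam p h₁ L) (rootsL mu p h₂ L)
      (by rw [card_rootsL lam p h₁ hinj, pbAK_dim])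
      (by rw [card_rootsL mu p h₂ hinj, pbAK_dim])
    intro β' hβ' β hβ
    have hg := ptOfRoot_t mu p h₂ β' ((mem_rootsL mu p h₂ _).mp hβ')
    have hx := ptOfRoot_t lam p h₁ β ((mem_rootsL lam p h₁ _).mp hβ)
    have h0 := hc (ptOfRoot mu p h₂ β' ((mem_rootsL mu p h₂ _).mp hβ'))
      (ptOfRoot lam p h₁ β ((mem_rootsL lam p h₁ _).mp hβ))
    rw [← hrepr, map_sum, Fintype.sum_prod_type] at h0
    rw [← h0]
    refine Finset.sum_congr rfl fun i _ => Finset.sum_congr rfl fun j _ => ?_
    rw [map_smul, hB, Module.Basis.tensorProduct_apply, Algebra.TensorProduct.productMap_apply_tmul,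
      hbM, hbN, PowerBasis.basis_eq_pow, PowerBasis.basis_eq_pow, pbAK_gen, pbAK_gen, map_pow,
      map_pow, hg, hx, Algebra.smul_def, mul_assoc]
  have hzero : ∀ ij, B.repr c ij = 0 := by
    rintro ⟨i, j⟩
    have := congrFun (congrFun key i) j
    simp only [ha, Pi.zero_apply] at this
    exact (map_eq_zero_iff _ hinj).mp this
  rw [← hrepr]
  exact Finset.sum_eq_zero fun ij _ => by rw [hzero ij, zero_smul]

end joint

end Groth.Agent.Lib.Helper99.SekAct
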