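import Mathlib
import Groth.Prelude.Def_SekSuwa2
import Groth.Prelude.Def_NonAbH2
import Groth.Agent.Lib.Helper99.SekActB
import Groth.Agent.Lib.Lead.GaTorsor

/-!
# Every action of `G_{μ,1}` on `G_{λ,1}` by group automorphisms is trivial (S14683)
-/

set_option autoImplicit false
universe u
open CategoryTheory CategoryTheory.Limits MonoidalCategory CartesianMonoidalCategory MonObj
  AlgebraicGeometry
open scoped TensorProduct

namespace Groth.Agent.Lib.Helper99.SekAct

open SekSuwa

section dict

variable {R : Type u} [CommRing R]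

/-- `Spec` of an algebra map, over `Spec R` -/
noncomputable def specA {S T : Type u} [CommRing S] [CommRing T] [Algebra R S] [Algebra R T]
    (f : S →ₐ[R] T) :
    (Spec (.of T)).asOver (Spec (.of R)) ⟶ (Spec (.of S)).asOver (Spec (.of R)) :=
  (Spec.map (CommRingCat.ofHom f.toRingHom)).asOver (Spec (.of R))

theorem specA_left {S T : Type u} [CommRing S] [CommRing T] [Algebra R S] [Algebra R T]
    (f : S →ₐ[R] T) : (specA f).left = Spec.map (CommRingCat.ofHom f.toRingHom) := rfl

theorem specA_comp {S T U : Type u} [CommRing S] [CommRing T] [CommRing U] [Algebra R S]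
    [Algebra R T] [Algebra R U] (f : S →ₐ[R] T) (g : T →ₐ[R] U) :
    specA (g.comp f) = specA g ≫ specA f := by
  apply Over.OverMorphism.ext
  change Spec.map (CommRingCat.ofHom (g.comp f).toRingHom) =
    Spec.map (CommRingCat.ofHom g.toRingHom) ≫ Spec.map (CommRingCat.ofHom f.toRingHom)
  rw [← Spec.map_comp]
  rfl

theorem specA_eq_mapMulEquiv {S T : Type u} [CommRing S] [CommRing T] [Bialgebra R S]
    [Algebra R T] (f : S →ₐ[R] T) :
    specA f = Spec.mapMulEquiv (R := R) (S := S) (T := T) (WithConv.toConv f) := rfl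

theorem specA_injective {S T : Type u} [CommRing S] [CommRing T] [Bialgebra R S]
    [Algebra R T] : Function.Injective (specA (R := R) (S := S) (T := T)) := by
  intro f g hfg
  rw [specA_eq_mapMulEquiv, specA_eq_mapMulEquiv] at hfg
  exact WithConv.toConv_injective (Spec.mapMulEquiv.injective hfg)

theorem specA_surjective {S T : Type u} [CommRing S] [CommRing T] [Bialgebra R S]
    [Algebra R T] : Function.Surjective (specA (R := R) (S := S) (T := T)) := by
  intro φ
  obtain ⟨f, hf⟩ := (Spec.mapMulEquiv (R := R) (S := S) (T := T)).surjective φ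
  exact ⟨f.ofConv, by rw [specA_eq_mapMulEquiv]; exact hf⟩

end dict

section act

variable {S : Scheme.{u}} {G P : Over S} [GrpObj G] (a : AlgGrp.Action G P)

open Groth.Agent.Lib.Lead.GaTorsor in
theorem one_smul' {T : Over S} (x : T ⟶ P) : smul a (1 : T ⟶ G) x = x := by
  unfold smul
  rw [Hom.one_def]
  have h1 : lift (toUnit T ≫ η[G]) x = lift (toUnit T) x ≫ (η[G] ▷ P) := by
    apply CartesianMonoidalCategory.hom_ext <;> simp
  rw [h1, Category.assoc, a.one_act, lift_leftUnitor_hom]

end act

section main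

variable (R : Type u) [CommRing R] [IsDomain R] (p : ℕ) [hp : Fact p.Prime]
  (lam mu : R) (h₁ : DivCond lam p) (h₂ : DivCond mu p)
  (L : Type u) [Field L] [Algebra R L] [IsAlgClosed L] [CharZero L]

/-- the geometric point scheme -/
noncomputable abbrev Tk : Over (Spec (CommRingCat.of R)) :=
  (Spec (.of L)).asOver (Spec (.of R))

include hp in
theorem card_points (hinj : Function.Injective (algebraMap R L)) :
    Nat.card (Tk R L ⟶ GK R lam p h₁) = p := by
  refine (Nat.card_congr
    ((Spec.mapMulEquiv (R := R) (S := AK R lam p h₁) (T := L)).toEquiv.symm.trans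
      (WithConv.equiv _))).trans ?_
  exact card_pts lam p h₁ (L := L) hinj

open Groth.Agent.Lib.Lead.GaTorsor in
include hp in
theorem smul_eq_self_of_geometric (hinj : Function.Injective (algebraMap R L))
    (a : AlgGrp.Action (GK R mu p h₂) (GK R lam p h₁))
    (hmul : ∀ (T : Over (Spec (CommRingCat.of R))) (g : T ⟶ GK R mu p h₂)
      (x y : T ⟶ GK R lam p h₁),
      lift g (x * y) ≫ a.act = (lift g x ≫ a.act) * (lift g y ≫ a.act))
    (g : Tk R L ⟶ GK R mu p h₂) (x : Tk R L ⟶ GK R lam p h₁) : lift g x ≫ a.act = x := by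
  have hG : ∀ g : Tk R L ⟶ GK R mu p h₂, g ^ p = 1 := by
    intro g
    have := pow_card_eq_one' (G := Tk R L ⟶ GK R mu p h₂) (x := g)
    rwa [card_points R p mu h₂ L hinj] at this
  exact act_trivial p hG (card_points R p lam h₁ L hinj) (fun g x => smul a g x)
    (fun x => one_smul' a x) (fun g g' x => mul_smul a g g' x)
    (fun g x y => hmul (Tk R L) g x y) g x

include hp in
/-- morphisms from `G_{μ,1} × G_{λ,1}` to `G_{λ,1}` are determined by geometric points -/
theorem hom_ext_of_geometric (hinj : Function.Injective (algebraMap R L))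
    (φ₁ φ₂ : GK R mu p h₂ ⊗ GK R lam p h₁ ⟶ GK R lam p h₁)
    (hφ : ∀ (g : Tk R L ⟶ GK R mu p h₂) (x : Tk R L ⟶ GK R lam p h₁),
      lift g x ≫ φ₁ = lift g x ≫ φ₂) : φ₁ = φ₂ := by
  set C := AK R mu p h₂ ⊗[R] AK R lam p h₁ with hC
  let iL : AK R mu p h₂ →ₐ[R] C := Algebra.TensorProduct.includeLeft
  let iR : AK R lam p h₁ →ₐ[R] C := Algebra.TensorProduct.includeRight
  let gC : (Spec (.of C)).asOver (Spec (.of R)) ⟶ GK R mu p h₂ := specA iL
  let xC : (Spec (.of C)).asOver (Spec (.of R)) ⟶ GK R lam p h₁ := specA iR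
  let e : (Spec (.of C)).asOver (Spec (.of R)) ⟶ GK R mu p h₂ ⊗ GK R lam p h₁ := lift gC xC
  have hfst : e.left ≫ pullback.fst (GK R mu p h₂).hom (GK R lam p h₁).hom = gC.left := by
    rw [← Over.fst_left, ← Over.comp_left, lift_fst]
  have hsnd : e.left ≫ pullback.snd (GK R mu p h₂).hom (GK R lam p h₁).hom = xC.left := by
    rw [← Over.snd_left, ← Over.comp_left, lift_snd]
  have he : e.left = (pullbackSpecIso R (AK R mu p h₂) (AK R lam p h₁)).inv := by
    refine pullback.hom_ext ?_ ?_
    · refine hfst.trans ?_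
      exact (pullbackSpecIso_inv_fst ..).symm
    · refine hsnd.trans ?_
      exact (pullbackSpecIso_inv_snd ..).symm
  haveI : IsIso e.left := by rw [he]; infer_instance
  haveI : IsIso e := by
    haveI : IsIso ((Over.forget _).map e) := ‹IsIso e.left›
    exact isIso_of_reflects_iso e (Over.forget _)
  rw [← cancel_epi e]
  obtain ⟨ψ₁, hψ₁⟩ := specA_surjective (R := R) (e ≫ φ₁)
  obtain ⟨ψ₂, hψ₂⟩ := specA_surjective (R := R) (e ≫ φ₂)
  rw [← hψ₁, ← hψ₂]
  congr 1
  apply algHom_ext_t lam p h₁
  rw [← sub_eq_zero]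
  apply eq_zero_of_forall_productMap lam mu p h₁ h₂ (L := L) hinj
  intro g' x'
  set χ := Algebra.TensorProduct.productMap g' x' with hχ
  rw [map_sub, sub_eq_zero]
  have key : χ.comp ψ₁ = χ.comp ψ₂ := by
    apply specA_injective (R := R)
    rw [specA_comp, specA_comp, hψ₁, hψ₂]
    have h1 : specA χ ≫ e = lift (specA g') (specA x') := by
      rw [comp_lift]
      congr 1
      · rw [← specA_comp]
        congr 1
        exact Algebra.TensorProduct.productMap_left g' x'
      · rw [← specA_comp]
        congr 1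
        exact Algebra.TensorProduct.productMap_right g' x'
    rw [← Category.assoc, ← Category.assoc, h1]
    exact hφ _ _
  exact congrArg (fun f => f AK.t) key

include hp in
theorem act_eq_snd (hinj : Function.Injective (algebraMap R L))
    (a : AlgGrp.Action (GK R mu p h₂) (GK R lam p h₁))
    (hmul : ∀ (T : Over (Spec (CommRingCat.of R))) (g : T ⟶ GK R mu p h₂)
      (x y : T ⟶ GK R lam p h₁),
      lift g (x * y) ≫ a.act = (lift g x ≫ a.act) * (lift g y ≫ a.act)) :
    a.act = snd (GK R mu p h₂) (GK R lam p h₁) := by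
  apply hom_ext_of_geometric R p lam mu h₁ h₂ L hinj
  intro g x
  rw [smul_eq_self_of_geometric R p lam mu h₁ h₂ L hinj a hmul g x, lift_snd]

end main

/-- the statement of S14683, for any domain of characteristic zero -/
theorem main_S14683 (R : Type u) [CommRing R] [IsDomain R] [CharZero R]
    (p : ℕ) [Fact p.Prime] (lam mu : R) (h₁ : DivCond lam p) (h₂ : DivCond mu p)
    (a : AlgGrp.Action (GK R mu p h₂) (GK R lam p h₁))
    (hmul : ∀ (T : Over (Spec (CommRingCat.of R))) (g : T ⟶ GK R mu p h₂)
      (x y : T ⟶ GK R lam p h₁),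
      lift g (x * y) ≫ a.act = (lift g x ≫ a.act) * (lift g y ≫ a.act))
    (T : Over (Spec (CommRingCat.of R))) (g : T ⟶ GK R mu p h₂) (x : T ⟶ GK R lam p h₁) :
    lift g x ≫ a.act = x := by
  let L := AlgebraicClosure (FractionRing R)
  have hinj : Function.Injective (algebraMap R L) := by
    rw [IsScalarTower.algebraMap_eq R (FractionRing R) L]
    exact (algebraMap (FractionRing R) L).injective.comp (IsFractionRing.injective R _)
  haveI : CharZero L := charZero_of_injective_algebraMap hinj
  rw [act_eq_snd R p lam mu h₁ h₂ L hinj a hmul, lift_snd]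

end Groth.Agent.Lib.Helper99.SekAct
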