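import Mathlib
import Groth.Agent.Lib.Lead.SekGeom
import Groth.Agent.Lib.Lead.GmTorsor

/-!
# The split multiplicative group `Red.bc f (Red.diag R ℤ)` is isomorphic to `Red.Gm X` as a group,
and its smooth surjective pseudo-torsors have sections over local schemes (helper99, for S14684)
-/

set_option autoImplicit false
universe u
open CategoryTheory CategoryTheory.Limits MonoidalCategory CartesianMonoidalCategory MonObj
  AlgebraicGeometry

namespace Groth.Agent.Lib.Helper99.SekGmIso

section abstract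

variable {C : Type*} [Category C] [CartesianMonoidalCategory C]

/-- A morphism of a monoid object into a group object which is multiplicative on points is a
morphism of monoid objects. -/
theorem isMonHom_of_pointwise {M N : C} [GrpObj M] [GrpObj N] (θ : M ⟶ N)
    (h : ∀ (T : C) (c c' : T ⟶ M), (c * c') ≫ θ = (c ≫ θ) * (c' ≫ θ)) : IsMonHom θ where
  one_hom := by
    rw [MonObj.one_eq_one, MonObj.one_eq_one]
    have h1 := h (𝟙_ C) 1 1
    rw [_root_.mul_one] at h1
    exact mul_eq_left.mp h1.symm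
  mul_hom := by
    rw [MonObj.mul_eq_mul, h, MonObj.mul_eq_mul, MonObj.comp_mul]
    congr 1
    · simp
    · simp

end abstract

section act

variable {S : Scheme.{u}} {G H Q : Over S} [GrpObj G] [GrpObj H]

/-- Restriction of an action along a homomorphism of group schemes. -/
noncomputable def restrictAction (θ : G ⟶ H) [IsMonHom θ] (b : AlgGrp.Action H Q) :
    AlgGrp.Action G Q where
  act := (θ ▷ Q) ≫ b.act
  one_act := by
    rw [← comp_whiskerRight_assoc, IsMonHom.one_hom, b.one_act]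
  mul_act := by
    rw [← comp_whiskerRight_assoc, IsMonHom.mul_hom, comp_whiskerRight_assoc, b.mul_act]
    rw [MonoidalCategory.whiskerLeft_comp, Category.assoc, whisker_exchange_assoc]
    conv_lhs => rw [← tensorHom_id, associator_naturality_assoc, tensorHom_id,
      tensorHom_def'_assoc]

theorem restrictAction_act (θ : G ⟶ H) [IsMonHom θ] (b : AlgGrp.Action H Q) :
    (restrictAction θ b).act = (θ ▷ Q) ≫ b.act := rfl

theorem isPseudoTorsorSch_restrict (θ : G ⟶ H) [IsMonHom θ] [IsIso θ] (b : AlgGrp.Action H Q)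
    (hps : NonAbH1.IsPseudoTorsorSch b) : NonAbH1.IsPseudoTorsorSch (restrictAction θ b) := by
  unfold NonAbH1.IsPseudoTorsorSch at hps ⊢
  have h : lift (restrictAction θ b).act (snd G Q) = (θ ▷ Q) ≫ lift b.act (snd H Q) := by
    rw [comp_lift, whiskerRight_snd, restrictAction_act]
  rw [h]
  infer_instance

end act

section main

open Groth.Agent.Lib.Lead.SekPts Groth.Agent.Lib.Lead.SekGeom

variable {X : Scheme.{u}} (R : Type u) [CommRing R] (f : X ⟶ Spec (CommRingCat.of R))

local notation "J'" => Red.bc f (Red.diag R ℤ)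

/-- a morphism `Red.Gm X ⟶ J'` whose function is the coordinate -/
theorem exists_theta : ∃ θ : Red.Gm X ⟶ J', eps R f (Red.Gm X) θ = Red.gmFn (𝟙 (Red.Gm X)) :=
  exists_eps R f (Red.Gm X) (GmPts.unitOfPt (𝟙 (Red.Gm X)))

theorem eps_comp_theta (θ : Red.Gm X ⟶ J')
    (hθ : eps R f (Red.Gm X) θ = Red.gmFn (𝟙 (Red.Gm X))) (T : Over X) (c : T ⟶ Red.Gm X) :
    eps R f T (c ≫ θ) = Red.gmFn c := by
  rw [eps_comp, hθ]
  have := GmPts.gmFn_comp c (𝟙 (Red.Gm X))
  rw [Category.comp_id] at this
  exact this.symm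

theorem exists_section_local_diag
    (hmul : ∀ (T : Over X) (c c' : T ⟶ J'), eps R f T (c * c') = eps R f T c * eps R f T c')
    (Q : Over X) (b : AlgGrp.Action J' Q) (hps : NonAbH1.IsPseudoTorsorSch b)
    [Smooth Q.hom] [Surjective Q.hom] (A : CommRingCat.{u}) [IsLocalRing A] (j : Spec A ⟶ X) :
    ∃ s : Spec A ⟶ Q.left, s ≫ Q.hom = j := by
  obtain ⟨θ, hθ⟩ := exists_theta R f
  have hc := eps_comp_theta R f θ hθ
  -- the inverse
  let θ' : J' ⟶ Red.Gm X := GmPts.ptOfUnit (isUnit_eps R f J' (𝟙 J')).unit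
  have hθ' : Red.gmFn θ' = eps R f J' (𝟙 J') := by
    rw [GmPts.gmFn_ptOfUnit]
    rfl
  have h1 : θ ≫ θ' = 𝟙 (Red.Gm X) := by
    apply GmPts.gmFn_injective
    show Red.gmFn (θ ≫ θ') = Red.gmFn (𝟙 (Red.Gm X))
    rw [GmPts.gmFn_comp, hθ']
    have := eps_comp R f θ (𝟙 J')
    rw [Category.comp_id] at this
    rw [← hθ, this]
  have h2 : θ' ≫ θ = 𝟙 J' := by
    apply eps_injective R f J'
    rw [hc, hθ']
  haveI : IsIso θ := ⟨θ', h1, h2⟩
  have hMon : @IsMonHom (Over X) _ _ (Red.Gm X) J' (Red.grpObj_bc _ _).toMonObj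
      (Red.grpObj_bc f _).toMonObj θ :=
    @isMonHom_of_pointwise (Over X) _ _ (Red.Gm X) J' (Red.grpObj_bc _ _) (Red.grpObj_bc f _) θ (by
      intro T c c'
      apply eps_injective R f T
      rw [hc]
      refine Eq.trans ?_ (hmul T (c ≫ θ) (c' ≫ θ)).symm
      rw [hc, hc]
      exact GmPts.gmFn_mul c c')
  exact Groth.Agent.Lib.Lead.GmTorsor.exists_section_local Q
    (@restrictAction X (Red.Gm X) J' Q (Red.grpObj_bc _ _) (Red.grpObj_bc f _) θ hMon b)
    (@isPseudoTorsorSch_restrict X (Red.Gm X) J' Q (Red.grpObj_bc _ _) (Red.grpObj_bc f _) θ hMon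
      inferInstance b hps) A j

end main

end Groth.Agent.Lib.Helper99.SekGmIso
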