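import Mathlib

/-!
# Diagonal completion and separable elements: easy direction (helper99)

For `x : L` separable over `K`, `x ⊗ 1 - 1 ⊗ x` lies in every power of the diagonal ideal of
`L ⊗[K] L`.
-/

set_option autoImplicit false

namespace Groth.Agent.Lib.Helper99.SepDiag

open TensorProduct Polynomial

/-- equality in the adic completion of the ring amounts to congruence modulo all powers. -/
theorem of_eq_of_iff {R : Type*} [CommRing R] (I : Ideal R) (a b : R) :
    AdicCompletion.of I R a = AdicCompletion.of I R b ↔ ∀ n : ℕ, a - b ∈ I ^ n := by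
  constructor
  · intro h n
    have h1 := congrArg (AdicCompletion.eval I R n) h
    rw [AdicCompletion.eval_of, AdicCompletion.eval_of] at h1
    have h2 := (Submodule.Quotient.eq _).mp h1
    rwa [smul_eq_mul, Ideal.mul_top] at h2
  · intro h
    apply AdicCompletion.ext
    intro n
    rw [AdicCompletion.of_apply, AdicCompletion.of_apply]
    apply (Submodule.Quotient.eq _).mpr
    rw [smul_eq_mul, Ideal.mul_top]
    exact h n

variable (K L : Type*) [Field K] [Field L] [Algebra K L]

theorem sub_mem_pow_of_isSeparable (x : L) (hx : IsSeparable K x) (n : ℕ) :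
    (x ⊗ₜ[K] (1 : L) - (1 : L) ⊗ₜ[K] x) ∈ KaehlerDifferential.ideal K L ^ n := by
  set B := L ⊗[K] L
  set X : B := x ⊗ₜ[K] (1 : L) with hXdef
  set Y : B := (1 : L) ⊗ₜ[K] x with hYdef
  set δ : B := X - Y with hδ
  set f := minpoly K x with hf
  have hsep : f.Separable := hx
  have hfx : aeval x f = 0 := minpoly.aeval K x
  have hX : aeval X f = 0 := by
    have := Polynomial.aeval_algHom_apply
      (Algebra.TensorProduct.includeLeft : L →ₐ[K] B) x f
    rw [hfx, map_zero] at this
    exact this
  have hY : aeval Y f = 0 := by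
    have := Polynomial.aeval_algHom_apply
      (Algebra.TensorProduct.includeRight : L →ₐ[K] B) x f
    rw [hfx, map_zero] at this
    exact this
  have hY' : aeval Y (derivative f) = (1 : L) ⊗ₜ[K] (aeval x (derivative f)) :=
    Polynomial.aeval_algHom_apply
      (Algebra.TensorProduct.includeRight : L →ₐ[K] B) x (derivative f)
  have hne : aeval x (derivative f) ≠ 0 := hsep.aeval_derivative_ne_zero hfx
  obtain ⟨k, hk⟩ := (f.map (algebraMap K B)).binomExpansion Y δ
  have hYδ : Y + δ = X := by rw [hδ]; ring
  rw [hYδ, Polynomial.eval_map_algebraMap, Polynomial.eval_map_algebraMap, Polynomial.derivative_map,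
    Polynomial.eval_map_algebraMap, hX, hY, zero_add, hY'] at hk
  set v : B := (1 : L) ⊗ₜ[K] (aeval x (derivative f))⁻¹ with hv
  have huv : v * ((1 : L) ⊗ₜ[K] (aeval x (derivative f))) = 1 := by
    rw [hv, Algebra.TensorProduct.tmul_mul_tmul, one_mul, inv_mul_cancel₀ hne]
    rfl
  have key : δ = (-(v * k * δ)) * δ := by
    have h1 : v * (((1 : L) ⊗ₜ[K] (aeval x (derivative f))) * δ + k * δ ^ 2) = 0 := by
      rw [← hk, mul_zero]
    rw [mul_add, ← mul_assoc, huv, one_mul] at h1
    have : δ = -(v * (k * δ ^ 2)) := eq_neg_of_add_eq_zero_left h1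
    conv_lhs => rw [this]
    ring
  have hδI : δ ∈ KaehlerDifferential.ideal K L := by
    have := KaehlerDifferential.one_smul_sub_smul_one_mem_ideal K x
    have h2 : δ = -((1 : L) ⊗ₜ[K] x - x ⊗ₜ[K] (1 : L)) := by rw [hδ]; ring
    rw [h2]
    exact neg_mem this
  induction n with
  | zero => simp
  | succ n ih =>
    rw [key, pow_succ']
    exact Ideal.mul_mem_mul (neg_mem (Ideal.mul_mem_left _ (v * k) hδI)) ih

end Groth.Agent.Lib.Helper99.SepDiag
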