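import Mathlib
import Groth.Agent.Lib.Helper99.SepDiagA

/-!
# Diagonal completion and separable elements: hard direction (helper99)

If `x ⊗ 1 - 1 ⊗ x` lies in every power of the diagonal ideal of `L ⊗[K] L` (`L/K` finitely
generated) then `x` is separable algebraic over `K`.
-/

set_option autoImplicit false
universe u

namespace Groth.Agent.Lib.Helper99.SepDiag

open TensorProduct Polynomial IntermediateField

variable (K L : Type u) [Field K] [Field L] [Algebra K L]

/-- the two-sided functional `φ ⊗ ψ : L ⊗[K] L → F ⊗[K] F`. -/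
noncomputable def T (F : IntermediateField K L) (φ ψ : L →ₗ[F] F) :
    L ⊗[K] L →ₗ[K] F ⊗[K] F :=
  TensorProduct.map (φ.restrictScalars K) (ψ.restrictScalars K)

variable {K L}

lemma T_tmul (F : IntermediateField K L) (φ ψ : L →ₗ[F] F) (a b : L) :
    T K L F φ ψ (a ⊗ₜ[K] b) = φ a ⊗ₜ[K] ψ b := rfl

lemma T_mul (F : IntermediateField K L) (φ ψ : L →ₗ[F] F) (c : F ⊗[K] F) (z : L ⊗[K] L) :
    T K L F φ ψ (Algebra.TensorProduct.map F.val F.val c * z) = c * T K L F φ ψ z := by
  induction c using TensorProduct.induction_on with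
  | zero => simp
  | add c₁ c₂ h₁ h₂ => rw [map_add, add_mul, map_add, h₁, h₂, add_mul]
  | tmul a b =>
    induction z using TensorProduct.induction_on with
    | zero => simp
    | add z₁ z₂ h₁ h₂ => rw [mul_add, map_add, h₁, h₂, map_add, mul_add]
    | tmul u v =>
      rw [Algebra.TensorProduct.map_tmul, Algebra.TensorProduct.tmul_mul_tmul, T_tmul, T_tmul,
        Algebra.TensorProduct.tmul_mul_tmul]
      have h1 : φ (F.val a * u) = a * φ u := by
        have : F.val a * u = a • u := rfl
        rw [this, map_smul, smul_eq_mul]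
      have h2 : ψ (F.val b * v) = b * ψ v := by
        have : F.val b * v = b • v := rfl
        rw [this, map_smul, smul_eq_mul]
      rw [h1, h2]

/-- `a ⊗ b ↦ a * ψ b`. -/
noncomputable def Psi (F : IntermediateField K L) (ψ : L →ₗ[F] F) : L ⊗[K] L →ₗ[K] L :=
  (Algebra.TensorProduct.lmul' K (S := L)).toLinearMap ∘ₗ
    TensorProduct.map LinearMap.id (F.val.toLinearMap ∘ₗ ψ.restrictScalars K)

lemma Psi_tmul (F : IntermediateField K L) (ψ : L →ₗ[F] F) (a b : L) :
    Psi F ψ (a ⊗ₜ[K] b) = a * (ψ b : L) := rfl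

lemma apply_Psi (F : IntermediateField K L) (φ ψ : L →ₗ[F] F) (z : L ⊗[K] L) :
    φ (Psi F ψ z) = Algebra.TensorProduct.lmul' K (T K L F φ ψ z) := by
  induction z using TensorProduct.induction_on with
  | zero => simp
  | add z₁ z₂ h₁ h₂ => rw [map_add, map_add, map_add, map_add, h₁, h₂]
  | tmul a b =>
    rw [Psi_tmul, T_tmul, Algebra.TensorProduct.lmul'_apply_tmul]
    have : a * (ψ b : L) = (ψ b) • a := by rw [mul_comm]; rfl
    rw [this, map_smul, smul_eq_mul, mul_comm]

lemma lmul'_eq_zero_of_forall_Psi (F : IntermediateField K L) (z : L ⊗[K] L)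
    (h : ∀ ψ : L →ₗ[F] F, Psi F ψ z = 0) : Algebra.TensorProduct.lmul' K z = 0 := by
  classical
  obtain ⟨T0, hT0⟩ := TensorProduct.exists_finset z
  let e := Module.Basis.ofVectorSpace F L
  let J : Finset _ := T0.biUnion (fun i => (e.repr i.2).support)
  have hrepr : ∀ i ∈ T0, i.2 = ∑ j ∈ J, ((e.repr i.2 j : F) : L) * e j := by
    intro i hi
    have h1 := e.linearCombination_repr i.2
    rw [Finsupp.linearCombination_apply] at h1
    have h2 : ((e.repr i.2).sum fun j a => a • e j) = ∑ j ∈ J, (e.repr i.2 j) • e j :=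
      Finsupp.sum_of_support_subset _ (Finset.subset_biUnion_of_mem
        (fun i : L × L => (e.repr i.2).support) hi) _ (fun j _ => zero_smul _ _)
    rw [h2] at h1
    conv_lhs => rw [← h1]
    rfl
  have hPsi : ∀ j, ∑ i ∈ T0, i.1 * ((e.repr i.2 j : F) : L) = 0 := by
    intro j
    have := h (e.coord j)
    rw [hT0, map_sum] at this
    simpa [Psi_tmul] using this
  rw [hT0, map_sum]
  simp only [Algebra.TensorProduct.lmul'_apply_tmul]
  calc ∑ i ∈ T0, i.1 * i.2
      = ∑ i ∈ T0, i.1 * ∑ j ∈ J, ((e.repr i.2 j : F) : L) * e j := by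
        refine Finset.sum_congr rfl fun i hi => ?_
        conv_lhs => rw [hrepr i hi]
    _ = ∑ j ∈ J, (∑ i ∈ T0, i.1 * ((e.repr i.2 j : F) : L)) * e j := by
        simp_rw [Finset.mul_sum, Finset.sum_mul]
        rw [Finset.sum_comm]
        refine Finset.sum_congr rfl fun j _ => Finset.sum_congr rfl fun i _ => ?_
        ring
    _ = 0 := by
        refine Finset.sum_eq_zero fun j _ => ?_
        rw [hPsi j, zero_mul]

lemma exists_T_ne (F : IntermediateField K L) (z : L ⊗[K] L)
    (hz : Algebra.TensorProduct.lmul' K z ≠ 0) :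
    ∃ φ ψ : L →ₗ[F] F, Algebra.TensorProduct.lmul' K (T K L F φ ψ z) ≠ 0 := by
  by_contra hcon
  push Not at hcon
  apply hz
  apply lmul'_eq_zero_of_forall_Psi F
  intro ψ
  rw [← Module.forall_dual_apply_eq_zero_iff F]
  intro φ
  exact (apply_Psi F φ ψ z).trans (hcon φ ψ)

/-- A derivation of `K⟮x⟯` killing `x` is zero. -/
lemma derivation_eq_zero {M : Type*} [AddCommGroup M] (x : L) [Module K M] [Module K⟮x⟯ M]
    [IsScalarTower K K⟮x⟯ M] (D : Derivation K K⟮x⟯ M)
    (hD : D (⟨x, mem_adjoin_simple_self K x⟩ : K⟮x⟯) = 0) (y : K⟮x⟯) : D y = 0 := by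
  set x' : K⟮x⟯ := ⟨x, mem_adjoin_simple_self K x⟩ with hx'
  obtain ⟨r, s, hrs⟩ := (mem_adjoin_simple_iff K (y : L)).mp y.2
  have hy : y = aeval x' r / aeval x' s := by
    apply Subtype.ext
    rw [hrs]
    have h1 : ((aeval x' r : K⟮x⟯) : L) = aeval x r :=
      (Polynomial.aeval_algHom_apply K⟮x⟯.val x' r).symm
    have h2 : ((aeval x' s : K⟮x⟯) : L) = aeval x s :=
      (Polynomial.aeval_algHom_apply K⟮x⟯.val x' s).symm
    rw [IntermediateField.coe_div, h1, h2]
  rw [hy, Derivation.leibniz_div, Derivation.map_aeval, Derivation.map_aeval, hD]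
  simp

variable (K L)

theorem isSeparable_of_forall_mem_pow [Algebra.EssFiniteType K L] (x : L)
    (h : ∀ n : ℕ, (x ⊗ₜ[K] (1 : L) - (1 : L) ⊗ₜ[K] x) ∈ KaehlerDifferential.ideal K L ^ n) :
    IsSeparable K x := by
  haveI : IsNoetherianRing (L ⊗[K] L) := Algebra.EssFiniteType.isNoetherianRing L (L ⊗[K] L)
  set I := KaehlerDifferential.ideal K L with hI
  set δ : L ⊗[K] L := x ⊗ₜ[K] (1 : L) - (1 : L) ⊗ₜ[K] x with hδ
  -- Krull intersection
  have hmem : δ ∈ (⨅ i : ℕ, I ^ i • ⊤ : Submodule (L ⊗[K] L) (L ⊗[K] L)) := by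
    rw [Submodule.mem_iInf]
    intro i
    rw [smul_eq_mul, Ideal.mul_top]
    exact h i
  obtain ⟨r, hr⟩ := (Ideal.mem_iInf_smul_pow_eq_bot_iff I δ).mp hmem
  set s : L ⊗[K] L := 1 - r with hs
  have hsδ : s * δ = 0 := by
    rw [hs, sub_mul, one_mul, ← smul_eq_mul (r : L ⊗[K] L), hr, sub_self]
  have hsI : Algebra.TensorProduct.lmul' K s ≠ 0 := by
    have hr0 : Algebra.TensorProduct.lmul' K (r : L ⊗[K] L) = 0 := r.2
    rw [hs, map_sub, map_one, hr0, sub_zero]
    exact one_ne_zero
  -- pass to `F = K(x)`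
  set F : IntermediateField K L := K⟮x⟯ with hF
  set x' : F := ⟨x, mem_adjoin_simple_self K x⟩ with hx'
  obtain ⟨φ, ψ, hφψ⟩ := exists_T_ne F s hsI
  set c : F ⊗[K] F := T K L F φ ψ s with hc
  set δF : F ⊗[K] F := x' ⊗ₜ[K] (1 : F) - (1 : F) ⊗ₜ[K] x' with hδF
  have hmap : Algebra.TensorProduct.map F.val F.val δF = δ := by
    rw [hδF, map_sub, Algebra.TensorProduct.map_tmul, Algebra.TensorProduct.map_tmul, map_one]
    rfl
  have hcδ : δF * c = 0 := by
    rw [hc, ← T_mul, hmap, mul_comm, hsδ, map_zero]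
  -- every derivation kills `x'`
  have hDx : (KaehlerDifferential.D K F) x' = 0 := by
    have h1 := (KaehlerDifferential.D K F).tensorProductTo_mul δF c
    rw [hcδ, map_zero] at h1
    have h2 : Algebra.TensorProduct.lmul' K δF = 0 := by
      rw [hδF, map_sub, Algebra.TensorProduct.lmul'_apply_tmul,
        Algebra.TensorProduct.lmul'_apply_tmul, mul_one, one_mul, sub_self]
    have h3 : (KaehlerDifferential.D K F).tensorProductTo δF = -(KaehlerDifferential.D K F) x' := by
      rw [hδF, map_sub, Derivation.tensorProductTo_tmul, Derivation.tensorProductTo_tmul]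
      simp
    rw [h2, zero_smul, zero_add, h3, smul_neg, eq_comm, neg_eq_zero] at h1
    exact (smul_eq_zero.mp h1).resolve_left hφψ
  have hD0 : ∀ y : F, (KaehlerDifferential.D K F) y = 0 :=
    fun y => derivation_eq_zero x _ hDx y
  haveI : Subsingleton (Ω[F⁄K]) := by
    have hspan := KaehlerDifferential.span_range_derivation K F
    have : Set.range (KaehlerDifferential.D K F) = {0} := by
      ext w
      constructor
      · rintro ⟨y, rfl⟩
        exact hD0 y
      · rintro rfl
        exact ⟨0, map_zero _⟩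
    rw [this, Submodule.span_singleton_eq_bot.mpr rfl] at hspan
    exact (Submodule.subsingleton_iff F).mp (subsingleton_of_bot_eq_top hspan)
  haveI : Algebra.FormallyUnramified K F := ⟨inferInstance⟩
  haveI : Algebra.EssFiniteType K F :=
    IntermediateField.essFiniteType_iff.mpr (by
      have := IntermediateField.fg_adjoin_finset (F := K) ({x} : Finset L)
      simpa using this)
  haveI : Algebra.IsSeparable K F := (Algebra.FormallyUnramified.iff_isSeparable K F).mp inferInstance
  have hx's : IsSeparable K x' := Algebra.IsSeparable.isSeparable K x'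
  have := hx's.map (f := F.val)
  simpa using this

end Groth.Agent.Lib.Helper99.SepDiag
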