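import Mathlib

namespace Groth.Agent.Lib.Helper99.Verlinde

open Complex Finset

/-- `E N x = exp(2πi x / N)`. -/
noncomputable def E (N : ℕ) (x : ℤ) : ℂ :=
  Complex.exp (2 * Real.pi * Complex.I * (x : ℂ) / (N : ℂ))

lemma E_add (N : ℕ) (x y : ℤ) : E N (x + y) = E N x * E N y := by
  simp only [E, ← Complex.exp_add]; congr 1; push_cast; ring

@[simp] lemma E_zero (N : ℕ) : E N 0 = 1 := by simp [E]

lemma E_neg (N : ℕ) (x : ℤ) : E N (-x) = (E N x)⁻¹ := by
  simp only [E, ← Complex.exp_neg]; congr 1; push_cast; ring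

lemma E_ne_zero (N : ℕ) (x : ℤ) : E N x ≠ 0 := Complex.exp_ne_zero _

lemma E_sub (N : ℕ) (x y : ℤ) : E N (x - y) = E N x / E N y := by
  rw [sub_eq_add_neg, E_add, E_neg, div_eq_mul_inv]

lemma E_pow (N : ℕ) (x : ℤ) (m : ℕ) : E N x ^ m = E N (x * m) := by
  simp only [E, ← Complex.exp_nat_mul]; congr 1; push_cast; ring

lemma E_sum {ι : Type*} (s : Finset ι) (N : ℕ) (f : ι → ℤ) :
    E N (∑ i ∈ s, f i) = ∏ i ∈ s, E N (f i) := by
  classical
  induction s using Finset.induction_on with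
  | empty => simp
  | insert a s ha ih => rw [Finset.sum_insert ha, Finset.prod_insert ha, E_add, ih]

lemma E_self_mul {N : ℕ} (hN : N ≠ 0) (x : ℤ) : E N (N * x) = 1 := by
  have hN' : (N : ℂ) ≠ 0 := by exact_mod_cast hN
  have : (2 * Real.pi * Complex.I * (((N : ℤ) * x : ℤ) : ℂ) / (N : ℂ)) = x * (2 * Real.pi * Complex.I) := by
    push_cast; field_simp
  rw [E, this, Complex.exp_int_mul_two_pi_mul_I]

lemma E_eq_one_iff {N : ℕ} (hN : N ≠ 0) (x : ℤ) : E N x = 1 ↔ (N : ℤ) ∣ x := by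
  have hN' : (N : ℂ) ≠ 0 := by exact_mod_cast hN
  constructor
  · intro h
    rw [E, Complex.exp_eq_one_iff] at h
    obtain ⟨m, hm⟩ := h
    refine ⟨m, ?_⟩
    have h2 : (2 * Real.pi * Complex.I : ℂ) ≠ 0 := Complex.two_pi_I_ne_zero
    have : (x : ℂ) = (N : ℂ) * m := by
      field_simp at hm
      exact hm
    exact_mod_cast this
  · rintro ⟨m, rfl⟩
    exact E_self_mul hN m

lemma E_congr {N : ℕ} (hN : N ≠ 0) {x y : ℤ} (h : (N : ℤ) ∣ x - y) : E N x = E N y := by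
  have : E N (x - y) = 1 := (E_eq_one_iff hN _).2 h
  rw [E_sub, div_eq_one_iff_eq (E_ne_zero _ _)] at this
  exact this

lemma E_mul_mul (r : ℕ) (hr : r ≠ 0) (n : ℕ) (x : ℤ) : E (r * n) (r * x) = E n x := by
  have hr' : (r : ℂ) ≠ 0 := by exact_mod_cast hr
  simp only [E]; congr 1; push_cast
  by_cases hn : (n : ℂ) = 0
  · simp [hn]
  · field_simp

lemma sum_E {N : ℕ} (hN : N ≠ 0) (x : ℤ) :
    ∑ t : Fin N, E N (x * ((t : ℕ) : ℤ)) = if (N : ℤ) ∣ x then (N : ℂ) else 0 := by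
  split_ifs with h
  · have : ∀ t : Fin N, E N (x * ((t : ℕ) : ℤ)) = 1 := by
      intro t
      exact (E_eq_one_iff hN _).2 (Dvd.dvd.mul_right h _)
    simp [this]
  · have h1 : E N x ≠ 1 := fun h' => h ((E_eq_one_iff hN x).1 h')
    have h2 : ∀ t : Fin N, E N (x * ((t : ℕ) : ℤ)) = E N x ^ (t : ℕ) := by
      intro t; rw [E_pow]
    simp only [h2]
    rw [Fin.sum_univ_eq_sum_range (fun t => E N x ^ t) N, geom_sum_eq h1]
    have : E N x ^ N = 1 := by
      rw [E_pow, mul_comm]; exact E_self_mul hN x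
    rw [this]; simp

end Groth.Agent.Lib.Helper99.Verlinde
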