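import Groth.Agent.Lib.Helper99.VerlindeA

namespace Groth.Agent.Lib.Helper99.Verlinde

open Complex Finset

/-- The alternant `det (ζ^{e_i u_j})`, `ζ = exp(2πi/n)`. -/
noncomputable def A {r : ℕ} (n : ℕ) (e u : Fin r → ℤ) : ℂ :=
  (Matrix.of fun i j : Fin r => E n (e i * u j)).det

lemma A_apply {r : ℕ} (n : ℕ) (e u : Fin r → ℤ) :
    A n e u = ∑ σ : Equiv.Perm (Fin r), (Equiv.Perm.sign σ : ℂ) * ∏ j, E n (e (σ j) * u j) := by
  rw [A, Matrix.det_apply']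
  simp

lemma A_transpose {r : ℕ} (n : ℕ) (e u : Fin r → ℤ) : A n e u = A n u e := by
  rw [A, A, ← Matrix.det_transpose]
  congr 1
  ext i j
  simp [Matrix.transpose_apply, mul_comm]

lemma A_perm_left {r : ℕ} (n : ℕ) (e u : Fin r → ℤ) (σ : Equiv.Perm (Fin r)) :
    A n (e ∘ σ) u = (Equiv.Perm.sign σ : ℂ) * A n e u := by
  rw [A, A, ← Matrix.det_permute σ]
  rfl

lemma A_perm_right {r : ℕ} (n : ℕ) (e u : Fin r → ℤ) (σ : Equiv.Perm (Fin r)) :
    A n e (u ∘ σ) = (Equiv.Perm.sign σ : ℂ) * A n e u := by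
  rw [A_transpose, A_perm_left, A_transpose]

lemma A_add_const_right {r : ℕ} (n : ℕ) (e u : Fin r → ℤ) (t : ℤ) :
    A n e (fun j => u j + t) = E n (t * ∑ i, e i) * A n e u := by
  rw [A, A, Finset.mul_sum, E_sum, ← Matrix.det_mul_column]
  congr 1
  ext i j
  simp only [Matrix.of_apply]
  rw [← E_add]; congr 1; ring

lemma A_add_const_left {r : ℕ} (n : ℕ) (e u : Fin r → ℤ) (t : ℤ) :
    A n (fun i => e i + t) u = E n (t * ∑ j, u j) * A n e u := by
  rw [A_transpose, A_add_const_right, A_transpose]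

lemma A_congr_right {r : ℕ} {n : ℕ} (hn : n ≠ 0) (e : Fin r → ℤ) {u u' : Fin r → ℤ}
    (h : ∀ j, (n : ℤ) ∣ u j - u' j) : A n e u = A n e u' := by
  rw [A, A]
  congr 1
  ext i j
  simp only [Matrix.of_apply]
  apply E_congr hn
  rw [← mul_sub]
  exact Dvd.dvd.mul_left (h j) _

lemma A_congr_left {r : ℕ} {n : ℕ} (hn : n ≠ 0) {e e' : Fin r → ℤ} (u : Fin r → ℤ)
    (h : ∀ j, (n : ℤ) ∣ e j - e' j) : A n e u = A n e' u := by
  rw [A_transpose, A_congr_right hn u h, A_transpose]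

lemma A_eq_zero_of_eq_right {r : ℕ} (n : ℕ) (e u : Fin r → ℤ) {i j : Fin r} (hij : i ≠ j)
    (h : u i = u j) : A n e u = 0 := by
  rw [A]
  apply Matrix.det_zero_of_column_eq hij
  intro k
  simp [h]

/-- Fourier orthogonality on the full cube. -/
lemma sum_A_mul_A {r : ℕ} {n : ℕ} (hn : n ≠ 0) (a b : Fin r → ℤ) :
    ∑ u : Fin r → Fin n, A n a (fun j => ((u j : ℕ) : ℤ)) * A n (fun i => - b i) (fun j => ((u j : ℕ) : ℤ)) =
      ∑ σ : Equiv.Perm (Fin r), ∑ τ : Equiv.Perm (Fin r),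
        (Equiv.Perm.sign σ : ℂ) * (Equiv.Perm.sign τ : ℂ) *
          (if ∀ j, (n : ℤ) ∣ a (σ j) - b (τ j) then (n : ℂ) ^ r else 0) := by
  simp only [A_apply, Finset.sum_mul_sum]
  rw [Finset.sum_comm]
  refine Finset.sum_congr rfl fun σ _ => ?_
  rw [Finset.sum_comm]
  refine Finset.sum_congr rfl fun τ _ => ?_
  have key : ∀ u : Fin r → Fin n,
      ((Equiv.Perm.sign σ : ℂ) * ∏ j, E n (a (σ j) * ((u j : ℕ) : ℤ))) *
        ((Equiv.Perm.sign τ : ℂ) * ∏ j, E n (-b (τ j) * ((u j : ℕ) : ℤ))) =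
      (Equiv.Perm.sign σ : ℂ) * (Equiv.Perm.sign τ : ℂ) *
        ∏ j, E n ((a (σ j) - b (τ j)) * ((u j : ℕ) : ℤ)) := by
    intro u
    have : ∀ j, E n ((a (σ j) - b (τ j)) * ((u j : ℕ) : ℤ)) =
        E n (a (σ j) * ((u j : ℕ) : ℤ)) * E n (-b (τ j) * ((u j : ℕ) : ℤ)) := by
      intro j; rw [← E_add]; congr 1; ring
    simp only [this, Finset.prod_mul_distrib]
    ring
  simp only [key]
  rw [← Finset.mul_sum]
  congr 1
  have := Finset.prod_univ_sum (fun _ : Fin r => (Finset.univ : Finset (Fin n)))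
    (fun j t => E n ((a (σ j) - b (τ j)) * ((t : ℕ) : ℤ)))
  rw [Fintype.piFinset_univ] at this
  rw [← this]
  simp only [sum_E hn]
  rw [Finset.prod_ite_zero]
  simp

end Groth.Agent.Lib.Helper99.Verlinde
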