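import Groth.Agent.Lib.Helper99.VerlindeB

namespace Groth.Agent.Lib.Helper99.Verlinde

open Complex Finset

/-- Sum of a symmetric function vanishing on non-injective tuples = `r!` times the sum over
strictly decreasing tuples. -/
lemma sum_eq_factorial_mul_sum_strictAnti {r n : ℕ} (F : (Fin r → Fin n) → ℂ)
    (hsym : ∀ (u : Fin r → Fin n) (σ : Equiv.Perm (Fin r)), F (u ∘ σ) = F u)
    (hvan : ∀ u : Fin r → Fin n, ¬ Function.Injective u → F u = 0) :
    ∑ u, F u = (r.factorial : ℂ) *
      ∑ v ∈ (Finset.univ : Finset (Fin r → Fin n)).filter (fun v => StrictAnti v), F v := by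
  classical
  have h1 : ∑ u, F u = ∑ u ∈ (Finset.univ : Finset (Fin r → Fin n)).filter
      (fun u => Function.Injective u), F u := by
    rw [Finset.sum_filter]
    refine Finset.sum_congr rfl fun u _ => ?_
    split_ifs with h
    · rfl
    · exact hvan u h
  have h2 : (r.factorial : ℂ) *
      ∑ v ∈ (Finset.univ : Finset (Fin r → Fin n)).filter (fun v => StrictAnti v), F v =
      ∑ p ∈ (Finset.univ : Finset (Equiv.Perm (Fin r))) ×ˢ
        (Finset.univ : Finset (Fin r → Fin n)).filter (fun v => StrictAnti v), F p.2 := by
    rw [Finset.sum_product]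
    simp [Fintype.card_perm]
  rw [h1, h2]
  symm
  refine Finset.sum_bij (fun p _ => p.2 ∘ p.1) ?_ ?_ ?_ ?_
  · rintro ⟨σ, v⟩ hp
    simp only [Finset.mem_product, Finset.mem_filter, Finset.mem_univ, true_and] at hp ⊢
    exact hp.injective.comp σ.injective
  · rintro ⟨σ, v⟩ hp ⟨σ', v'⟩ hp' h
    simp only [Finset.mem_product, Finset.mem_filter, Finset.mem_univ, true_and] at hp hp'
    simp only at h
    have hv : v = v' := by
      rw [← hp.range_inj hp']
      have e1 : Set.range v = Set.range (v ∘ σ) := (EquivLike.range_comp v σ).symm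
      have e2 : Set.range v' = Set.range (v' ∘ σ') := (EquivLike.range_comp v' σ').symm
      rw [e1, e2, h]
    subst hv
    have hσ : σ = σ' := by
      ext x
      have := congrFun h x
      simp only [Function.comp_apply] at this
      exact congrArg _ (hp.injective this)
    rw [hσ]
  · intro u hu
    simp only [Finset.mem_filter, Finset.mem_univ, true_and] at hu
    have hmono : StrictMono (u ∘ Tuple.sort u) :=
      (Tuple.monotone_sort u).strictMono_of_injective (hu.comp (Tuple.sort u).injective)
    have hanti : StrictAnti ((u ∘ Tuple.sort u) ∘ Fin.revPerm) := by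
      apply hmono.comp_strictAnti
      intro i j hij
      simpa using hij
    refine ⟨⟨(Tuple.sort u * Fin.revPerm)⁻¹, (u ∘ Tuple.sort u) ∘ Fin.revPerm⟩, ?_, ?_⟩
    · simp only [Finset.mem_product, Finset.mem_filter, Finset.mem_univ, true_and]
      exact hanti
    · ext x
      simp [Equiv.Perm.mul_def, Function.comp]
  · rintro ⟨σ, v⟩ _
    exact (hsym v σ).symm


/-- For injective `u`, the number of `j` with `u j = t` is the indicator of `t ∈ range u`. -/
lemma card_filter_eq_of_injective {r n : ℕ} (u : Fin r → Fin n) (hu : Function.Injective u)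
    (t : Fin n) :
    ((Finset.univ.filter (fun j => u j = t)).card : ℂ) = if ∃ j, u j = t then 1 else 0 := by
  classical
  split_ifs with h
  · obtain ⟨j₀, hj₀⟩ := h
    have : Finset.univ.filter (fun j => u j = t) = {j₀} := by
      ext j
      simp only [Finset.mem_filter, Finset.mem_univ, true_and, Finset.mem_singleton]
      constructor
      · intro hj; exact hu (hj.trans hj₀.symm)
      · rintro rfl; exact hj₀
    rw [this]; simp
  · have : Finset.univ.filter (fun j => u j = t) = ∅ := by
      ext j
      simp only [Finset.mem_filter, Finset.mem_univ, true_and, Finset.notMem_empty, iff_false]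
      intro hj; exact h ⟨j, hj⟩
    rw [this]; simp

/-- Translation-invariant `F`: the sum over tuples with fixed `j`-th coordinate is `1/n` of total. -/
lemma shift_fixed_coord {r n : ℕ} [NeZero n] (F : (Fin r → Fin n) → ℂ)
    (hshift : ∀ (u : Fin r → Fin n) (t : Fin n), F (fun j => u j + t) = F u) (j : Fin r)
    (t₀ : Fin n) :
    (n : ℂ) * ∑ u ∈ (Finset.univ : Finset (Fin r → Fin n)).filter (fun u => u j = t₀), F u =
      ∑ u, F u := by
  classical
  rw [← Finset.sum_fiberwise (Finset.univ : Finset (Fin r → Fin n)) (fun u => u j) F]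
  have : ∀ s : Fin n, ∑ u ∈ (Finset.univ : Finset (Fin r → Fin n)).filter (fun u => u j = s), F u =
      ∑ u ∈ (Finset.univ : Finset (Fin r → Fin n)).filter (fun u => u j = t₀), F u := by
    intro s
    refine Finset.sum_equiv (Equiv.addRight (fun _ => t₀ - s)) ?_ ?_
    · intro u
      simp only [Finset.mem_filter, Finset.mem_univ, true_and, Equiv.coe_addRight, Pi.add_apply]
      constructor
      · rintro rfl; abel
      · intro h
        have : u j = t₀ - (t₀ - s) := eq_sub_of_add_eq h
        rw [this]; abel
    · intro u _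
      exact (hshift u (t₀ - s)).symm
  simp only [this]
  simp

/-- Translation-invariant `F` vanishing on non-injective tuples: the sum over tuples containing
a given value is `r/n` of the total. -/
lemma shift_mem_range {r n : ℕ} [NeZero n] (F : (Fin r → Fin n) → ℂ)
    (hvan : ∀ u : Fin r → Fin n, ¬ Function.Injective u → F u = 0)
    (hshift : ∀ (u : Fin r → Fin n) (t : Fin n), F (fun j => u j + t) = F u) (t₀ : Fin n) :
    (n : ℂ) * ∑ u ∈ (Finset.univ : Finset (Fin r → Fin n)).filter (fun u => ∃ j, u j = t₀), F u =
      (r : ℂ) * ∑ u, F u := by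
  classical
  have h1 : ∑ u ∈ (Finset.univ : Finset (Fin r → Fin n)).filter (fun u => ∃ j, u j = t₀), F u =
      ∑ j : Fin r, ∑ u ∈ (Finset.univ : Finset (Fin r → Fin n)).filter (fun u => u j = t₀), F u := by
    simp only [Finset.sum_filter]
    rw [Finset.sum_comm]
    refine Finset.sum_congr rfl fun u _ => ?_
    by_cases hu : Function.Injective u
    · have := card_filter_eq_of_injective u hu t₀
      rw [← Finset.sum_filter, Finset.sum_const, nsmul_eq_mul, this]
      split_ifs <;> simp
    · simp [hvan u hu]
  rw [h1, Finset.mul_sum]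
  simp only [shift_fixed_coord F hshift]
  simp

/-- Twisted translation: if `F (u - 1) = c ^ #{j | u j = 0} * F u` with `c ≠ 1`, then the sum of
`F` over tuples containing `0` vanishes. -/
lemma twisted_sum_zero {r n : ℕ} [NeZero n] (F : (Fin r → Fin n) → ℂ)
    (hvan : ∀ u : Fin r → Fin n, ¬ Function.Injective u → F u = 0)
    (c : ℂ) (hc : c ≠ 1)
    (hshift : ∀ u : Fin r → Fin n,
      F (fun j => u j - 1) = c ^ (Finset.univ.filter (fun j => u j = 0)).card * F u) :
    ∑ u ∈ (Finset.univ : Finset (Fin r → Fin n)).filter (fun u => ∃ j, u j = 0), F u = 0 := by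
  classical
  have h1 : ∑ u, F u = ∑ u : Fin r → Fin n, F (fun j => u j - 1) := by
    symm
    exact Fintype.sum_equiv (Equiv.subRight (fun _ => (1 : Fin n))) _ _ (fun u => rfl)
  have h2 : ∀ u : Fin r → Fin n, F (fun j => u j - 1) =
      F u - (1 - c) * (if ∃ j, u j = 0 then F u else 0) := by
    intro u
    rw [hshift u]
    by_cases hu : Function.Injective u
    · have := card_filter_eq_of_injective u hu 0
      split_ifs with h
      · rw [if_pos h] at this
        have h' : (Finset.univ.filter (fun j => u j = 0)).card = 1 := by exact_mod_cast this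
        rw [h']; ring
      · rw [if_neg h] at this
        have h' : (Finset.univ.filter (fun j => u j = 0)).card = 0 := by exact_mod_cast this
        rw [h']; ring
    · simp [hvan u hu]
  simp only [h2, Finset.sum_sub_distrib, ← Finset.mul_sum] at h1
  rw [Finset.sum_filter]
  have h3 : (1 - c) * ∑ u : Fin r → Fin n, (if ∃ j, u j = 0 then F u else 0) = 0 := by
    linear_combination h1
  rcases mul_eq_zero.1 h3 with h | h
  · exact absurd (sub_eq_zero.1 h).symm hc
  · exact h

end Groth.Agent.Lib.Helper99.Verlinde
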