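import Groth.Agent.Lib.Helper99.VerlindeC

namespace Groth.Agent.Lib.Helper99.Verlinde

open Complex Finset

lemma sign_mul_self_complex {r : ℕ} (σ : Equiv.Perm (Fin r)) :
    ((Equiv.Perm.sign σ : ℤ) : ℂ) * ((Equiv.Perm.sign σ : ℤ) : ℂ) = 1 := by
  exact_mod_cast Int.units_coe_mul_self _

/-- Combinatorial rigidity: two strictly decreasing integer vectors of span `< n`, with the same
sum, which agree mod `n` up to permutation, are equal. -/
lemma comb {r : ℕ} (n : ℕ) (a b : Fin r → ℤ) (ha : StrictAnti a)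
    (hspan_a : ∀ i j, a i - a j < n) (hb : StrictAnti b) (hspan_b : ∀ i j, b i - b j < n)
    (hsum : ∑ i, a i = ∑ i, b i)
    (σ τ : Equiv.Perm (Fin r)) (h : ∀ j, (n : ℤ) ∣ a (σ j) - b (τ j)) : a = b := by
  classical
  choose q hq using h
  rcases Nat.eq_zero_or_pos r with hr | hr
  · subst hr; funext i; exact i.elim0
  have hn : (0 : ℤ) < n := by
    have := hspan_a ⟨0, hr⟩ ⟨0, hr⟩
    simpa using this
  have hsumq : ∑ j, q j = 0 := by
    have h1 : ∑ j, (n : ℤ) * q j = 0 := by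
      simp only [← hq, Finset.sum_sub_distrib]
      rw [Equiv.sum_comp σ a, Equiv.sum_comp τ b, hsum, sub_self]
    rw [← Finset.mul_sum] at h1
    rcases mul_eq_zero.1 h1 with h | h
    · omega
    · exact h
  have hq0 : ∀ j, q j = 0 := by
    by_contra hcon
    push Not at hcon
    obtain ⟨j₀, hj₀⟩ := hcon
    obtain ⟨j1, -, hj1⟩ := Finset.exists_pos_of_sum_zero_of_exists_nonzero q hsumq ⟨j₀, Finset.mem_univ _, hj₀⟩
    have hsumq' : ∑ j, (- q j) = 0 := by rw [Finset.sum_neg_distrib, hsumq, neg_zero]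
    obtain ⟨j2, -, hj2⟩ := Finset.exists_pos_of_sum_zero_of_exists_nonzero (fun j => - q j) hsumq'
      ⟨j₀, Finset.mem_univ _, by simpa using hj₀⟩
    have e1 := hq j1
    have e2 := hq j2
    have s1 := hspan_a (σ j1) (σ j2)
    have s2 := hspan_b (τ j2) (τ j1)
    have : (n : ℤ) * 2 ≤ n * (q j1 - q j2) := by
      apply mul_le_mul_of_nonneg_left _ hn.le
      simp only [Left.neg_pos_iff] at hj2
      omega
    have e3 : a (σ j1) - a (σ j2) = b (τ j1) - b (τ j2) + n * (q j1 - q j2) := by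
      rw [mul_sub, ← e1, ← e2]; ring
    omega
  have hcomp : a ∘ σ = b ∘ τ := by
    funext j
    have := hq j
    rw [hq0 j, mul_zero] at this
    simpa [sub_eq_zero] using this
  rw [← ha.range_inj hb]
  rw [← EquivLike.range_comp a σ, ← EquivLike.range_comp b τ, hcomp]

/-- Values of `x - 1` in `Fin n`. -/
lemma val_sub_one_int {n : ℕ} [NeZero n] (x : Fin n) :
    (((x - 1 : Fin n) : ℕ) : ℤ) = ((x : ℕ) : ℤ) - 1 + if x = 0 then (n : ℤ) else 0 := by
  obtain ⟨n', rfl⟩ := Nat.exists_eq_succ_of_ne_zero (NeZero.ne n)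
  rw [Fin.coe_sub_one]
  split_ifs with h
  · subst h; simp
  · have : 1 ≤ (x : ℕ) := Nat.one_le_iff_ne_zero.2 (fun h' => h (Fin.ext h'))
    push_cast [Nat.cast_sub this]; ring

lemma val_add_int_dvd {n : ℕ} [NeZero n] (x t : Fin n) :
    (n : ℤ) ∣ (((x + t : Fin n) : ℕ) : ℤ) - (((x : ℕ) : ℤ) + ((t : ℕ) : ℤ)) := by
  rw [Fin.val_add]
  push_cast
  refine ⟨-((((x : ℕ) : ℤ) + ((t : ℕ) : ℤ)) / n), ?_⟩
  rw [Int.emod_def]; ring

/-- The untwisted product of alternants. -/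
noncomputable def H₀ {r : ℕ} (n : ℕ) (a b : Fin r → ℤ) (u : Fin r → Fin n) : ℂ :=
  A n a (fun j => ((u j : ℕ) : ℤ)) * A n (fun i => - b i) (fun j => ((u j : ℕ) : ℤ))

/-- The twisted product of alternants. -/
noncomputable def H {r : ℕ} (n : ℕ) (a b : Fin r → ℤ) (u : Fin r → Fin n) : ℂ :=
  E (r * n) (-(∑ i, a i - ∑ i, b i) * ∑ j, ((u j : ℕ) : ℤ)) * H₀ n a b u

lemma H₀_sym {r : ℕ} (n : ℕ) (a b : Fin r → ℤ) (u : Fin r → Fin n) (σ : Equiv.Perm (Fin r)) :
    H₀ n a b (u ∘ σ) = H₀ n a b u := by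
  have h1 := A_perm_right n a (fun j => ((u j : ℕ) : ℤ)) σ
  have h2 := A_perm_right n (fun i => - b i) (fun j => ((u j : ℕ) : ℤ)) σ
  simp only [Function.comp_def] at h1 h2
  simp only [H₀, Function.comp_apply, h1, h2]
  have := sign_mul_self_complex σ
  linear_combination (A n a (fun j => ((u j : ℕ) : ℤ)) * A n (fun i => - b i) (fun j => ((u j : ℕ) : ℤ))) * this

lemma H_sym {r : ℕ} (n : ℕ) (a b : Fin r → ℤ) (u : Fin r → Fin n) (σ : Equiv.Perm (Fin r)) :
    H n a b (u ∘ σ) = H n a b u := by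
  rw [H, H, H₀_sym]
  congr 3
  exact Equiv.sum_comp σ (fun j => ((u j : ℕ) : ℤ))

lemma H₀_van {r : ℕ} (n : ℕ) (a b : Fin r → ℤ) (u : Fin r → Fin n)
    (hu : ¬ Function.Injective u) : H₀ n a b u = 0 := by
  simp only [Function.Injective, not_forall] at hu
  obtain ⟨i, j, hij, hne⟩ := hu
  rw [H₀, A_eq_zero_of_eq_right n a _ hne (by simp [hij]), zero_mul]

lemma H_van {r : ℕ} (n : ℕ) (a b : Fin r → ℤ) (u : Fin r → Fin n)
    (hu : ¬ Function.Injective u) : H n a b u = 0 := by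
  rw [H, H₀_van n a b u hu, mul_zero]

lemma H₀_shift {r : ℕ} {n : ℕ} [NeZero n] (a b : Fin r → ℤ) (hsum : ∑ i, a i = ∑ i, b i)
    (u : Fin r → Fin n) (t : Fin n) : H₀ n a b (fun j => u j + t) = H₀ n a b u := by
  have hn : n ≠ 0 := NeZero.ne n
  simp only [H₀]
  rw [A_congr_right hn a (u' := fun j => ((u j : ℕ) : ℤ) + ((t : ℕ) : ℤ)) (fun j => val_add_int_dvd (u j) t),
    A_congr_right hn (fun i => - b i) (u' := fun j => ((u j : ℕ) : ℤ) + ((t : ℕ) : ℤ))
      (fun j => val_add_int_dvd (u j) t),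
    A_add_const_right, A_add_const_right]
  have : E n (((t : ℕ) : ℤ) * ∑ i, a i) * E n (((t : ℕ) : ℤ) * ∑ i, - b i) = 1 := by
    rw [← E_add, Finset.sum_neg_distrib, hsum]
    have : ((t : ℕ) : ℤ) * ∑ i, b i + ((t : ℕ) : ℤ) * -∑ i, b i = 0 := by ring
    rw [this, E_zero]
  linear_combination (A n a (fun j => ((u j : ℕ) : ℤ)) * A n (fun i => - b i) (fun j => ((u j : ℕ) : ℤ))) * this

lemma H_eq_H₀ {r : ℕ} {n : ℕ} (hr : r ≠ 0) (a b : Fin r → ℤ) (m : ℤ)
    (hm : ∑ i, a i - ∑ i, b i = r * m) (u : Fin r → Fin n) :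
    H n a b u = H₀ n a (fun i => b i + m) u := by
  rw [H, H₀, H₀, hm]
  have e1 : -((r : ℤ) * m) * ∑ j, ((u j : ℕ) : ℤ) = r * (-m * ∑ j, ((u j : ℕ) : ℤ)) := by ring
  rw [e1, E_mul_mul r hr]
  have e2 : (fun i => -(b i + m)) = (fun i => - b i + (-m)) := by funext i; ring
  rw [e2, A_add_const_left]
  ring

lemma H_shift {r : ℕ} {n : ℕ} [NeZero n] (hr : r ≠ 0) (a b : Fin r → ℤ) (u : Fin r → Fin n) :
    H n a b (fun j => u j - 1) =
      E (r * n) (-(∑ i, a i - ∑ i, b i) * n) ^ (Finset.univ.filter (fun j => u j = 0)).card *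
        H n a b u := by
  classical
  have hn : n ≠ 0 := NeZero.ne n
  set d := ∑ i, a i - ∑ i, b i with hd
  set w : Fin r → ℤ := fun j => ((u j : ℕ) : ℤ) with hw
  have hsum : ∑ j, (((u j - 1 : Fin n) : ℕ) : ℤ) =
      ∑ j, w j - r + n * (Finset.univ.filter (fun j => u j = 0)).card := by
    simp only [val_sub_one_int, Finset.sum_add_distrib, Finset.sum_sub_distrib]
    rw [← Finset.sum_filter]
    simp [mul_comm, hw]
  have hcongr : ∀ j, (n : ℤ) ∣ (((u j - 1 : Fin n) : ℕ) : ℤ) - (w j + (-1)) := by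
    intro j
    rw [val_sub_one_int]
    split_ifs
    · exact ⟨1, by simp only [hw]; ring⟩
    · exact ⟨0, by simp only [hw]; ring⟩
  simp only [H, H₀]
  rw [A_congr_right hn a hcongr, A_congr_right hn (fun i => - b i) hcongr, A_add_const_right,
    A_add_const_right, hsum, E_pow]
  have e1 : -d * (∑ j, w j - r + n * ((Finset.univ.filter (fun j => u j = 0)).card : ℤ)) =
      -d * n * ((Finset.univ.filter (fun j => u j = 0)).card : ℤ) + (-d * ∑ j, w j + r * d) := by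
    ring
  rw [e1, E_add, E_add, E_mul_mul r hr]
  have e2 : E n d * (E n (-1 * ∑ i, a i) * E n (-1 * ∑ i, - b i)) = 1 := by
    rw [← E_add, ← E_add, Finset.sum_neg_distrib]
    have : d + (-1 * ∑ i, a i + -1 * -∑ i, b i) = 0 := by rw [hd]; ring
    rw [this, E_zero]
  linear_combination (E (r * n) (-d * n * ((Finset.univ.filter (fun j => u j = 0)).card : ℤ)) *
    E (r * n) (-d * ∑ j, w j) * A n a w * A n (fun i => - b i) w) * e2

end Groth.Agent.Lib.Helper99.Verlinde
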