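import Groth.Agent.Lib.Helper99.VerlindeD

namespace Groth.Agent.Lib.Helper99.Verlinde

open Complex Finset

/-- Restricting the sorting lemma to a permutation-invariant predicate. -/
lemma sum_filter_eq_factorial_mul_sum_strictAnti {r n : ℕ} (F : (Fin r → Fin n) → ℂ)
    (hsym : ∀ (u : Fin r → Fin n) (σ : Equiv.Perm (Fin r)), F (u ∘ σ) = F u)
    (hvan : ∀ u : Fin r → Fin n, ¬ Function.Injective u → F u = 0)
    (Q : (Fin r → Fin n) → Prop) [DecidablePred Q]
    (hQ : ∀ (u : Fin r → Fin n) (σ : Equiv.Perm (Fin r)), Q (u ∘ σ) ↔ Q u) :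
    ∑ u ∈ (Finset.univ : Finset (Fin r → Fin n)).filter Q, F u = (r.factorial : ℂ) *
      ∑ v ∈ (Finset.univ : Finset (Fin r → Fin n)).filter (fun v => StrictAnti v ∧ Q v), F v := by
  classical
  have := sum_eq_factorial_mul_sum_strictAnti (fun u => if Q u then F u else 0)
    (fun u σ => by simp only [hQ u σ, hsym u σ])
    (fun u hu => by simp only [hvan u hu, ite_self])
  rw [Finset.sum_filter, this, Finset.sum_filter, Finset.sum_filter]
  congr 1
  refine Finset.sum_congr rfl fun v _ => ?_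
  by_cases h1 : StrictAnti v <;> by_cases h2 : Q v <;> simp [h1, h2]

lemma exists_eq_perm_iff {r n : ℕ} (t₀ : Fin n) (u : Fin r → Fin n) (σ : Equiv.Perm (Fin r)) :
    (∃ j, (u ∘ σ) j = t₀) ↔ ∃ j, u j = t₀ := by
  constructor
  · rintro ⟨j, hj⟩; exact ⟨σ j, hj⟩
  · rintro ⟨j, hj⟩; exact ⟨σ.symm j, by simpa using hj⟩

/-- **SU(r) orthogonality.** For `a, b` strictly decreasing of span `< n`, not differing by a
constant, the twisted sum over the alcove vanishes. -/
theorem SU_gen {r n : ℕ} (a b : Fin r → ℤ) (ha : StrictAnti a) (hb : StrictAnti b)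
    (hspan_a : ∀ i j, a i - a j < n) (hspan_b : ∀ i j, b i - b j < n)
    (hne : ¬ ∃ m : ℤ, ∀ i, a i - b i = m) :
    ∑ v ∈ (Finset.univ : Finset (Fin r → Fin n)).filter
      (fun v => StrictAnti v ∧ ∃ j, v j = (⟨0, by
        rcases Nat.eq_zero_or_pos r with hr | hr
        · subst hr; exact absurd ⟨0, fun i => i.elim0⟩ hne
        · have := hspan_a ⟨0, hr⟩ ⟨0, hr⟩; simpa using this⟩ : Fin n)), H n a b v = 0 := by
  classical
  have hr : 0 < r := by
    rcases Nat.eq_zero_or_pos r with hr | hr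
    · subst hr; exact absurd ⟨0, fun i => i.elim0⟩ hne
    · exact hr
  have hn : 0 < n := by
    have := hspan_a ⟨0, hr⟩ ⟨0, hr⟩; simpa using this
  have : NeZero n := ⟨hn.ne'⟩
  have hzero : (⟨0, hn⟩ : Fin n) = 0 := rfl
  have key : ∑ u ∈ (Finset.univ : Finset (Fin r → Fin n)).filter (fun u => ∃ j, u j = (0 : Fin n)),
      H n a b u = 0 := by
    by_cases hdvd : (r : ℤ) ∣ ∑ i, a i - ∑ i, b i
    · obtain ⟨m, hm⟩ := hdvd
      have hH : ∀ u : Fin r → Fin n, H n a b u = H₀ n a (fun i => b i + m) u :=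
        fun u => H_eq_H₀ hr.ne' a b m hm u
      simp only [hH]
      have hsum : ∑ i, a i = ∑ i, (b i + m) := by
        rw [Finset.sum_add_distrib]; simp only [Finset.sum_const, Finset.card_univ,
          Fintype.card_fin, nsmul_eq_mul]; linarith
      have h1 := shift_mem_range (H₀ n a (fun i => b i + m)) (H₀_van n a _)
        (H₀_shift a _ hsum) (0 : Fin n)
      have h2 : ∑ u : Fin r → Fin n, H₀ n a (fun i => b i + m) u = 0 := by
        simp only [H₀]
        rw [sum_A_mul_A hn.ne' a (fun i => b i + m)]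
        refine Finset.sum_eq_zero fun σ _ => Finset.sum_eq_zero fun τ _ => ?_
        rw [if_neg, mul_zero]
        intro hcon
        have hb' : StrictAnti (fun i => b i + m) := fun i j hij => by
          have := hb hij; show b j + m < b i + m; omega
        have := comb n a (fun i => b i + m) ha hspan_a hb'
          (fun i j => by have := hspan_b i j; show b i + m - (b j + m) < n; omega) hsum σ τ hcon
        exact hne ⟨m, fun i => by rw [this]; ring⟩
      rw [h2, mul_zero] at h1
      rcases mul_eq_zero.1 h1 with h | h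
      · exact absurd (by exact_mod_cast h) hn.ne'
      · exact h
    · refine twisted_sum_zero (H n a b) (H_van n a b) _ ?_ (H_shift hr.ne' a b)
      intro hcon
      rw [E_eq_one_iff (Nat.mul_ne_zero hr.ne' hn.ne')] at hcon
      apply hdvd
      push_cast at hcon
      have : (r : ℤ) * n ∣ (-(∑ i, a i - ∑ i, b i)) * n := hcon
      have h3 := (mul_dvd_mul_iff_right (by exact_mod_cast hn.ne' : (n : ℤ) ≠ 0)).1 this
      exact (dvd_neg.1 h3)
  rw [sum_filter_eq_factorial_mul_sum_strictAnti (H n a b) (H_sym n a b) (H_van n a b)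
    (fun u => ∃ j, u j = (0 : Fin n)) (exists_eq_perm_iff 0)] at key
  rcases mul_eq_zero.1 key with h | h
  · exact absurd (by exact_mod_cast h) (Nat.factorial_ne_zero r)
  · exact h

/-- **Diagonal values (U(r) unitarity).** -/
theorem sum_H₀_diag {r n : ℕ} (hn : n ≠ 0) (a : Fin r → ℤ) (ha : StrictAnti a)
    (hspan_a : ∀ i j, a i - a j < n) :
    ∑ u : Fin r → Fin n, H₀ n a a u = (r.factorial : ℂ) * (n : ℂ) ^ r := by
  classical
  simp only [H₀]
  rw [sum_A_mul_A hn a a]
  have : ∀ σ τ : Equiv.Perm (Fin r), (∀ j, (n : ℤ) ∣ a (σ j) - a (τ j)) ↔ σ = τ := by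
    intro σ τ
    constructor
    · intro h
      ext j
      by_contra hne
      have hne' : σ j ≠ τ j := fun h' => hne (congrArg _ h')
      obtain ⟨q, hq⟩ := h j
      have s1 := hspan_a (σ j) (τ j)
      have s2 := hspan_a (τ j) (σ j)
      have hinj : a (σ j) ≠ a (τ j) := fun h' => hne' (ha.injective h')
      have hnpos : (0 : ℤ) < n := by exact_mod_cast Nat.pos_of_ne_zero hn
      rcases lt_trichotomy q 0 with hq0 | hq0 | hq0
      · have : (n : ℤ) * q ≤ n * (-1) := mul_le_mul_of_nonneg_left (by omega) hnpos.le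
        omega
      · rw [hq0, mul_zero] at hq; omega
      · have : (n : ℤ) * 1 ≤ n * q := mul_le_mul_of_nonneg_left (by omega) hnpos.le
        omega
    · rintro rfl j; simp
  simp only [this]
  simp only [Finset.sum_ite_eq, Finset.mem_univ, if_true, mul_ite, mul_zero]
  simp only [sign_mul_self_complex, one_mul, Finset.sum_const, Finset.card_univ, Fintype.card_perm,
    Fintype.card_fin, nsmul_eq_mul]

theorem sum_H₀_diag_strictAnti {r n : ℕ} (hn : n ≠ 0) (a : Fin r → ℤ) (ha : StrictAnti a)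
    (hspan_a : ∀ i j, a i - a j < n) :
    ∑ v ∈ (Finset.univ : Finset (Fin r → Fin n)).filter (fun v => StrictAnti v), H₀ n a a v =
      (n : ℂ) ^ r := by
  have h1 := sum_eq_factorial_mul_sum_strictAnti (H₀ n a a) (H₀_sym n a a) (H₀_van n a a)
  rw [sum_H₀_diag hn a ha hspan_a] at h1
  exact (mul_left_cancel₀ (by exact_mod_cast Nat.factorial_ne_zero r) h1).symm

theorem sum_H₀_diag_strictAnti_mem {r n : ℕ} [NeZero n] (a : Fin r → ℤ) (ha : StrictAnti a)
    (hspan_a : ∀ i j, a i - a j < n) (t₀ : Fin n) :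
    (n : ℂ) * ∑ v ∈ (Finset.univ : Finset (Fin r → Fin n)).filter
      (fun v => StrictAnti v ∧ ∃ j, v j = t₀), H₀ n a a v = (r : ℂ) * (n : ℂ) ^ r := by
  classical
  have hn : n ≠ 0 := NeZero.ne n
  have h1 := shift_mem_range (H₀ n a a) (H₀_van n a a) (H₀_shift a a rfl) t₀
  rw [sum_filter_eq_factorial_mul_sum_strictAnti (H₀ n a a) (H₀_sym n a a) (H₀_van n a a)
    (fun u => ∃ j, u j = t₀) (exists_eq_perm_iff t₀), sum_H₀_diag hn a ha hspan_a] at h1
  have hf : (r.factorial : ℂ) ≠ 0 := by exact_mod_cast Nat.factorial_ne_zero r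
  apply mul_left_cancel₀ hf
  linear_combination h1

end Groth.Agent.Lib.Helper99.Verlinde
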