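import Groth.Agent.Lib.Helper99.VerlindeE

namespace Groth.Agent.Lib.Helper99.Verlinde

open Complex Finset

/-- `ρ_i = r - 1 - i`. -/
def rho (r : ℕ) : Fin r → ℤ := fun i => ((r - 1 - (i : ℕ) : ℕ) : ℤ)

/-- sign of the reversal permutation, as a complex number. -/
noncomputable def sgnRev (r : ℕ) : ℂ :=
  ((Equiv.Perm.sign (Fin.revPerm : Equiv.Perm (Fin r)) : ℤ) : ℂ)

lemma sgnRev_mul_self (r : ℕ) : sgnRev r * sgnRev r = 1 := sign_mul_self_complex _

lemma sgnRev_ne_zero (r : ℕ) : sgnRev r ≠ 0 := by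
  intro h; have := sgnRev_mul_self r; rw [h, mul_zero] at this; exact zero_ne_one this

lemma A_comp_rev {r : ℕ} (n : ℕ) (e u : Fin r → ℤ) :
    A n (fun i => e (Fin.rev i)) u = sgnRev r * A n e u := by
  have := A_perm_left n e u Fin.revPerm
  simpa [Function.comp_def, sgnRev] using this

lemma rho_rev {r : ℕ} (i : Fin r) : rho r (Fin.rev i) = (i : ℕ) := by
  simp only [rho, Fin.val_rev]
  have := i.2
  congr 1; omega

lemma two_mul_sum_rho (r : ℕ) : 2 * ∑ i : Fin r, rho r i = (r : ℤ) * ((r : ℤ) - 1) := by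
  have h1 : ∑ i : Fin r, rho r i = ∑ i : Fin r, rho r (Fin.rev i) :=
    (Equiv.sum_comp Fin.revPerm (rho r)).symm
  rw [h1]
  simp only [rho_rev]
  have h2 : ∑ i : Fin r, ((i : ℕ) : ℤ) = ((∑ i ∈ Finset.range r, i : ℕ) : ℤ) := by
    rw [← Fin.sum_univ_eq_sum_range (fun i => i) r]; push_cast; rfl
  rw [h2]
  have h3 := Finset.sum_range_id_mul_two r
  rcases Nat.eq_zero_or_pos r with hr | hr
  · subst hr; simp
  · have h4 : ((r - 1 : ℕ) : ℤ) = (r : ℤ) - 1 := by push_cast [Nat.cast_sub hr]; ring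
    have h5 : ((∑ i ∈ Finset.range r, i : ℕ) : ℤ) * 2 = (r : ℤ) * ((r - 1 : ℕ) : ℤ) := by
      exact_mod_cast h3
    rw [h4] at h5
    linarith

/-- determinant of powers as an alternant -/
lemma det_pow_eq_A {r : ℕ} (n : ℕ) (z : Fin r → ℂ) (v : Fin r → ℤ)
    (hz : ∀ j, z j = E n (v j)) (m : Fin r → ℕ) :
    (Matrix.of fun i j : Fin r => z j ^ m i).det = A n (fun i => (m i : ℤ)) v := by
  rw [A]
  congr 1
  ext i j
  simp only [Matrix.of_apply, hz, E_pow, mul_comm]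

lemma A_rho_eq_vandermonde {r : ℕ} (n : ℕ) (u : Fin r → ℤ) :
    A n (rho r) u = sgnRev r * ∏ i : Fin r, ∏ j ∈ Finset.Ioi i, (E n (u j) - E n (u i)) := by
  rw [← Matrix.det_vandermonde, sgnRev, ← Matrix.det_permute' Fin.revPerm, A, ← Matrix.det_transpose]
  congr 1
  ext i j
  simp only [Matrix.transpose_apply, Matrix.of_apply, Matrix.submatrix_apply, id_eq,
    Matrix.vandermonde_apply, Fin.revPerm_apply, Fin.val_rev, E_pow, rho]
  have := j.2
  have h : r - ((j : ℕ) + 1) = r - 1 - (j : ℕ) := by omega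
  rw [h, mul_comm]

lemma A_neg_left {r : ℕ} (n : ℕ) (e u : Fin r → ℤ) :
    A n (fun i => - e i) u = A n e (fun j => - u j) := by
  rw [A, A]; congr 1; ext i j; simp only [Matrix.of_apply]; congr 1; ring

lemma A_rho_mul_A_neg_rho {r : ℕ} (n : ℕ) (u : Fin r → ℤ) :
    A n (rho r) u * A n (fun i => - rho r i) u =
      ∏ i : Fin r, ∏ j ∈ Finset.Ioi i, ((E n (u j) - E n (u i)) * (E n (- u j) - E n (- u i))) := by
  rw [A_neg_left, A_rho_eq_vandermonde, A_rho_eq_vandermonde]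
  simp only [Finset.prod_mul_distrib]
  have := sgnRev_mul_self r
  linear_combination ((∏ i : Fin r, ∏ j ∈ Finset.Ioi i, (E n (u j) - E n (u i))) *
    ∏ i : Fin r, ∏ j ∈ Finset.Ioi i, (E n (- u j) - E n (- u i))) * this

lemma A_neg_rho {r : ℕ} (n : ℕ) (u : Fin r → ℤ) :
    A n (fun i => - rho r i) u = sgnRev r * E n (-((r : ℤ) - 1) * ∑ j, u j) * A n (rho r) u := by
  rcases Nat.eq_zero_or_pos r with hr | hr
  · subst hr
    have : (Fin.revPerm : Equiv.Perm (Fin 0)) = 1 := Subsingleton.elim _ _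
    simp [A, sgnRev, this]
  have h1 : (fun i => - rho r i) = fun i => rho r (Fin.rev i) + (-((r : ℤ) - 1)) := by
    funext i
    rw [rho_rev]
    simp only [rho]
    have := i.2
    have h4 : ((r - 1 - (i : ℕ) : ℕ) : ℤ) = (r : ℤ) - 1 - (i : ℕ) := by
      rw [Nat.cast_sub (by omega), Nat.cast_sub hr]; simp
    rw [h4]; ring
  rw [h1, A_add_const_left, A_comp_rev]
  ring

lemma A_rho_ne_zero {r : ℕ} {n : ℕ} (hn : n ≠ 0) (u : Fin r → ℤ)
    (hinj : ∀ i j, (n : ℤ) ∣ u j - u i → i = j) : A n (rho r) u ≠ 0 := by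
  rw [A_rho_eq_vandermonde]
  apply mul_ne_zero (sgnRev_ne_zero r)
  rw [Finset.prod_ne_zero_iff]
  intro i _
  rw [Finset.prod_ne_zero_iff]
  intro j hj
  rw [Finset.mem_Ioi] at hj
  intro h
  rw [sub_eq_zero] at h
  have : E n (u j - u i) = 1 := by rw [E_sub, h, div_self (E_ne_zero _ _)]
  rw [E_eq_one_iff hn] at this
  exact hj.ne (hinj i j this)

lemma val_int_inj_of_dvd {r n : ℕ} (v : Fin r → Fin n) (hv : Function.Injective v) :
    ∀ i j, (n : ℤ) ∣ (((v j : ℕ) : ℤ)) - ((v i : ℕ) : ℤ) → i = j := by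
  intro i j h
  have h1 := (v i).2
  have h2 := (v j).2
  have : (((v j : ℕ) : ℤ)) - ((v i : ℕ) : ℤ) = 0 := by
    apply Int.eq_zero_of_abs_lt_dvd h
    rw [abs_lt]; constructor <;> omega
  have h3 : (v j : ℕ) = (v i : ℕ) := by omega
  exact (hv (Fin.ext h3)).symm

/-- `(2 sin(π (x - y)/n))² = (ζ^y - ζ^x)(ζ^{-y} - ζ^{-x})`. -/
lemma two_sin_sq (n : ℕ) (x y : ℤ) :
    (((2 : ℝ) * Real.sin (Real.pi * ((x : ℝ) - (y : ℝ)) / (n : ℝ))) ^ 2 : ℝ) =
      (E n y - E n x) * (E n (-y) - E n (-x)) := by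
  push_cast
  set θ : ℂ := (Real.pi : ℂ) * ((x : ℂ) - (y : ℂ)) / (n : ℂ) with hθ
  have h1 : E n x * E n (-y) = Complex.exp (θ * Complex.I) ^ 2 := by
    rw [← E_add, ← Complex.exp_nat_mul, E]
    congr 1
    rw [hθ]; push_cast; ring
  have h2 : E n y * E n (-x) = Complex.exp (-θ * Complex.I) ^ 2 := by
    rw [← E_add, ← Complex.exp_nat_mul, E]
    congr 1
    rw [hθ]; push_cast; ring
  have h3 : E n y * E n (-y) = 1 := by rw [← E_add, add_neg_cancel, E_zero]
  have h4 : E n x * E n (-x) = 1 := by rw [← E_add, add_neg_cancel, E_zero]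
  have h5 : Complex.exp (-θ * Complex.I) * Complex.exp (θ * Complex.I) = 1 := by
    rw [← Complex.exp_add]; simp
  rw [Complex.sin]
  have hI : Complex.I ^ 2 = -1 := Complex.I_sq
  linear_combination h1 + h2 - h3 - h4 + 2 * h5 +
    ((Complex.exp (-θ * Complex.I) - Complex.exp (θ * Complex.I)) ^ 2) * hI

/-- The product of squared sines as a product of two alternants. -/
lemma prod_two_sin_sq_eq {r : ℕ} (n : ℕ) (u : Fin r → ℤ) :
    ((∏ p ∈ (Finset.univ : Finset (Fin r × Fin r)).filter (fun p => p.1 < p.2),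
        ((2 : ℝ) * Real.sin (Real.pi * ((u p.1 : ℝ) - (u p.2 : ℝ)) / (n : ℝ))) ^ 2 : ℝ) : ℂ) =
      A n (rho r) u * A n (fun i => - rho r i) u := by
  rw [A_rho_mul_A_neg_rho, Complex.ofReal_prod, Finset.prod_filter, Fintype.prod_prod_type]
  refine Finset.prod_congr rfl fun i _ => ?_
  rw [← Finset.filter_lt_eq_Ioi, Finset.prod_filter]
  refine Finset.prod_congr rfl fun j _ => ?_
  simp only
  split_ifs with h
  · exact two_sin_sq n (u i) (u j)
  · rfl

lemma exists_zero_iff_last {r n : ℕ} (hn : 0 < n) (v : Fin r → Fin n)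
    (hv : StrictAnti v) (hr : 0 < r) :
    (∀ i : Fin r, (i : ℕ) = r - 1 → (v i : ℕ) = 0) ↔ ∃ j, v j = (⟨0, hn⟩ : Fin n) := by
  constructor
  · intro h
    exact ⟨⟨r - 1, by omega⟩, Fin.ext (h ⟨r - 1, by omega⟩ rfl)⟩
  · rintro ⟨j, hj⟩ i hi
    have hji : j ≤ i := by
      rw [Fin.le_iff_val_le_val]; have := j.2; omega
    have := hv.antitone hji
    rw [hj, Fin.le_iff_val_le_val] at this
    simpa using this

end Groth.Agent.Lib.Helper99.Verlinde
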