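import Groth.Agent.Lib.Helper99.VerlindeF

namespace Groth.Agent.Lib.Helper99.Verlinde

open Complex Finset

lemma strictAnti_add_le {r : ℕ} (a : Fin r → ℕ) (ha : StrictAnti a) :
    ∀ (d : ℕ) (i j : Fin r), (j : ℕ) = (i : ℕ) + d → a j + d ≤ a i := by
  intro d
  induction d with
  | zero =>
    intro i j h
    have : i = j := Fin.ext (by omega)
    rw [this]; simp
  | succ d ih =>
    intro i j h
    have hj := j.2
    have h1 := ih i ⟨(i : ℕ) + d, by omega⟩ rfl
    have h2 : a j < a ⟨(i : ℕ) + d, by omega⟩ := ha (by rw [Fin.lt_def]; simp; omega)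
    omega

/-- Reindexing partitions in a box by strictly decreasing tuples: `a = μ + ρ`. -/
lemma sum_antitone_eq_sum_strictAnti {r K n : ℕ} (hKn : K + r ≤ n + 1)
    (g : (Fin r → ℕ) → ℂ) :
    ∑ μ ∈ (Finset.univ : Finset (Fin r → Fin K)).filter (fun μ : Fin r → Fin K => Antitone μ),
        g (fun i => (μ i : ℕ) + (r - 1 - (i : ℕ))) =
      ∑ a ∈ (Finset.univ : Finset (Fin r → Fin n)).filter
        (fun a : Fin r → Fin n => StrictAnti a ∧ ∀ i, (a i : ℕ) + 1 < K + r), g (fun i => (a i : ℕ)) := by
  classical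
  refine Finset.sum_bij
    (fun μ _ => fun i => (⟨(μ i : ℕ) + (r - 1 - (i : ℕ)), by
      have := (μ i).2; have := i.2; omega⟩ : Fin n)) ?_ ?_ ?_ ?_
  · intro μ hμ
    simp only [Finset.mem_filter, Finset.mem_univ, true_and] at hμ ⊢
    constructor
    · intro i j hij
      have h1 : μ j ≤ μ i := hμ hij.le
      have h2 : (i : ℕ) < (j : ℕ) := hij
      have h3 := j.2
      rw [Fin.lt_def]
      have h4 : (μ j : ℕ) ≤ (μ i : ℕ) := h1
      simp only
      omega
    · intro i
      have := (μ i).2; have := i.2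
      omega
  · intro μ _ μ' _ h
    funext i
    have := congrFun h i
    simp only [Fin.mk.injEq] at this
    exact Fin.ext (by omega)
  · intro a ha
    simp only [Finset.mem_filter, Finset.mem_univ, true_and] at ha
    obtain ⟨hanti, hbound⟩ := ha
    have hanti' : StrictAnti (fun i => (a i : ℕ)) := fun i j hij => hanti hij
    have hr0 : ∀ i : Fin r, 0 < r := fun i => lt_of_le_of_lt (Nat.zero_le _) i.2
    have hlow : ∀ i : Fin r, r - 1 - (i : ℕ) ≤ (a i : ℕ) := by
      intro i
      have := strictAnti_add_le _ hanti' (r - 1 - (i : ℕ)) i ⟨r - 1, by have := i.2; omega⟩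
        (by have := i.2; simp only; omega)
      omega
    have hhigh : ∀ i : Fin r, (a i : ℕ) + (i : ℕ) + 1 < K + r := by
      intro i
      have := strictAnti_add_le _ hanti' (i : ℕ) ⟨0, hr0 i⟩ i (by simp)
      have h2 := hbound ⟨0, hr0 i⟩
      omega
    refine ⟨fun i => ⟨(a i : ℕ) - (r - 1 - (i : ℕ)), by
      have := hlow i; have := hhigh i; have := i.2; omega⟩, ?_, ?_⟩
    · simp only [Finset.mem_filter, Finset.mem_univ, true_and]
      intro i j hij
      rw [Fin.le_def]
      simp only
      have h1 := strictAnti_add_le _ hanti' ((j : ℕ) - (i : ℕ)) i j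
        (by have : (i : ℕ) ≤ (j : ℕ) := hij; omega)
      have h2 : (i : ℕ) ≤ (j : ℕ) := hij
      have := hlow i; have := hlow j; have := j.2
      omega
    · funext i
      apply Fin.ext
      simp only
      have := hlow i
      omega
  · intro μ _
    rfl

end Groth.Agent.Lib.Helper99.Verlinde
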