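import Groth.Agent.Lib.Helper85.GorSocle
import Groth.Agent.Lib.Helper85.GorRing

/-!
# Abstract Gorenstein lemmas used for the minimal central order with one rational Weil number

* `exists_eq_mul_of_injective`: Baer-type double annihilator property of a self-injective ring.
* `exists_mul_mem_of_gorenstein`: in a Gorenstein ring `A`, at a maximal ideal `𝔪` containing a regular
  element `π`, a socle-type element `η` modulo `π` lies in every nonzero principal ideal modulo `π`
  (stated with denominators cleared).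
* `gorRing_quot_of_charts`: a quotient `T ⧸ I` is a Gorenstein ring if at each prime it agrees locally
  with a Gorenstein quotient `T ⧸ J`.
-/

set_option autoImplicit false

namespace Groth.Agent.Lib.Helper99.WeilRat

open IsLocalRing

universe u

section Baer

variable {B : Type u} [CommRing B]

/-- In a self-injective ring, an element killed by the annihilator of `y` is a multiple of `y`. -/
theorem exists_eq_mul_of_injective [Module.Injective B B] (y η : B)
    (h : ∀ z : B, z * y = 0 → z * η = 0) : ∃ b : B, η = b * y := by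
  have hle : LinearMap.ker (LinearMap.toSpanSingleton B B y) ≤
      LinearMap.ker (LinearMap.toSpanSingleton B B η) := by
    intro z hz
    rw [LinearMap.mem_ker, LinearMap.toSpanSingleton_apply, smul_eq_mul] at hz ⊢
    exact h z hz
  let ι1 : (B ⧸ LinearMap.ker (LinearMap.toSpanSingleton B B y)) →ₗ[B] B :=
    Submodule.liftQ _ (LinearMap.toSpanSingleton B B y) le_rfl
  let ι2 : (B ⧸ LinearMap.ker (LinearMap.toSpanSingleton B B y)) →ₗ[B] B :=
    Submodule.liftQ _ (LinearMap.toSpanSingleton B B η) hle
  have hι1 : ι1 (Submodule.Quotient.mk 1) = y := by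
    change Submodule.liftQ _ _ _ (Submodule.Quotient.mk 1) = _
    rw [Submodule.liftQ_apply, LinearMap.toSpanSingleton_apply, one_smul]
  have hι2 : ι2 (Submodule.Quotient.mk 1) = η := by
    change Submodule.liftQ _ _ _ (Submodule.Quotient.mk 1) = _
    rw [Submodule.liftQ_apply, LinearMap.toSpanSingleton_apply, one_smul]
  have hι1inj : Function.Injective ι1 := by
    rw [← LinearMap.ker_eq_bot, Submodule.ker_liftQ]
    simp
  obtain ⟨φ, hφ⟩ := Module.Injective.extension_property B B _ _ ι1 hι1inj ι2
  refine ⟨φ 1, ?_⟩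
  have h3 : φ y = η := by
    rw [← hι1, ← hι2]
    exact LinearMap.congr_fun hφ _
  rw [← h3]
  have : y = y • (1 : B) := by rw [smul_eq_mul, mul_one]
  conv_lhs => rw [this, map_smul, smul_eq_mul, mul_comm]

end Baer

section ClearDenominators

variable {A : Type u} [CommRing A] (𝔪 : Ideal A) [𝔪.IsPrime]

/-- clearing denominators in a localization at a prime -/
theorem exists_mul_mem_of_mem_map (I : Ideal A) (x : A)
    (hx : algebraMap A (Localization.AtPrime 𝔪) x ∈
      I.map (algebraMap A (Localization.AtPrime 𝔪))) :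
    ∃ σ : A, σ ∉ 𝔪 ∧ σ * x ∈ I := by
  rw [IsLocalization.mem_map_algebraMap_iff 𝔪.primeCompl] at hx
  obtain ⟨⟨a, s⟩, has⟩ := hx
  rw [← map_mul] at has
  obtain ⟨c, hc⟩ := (IsLocalization.eq_iff_exists 𝔪.primeCompl _).mp has
  refine ⟨c.1 * s.1, ?_, ?_⟩
  · exact (Ideal.IsPrime.mul_mem_iff_mem_or_mem inferInstance).not.mpr
      (not_or.mpr ⟨c.2, s.2⟩)
  · have : c.1 * s.1 * x = c.1 * a.1 := by
      rw [← hc]; ring
    rw [this]
    exact I.mul_mem_left _ a.2

/-- an element which becomes a member of `I` after multiplication by an element outside `𝔪`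
lies in the extension of `I` to the localization -/
theorem mem_map_of_mul_mem (I : Ideal A) (x σ : A) (hσ : σ ∉ 𝔪) (hx : σ * x ∈ I) :
    algebraMap A (Localization.AtPrime 𝔪) x ∈ I.map (algebraMap A (Localization.AtPrime 𝔪)) := by
  have hu : IsUnit (algebraMap A (Localization.AtPrime 𝔪) σ) :=
    IsLocalization.map_units (Localization.AtPrime 𝔪) (⟨σ, hσ⟩ : 𝔪.primeCompl)
  have h1 : algebraMap A (Localization.AtPrime 𝔪) (σ * x) ∈
      I.map (algebraMap A (Localization.AtPrime 𝔪)) := Ideal.mem_map_of_mem _ hx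
  rw [map_mul] at h1
  obtain ⟨v, hv⟩ := hu
  have : algebraMap A (Localization.AtPrime 𝔪) x =
      (↑v⁻¹ : Localization.AtPrime 𝔪) * (algebraMap A (Localization.AtPrime 𝔪) σ *
        algebraMap A (Localization.AtPrime 𝔪) x) := by
    rw [← hv, ← mul_assoc, Units.inv_mul, one_mul]
  rw [this]
  exact Ideal.mul_mem_left _ _ h1

/-- two ideals with the same elements up to multiplication outside `𝔪` have the same extension -/
theorem map_eq_map_of_forall (I J : Ideal A)
    (h1 : ∀ x ∈ I, ∃ σ : A, σ ∉ 𝔪 ∧ σ * x ∈ J) (h2 : ∀ x ∈ J, ∃ σ : A, σ ∉ 𝔪 ∧ σ * x ∈ I) :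
    I.map (algebraMap A (Localization.AtPrime 𝔪)) =
      J.map (algebraMap A (Localization.AtPrime 𝔪)) := by
  apply le_antisymm
  · rw [Ideal.map_le_iff_le_comap]
    intro x hx
    obtain ⟨σ, hσ, hσx⟩ := h1 x hx
    exact mem_map_of_mul_mem 𝔪 J x σ hσ hσx
  · rw [Ideal.map_le_iff_le_comap]
    intro x hx
    obtain ⟨σ, hσ, hσx⟩ := h2 x hx
    exact mem_map_of_mul_mem 𝔪 I x σ hσ hσx

end ClearDenominators

end Groth.Agent.Lib.Helper99.WeilRat
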