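import Groth.Agent.Lib.Helper99.WeilRatA

/-!
# Gorenstein quotients via local charts, and the socle obstruction
-/

set_option autoImplicit false

namespace Groth.Agent.Lib.Helper99.WeilRat

open IsLocalRing

universe u

section Charts

variable {T : Type u} [CommRing T] [IsNoetherianRing T]

theorem gorLocal_of_map_eq (I J Q : Ideal T) [Q.IsPrime] (hJ : J ≤ Q)
    (hIJ : I.map (algebraMap T (Localization.AtPrime Q)) =
      J.map (algebraMap T (Localization.AtPrime Q)))
    [LocCoh.IsGorensteinRing (T ⧸ J)] (Q' : Ideal (T ⧸ I)) [Q'.IsPrime]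
    (hQ' : Q'.comap (Ideal.Quotient.mk I) = Q) :
    LocCoh.IsGorensteinLocalRing (Localization.AtPrime Q') := by
  obtain ⟨φI, hφI, hkerI, -⟩ :=
    Groth.Agent.Lib.Helper85.GorRing.exists_loc_surjective (Ideal.Quotient.mk I)
      Ideal.Quotient.mk_surjective Q Q' hQ'
  have hkJ : RingHom.ker (Ideal.Quotient.mk J) ≤ Q := by rw [Ideal.mk_ker]; exact hJ
  haveI hQJ : (Q.map (Ideal.Quotient.mk J)).IsPrime :=
    Ideal.map_isPrime_of_surjective Ideal.Quotient.mk_surjective hkJ
  have hcomap : (Q.map (Ideal.Quotient.mk J)).comap (Ideal.Quotient.mk J) = Q := by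
    rw [Ideal.comap_map_of_surjective' _ Ideal.Quotient.mk_surjective]
    exact sup_eq_left.mpr hkJ
  obtain ⟨φJ, hφJ, hkerJ, -⟩ :=
    Groth.Agent.Lib.Helper85.GorRing.exists_loc_surjective (Ideal.Quotient.mk J)
      Ideal.Quotient.mk_surjective Q (Q.map (Ideal.Quotient.mk J)) hcomap
  have hker : RingHom.ker φI = RingHom.ker φJ := by
    rw [hkerI, hkerJ, Ideal.mk_ker, Ideal.mk_ker, hIJ]
  let e : Localization.AtPrime (Q.map (Ideal.Quotient.mk J)) ≃+* Localization.AtPrime Q' :=
    (RingHom.quotientKerEquivOfSurjective hφJ).symm.trans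
      ((Ideal.quotEquivOfEq hker.symm).trans (RingHom.quotientKerEquivOfSurjective hφI))
  haveI := LocCoh.IsGorensteinRing.isGorensteinLocalRing_localization (A := T ⧸ J)
    (Q.map (Ideal.Quotient.mk J))
  exact Groth.Agent.Lib.Helper85.GorRing.gor_of_ringEquiv e

/-- A quotient is a Gorenstein ring if it agrees locally at each prime with a Gorenstein quotient. -/
theorem gorRing_quot_of_charts (I : Ideal T)
    (h : ∀ (Q : Ideal T) [Q.IsPrime], I ≤ Q → ∃ J : Ideal T, J ≤ Q ∧
      (∀ x ∈ I, ∃ σ : T, σ ∉ Q ∧ σ * x ∈ J) ∧ (∀ x ∈ J, ∃ σ : T, σ ∉ Q ∧ σ * x ∈ I) ∧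
      LocCoh.IsGorensteinRing (T ⧸ J)) :
    LocCoh.IsGorensteinRing (T ⧸ I) := by
  refine { isGorensteinLocalRing_localization := fun Q' _ => ?_ }
  haveI : (Q'.comap (Ideal.Quotient.mk I)).IsPrime := Ideal.comap_isPrime _ _
  have hIQ : I ≤ Q'.comap (Ideal.Quotient.mk I) := by
    intro x hx
    rw [Ideal.mem_comap, Ideal.Quotient.eq_zero_iff_mem.mpr hx]
    exact zero_mem _
  obtain ⟨J, hJ, h1, h2, hG⟩ := h (Q'.comap (Ideal.Quotient.mk I)) hIQ
  haveI := hG
  exact gorLocal_of_map_eq I J (Q'.comap (Ideal.Quotient.mk I)) hJ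
    (map_eq_map_of_forall _ I J h1 h2) Q' rfl

end Charts

section Socle

variable {A : Type u} [CommRing A] [LocCoh.IsGorensteinRing A]

/-- The socle obstruction.  Let `A` be a Gorenstein ring, `𝔪` a maximal ideal, `π ∈ 𝔪` a regular
element, and `η` an element with `𝔪 η ⊆ (π)`.  Then for every `y`, either `y` vanishes modulo `π`
locally at `𝔪`, or `η` is a multiple of `y` modulo `π` locally at `𝔪`. -/
theorem exists_mul_mem_of_gorenstein (𝔪 : Ideal A) [h𝔪 : 𝔪.IsMaximal] (π y η : A) (hπm : π ∈ 𝔪)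
    (hπ : IsSMulRegular A π) (hη : ∀ a ∈ 𝔪, a * η ∈ Ideal.span {π}) :
    (∃ σ : A, σ ∉ 𝔪 ∧ σ * y ∈ Ideal.span {π}) ∨
      (∃ σ : A, σ ∉ 𝔪 ∧ σ * η ∈ Ideal.span {π, y}) := by
  classical
  haveI : 𝔪.IsPrime := h𝔪.isPrime
  set L := Localization.AtPrime 𝔪 with hL
  haveI : LocCoh.IsGorensteinLocalRing L :=
    LocCoh.IsGorensteinRing.isGorensteinLocalRing_localization (A := A) 𝔪
  set π' : L := algebraMap A L π with hπ'
  have hπ'm : π' ∈ maximalIdeal L := by
    rw [← Localization.AtPrime.map_eq_maximalIdeal]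
    exact Ideal.mem_map_of_mem _ hπm
  have hπ'reg : IsSMulRegular L π' := IsSMulRegular.of_flat hπ
  set J : Ideal L := Ideal.span {π'} with hJ
  have hJle : J ≤ maximalIdeal L := (Ideal.span_singleton_le_iff_mem _).mpr hπ'm
  haveI : IsLocalRing (L ⧸ J) := Groth.Agent.Lib.Helper85.GorFlat.isLocalRing_quot _ hJle
  haveI hB : LocCoh.IsGorensteinLocalRing (L ⧸ J) :=
    (Groth.Agent.Lib.Helper85.GorFlat.gorenstein_quot_iff π' hπ'm hπ'reg J rfl).mpr inferInstance
  have hmapJ : J = (Ideal.span {π}).map (algebraMap A L) := by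
    rw [Ideal.map_span, Set.image_singleton]
  have hmapJy : Ideal.span {π', algebraMap A L y} = (Ideal.span {π, y}).map (algebraMap A L) := by
    rw [Ideal.map_span, Set.image_pair]
  -- elements of the maximal ideal of the quotient
  have hmax : ∀ l : L, Ideal.Quotient.mk J l ∈ maximalIdeal (L ⧸ J) → l ∈ maximalIdeal L := by
    intro l hl
    by_contra hl'
    have hu : IsUnit l := by
      by_contra hnu
      exact hl' ((mem_maximalIdeal l).mpr hnu)
    exact ((mem_maximalIdeal _).mp hl) (hu.map _)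
  -- `η` is in the socle of the quotient
  have hsoc : ∀ t ∈ maximalIdeal (L ⧸ J), t * Ideal.Quotient.mk J (algebraMap A L η) = 0 := by
    intro t ht
    obtain ⟨l, rfl⟩ := Ideal.Quotient.mk_surjective t
    have hl := hmax l ht
    rw [← Localization.AtPrime.map_eq_maximalIdeal,
      IsLocalization.mem_map_algebraMap_iff 𝔪.primeCompl] at hl
    obtain ⟨⟨a, s⟩, has⟩ := hl
    rw [← map_mul, Ideal.Quotient.eq_zero_iff_mem]
    have hu : IsUnit (algebraMap A L s.1) :=
      IsLocalization.map_units L (⟨s.1, s.2⟩ : 𝔪.primeCompl)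
    obtain ⟨v, hv⟩ := hu
    have h1 : algebraMap A L (a.1 * η) ∈ J := by
      rw [hmapJ]
      exact Ideal.mem_map_of_mem _ (hη a.1 a.2)
    have h2 : l * algebraMap A L η = (↑v⁻¹ : L) * algebraMap A L (a.1 * η) := by
      rw [map_mul, ← has, ← hv]
      have : (↑v⁻¹ : L) * (l * ↑v * algebraMap A L η) =
          (↑v⁻¹ * ↑v : L) * (l * algebraMap A L η) := by ring
      rw [this, Units.inv_mul, one_mul]
    rw [h2]
    exact Ideal.mul_mem_left _ _ h1
  by_cases hηB : Ideal.Quotient.mk J (algebraMap A L η) = 0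
  · right
    rw [Ideal.Quotient.eq_zero_iff_mem, hmapJ] at hηB
    obtain ⟨σ, hσ, hσx⟩ := exists_mul_mem_of_mem_map 𝔪 _ η hηB
    exact ⟨σ, hσ, Ideal.span_mono (by simp) hσx⟩
  · -- depth zero
    have hass : maximalIdeal (L ⧸ J) ∈ associatedPrimes (L ⧸ J) (L ⧸ J) := by
      show IsAssociatedPrime _ _
      rw [isAssociatedPrime_iff]
      refine ⟨(maximalIdeal.isMaximal _).isPrime, Ideal.Quotient.mk J (algebraMap A L η), ?_⟩
      apply le_antisymm
      · intro t ht
        rw [Submodule.mem_colon_singleton, Submodule.mem_bot, smul_eq_mul]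
        exact hsoc t ht
      · intro t ht
        rw [Submodule.mem_colon_singleton, Submodule.mem_bot, smul_eq_mul] at ht
        by_contra ht'
        have hu : IsUnit t := by
          by_contra hnu
          exact ht' ((mem_maximalIdeal t).mpr hnu)
        exact hηB (hu.mul_right_eq_zero.mp ht)
    have hd : LocCoh.depth (L ⧸ J) (L ⧸ J) = 0 :=
      (Groth.Agent.Lib.Helper67.depth_eq_zero_iff (L ⧸ J)).mpr hass
    haveI : Module.Injective (L ⧸ J) (L ⧸ J) :=
      Groth.Agent.Lib.Helper85.GorFlat.injective_of_gorenstein_of_depth_zero (L ⧸ J) hd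
    by_cases hyB : Ideal.Quotient.mk J (algebraMap A L y) = 0
    · left
      rw [Ideal.Quotient.eq_zero_iff_mem, hmapJ] at hyB
      exact exists_mul_mem_of_mem_map 𝔪 _ y hyB
    · right
      have hann : ∀ z : L ⧸ J, z * Ideal.Quotient.mk J (algebraMap A L y) = 0 →
          z * Ideal.Quotient.mk J (algebraMap A L η) = 0 := by
        intro z hz
        apply hsoc
        by_contra hz'
        have hu : IsUnit z := by
          by_contra hnu
          exact hz' ((mem_maximalIdeal z).mpr hnu)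
        exact hyB (hu.mul_right_eq_zero.mp hz)
      obtain ⟨b, hb⟩ := exists_eq_mul_of_injective _ _ hann
      obtain ⟨l, rfl⟩ := Ideal.Quotient.mk_surjective b
      rw [← map_mul, Ideal.Quotient.mk_eq_mk_iff_sub_mem] at hb
      have hmem : algebraMap A L η ∈ (Ideal.span {π, y}).map (algebraMap A L) := by
        rw [← hmapJy]
        have h1 : algebraMap A L η - l * algebraMap A L y ∈
            Ideal.span {π', algebraMap A L y} :=
          Ideal.span_mono (by simp) hb
        have h2 : l * algebraMap A L y ∈ Ideal.span {π', algebraMap A L y} :=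
          Ideal.mul_mem_left _ _ (Ideal.subset_span (by simp))
        have := Ideal.add_mem _ h1 h2
        rwa [sub_add_cancel] at this
      exact exists_mul_mem_of_mem_map 𝔪 _ η hmem

end Socle

end Groth.Agent.Lib.Helper99.WeilRat
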