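import Groth.Agent.Lib.Helper99.WeilRatB
import Mathlib.RingTheory.Ideal.Quotient.PowTransition

/-!
# The abstract Gorenstein criterion for `T ⧸ (g, h a, h b)`
-/

set_option autoImplicit false

namespace Groth.Agent.Lib.Helper99.WeilRat

universe u

variable {T : Type u} [CommRing T] [LocCoh.IsGorensteinRing T]

/-- regularity in the quotient by `g` from a membership criterion -/
theorem isSMulRegular_mk_of_forall (g w : T)
    (hw : ∀ x, w * x ∈ Ideal.span {g} → x ∈ Ideal.span {g}) :
    IsSMulRegular (T ⧸ Ideal.span {g}) (Ideal.Quotient.mk (Ideal.span {g}) w) := by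
  intro x y hxy
  obtain ⟨x, rfl⟩ := Ideal.Quotient.mk_surjective x
  obtain ⟨y, rfl⟩ := Ideal.Quotient.mk_surjective y
  simp only [smul_eq_mul, ← map_mul] at hxy
  rw [Ideal.Quotient.mk_eq_mk_iff_sub_mem] at hxy ⊢
  apply hw
  rw [mul_sub]
  exact hxy

/-- the quotient of a Gorenstein ring by a regular sequence of length two -/
theorem gorRing_quot_pair (g w : T) (hg : IsSMulRegular T g)
    (hw : ∀ x, w * x ∈ Ideal.span {g} → x ∈ Ideal.span {g}) :
    LocCoh.IsGorensteinRing (T ⧸ Ideal.span {g, w}) := by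
  haveI : LocCoh.IsGorensteinRing (T ⧸ Ideal.span {g}) :=
    Groth.Agent.Lib.Helper85.GorRing.gorRing_quot g hg
  have hle : Ideal.span {g} ≤ Ideal.span {g, w} := Ideal.span_mono (by simp)
  refine Groth.Agent.Lib.Helper85.GorRing.gorRing_of_surjective (Ideal.Quotient.factor hle)
    (Ideal.Quotient.factor_surjective hle) (Ideal.Quotient.mk (Ideal.span {g}) w)
    (isSMulRegular_mk_of_forall g w hw) ?_
  rw [Ideal.Quotient.factor_ker hle, Ideal.map_span, Set.image_pair]
  have h0 : Ideal.Quotient.mk (Ideal.span {g}) g = 0 :=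
    Ideal.Quotient.eq_zero_iff_mem.mpr (Ideal.mem_span_singleton_self g)
  rw [h0]
  exact Ideal.span_insert_zero

theorem forall_mul_mem_of_gens {T : Type u} [CommRing T] (S : Set T) (J : Ideal T) (σ : T)
    (h : ∀ x ∈ S, σ * x ∈ J) : ∀ x ∈ Ideal.span S, σ * x ∈ J := by
  intro x hx
  induction hx using Submodule.span_induction with
  | mem x hx => exact h x hx
  | zero => simp
  | add x y _ _ hx hy => rw [mul_add]; exact J.add_mem hx hy
  | smul r x _ hx => rw [smul_eq_mul, mul_left_comm]; exact J.mul_mem_left _ hx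

/-- The Gorenstein criterion.  `g` regular, `h` and `a` regular modulo `g`, `T ⧸ (a, b)` Gorenstein,
`g ∈ (a, b)`, `f b = g - s a`, and `f` outside every prime containing `h, a, b`. -/
theorem gorRing_quot_rational (g h a b f s' : T) (hg : IsSMulRegular T g)
    (hh : ∀ x, h * x ∈ Ideal.span {g} → x ∈ Ideal.span {g})
    (ha : ∀ x, a * x ∈ Ideal.span {g} → x ∈ Ideal.span {g})
    (hab : LocCoh.IsGorensteinRing (T ⧸ Ideal.span {a, b}))
    (hgab : g ∈ Ideal.span {a, b}) (hfb : f * b = g - s' * a)
    (hQ : ∀ (Q : Ideal T) [Q.IsPrime], h ∈ Q → a ∈ Q → b ∈ Q → f ∉ Q) :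
    LocCoh.IsGorensteinRing (T ⧸ Ideal.span {g, h * a, h * b}) := by
  have hha : ∀ x, h * a * x ∈ Ideal.span {g} → x ∈ Ideal.span {g} := by
    intro x hx
    apply ha
    apply hh
    rwa [← mul_assoc]
  have hG1 : LocCoh.IsGorensteinRing (T ⧸ Ideal.span {g, h}) := gorRing_quot_pair g h hg hh
  have hG2 : LocCoh.IsGorensteinRing (T ⧸ Ideal.span {g, h * a}) :=
    gorRing_quot_pair g (h * a) hg hha
  have one_notMem : ∀ (Q : Ideal T) [Q.IsPrime], (1 : T) ∉ Q := fun Q _ h1 =>
    (Ideal.IsPrime.ne_top inferInstance) ((Ideal.eq_top_iff_one Q).mpr h1)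
  have hgI : g ∈ Ideal.span {g, h * a, h * b} := Ideal.subset_span (by simp)
  have hhaI : h * a ∈ Ideal.span {g, h * a, h * b} := Ideal.subset_span (by simp)
  have hhbI : h * b ∈ Ideal.span {g, h * a, h * b} := Ideal.subset_span (by simp)
  apply gorRing_quot_of_charts
  intro Q _ hIQ
  have hgQ : g ∈ Q := hIQ hgI
  have hhaQ : h * a ∈ Q := hIQ hhaI
  have hhbQ : h * b ∈ Q := hIQ hhbI
  by_cases hhQ : h ∈ Q
  · have hJQ : Ideal.span {g, h} ≤ Q := by
      rw [Ideal.span_le]
      rintro x (rfl | rfl)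
      · exact hgQ
      · exact hhQ
    have hIJ : ∀ x ∈ Ideal.span {g, h * a, h * b}, ∃ σ : T, σ ∉ Q ∧ σ * x ∈ Ideal.span {g, h} := by
      intro x hx
      refine ⟨1, one_notMem Q, ?_⟩
      refine forall_mul_mem_of_gens _ _ 1 ?_ x hx
      rintro z (rfl | rfl | rfl)
      · rw [one_mul]; exact Ideal.subset_span (by simp)
      · rw [one_mul, mul_comm]
        exact Ideal.mul_mem_left _ _ (Ideal.subset_span (by simp))
      · rw [one_mul, mul_comm]
        exact Ideal.mul_mem_left _ _ (Ideal.subset_span (by simp))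
    by_cases haQ : a ∈ Q
    · by_cases hbQ : b ∈ Q
      · -- chart `(g, h a)`
        have hfQ : f ∉ Q := hQ Q hhQ haQ hbQ
        refine ⟨Ideal.span {g, h * a}, ?_, ?_, ?_, hG2⟩
        · rw [Ideal.span_le]
          rintro x (rfl | rfl)
          · exact hgQ
          · exact hhaQ
        · intro x hx
          refine ⟨f, hfQ, ?_⟩
          refine forall_mul_mem_of_gens _ _ f ?_ x hx
          rintro z (rfl | rfl | rfl)
          · exact Ideal.mul_mem_left _ _ (Ideal.subset_span (by simp))
          · exact Ideal.mul_mem_left _ _ (Ideal.subset_span (by simp))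
          · have : f * (h * b) = h * g - s' * (h * a) := by
              rw [mul_left_comm, hfb]; ring
            rw [this]
            exact Ideal.sub_mem _ (Ideal.mul_mem_left _ _ (Ideal.subset_span (by simp)))
              (Ideal.mul_mem_left _ _ (Ideal.subset_span (by simp)))
        · intro x hx
          refine ⟨1, one_notMem Q, ?_⟩
          refine forall_mul_mem_of_gens _ _ 1 ?_ x hx
          rintro z (rfl | rfl)
          · rw [one_mul]; exact hgI
          · rw [one_mul]; exact hhaI
      · -- `b ∉ Q`: chart `(g, h)`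
        refine ⟨Ideal.span {g, h}, hJQ, hIJ, ?_, hG1⟩
        intro x hx
        refine ⟨b, hbQ, ?_⟩
        refine forall_mul_mem_of_gens _ _ b ?_ x hx
        rintro z (rfl | rfl)
        · exact Ideal.mul_mem_left _ _ hgI
        · rw [show b * z = z * b from mul_comm _ _]; exact hhbI
    · -- `a ∉ Q`: chart `(g, h)`
      refine ⟨Ideal.span {g, h}, hJQ, hIJ, ?_, hG1⟩
      intro x hx
      refine ⟨a, haQ, ?_⟩
      refine forall_mul_mem_of_gens _ _ a ?_ x hx
      rintro z (rfl | rfl)
      · exact Ideal.mul_mem_left _ _ hgI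
      · rw [show a * z = z * a from mul_comm _ _]; exact hhaI
  · -- `h ∉ Q`: chart `(a, b)`
    have haQ : a ∈ Q := ((Ideal.IsPrime.mem_or_mem inferInstance hhaQ).resolve_left hhQ)
    have hbQ : b ∈ Q := ((Ideal.IsPrime.mem_or_mem inferInstance hhbQ).resolve_left hhQ)
    refine ⟨Ideal.span {a, b}, ?_, ?_, ?_, hab⟩
    · rw [Ideal.span_le]
      rintro x (rfl | rfl)
      · exact haQ
      · exact hbQ
    · intro x hx
      refine ⟨1, one_notMem Q, ?_⟩
      refine forall_mul_mem_of_gens _ _ 1 ?_ x hx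
      rintro z (rfl | rfl | rfl)
      · rw [one_mul]; exact hgab
      · rw [one_mul]
        exact Ideal.mul_mem_left _ _ (Ideal.subset_span (by simp))
      · rw [one_mul]
        exact Ideal.mul_mem_left _ _ (Ideal.subset_span (by simp))
    · intro x hx
      refine ⟨h, hhQ, ?_⟩
      refine forall_mul_mem_of_gens _ _ h ?_ x hx
      rintro z (rfl | rfl)
      · exact hhaI
      · exact hhbI

end Groth.Agent.Lib.Helper99.WeilRat
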