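import Groth.Agent.Lib.Helper1.WeilCI

/-!
# Concrete facts in `ℤ[F, V]` for the rational Weil number `s`, `s² = q`
-/

set_option autoImplicit false

open MvPolynomial

namespace Groth.Agent.Lib.Helper99.WeilRat

open Groth.Agent.Lib.Helper1.WeilCI

noncomputable section

/-- evaluation at an integer point -/
abbrev ev (u v : ℤ) : R →+* ℤ := MvPolynomial.eval (![u, v] : Fin 2 → ℤ)

theorem sub_C_ev_mem (u v : ℤ) (x : R) :
    x - C (ev u v x) ∈ Ideal.span ({X 0 - C u, X 1 - C v} : Set R) := by
  set J : Ideal R := Ideal.span ({X 0 - C u, X 1 - C v} : Set R) with hJ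
  have key : (Ideal.Quotient.mk J : R →+* R ⧸ J) =
      ((Ideal.Quotient.mk J).comp (C : ℤ →+* R)).comp (ev u v) := by
    apply MvPolynomial.ringHom_ext
    · intro r
      simp [ev]
    · intro i
      rw [RingHom.comp_apply, RingHom.comp_apply, Ideal.Quotient.mk_eq_mk_iff_sub_mem]
      fin_cases i
      · have : ev u v (X 0) = u := by simp [ev]
        show X 0 - C (ev u v (X 0)) ∈ J
        rw [this]
        exact Ideal.subset_span (by simp)
      · have : ev u v (X 1) = v := by simp [ev]
        show X 1 - C (ev u v (X 1)) ∈ J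
        rw [this]
        exact Ideal.subset_span (by simp)
  have h1 := congrArg (fun f => f x) key
  simp only [RingHom.comp_apply] at h1
  exact (Ideal.Quotient.mk_eq_mk_iff_sub_mem _ _).mp h1

theorem mem_span_of_ev_eq_zero (u v : ℤ) (x : R) (hx : ev u v x = 0) :
    x ∈ Ideal.span ({X 0 - C u, X 1 - C v} : Set R) := by
  have := sub_C_ev_mem u v x
  rwa [hx, map_zero, sub_zero] at this

theorem ev_eq_zero_of_mem_span (u v : ℤ) (x : R)
    (hx : x ∈ Ideal.span ({X 0 - C u, X 1 - C v} : Set R)) : ev u v x = 0 := by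
  have hle : Ideal.span ({X 0 - C u, X 1 - C v} : Set R) ≤ RingHom.ker (ev u v) := by
    rw [Ideal.span_le]
    rintro z (rfl | rfl)
    · simp [ev]
    · simp [ev]
  exact hle hx

variable (q s : ℤ) (hs : s ^ 2 = q)

/-- `a = F - s` -/
abbrev aa : R := X 0 - C s
/-- `b = V - s` -/
abbrev bb : R := X 1 - C s

include hs in
theorem g_eq : g q = aa s * X 1 + C s * bb s := by
  have : (C q : R) = C s * C s := by rw [← hs, pow_two, map_mul]
  simp only [g, aa, bb, this]
  ring

include hs in
theorem g_mem_span_ab : g q ∈ Ideal.span ({aa s, bb s} : Set R) := by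
  rw [g_eq q s hs]
  exact Ideal.add_mem _ (Ideal.mul_mem_right _ _ (Ideal.subset_span (by simp)))
    (Ideal.mul_mem_left _ _ (Ideal.subset_span (by simp)))

include hs in
theorem X0_mul_bb : X 0 * bb s = g q - C s * aa s := by
  have : (C q : R) = C s * C s := by rw [← hs, pow_two, map_mul]
  simp only [g, aa, bb, this]
  ring

include hs in
theorem ev_g : ev s s (g q) = 0 := by
  simp [ev, g, ← hs, pow_two]

theorem θ_aa_ne_zero : θ q (aa s) ≠ 0 := by
  intro h0
  have h1 := congrArg (fun l : L => l.coeff 1) h0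
  simp only [aa, map_sub, θ_X0, θ_C] at h1
  rw [show ((sg 1 1 - sg 0 s : L)).coeff 1 = (sg 1 1 : L).coeff 1 - (sg 0 s : L).coeff 1 from rfl,
    sg_coeff, sg_coeff] at h1
  simp at h1

/-- `F - s` is a nonzerodivisor modulo `FV - q`. -/
theorem mem_span_g_of_aa_mul (hq : q ≠ 0) (x : R) (hx : aa s * x ∈ Ideal.span {g q}) :
    x ∈ Ideal.span {g q} := by
  rw [← ker_θ q hq] at hx ⊢
  rw [map_mul] at hx
  rcases mul_eq_zero.mp hx with h1 | h1
  · exact absurd h1 (θ_aa_ne_zero q s)
  · exact h1

theorem g_ne_zero (hq : q ≠ 0) : g q ≠ 0 := by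
  intro h0
  have := congrArg ε₀ h0
  rw [ε₀_g, map_zero, neg_eq_zero] at this
  exact hq (by simpa using this)

end

end Groth.Agent.Lib.Helper99.WeilRat
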