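import Groth.Agent.Lib.Helper99.WeilRatD

/-!
# Reduction modulo `p` of `ℤ[F, V]` along the two coordinate axes
-/

set_option autoImplicit false

open MvPolynomial

namespace Groth.Agent.Lib.Helper99.WeilRat

open Groth.Agent.Lib.Helper1.WeilCI

noncomputable section

variable (p : ℕ) [Fact p.Prime]

/-- `F ↦ X`, `V ↦ 0`, coefficients reduced modulo `p` -/
def ρF : R →+* Polynomial (ZMod p) :=
  MvPolynomial.eval₂Hom ((Polynomial.C).comp (Int.castRingHom (ZMod p))) ![Polynomial.X, 0]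

/-- `F ↦ 0`, `V ↦ X`, coefficients reduced modulo `p` -/
def ρV : R →+* Polynomial (ZMod p) :=
  MvPolynomial.eval₂Hom ((Polynomial.C).comp (Int.castRingHom (ZMod p))) ![0, Polynomial.X]

/-- the residue map at `(p, F, V)` -/
def κ : R →+* ZMod p := (Int.castRingHom (ZMod p)).comp (ev 0 0)

@[simp] theorem ρF_C (n : ℤ) : ρF p (C n) = Polynomial.C (n : ZMod p) := by simp [ρF]
@[simp] theorem ρF_X0 : ρF p (X 0) = Polynomial.X := by simp [ρF]
@[simp] theorem ρF_X1 : ρF p (X 1) = 0 := by simp [ρF]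
@[simp] theorem ρV_C (n : ℤ) : ρV p (C n) = Polynomial.C (n : ZMod p) := by simp [ρV]
@[simp] theorem ρV_X0 : ρV p (X 0) = 0 := by simp [ρV]
@[simp] theorem ρV_X1 : ρV p (X 1) = Polynomial.X := by simp [ρV]
@[simp] theorem κ_C (n : ℤ) : κ p (C n) = (n : ZMod p) := by simp [κ, ev]
@[simp] theorem κ_X (i : Fin 2) : κ p (X i) = 0 := by
  fin_cases i <;> simp [κ, ev]

theorem κ_eq_F : κ p = (Polynomial.constantCoeff).comp (ρF p) := by
  apply MvPolynomial.ringHom_ext
  · intro r; simp
  · intro i; fin_cases i <;> simp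

theorem κ_eq_V : κ p = (Polynomial.constantCoeff).comp (ρV p) := by
  apply MvPolynomial.ringHom_ext
  · intro r; simp
  · intro i; fin_cases i <;> simp

theorem κ_apply_F (x : R) : κ p x = (ρF p x).coeff 0 := by
  rw [κ_eq_F]; simp [Polynomial.constantCoeff_apply]

theorem κ_apply_V (x : R) : κ p x = (ρV p x).coeff 0 := by
  rw [κ_eq_V]; simp [Polynomial.constantCoeff_apply]

theorem κ_apply (x : R) : κ p x = ((ev 0 0 x : ℤ) : ZMod p) := rfl

theorem κ_surjective : Function.Surjective (κ p) := by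
  intro z
  obtain ⟨n, rfl⟩ := ZMod.intCast_surjective z
  exact ⟨C n, by simp⟩

theorem mem_span_of_κ_eq_zero (x : R) (hx : κ p x = 0) :
    x ∈ Ideal.span ({C (p : ℤ), X 0, X 1} : Set R) := by
  rw [κ_apply, ZMod.intCast_zmod_eq_zero_iff_dvd] at hx
  obtain ⟨k, hk⟩ := hx
  have h1 := sub_C_ev_mem 0 0 x
  simp only [map_zero, sub_zero] at h1
  have h2 : x = (x - C (ev 0 0 x)) + C (p : ℤ) * C k := by
    rw [hk, map_mul]; ring
  rw [h2]
  refine Ideal.add_mem _ (Ideal.span_mono ?_ h1)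
    (Ideal.mul_mem_right _ _ (Ideal.subset_span (by simp)))
  intro z hz
  rcases hz with rfl | rfl
  · simp
  · simp

variable (q s : ℤ) (hqp : ((q : ℤ) : ZMod p) = 0) (hsp : ((s : ℤ) : ZMod p) = 0) (h : R)

include hqp hsp in
theorem ρF_mem (x : R) (hx : x ∈ Ideal.span ({g q, h * aa s, h * bb s} : Set R)) :
    ∃ w : Polynomial (ZMod p), ρF p x = w * (ρF p h * Polynomial.X) := by
  have hle : Ideal.span ({g q, h * aa s, h * bb s} : Set R) ≤
      (Ideal.span {ρF p h * Polynomial.X}).comap (ρF p) := by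
    have hq' : ((q : ℤ) : Polynomial (ZMod p)) = 0 := by
      rw [← Polynomial.C_eq_intCast, hqp, map_zero]
    have hs' : ((s : ℤ) : Polynomial (ZMod p)) = 0 := by
      rw [← Polynomial.C_eq_intCast, hsp, map_zero]
    rw [Ideal.span_le]
    rintro z (rfl | rfl | rfl)
    · rw [SetLike.mem_coe, Ideal.mem_comap]
      simp [g, hq']
    · rw [SetLike.mem_coe, Ideal.mem_comap]
      simp only [aa, map_mul, map_sub, ρF_X0, ρF_C, hsp, map_zero, sub_zero]
      exact Ideal.mem_span_singleton_self _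
    · rw [SetLike.mem_coe, Ideal.mem_comap]
      simp [bb, hs']
  have h1 := hle hx
  rw [Ideal.mem_comap, Ideal.mem_span_singleton'] at h1
  obtain ⟨w, hw⟩ := h1
  exact ⟨w, hw.symm⟩

include hqp hsp in
theorem ρV_mem (x : R) (hx : x ∈ Ideal.span ({g q, h * aa s, h * bb s} : Set R)) :
    ∃ w : Polynomial (ZMod p), ρV p x = w * (ρV p h * Polynomial.X) := by
  have hle : Ideal.span ({g q, h * aa s, h * bb s} : Set R) ≤
      (Ideal.span {ρV p h * Polynomial.X}).comap (ρV p) := by
    have hq' : ((q : ℤ) : Polynomial (ZMod p)) = 0 := by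
      rw [← Polynomial.C_eq_intCast, hqp, map_zero]
    have hs' : ((s : ℤ) : Polynomial (ZMod p)) = 0 := by
      rw [← Polynomial.C_eq_intCast, hsp, map_zero]
    rw [Ideal.span_le]
    rintro z (rfl | rfl | rfl)
    · rw [SetLike.mem_coe, Ideal.mem_comap]
      simp [g, hq']
    · rw [SetLike.mem_coe, Ideal.mem_comap]
      simp [aa, hs']
    · rw [SetLike.mem_coe, Ideal.mem_comap]
      simp only [bb, map_mul, map_sub, ρV_X1, ρV_C, hsp, map_zero, sub_zero]
      exact Ideal.mem_span_singleton_self _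
  have h1 := hle hx
  rw [Ideal.mem_comap, Ideal.mem_span_singleton'] at h1
  obtain ⟨w, hw⟩ := h1
  exact ⟨w, hw.symm⟩

theorem ρF_aeval (P : Polynomial ℤ) :
    ρF p (Polynomial.aeval (X 0 : R) P) = P.map (Int.castRingHom (ZMod p)) := by
  have key : (ρF p).comp ((Polynomial.aeval (X 0 : R) : Polynomial ℤ →ₐ[ℤ] R) : Polynomial ℤ →+* R) =
      Polynomial.mapRingHom (Int.castRingHom (ZMod p)) := by
    apply Polynomial.ringHom_ext
    · intro a; simp
    · simp
  exact congrArg (fun f => f P) key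

end

end Groth.Agent.Lib.Helper99.WeilRat
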