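import Groth.Agent.Lib.Helper99.WeilRatB
import Groth.Agent.Lib.Helper99.WeilRatE

/-!
# Gorenstein implies ordinary: the order `ℤ[F,V]/(FV - q, h(F-s), h(V-s))`
is not Gorenstein at `(p, F, V)` when `p ∣ h(0,0)`.
-/

set_option autoImplicit false

open MvPolynomial

namespace Groth.Agent.Lib.Helper99.WeilRat

open Groth.Agent.Lib.Helper1.WeilCI

universe u

noncomputable section

variable (p : ℕ) [Fact p.Prime] (q s : ℤ) (hqp : ((q : ℤ) : ZMod p) = 0)
  (hsp : ((s : ℤ) : ZMod p) = 0) (h : R)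

include hqp in
theorem ρF_g : ρF p (g q) = 0 := by
  have hq' : ((q : ℤ) : Polynomial (ZMod p)) = 0 := by
    rw [← Polynomial.C_eq_intCast, hqp, map_zero]
  simp [g, hq']

include hqp in
theorem ρF_h_ne_zero (P : Polynomial ℤ) (hP : P.Monic) (D : ℕ)
    (hh : X 0 ^ D * h - Polynomial.aeval (X 0 : R) P ∈ Ideal.span ({g q} : Set R)) :
    ρF p h ≠ 0 := by
  intro h0
  obtain ⟨w, hw⟩ := Ideal.mem_span_singleton'.mp hh
  have h1 := congrArg (ρF p) hw
  rw [map_mul, ρF_g p q hqp, mul_zero, map_sub, map_mul, h0, mul_zero, zero_sub, ρF_aeval] at h1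
  have h2 : P.map (Int.castRingHom (ZMod p)) = 0 := by
    rw [← neg_eq_zero]; exact h1.symm
  exact (hP.map (Int.castRingHom (ZMod p))).ne_zero h2

include hqp in
/-- `X^D * ρF h` is the reduction of `P` -/
theorem X_pow_mul_ρF_h (P : Polynomial ℤ) (D : ℕ)
    (hh : X 0 ^ D * h - Polynomial.aeval (X 0 : R) P ∈ Ideal.span ({g q} : Set R)) :
    Polynomial.X ^ D * ρF p h = P.map (Int.castRingHom (ZMod p)) := by
  obtain ⟨w, hw⟩ := Ideal.mem_span_singleton'.mp hh
  have h1 := congrArg (ρF p) hw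
  rw [map_mul, ρF_g p q hqp, mul_zero, map_sub, map_mul, map_pow, ρF_X0, ρF_aeval] at h1
  exact (sub_eq_zero.mp h1.symm)

include hqp hsp in
theorem not_dvd_of_gorenstein {A : Type u} [CommRing A] [LocCoh.IsGorensteinRing A]
    (φ : R →+* A) (hφ : Function.Surjective φ)
    (hker : RingHom.ker φ = Ideal.span ({g q, h * aa s, h * bb s} : Set R))
    (hreg : ∀ x : A, φ (C (p : ℤ)) * x = 0 → x = 0)
    (hρ : ρF p h ≠ 0) : ¬ (p : ℤ) ∣ ev 0 0 h := by
  intro hdvd
  have hκh : κ p h = 0 := by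
    rw [κ_apply]; exact (ZMod.intCast_zmod_eq_zero_iff_dvd _ _).mpr hdvd
  obtain ⟨s', hs'⟩ : (p : ℤ) ∣ s := (ZMod.intCast_zmod_eq_zero_iff_dvd _ _).mp hsp
  have hmem : ∀ x : R, φ x = 0 ↔ x ∈ Ideal.span ({g q, h * aa s, h * bb s} : Set R) := by
    intro x
    rw [← hker, RingHom.mem_ker]
  have hle : RingHom.ker φ ≤ RingHom.ker (κ p) := by
    rw [hker, Ideal.span_le]
    rintro z (rfl | rfl | rfl)
    · rw [SetLike.mem_coe, RingHom.mem_ker]
      simp [g, hqp]
    · rw [SetLike.mem_coe, RingHom.mem_ker, map_mul, hκh, zero_mul]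
    · rw [SetLike.mem_coe, RingHom.mem_ker, map_mul, hκh, zero_mul]
  let κ' : A →+* ZMod p := RingHom.liftOfSurjective φ hφ ⟨κ p, hle⟩
  have hκ' : ∀ x, κ' (φ x) = κ p x := fun x =>
    RingHom.liftOfSurjective_comp_apply φ hφ ⟨κ p, hle⟩ x
  have hκ'surj : Function.Surjective κ' := by
    intro z
    obtain ⟨x, rfl⟩ := κ_surjective p z
    exact ⟨φ x, hκ' x⟩
  haveI hmax : (RingHom.ker κ').IsMaximal := RingHom.ker_isMaximal_of_surjective κ' hκ'surj
  -- the two key congruences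
  have hX0h : X 0 * h - C (p : ℤ) * (C s' * h) ∈
      Ideal.span ({g q, h * aa s, h * bb s} : Set R) := by
    have : X 0 * h - C (p : ℤ) * (C s' * h) = h * aa s := by
      simp only [aa, hs', map_mul]; ring
    rw [this]
    exact Ideal.subset_span (by simp)
  have hX1h : X 1 * h - C (p : ℤ) * (C s' * h) ∈
      Ideal.span ({g q, h * aa s, h * bb s} : Set R) := by
    have : X 1 * h - C (p : ℤ) * (C s' * h) = h * bb s := by
      simp only [bb, hs', map_mul]; ring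
    rw [this]
    exact Ideal.subset_span (by simp)
  have hη : ∀ a ∈ RingHom.ker κ', a * φ h ∈ Ideal.span ({φ (C (p : ℤ))} : Set A) := by
    intro a ha
    obtain ⟨a0, rfl⟩ := hφ a
    rw [RingHom.mem_ker, hκ'] at ha
    have h1 := mem_span_of_κ_eq_zero p a0 ha
    rw [Ideal.mem_span_insert] at h1
    obtain ⟨u, z, hz, rfl⟩ := h1
    rw [Ideal.mem_span_pair] at hz
    obtain ⟨v, w, rfl⟩ := hz
    rw [Ideal.mem_span_singleton']
    refine ⟨φ (u * h + v * (C s' * h) + w * (C s' * h)), ?_⟩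
    rw [← map_mul, ← map_mul, ← sub_eq_zero, ← map_sub, hmem]
    have : (u * h + v * (C s' * h) + w * (C s' * h)) * C (p : ℤ) -
        (u * C (p : ℤ) + (v * X 0 + w * X 1)) * h =
        - (v * (X 0 * h - C (p : ℤ) * (C s' * h))) - w * (X 1 * h - C (p : ℤ) * (C s' * h)) := by
      ring
    rw [this]
    exact Ideal.sub_mem _ (neg_mem (Ideal.mul_mem_left _ _ hX0h))
      (Ideal.mul_mem_left _ _ hX1h)
  have hπm : φ (C (p : ℤ)) ∈ RingHom.ker κ' := by
    rw [RingHom.mem_ker, hκ']; simp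
  have hπreg : IsSMulRegular A (φ (C (p : ℤ))) := by
    rw [isSMulRegular_iff_right_eq_zero_of_smul]
    intro x hx
    exact hreg x hx
  have hXne : (Polynomial.X : Polynomial (ZMod p)) ≠ 0 := Polynomial.X_ne_zero
  have hCp : (Polynomial.C ((p : ℤ) : ZMod p) : Polynomial (ZMod p)) = 0 := by simp
  rcases exists_mul_mem_of_gorenstein (RingHom.ker κ') (φ (C (p : ℤ))) (φ (X 1)) (φ h)
    hπm hπreg hη with ⟨σ, hσ, hmemσ⟩ | ⟨σ, hσ, hmemσ⟩
  · obtain ⟨σ0, rfl⟩ := hφ σ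
    rw [RingHom.mem_ker, hκ'] at hσ
    rw [Ideal.mem_span_singleton'] at hmemσ
    obtain ⟨t, ht⟩ := hmemσ
    obtain ⟨t0, rfl⟩ := hφ t
    rw [← map_mul, ← map_mul, ← sub_eq_zero, ← map_sub, hmem] at ht
    obtain ⟨w, hw⟩ := ρV_mem p q s hqp hsp h _ ht
    rw [map_sub, map_mul, map_mul, ρV_C, hCp, mul_zero, zero_sub, ρV_X1] at hw
    -- -(ρV σ0 * X) = w * (ρV h * X)
    have h2 : ρV p σ0 = - (w * ρV p h) := by
      apply mul_right_cancel₀ hXne
      linear_combination -hw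
    apply hσ
    rw [κ_apply_V, h2, Polynomial.coeff_neg, Polynomial.mul_coeff_zero, ← κ_apply_V, hκh,
      mul_zero, neg_zero]
  · obtain ⟨σ0, rfl⟩ := hφ σ
    rw [RingHom.mem_ker, hκ'] at hσ
    rw [Ideal.mem_span_pair] at hmemσ
    obtain ⟨t, t', ht⟩ := hmemσ
    obtain ⟨t0, rfl⟩ := hφ t
    obtain ⟨t0', rfl⟩ := hφ t'
    rw [← map_mul, ← map_mul, ← map_mul, ← map_add, ← sub_eq_zero, ← map_sub, hmem] at ht
    obtain ⟨w, hw⟩ := ρF_mem p q s hqp hsp h _ ht
    rw [map_sub, map_add, map_mul, map_mul, map_mul, ρF_C, hCp, mul_zero, zero_add, ρF_X1,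
      mul_zero, zero_sub] at hw
    -- -(ρF σ0 * ρF h) = w * (ρF h * X)
    have h2 : ρF p σ0 = - (w * Polynomial.X) := by
      apply mul_right_cancel₀ hρ
      linear_combination -hw
    apply hσ
    rw [κ_apply_F, h2, Polynomial.coeff_neg, Polynomial.mul_coeff_zero, Polynomial.coeff_X_zero,
      mul_zero, neg_zero]

end

end Groth.Agent.Lib.Helper99.WeilRat
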