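import Groth.Agent.Lib.Helper99.WeilRatC
import Groth.Agent.Lib.Helper99.WeilRatE
import Groth.Agent.Lib.Helper1.WeilOrder3

/-!
# Ordinary implies Gorenstein for `ℤ[F,V]/(FV - q, h(F-s), h(V-s))`
-/

set_option autoImplicit false

open MvPolynomial

namespace Groth.Agent.Lib.Helper99.WeilRat

open Groth.Agent.Lib.Helper1.WeilCI

universe u

noncomputable section

/-- the polynomial ring over the lifted integers -/
abbrev Ru : Type u := MvPolynomial (Fin 2) (ULift.{u} ℤ)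

/-- universe lift of `ℤ[F,V]` -/
def E : R ≃+* Ru.{u} :=
  MvPolynomial.mapEquiv (Fin 2) (ULift.ringEquiv : ULift.{u} ℤ ≃+* ℤ).symm

theorem E_mem_span_image (S : Set R) (x : R) :
    E.{u} x ∈ Ideal.span (E.{u} '' S) ↔ x ∈ Ideal.span S := by
  rw [← Ideal.map_span]
  constructor
  · intro hx
    obtain ⟨y, hy, hxy⟩ := (Ideal.mem_map_of_equiv E.{u} _).mp hx
    rwa [← E.injective hxy]
  · exact Ideal.mem_map_of_mem _

theorem mem_span_E_iff (S : Set R) (x : Ru.{u}) :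
    x ∈ Ideal.span (E.{u} '' S) ↔ E.symm x ∈ Ideal.span S := by
  conv_lhs => rw [← E.apply_symm_apply x]
  exact E_mem_span_image S _

theorem mem_span_E1 (a : R) (x : Ru.{u}) :
    x ∈ Ideal.span {E.{u} a} ↔ E.symm x ∈ Ideal.span {a} := by
  rw [← mem_span_E_iff, Set.image_singleton]

theorem mem_span_E2 (a b : R) (x : Ru.{u}) :
    x ∈ Ideal.span {E.{u} a, E.{u} b} ↔ E.symm x ∈ Ideal.span {a, b} := by
  rw [← mem_span_E_iff, Set.image_pair]

theorem mem_span_E3 (a b c : R) (x : Ru.{u}) :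
    x ∈ Ideal.span {E.{u} a, E.{u} b, E.{u} c} ↔ E.symm x ∈ Ideal.span {a, b, c} := by
  rw [← mem_span_E_iff, Set.image_insert_eq, Set.image_pair]

instance isDomain_Ru : IsDomain Ru.{u} := MulEquiv.isDomain R E.{u}.symm.toMulEquiv

instance isNoetherianRing_Ru : IsNoetherianRing Ru.{u} := isNoetherianRing_of_ringEquiv R E.{u}

theorem gorRing_Ru : LocCoh.IsGorensteinRing Ru.{u} := by
  haveI : LocCoh.IsGorensteinRing (ULift.{u} ℤ) :=
    Groth.Agent.Lib.Helper1.WeilOrder.gorRing_ulift_int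
  have := Groth.Agent.Lib.Helper85.GorRing.gorRing_mvPolynomial (ULift.{u} ℤ) (ULift.{u} (Fin 2))
  exact Groth.Agent.Lib.Helper85.GorRing.gorRing_of_ringEquiv
    (MvPolynomial.renameEquiv (ULift.{u} ℤ) (Equiv.ulift : ULift.{u} (Fin 2) ≃ Fin 2)).toRingEquiv

/-- a prime containing `h`, `F - s`, `V - s` does not contain `F`, when `p ∤ h(0,0)` -/
theorem X0_notMem (p e : ℕ) [hp : Fact p.Prime] (s : ℤ) (hs : s ^ 2 = (p : ℤ) ^ e) (h : R)
    (hc : ¬ (p : ℤ) ∣ ev 0 0 h) (Q : Ideal R) [hQ : Q.IsPrime] (hhQ : h ∈ Q) (haQ : aa s ∈ Q)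
    (hbQ : bb s ∈ Q) : X 0 ∉ Q := by
  intro hX
  have hsQ : C s ∈ Q := by
    have : (C s : R) = X 0 - aa s := by simp [aa]
    rw [this]; exact Q.sub_mem hX haQ
  have hpQ : C (p : ℤ) ∈ Q := by
    have h0 : (C (p : ℤ) : R) ^ e = C s ^ 2 := by rw [← map_pow, ← map_pow, hs]
    have h1 : (C (p : ℤ) : R) ^ e ∈ Q := by
      rw [h0]; exact Ideal.pow_mem_of_mem _ hsQ 2 (by norm_num)
    exact hQ.mem_of_pow_mem e h1
  have hX1 : X 1 ∈ Q := by
    have : (X 1 : R) = bb s + C s := by simp [bb]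
    rw [this]; exact Q.add_mem hbQ hsQ
  have hcQ : C (ev 0 0 h) ∈ Q := by
    have h1 := sub_C_ev_mem 0 0 h
    have h2 : Ideal.span ({X 0 - C 0, X 1 - C 0} : Set R) ≤ Q := by
      rw [Ideal.span_le]
      rintro z (rfl | rfl)
      · simpa using hX
      · simpa using hX1
    have h3 := Q.sub_mem hhQ (h2 h1)
    simpa using h3
  have hcop : IsCoprime (p : ℤ) (ev 0 0 h) :=
    (Nat.prime_iff_prime_int.mp hp.out).coprime_iff_not_dvd.mpr hc
  obtain ⟨u, v, huv⟩ := hcop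
  have h1 : (1 : R) ∈ Q := by
    have : (1 : R) = C u * C (p : ℤ) + C v * C (ev 0 0 h) := by
      rw [← map_mul, ← map_mul, ← map_add, huv, map_one]
    rw [this]
    exact Q.add_mem (Q.mul_mem_left _ hpQ) (Q.mul_mem_left _ hcQ)
  exact hQ.ne_top ((Ideal.eq_top_iff_one Q).mpr h1)

/-- `ℤ[F,V]/(F - s, V - s)` (lifted) is Gorenstein -/
theorem gorRing_quot_ab (s : ℤ) :
    LocCoh.IsGorensteinRing (Ru.{u} ⧸ Ideal.span {E.{u} (aa s), E.{u} (bb s)}) := by
  let ψ0 : Ru.{u} →+* ULift.{u} ℤ :=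
    ((ULift.ringEquiv : ULift.{u} ℤ ≃+* ℤ).symm.toRingHom).comp
      ((ev s s).comp E.{u}.symm.toRingHom)
  have hψ0 : Function.Surjective ψ0 := by
    intro z
    refine ⟨E.{u} (C z.down), ?_⟩
    show (ULift.ringEquiv : ULift.{u} ℤ ≃+* ℤ).symm (ev s s (E.{u}.symm (E.{u} (C z.down)))) = z
    rw [E.symm_apply_apply]
    simp [ev]
    rfl
  have hker : RingHom.ker ψ0 = Ideal.span {E.{u} (aa s), E.{u} (bb s)} := by
    ext x
    rw [RingHom.mem_ker, mem_span_E2]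
    show (ULift.ringEquiv : ULift.{u} ℤ ≃+* ℤ).symm (ev s s (E.{u}.symm x)) = 0 ↔ _
    rw [map_eq_zero_iff _ (ULift.ringEquiv : ULift.{u} ℤ ≃+* ℤ).symm.injective]
    exact ⟨mem_span_of_ev_eq_zero s s _, ev_eq_zero_of_mem_span s s _⟩
  haveI : LocCoh.IsGorensteinRing (ULift.{u} ℤ) :=
    Groth.Agent.Lib.Helper1.WeilOrder.gorRing_ulift_int
  exact Groth.Agent.Lib.Helper85.GorRing.gorRing_of_ringEquiv
    ((Ideal.quotEquivOfEq hker.symm).trans (RingHom.quotientKerEquivOfSurjective hψ0)).symm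

theorem gorenstein_of_not_dvd (p e : ℕ) [hp : Fact p.Prime] (s : ℤ) (hs : s ^ 2 = (p : ℤ) ^ e)
    (h : R) (P : Polynomial ℤ) (hP : P.Monic) (D : ℕ)
    (hh : X 0 ^ D * h - Polynomial.aeval (X 0 : R) P ∈
      Ideal.span ({g ((p : ℤ) ^ e)} : Set R))
    (hc : ¬ (p : ℤ) ∣ ev 0 0 h)
    {A : Type u} [CommRing A] (φ : R →+* A) (hφ : Function.Surjective φ)
    (hker : RingHom.ker φ =
      Ideal.span ({g ((p : ℤ) ^ e), h * aa s, h * bb s} : Set R)) :
    LocCoh.IsGorensteinRing A := by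
  have hq : ((p : ℤ) ^ e) ≠ 0 := pow_ne_zero _ (by exact_mod_cast hp.out.ne_zero)
  set q : ℤ := (p : ℤ) ^ e with hqdef
  haveI := gorRing_Ru.{u}
  have hG : LocCoh.IsGorensteinRing
      (Ru.{u} ⧸ Ideal.span {E.{u} (g q), E.{u} h * E.{u} (aa s), E.{u} h * E.{u} (bb s)}) := by
    refine gorRing_quot_rational (E.{u} (g q)) (E.{u} h) (E.{u} (aa s)) (E.{u} (bb s))
      (E.{u} (X 0)) (E.{u} (C s)) ?_ ?_ ?_ (gorRing_quot_ab s) ?_ ?_ ?_
    · intro x y hxy
      have hg0 : E.{u} (g q) ≠ 0 := (map_ne_zero_iff E.{u} E.{u}.injective).mpr (g_ne_zero q hq)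
      exact mul_left_cancel₀ hg0 hxy
    · intro x hx
      rw [mem_span_E1] at hx ⊢
      rw [map_mul, E.symm_apply_apply] at hx
      exact mem_span_g_of_h_mul hq hP hh _ hx
    · intro x hx
      rw [mem_span_E1] at hx ⊢
      rw [map_mul, E.symm_apply_apply] at hx
      exact mem_span_g_of_aa_mul q s hq _ hx
    · rw [mem_span_E2, E.symm_apply_apply]
      exact g_mem_span_ab q s hs
    · rw [← map_mul, X0_mul_bb q s hs, map_sub, map_mul]
    · intro Q _ hhQ haQ hbQ hX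
      exact X0_notMem p e s hs h hc (Q.comap E.{u}.toRingHom) hhQ haQ hbQ hX
  let ψ : Ru.{u} →+* A := φ.comp E.{u}.symm.toRingHom
  have hψ : Function.Surjective ψ := by
    intro y
    obtain ⟨x, rfl⟩ := hφ y
    exact ⟨E.{u} x, by show φ (E.{u}.symm (E.{u} x)) = φ x; rw [E.symm_apply_apply]⟩
  have hkerψ : RingHom.ker ψ =
      Ideal.span {E.{u} (g q), E.{u} h * E.{u} (aa s), E.{u} h * E.{u} (bb s)} := by
    ext x
    rw [RingHom.mem_ker, ← map_mul, ← map_mul, mem_span_E3, ← hker, RingHom.mem_ker]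
    rfl
  exact Groth.Agent.Lib.Helper85.GorRing.gorRing_of_ringEquiv
    (R := Ru.{u} ⧸ Ideal.span {E.{u} (g q), E.{u} h * E.{u} (aa s), E.{u} h * E.{u} (bb s)})
    (S := A)
    ((Ideal.quotEquivOfEq hkerψ.symm).trans (RingHom.quotientKerEquivOfSurjective hψ))

end

end Groth.Agent.Lib.Helper99.WeilRat
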