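import Groth.Agent.Lib.Helper99.WeilRatF
import Groth.Agent.S17983

/-!
# Nonrational Weil numbers for square `q`: no real conjugates, and the constant term of `h`
-/

set_option autoImplicit false

open Polynomial

namespace Groth.Agent.Lib.Helper99.WeilRat

universe u

/-- a minimal polynomial over `ℤ` of degree `≠ 1` has no integer root -/
theorem eval_ne_zero_of_natDegree_ne_one {K : Type u} [Field K] [CharZero K] (π : K)
    (hπ : IsIntegral ℤ π) (hdeg : (minpoly ℤ π).natDegree ≠ 1) (n : ℤ) :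
    (minpoly ℤ π).eval n ≠ 0 := by
  intro h0
  have hirr : Irreducible (minpoly ℤ π) := minpoly.irreducible hπ
  obtain ⟨Q, hQ⟩ := (Polynomial.dvd_iff_isRoot (p := minpoly ℤ π) (a := n)).mpr h0
  rcases hirr.isUnit_or_isUnit hQ with h1 | h1
  · exact Polynomial.not_isUnit_X_sub_C n h1
  · apply hdeg
    have hQ0 : Q ≠ 0 := h1.ne_zero
    rw [hQ, Polynomial.natDegree_mul (Polynomial.X_sub_C_ne_zero n) hQ0,
      Polynomial.natDegree_X_sub_C, Polynomial.natDegree_eq_zero_of_isUnit h1]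

/-- for `q = s²`, a Weil `q`-number of degree `≠ 1` has no real conjugate -/
theorem im_ne_zero_of_weil (p e : ℕ) (s : ℤ) (hs : s ^ 2 = (p : ℤ) ^ e)
    {K : Type u} [Field K] [CharZero K] (π : K)
    (hπ : IsIntegral ℤ π) (hdeg : (minpoly ℤ π).natDegree ≠ 1)
    (hweil : ∀ z ∈ (minpoly ℤ π).aroots ℂ, ‖z‖ = Real.sqrt ((p : ℝ) ^ e)) :
    ∀ z ∈ (minpoly ℤ π).aroots ℂ, z.im ≠ 0 := by
  intro z hz him
  have hnorm := hweil z hz
  have hzre : z = (z.re : ℂ) := Complex.ext rfl (by simpa using him)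
  have hsq : Real.sqrt ((p : ℝ) ^ e) = |(s : ℝ)| := by
    have : ((p : ℝ) ^ e) = (s : ℝ) ^ 2 := by exact_mod_cast hs.symm
    rw [this, Real.sqrt_sq_eq_abs]
  rw [hzre, Complex.norm_real, Real.norm_eq_abs, hsq] at hnorm
  have hcase : ∃ n : ℤ, z = ((n : ℤ) : ℂ) := by
    rcases abs_eq_abs.mp hnorm with h1 | h1
    · exact ⟨s, by rw [hzre, h1]; push_cast; rfl⟩
    · exact ⟨-s, by rw [hzre, h1]; push_cast; rfl⟩
  obtain ⟨n, hn⟩ := hcase
  rw [Polynomial.mem_aroots] at hz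
  have h1 : Polynomial.aeval z (minpoly ℤ π) = 0 := hz.2
  rw [hn, ← eq_intCast (algebraMap ℤ ℂ) n, Polynomial.aeval_algebraMap_apply] at h1
  have h2 : Polynomial.aeval n (minpoly ℤ π) = 0 := by
    have hinj : Function.Injective (algebraMap ℤ ℂ) := (algebraMap ℤ ℂ).injective_int
    exact hinj (by rw [h1, map_zero])
  rw [Polynomial.coe_aeval_eq_eval] at h2
  exact eval_ne_zero_of_natDegree_ne_one π hπ hdeg n h2

/-- the coefficient of a product in the sum of the orders of vanishing -/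
theorem coeff_prod_of_forall {ι : Type*} [Fintype ι] {F : Type*} [CommRing F]
    (f : ι → F[X]) (m : ι → ℕ) (hf : ∀ i, ∀ k < m i, (f i).coeff k = 0) :
    (∏ i, f i).coeff (∑ i, m i) = ∏ i, (f i).coeff (m i) := by
  have hdvd : ∀ i, ∃ U : F[X], f i = X ^ m i * U := fun i =>
    Polynomial.X_pow_dvd_iff.mpr (hf i)
  choose U hU using hdvd
  have h1 : ∏ i, f i = X ^ (∑ i, m i) * ∏ i, U i := by
    rw [← Finset.prod_pow_eq_pow_sum, ← Finset.prod_mul_distrib]
    exact Finset.prod_congr rfl fun i _ => hU i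
  have h2 : ∀ i, (f i).coeff (m i) = (U i).coeff 0 := by
    intro i
    conv_lhs => rw [hU i]
    rw [Polynomial.coeff_X_pow_mul', if_pos le_rfl, Nat.sub_self]
  rw [h1]
  rw [Polynomial.coeff_X_pow_mul', if_pos le_rfl, Nat.sub_self,
    Polynomial.coeff_zero_eq_eval_zero, Polynomial.eval_prod]
  exact Finset.prod_congr rfl fun i _ => by rw [h2 i, Polynomial.coeff_zero_eq_eval_zero]

open MvPolynomial in
open Groth.Agent.Lib.Helper1.WeilCI in
/-- modulo `p`, `h(0,0)` is the product of the middle coefficients -/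
theorem dvd_ev_iff (p e : ℕ) [Fact p.Prime] (he : 0 < e)
    (ι : Type) [Fintype ι] (K : ι → Type u) [∀ i, Field (K i)] [∀ i, CharZero (K i)]
    (π : ∀ i, K i) (hint : ∀ i, IsIntegral ℤ (π i))
    (hweil : ∀ i, ∀ z ∈ (minpoly ℤ (π i)).aroots ℂ, ‖z‖ = Real.sqrt ((p : ℝ) ^ e))
    (hnr : ∀ i, ∀ z ∈ (minpoly ℤ (π i)).aroots ℂ, z.im ≠ 0)
    (D : ℕ) (hD : ∑ i, (minpoly ℤ (π i)).natDegree = 2 * D)
    (h : R)
    (hh : MvPolynomial.X 0 ^ D * h -
      Polynomial.aeval (MvPolynomial.X 0 : R) (∏ i, minpoly ℤ (π i)) ∈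
      Ideal.span ({g ((p : ℤ) ^ e)} : Set R)) :
    (p : ℤ) ∣ ev 0 0 h ↔
      (p : ℤ) ∣ ∏ i, (minpoly ℤ (π i)).coeff ((minpoly ℤ (π i)).natDegree / 2) := by
  have hqp : (((p : ℤ) ^ e : ℤ) : ZMod p) = 0 := by
    push_cast
    rw [ZMod.natCast_self, zero_pow he.ne']
  have hkey := X_pow_mul_ρF_h p ((p : ℤ) ^ e) hqp h (∏ i, minpoly ℤ (π i)) D hh
  have h83 := fun i => Groth.Agent.S17983.result p e he (K i) (π i) (hint i) (hweil i) (hnr i)
  set m : ι → ℕ := fun i => (minpoly ℤ (π i)).natDegree / 2 with hm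
  have hmD : ∑ i, m i = D := by
    have h1 : ∑ i, 2 * m i = 2 * D := by
      rw [← hD]
      refine Finset.sum_congr rfl fun i _ => ?_
      exact Nat.two_mul_div_two_of_even (h83 i).1
    rw [← Finset.mul_sum] at h1
    omega
  set f : ι → (ZMod p)[X] := fun i => (minpoly ℤ (π i)).map (Int.castRingHom (ZMod p)) with hf
  have hfz : ∀ i, ∀ k < m i, (f i).coeff k = 0 := by
    intro i k hk
    have h1 := (h83 i).2 (m i - k) (Nat.sub_le _ _)
    have hmi : m i = (minpoly ℤ (π i)).natDegree / 2 := rfl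
    rw [show (minpoly ℤ (π i)).natDegree / 2 - (m i - k) = k by omega] at h1
    simp only [hf, Polynomial.coeff_map, h1, eq_intCast]
    push_cast
    rw [ZMod.natCast_self, zero_pow (by
      have : 0 < m i - k := Nat.sub_pos_of_lt hk
      exact (Nat.mul_pos he this).ne'), zero_mul]
  have hprod := coeff_prod_of_forall f m hfz
  rw [hmD] at hprod
  have hc : ((ev 0 0 h : ℤ) : ZMod p) =
      ((∏ i, (minpoly ℤ (π i)).coeff ((minpoly ℤ (π i)).natDegree / 2) : ℤ) : ZMod p) := by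
    rw [← κ_apply, κ_apply_F]
    have h1 : (ρF p h).coeff 0 = (Polynomial.X ^ D * ρF p h).coeff (0 + D) := by
      rw [Polynomial.coeff_X_pow_mul]
    rw [h1, hkey, zero_add, Polynomial.map_prod, hprod, Int.cast_prod]
    refine Finset.prod_congr rfl fun i _ => ?_
    simp [hf, hm, Polynomial.coeff_map]
  rw [← ZMod.intCast_zmod_eq_zero_iff_dvd, ← ZMod.intCast_zmod_eq_zero_iff_dvd, hc]

end Groth.Agent.Lib.Helper99.WeilRat
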