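import Groth.Agent.Lib.Helper99.WeilRatG
import Groth.Agent.Lib.Helper99.WeilRatH
import Groth.Agent.S17984
import Groth.Agent.S17987

/-!
# The minimal central order of a family of nonrational Weil numbers enlarged by a rational one
-/

set_option autoImplicit false
universe u
open MvPolynomial
open scoped Classical

namespace Groth.Agent.Lib.Helper99.WeilRat

open Groth.Agent.Lib.Helper1.WeilCI

/-- `(FV - q, h) ∩ (F - s, V - s) = (FV - q, h(F-s), h(V-s))` when `h(s,s) ≠ 0` -/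
theorem mem_inf_iff (q s : ℤ) (hs : s ^ 2 = q) (h : R) (hhs : ev s s h ≠ 0) (x : R) :
    (x ∈ Ideal.span ({g q, h} : Set R) ∧ ev s s x = 0) ↔
      x ∈ Ideal.span ({g q, h * aa s, h * bb s} : Set R) := by
  constructor
  · rintro ⟨hx, hx0⟩
    obtain ⟨u, v, rfl⟩ := Ideal.mem_span_pair.mp hx
    rw [map_add, map_mul, map_mul, ev_g q s hs, mul_zero, zero_add] at hx0
    have hv : ev s s v = 0 := (mul_eq_zero.mp hx0).resolve_right hhs
    obtain ⟨α, β, rfl⟩ := Ideal.mem_span_pair.mp (mem_span_of_ev_eq_zero s s v hv)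
    have : u * g q + (α * (X 0 - C s) + β * (X 1 - C s)) * h =
        u * g q + α * (h * aa s) + β * (h * bb s) := by
      simp only [aa, bb]; ring
    rw [this]
    exact Ideal.add_mem _ (Ideal.add_mem _
      (Ideal.mul_mem_left _ _ (Ideal.subset_span (by simp)))
      (Ideal.mul_mem_left _ _ (Ideal.subset_span (by simp))))
      (Ideal.mul_mem_left _ _ (Ideal.subset_span (by simp)))
  · intro hx
    constructor
    · have hle : Ideal.span ({g q, h * aa s, h * bb s} : Set R) ≤ Ideal.span ({g q, h} : Set R) := by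
        rw [Ideal.span_le]
        rintro z (rfl | rfl | rfl)
        · exact Ideal.subset_span (by simp)
        · exact Ideal.mul_mem_right _ _ (Ideal.subset_span (by simp))
        · exact Ideal.mul_mem_right _ _ (Ideal.subset_span (by simp))
      exact hle hx
    · have hle : Ideal.span ({g q, h * aa s, h * bb s} : Set R) ≤ RingHom.ker (ev s s) := by
        rw [Ideal.span_le]
        rintro z (rfl | rfl | rfl)
        · rw [SetLike.mem_coe, RingHom.mem_ker]
          exact ev_g q s hs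
        · rw [SetLike.mem_coe, RingHom.mem_ker]
          simp [aa, ev]
        · rw [SetLike.mem_coe, RingHom.mem_ker]
          simp [bb, ev]
      exact hle hx

theorem ev_aeval_X0 (s : ℤ) (P : Polynomial ℤ) :
    ev s s (Polynomial.aeval (X 0 : R) P) = P.eval s := by
  have key : (ev s s).comp ((Polynomial.aeval (X 0 : R) : Polynomial ℤ →ₐ[ℤ] R) :
      Polynomial ℤ →+* R) = Polynomial.evalRingHom s := by
    apply Polynomial.ringHom_ext
    · intro a; simp [ev]
    · simp [ev]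
  exact congrArg (fun f => f P) key

theorem main (p e : ℕ) [Fact p.Prime] (he : 0 < e)
    (s : ℤ) (hs : s ^ 2 = (p : ℤ) ^ e)
    (ι : Type) [Fintype ι] (K : ι → Type u) [∀ i, Field (K i)] [∀ i, CharZero (K i)] (π : ∀ i, K i)
    (hint : ∀ i, IsIntegral ℤ (π i)) (hdeg : ∀ i, (minpoly ℤ (π i)).natDegree ≠ 1)
    (hweil : ∀ i, ∀ z ∈ (minpoly ℤ (π i)).aroots ℂ, ‖z‖ = Real.sqrt ((p : ℝ) ^ e))
    (hinj : ∀ i j, minpoly ℤ (π i) = minpoly ℤ (π j) → i = j)
    (D : ℕ) (hD : ∑ i, (minpoly ℤ (π i)).natDegree = 2 * D)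
    (h : MvPolynomial (Fin 2) ℤ)
    (hh : X 0 ^ D * h - Polynomial.aeval (X 0 : MvPolynomial (Fin 2) ℤ) (∏ i, minpoly ℤ (π i)) ∈
      Ideal.span ({X 0 * X 1 - C ((p : ℤ) ^ e)} : Set (MvPolynomial (Fin 2) ℤ))) :
    RingHom.ker (MvPolynomial.aeval ![(⟨fun i => π i, (s : ℚ)⟩ : ((i : ι) → K i) × ℚ), ⟨fun i => ((p : K i) ^ e) / π i, (s : ℚ)⟩] :
        MvPolynomial (Fin 2) ℤ →ₐ[ℤ] (((i : ι) → K i) × ℚ)) =
        Ideal.span {X 0 * X 1 - C ((p : ℤ) ^ e), h * (X 0 - C s), h * (X 1 - C s)} ∧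
      (LocCoh.IsGorensteinRing (MvPolynomial.aeval ![(⟨fun i => π i, (s : ℚ)⟩ : ((i : ι) → K i) × ℚ), ⟨fun i => ((p : K i) ^ e) / π i, (s : ℚ)⟩] :
        MvPolynomial (Fin 2) ℤ →ₐ[ℤ] (((i : ι) → K i) × ℚ)).range ↔
        ∀ i, 2 * Multiset.card (((minpoly ℤ (π i)).aroots (PadicAlgCl p)).filter (fun z => ‖z‖ = 1)) = (minpoly ℤ (π i)).natDegree) := by
  have hp : p.Prime := Fact.out
  set q : ℤ := (p : ℤ) ^ e with hqdef
  have hq : q ≠ 0 := pow_ne_zero _ (by exact_mod_cast hp.ne_zero)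
  set Φ : MvPolynomial (Fin 2) ℤ →ₐ[ℤ] (((i : ι) → K i) × ℚ) :=
    MvPolynomial.aeval ![(⟨fun i => π i, (s : ℚ)⟩ : ((i : ι) → K i) × ℚ),
      ⟨fun i => ((p : K i) ^ e) / π i, (s : ℚ)⟩] with hΦ
  have hh' : X 0 ^ D * h - Polynomial.aeval (X 0 : R) (∏ i, minpoly ℤ (π i)) ∈
      Ideal.span ({g q} : Set R) := hh
  -- components of Φ
  have hfst : ∀ x, (Φ x).1 =
      (aeval ![fun i => π i, fun i => ((p : K i) ^ e) / π i] :
        MvPolynomial (Fin 2) ℤ →ₐ[ℤ] ((i : ι) → K i)) x := by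
    intro x
    have key : (AlgHom.fst ℤ ((i : ι) → K i) ℚ).comp Φ =
        (aeval ![fun i => π i, fun i => ((p : K i) ^ e) / π i] :
          MvPolynomial (Fin 2) ℤ →ₐ[ℤ] ((i : ι) → K i)) := by
      apply MvPolynomial.algHom_ext
      intro i
      fin_cases i <;> simp [hΦ]
    exact congrArg (fun f => f x) key
  have hsnd : ∀ x, (Φ x).2 = ((ev s s x : ℤ) : ℚ) := by
    intro x
    have key : (RingHom.snd ((i : ι) → K i) ℚ).comp (Φ : MvPolynomial (Fin 2) ℤ →+* _) =
        (Int.castRingHom ℚ).comp (ev s s) := by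
      apply MvPolynomial.ringHom_ext
      · intro n; simp [ev]
      · intro i
        fin_cases i <;> simp [hΦ, ev]
    exact congrArg (fun f => f x) key
  -- integer roots
  have hPs : ∀ i, (minpoly ℤ (π i)).eval s ≠ 0 := fun i =>
    eval_ne_zero_of_natDegree_ne_one (π i) (hint i) (hdeg i) s
  have hhs : ev s s h ≠ 0 := by
    intro h0
    obtain ⟨w, hw⟩ := Ideal.mem_span_singleton'.mp hh'
    have h1 := congrArg (ev s s) hw
    rw [map_mul, ev_g q s hs, mul_zero, map_sub, map_mul, h0, mul_zero, zero_sub, ev_aeval_X0,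
      Polynomial.eval_prod] at h1
    have h2 : ∏ i, (minpoly ℤ (π i)).eval s = 0 := by
      rw [← neg_eq_zero]; exact h1.symm
    obtain ⟨i, -, hi⟩ := Finset.prod_eq_zero_iff.mp h2
    exact hPs i hi
  obtain ⟨hker84, -⟩ := Groth.Agent.S17984.result p e he ι K π hint hweil hinj D hD h hh
  have hker : RingHom.ker Φ = Ideal.span ({g q, h * aa s, h * bb s} : Set R) := by
    ext x
    rw [← mem_inf_iff q s hs h hhs x, RingHom.mem_ker, Prod.ext_iff, hfst, hsnd]
    have h1 : (aeval ![fun i => π i, fun i => ((p : K i) ^ e) / π i] :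
        MvPolynomial (Fin 2) ℤ →ₐ[ℤ] ((i : ι) → K i)) x = 0 ↔
        x ∈ Ideal.span ({g q, h} : Set R) := by
      rw [← RingHom.mem_ker]
      exact Iff.of_eq (congrArg (x ∈ ·) hker84)
    show _ = 0 ∧ ((ev s s x : ℤ) : ℚ) = 0 ↔ _
    rw [h1, Int.cast_eq_zero]
  refine ⟨hker, ?_⟩
  -- the Gorenstein part
  have hnr : ∀ i, ∀ z ∈ (minpoly ℤ (π i)).aroots ℂ, z.im ≠ 0 := fun i =>
    im_ne_zero_of_weil p e s hs (π i) (hint i) (hdeg i) (hweil i)
  have h87 := Groth.Agent.S17987.result p e he ι K π hint hweil hnr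
  have hdvd := dvd_ev_iff p e he ι K π hint hweil hnr D hD h hh'
  rw [h87, ← hdvd]
  have hqp : ((q : ℤ) : ZMod p) = 0 := by
    rw [hqdef]
    push_cast
    rw [ZMod.natCast_self, zero_pow he.ne']
  have hps : (p : ℤ) ∣ s := by
    have hpp : Prime (p : ℤ) := Nat.prime_iff_prime_int.mp hp
    apply hpp.dvd_of_dvd_pow (n := 2)
    rw [hs]
    exact dvd_pow_self _ he.ne'
  have hsp : ((s : ℤ) : ZMod p) = 0 := (ZMod.intCast_zmod_eq_zero_iff_dvd _ _).mpr hps
  let φr : R →+* Φ.range := (Φ.rangeRestrict : R →+* Φ.range)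
  have hφr : Function.Surjective φr := Φ.rangeRestrict_surjective
  have hkerφr : RingHom.ker φr = Ideal.span ({g q, h * aa s, h * bb s} : Set R) := by
    rw [← hker]
    ext x
    rw [RingHom.mem_ker, RingHom.mem_ker]
    show Φ.rangeRestrict x = 0 ↔ _
    rw [Subtype.ext_iff]
    rfl
  have hPm : (∏ i, minpoly ℤ (π i)).Monic :=
    Polynomial.monic_prod_of_monic _ _ (fun i _ => minpoly.monic (hint i))
  constructor
  · intro hG
    have hreg : ∀ x : Φ.range, φr (C (p : ℤ)) * x = 0 → x = 0 := by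
      rintro ⟨x, hx⟩ h0
      have h1 : Φ (C (p : ℤ)) * x = 0 := congrArg Subtype.val h0
      have h2 : Φ (C (p : ℤ)) = ((p : ℕ) : ((i : ι) → K i) × ℚ) := by
        rw [MvPolynomial.aeval_C]; simp
      rw [h2] at h1
      apply Subtype.ext
      show x = 0
      have hx1 : ∀ i, x.1 i = 0 := by
        intro i
        have := congrArg (fun y : ((i : ι) → K i) × ℚ => y.1 i) h1
        simp only [Prod.fst_mul, Pi.mul_apply, Prod.fst_natCast, Pi.natCast_apply, Prod.fst_zero,
          Pi.zero_apply] at this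
        exact (mul_eq_zero.mp this).resolve_left (Nat.cast_ne_zero.mpr hp.ne_zero)
      have hx2 : x.2 = 0 := by
        have := congrArg (fun y : ((i : ι) → K i) × ℚ => y.2) h1
        simp only [Prod.snd_mul, Prod.snd_natCast, Prod.snd_zero] at this
        exact (mul_eq_zero.mp this).resolve_left (Nat.cast_ne_zero.mpr hp.ne_zero)
      exact Prod.ext (funext hx1) hx2
    exact not_dvd_of_gorenstein p q s hqp hsp h φr hφr hkerφr hreg
      (ρF_h_ne_zero p q hqp h _ hPm D hh')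
  · intro hc
    exact gorenstein_of_not_dvd p e s hs h _ hPm D hh' hc φr hφr hkerφr

end Groth.Agent.Lib.Helper99.WeilRat
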